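import Mathlib.RingTheory.Ideal.HasGoingUp
import Mathlib.RingTheory.Ideal.GoingUp
import Mathlib.RingTheory.KrullDimension.Basic

/-!
# Krull dimension and integral extensions

* `ringKrullDim_le_of_isIntegral` : `dim S ≤ dim R` for an integral `R`-algebra `S` (incomparability).
* `ringKrullDim_le_of_isIntegral_of_injective` : `dim R ≤ dim S` for an integral extension
  (lying over + going up).
* `ringKrullDim_eq_of_isIntegral_of_injective`.
-/

namespace Groth.Agent.Lib.helper9.IntegralDim

variable (R S : Type*) [CommRing R] [CommRing S] [Algebra R S]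

theorem ringKrullDim_le_of_isIntegral [Algebra.IsIntegral R S] :
    ringKrullDim S ≤ ringKrullDim R := by
  refine Order.krullDim_le_of_strictMono (PrimeSpectrum.comap (algebraMap R S)) ?_
  intro p q hpq
  have h1 : p.asIdeal < q.asIdeal := hpq
  have h2 := Ideal.IsIntegral.comap_lt_comap (R := R) h1
  exact h2

theorem ringKrullDim_le_of_isIntegral_of_injective [Algebra.IsIntegral R S]
    (h : Function.Injective (algebraMap R S)) :
    ringKrullDim R ≤ ringKrullDim S := by
  unfold ringKrullDim Order.krullDim
  refine iSup_le fun l => ?_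
  obtain ⟨Q, -, hQ, hQc⟩ := Ideal.exists_ideal_over_prime_of_isIntegral
    (R := R) (S := S) (RelSeries.head l).asIdeal (⊥ : Ideal S) (by
      rw [← RingHom.ker_eq_comap_bot, (RingHom.injective_iff_ker_eq_bot _).mp h]
      exact bot_le)
  haveI : Q.LiesOver (RelSeries.head l).asIdeal := ⟨hQc.symm⟩
  obtain ⟨L, hL, -, -⟩ := Ideal.exists_ltSeries_of_hasGoingUp l Q
  rw [← hL]
  exact le_iSup (fun L : LTSeries (PrimeSpectrum S) => (L.length : WithBot ℕ∞)) L

theorem ringKrullDim_eq_of_isIntegral_of_injective [Algebra.IsIntegral R S]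
    (h : Function.Injective (algebraMap R S)) :
    ringKrullDim R = ringKrullDim S :=
  le_antisymm (ringKrullDim_le_of_isIntegral_of_injective R S h) (ringKrullDim_le_of_isIntegral R S)

end Groth.Agent.Lib.helper9.IntegralDim
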