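import Groth.Agent.Lib.helper9.LocFree

/-!
# Local freeness, part 2: retracts of free modules, `M~` for projective `M`
-/

universe u

open AlgebraicGeometry CategoryTheory Opposite TopologicalSpace Limits

namespace Groth.Agent.Lib.helper9.LocFree

open Scheme.Modules Groth.Agent.Lib.helper9.CohB Groth.Agent.Lib.helper9.AffSect

variable {X Y : Scheme.{u}}

set_option backward.isDefEq.respectTransparency false in
/-- the free module of finite rank is quasi-coherent. -/
theorem isQuasicoherent_freeMod (X : Scheme.{u}) (n : ℕ) :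
    (FlatMod.freeMod X n).IsQuasicoherent := by
  apply Groth.Agent.Lib.helper9.QcohLocal.isQuasicoherent_of_forall_exists
  intro x
  obtain ⟨W, hW, hxW, -⟩ :=
    exists_isAffineOpen_mem_and_subset (show x ∈ (⊤ : X.Opens) from trivial)
  refine ⟨W, hW, hxW, ?_⟩
  obtain ⟨i2⟩ := tilde_iso_freeMod (ModuleCat.of Γ(X, W) (Fin n →₀ Γ(X, W))) n
    (LinearEquiv.refl _ _)
  haveI hq : (tilde (ModuleCat.of Γ(X, W) (Fin n →₀ Γ(X, W)))).IsQuasicoherent := inferInstance
  exact (SheafOfModules.isQuasicoherent (Spec Γ(X, W)).ringCatSheaf).prop_of_iso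
    (i2 ≪≫ (freeModRestrictIso hW.fromSpec n).symm) hq

set_option backward.isDefEq.respectTransparency false in
/-- a retract of a quasi-coherent module is quasi-coherent. -/
theorem isQuasicoherent_of_retract {M P : X.Modules} [P.IsQuasicoherent] (a : M ⟶ P) (b : P ⟶ M)
    (hab : a ≫ b = 𝟙 M) : M.IsQuasicoherent := by
  have ha : a ≫ (𝟙 P - b ≫ a) = 0 := by
    rw [Preadditive.comp_sub, Category.comp_id, ← Category.assoc, hab, Category.id_comp, sub_self]
  have hlim : IsLimit (KernelFork.ofι a ha) :=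
    KernelFork.IsLimit.ofι a ha (fun k _ => k ≫ b)
      (fun k hk => by
        rw [Preadditive.comp_sub, Category.comp_id, sub_eq_zero] at hk
        rw [Category.assoc]
        exact hk.symm)
      (fun k hk m hm => by
        rw [← hm, Category.assoc, hab, Category.comp_id])
  haveI hK : (kernel (𝟙 P - b ≫ a)).IsQuasicoherent :=
    Groth.Agent.Lib.helper9.QcohLocal.isQuasicoherent_kernel _
  exact (SheafOfModules.isQuasicoherent X.ringCatSheaf).prop_of_iso
    (IsLimit.conePointUniqueUpToIso (kernelIsKernel _) hlim) hK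

set_option backward.isDefEq.respectTransparency false in
/-- if the sections over an affine open are a retract of a finite free module, the module is free
near every point of that affine open. -/
theorem exists_nhd_of_retract (F : X.Modules) [F.IsQuasicoherent] {U : X.Opens}
    (hU : IsAffineOpen U) (n : ℕ)
    (s : Γmod (F.restrict hU.fromSpec) →ₗ[Γ(X, U)] (Fin n →₀ Γ(X, U)))
    (r : (Fin n →₀ Γ(X, U)) →ₗ[Γ(X, U)] Γmod (F.restrict hU.fromSpec))
    (hrs : r ∘ₗ s = LinearMap.id) (q : PrimeSpectrum Γ(X, U)) :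
    ∃ (V : X.Opens) (m : ℕ), hU.fromSpec q ∈ V ∧
      Nonempty (F.restrict V.ι ≅ FlatMod.freeMod V m) := by
  haveI : q.asIdeal.IsPrime := q.2
  haveI hproj : Module.Projective Γ(X, U) (Γmod (F.restrict hU.fromSpec)) :=
    Module.Projective.of_split s r hrs
  haveI hfin : Module.Finite Γ(X, U) (Γmod (F.restrict hU.fromSpec)) :=
    Module.Finite.of_surjective r (fun y => ⟨s y, LinearMap.congr_fun hrs y⟩)
  haveI hfp : Module.FinitePresentation Γ(X, U) (Γmod (F.restrict hU.fromSpec)) :=
    Module.finitePresentation_of_projective _ _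
  haveI : Module.Free (Localization.AtPrime q.asIdeal)
      (LocalizedModule q.asIdeal.primeCompl (Γmod (F.restrict hU.fromSpec))) :=
    Module.free_of_flat_of_isLocalRing
  haveI : Module.Free (X.presheaf.stalk (hU.fromSpec q)) (F.presheaf.stalk (hU.fromSpec q)) :=
    (stalkSemiEquiv F hU q).free
  exact exists_nhd_restrict_iso_freeMod F hU q

set_option backward.isDefEq.respectTransparency false in
/-- **a retract (direct summand) of a finite free module is finite locally free**. -/
theorem isFinLocFree_of_retract (M P : X.Modules) (n : ℕ) (e : P ≅ FlatMod.freeMod X n)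
    (a : M ⟶ P) (b : P ⟶ M) (hab : a ≫ b = 𝟙 M) : FlatMod.IsFinLocFree M := by
  haveI hfree : (FlatMod.freeMod X n).IsQuasicoherent := isQuasicoherent_freeMod X n
  haveI hP : P.IsQuasicoherent :=
    (SheafOfModules.isQuasicoherent X.ringCatSheaf).prop_of_iso e.symm hfree
  haveI hM : M.IsQuasicoherent := isQuasicoherent_of_retract a b hab
  intro x
  obtain ⟨U, hU, hxU, -⟩ :=
    exists_isAffineOpen_mem_and_subset (show x ∈ (⊤ : X.Opens) from trivial)
  obtain ⟨q, rfl⟩ := exists_fromSpec_eq hU hxU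
  let Rf := restrictFunctor hU.fromSpec
  obtain ⟨i2⟩ := tilde_iso_freeMod (ModuleCat.of Γ(X, U) (Fin n →₀ Γ(X, U))) n
    (LinearEquiv.refl _ _)
  let i1 : P.restrict hU.fromSpec ≅ tilde (ModuleCat.of Γ(X, U) (Fin n →₀ Γ(X, U))) :=
    Rf.mapIso e ≪≫ freeModRestrictIso hU.fromSpec n ≪≫ i2.symm
  let Γf := moduleSpecΓFunctor (R := Γ(X, U))
  let s' : Γmod (M.restrict hU.fromSpec) ⟶ ModuleCat.of Γ(X, U) (Fin n →₀ Γ(X, U)) :=
    Γf.map (Rf.map a ≫ i1.hom) ≫ (tilde.isoTop _).inv
  let r' : ModuleCat.of Γ(X, U) (Fin n →₀ Γ(X, U)) ⟶ Γmod (M.restrict hU.fromSpec) :=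
    (tilde.isoTop _).hom ≫ Γf.map (i1.inv ≫ Rf.map b)
  have hsr : s' ≫ r' = 𝟙 _ := by
    have h1 : (Rf.map a ≫ i1.hom) ≫ (i1.inv ≫ Rf.map b) = 𝟙 _ := by
      rw [Category.assoc, Iso.hom_inv_id_assoc, ← Rf.map_comp, hab, Rf.map_id]
    calc s' ≫ r' = Γf.map (Rf.map a ≫ i1.hom) ≫ ((tilde.isoTop _).inv ≫ (tilde.isoTop _).hom) ≫
          Γf.map (i1.inv ≫ Rf.map b) := by simp only [s', r', Category.assoc]
      _ = Γf.map ((Rf.map a ≫ i1.hom) ≫ (i1.inv ≫ Rf.map b)) := by
          rw [Iso.inv_hom_id, Category.id_comp, ← Γf.map_comp]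
      _ = 𝟙 _ := by rw [h1, Γf.map_id]
  obtain ⟨V, m, hV, hi⟩ := exists_nhd_of_retract M hU n s'.hom r'.hom (by
    rw [← ModuleCat.hom_comp, hsr]
    rfl) q
  exact ⟨V, m, hV, hi⟩

end Groth.Agent.Lib.helper9.LocFree
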