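import Groth.Agent.Lib.helper9.LocFree3
import Groth.Agent.Lib.helper5.RegLoc

/-!
# Local freeness, part 5: the free locus, torsion-free modules on normal schemes
-/

universe u

open AlgebraicGeometry CategoryTheory Opposite TopologicalSpace Limits IsLocalRing

namespace Groth.Agent.Lib.helper9.LocFree

open Scheme.Modules Groth.Agent.Lib.helper9.CohB Groth.Agent.Lib.helper9.AffSect

variable {X Y : Scheme.{u}}

set_option backward.isDefEq.respectTransparency false in
/-- if `F|_V` is free of rank `n`, so is the restriction of `F` along any open immersion landing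
in `V`. -/
lemma restrict_iso_freeMod_of_range_subset (F : X.Modules) {V : X.Opens} (n : ℕ)
    (i : F.restrict V.ι ≅ FlatMod.freeMod V n) (j : Y ⟶ X) [IsOpenImmersion j]
    (hj : Set.range j ⊆ (V : Set X)) :
    Nonempty (F.restrict j ≅ FlatMod.freeMod Y n) := by
  have hrange : Set.range j ⊆ Set.range V.ι := by
    rw [Scheme.Opens.range_ι]
    exact hj
  let k : Y ⟶ V := IsOpenImmersion.lift V.ι j hrange
  have hk : k ≫ V.ι = j := IsOpenImmersion.lift_fac _ _ _
  haveI : IsOpenImmersion (k ≫ V.ι) := by
    rw [hk]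
    infer_instance
  haveI : IsOpenImmersion k := IsOpenImmersion.of_comp k V.ι
  exact ⟨(restrictFunctorCongr hk.symm).app F ≪≫ (restrictFunctorComp k V.ι).app F ≪≫
      (restrictFunctor k).mapIso i ≪≫ freeModRestrictIso k n⟩

/-- the free locus of a module: the union of all opens over which it is free of finite rank. -/
def freeLocus (F : X.Modules) : X.Opens :=
  sSup {V : X.Opens | ∃ n : ℕ, Nonempty (F.restrict V.ι ≅ FlatMod.freeMod V n)}

lemma mem_freeLocus_iff (F : X.Modules) (x : X) :
    x ∈ freeLocus F ↔ ∃ (V : X.Opens) (n : ℕ), x ∈ V ∧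
      Nonempty (F.restrict V.ι ≅ FlatMod.freeMod V n) := by
  unfold freeLocus
  rw [Opens.mem_sSup]
  constructor
  · rintro ⟨V, ⟨n, hn⟩, hxV⟩
    exact ⟨V, n, hxV, hn⟩
  · rintro ⟨V, n, hxV, hn⟩
    exact ⟨V, ⟨n, hn⟩, hxV⟩

set_option backward.isDefEq.respectTransparency false in
/-- the restriction of a module to its free locus is finite locally free. -/
theorem isFinLocFree_restrict_freeLocus (F : X.Modules) :
    FlatMod.IsFinLocFree (F.restrict (freeLocus F).ι) := by
  intro y
  obtain ⟨V, n, hyV, ⟨i⟩⟩ := (mem_freeLocus_iff F y.1).mp y.2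
  let W : (freeLocus F).toScheme.Opens := (freeLocus F).ι ⁻¹ᵁ V
  refine ⟨W, n, hyV, ?_⟩
  have hrange : Set.range (W.ι ≫ (freeLocus F).ι) ⊆ (V : Set X) := by
    rw [Scheme.Hom.comp_base, TopCat.coe_comp, Set.range_comp, Scheme.Opens.range_ι]
    exact Set.image_preimage_subset _ _
  obtain ⟨i'⟩ := restrict_iso_freeMod_of_range_subset F n i (W.ι ≫ (freeLocus F).ι) hrange
  exact ⟨((restrictFunctorComp W.ι (freeLocus F).ι).app F).symm ≪≫ i'⟩

set_option backward.isDefEq.respectTransparency false in
/-- on a locally Noetherian normal scheme, a torsion-free coherent module is free near every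
point of codimension at most one. -/
theorem two_le_ringKrullDim_of_notMem_freeLocus [IsLocallyNoetherian X] (F : X.Modules)
    [SheafOfModules.IsFinitePresentation.{u} F] (x : X) [IsDomain (X.presheaf.stalk x)]
    [IsIntegrallyClosed (X.presheaf.stalk x)]
    (htf : Module.IsTorsionFree (X.presheaf.stalk x) (F.presheaf.stalk x))
    (hx : x ∉ freeLocus F) : (2 : WithBot ℕ∞) ≤ ringKrullDim (X.presheaf.stalk x) := by
  by_contra hlt
  apply hx
  obtain ⟨d, hd⟩ := Groth.Agent.H5.RegLoc.exists_nat_dim (X.presheaf.stalk x)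
  have hd1 : ringKrullDim (X.presheaf.stalk x) ≤ 1 := by
    rw [hd] at hlt ⊢
    have h2 : ¬ (2 ≤ d) := fun h => hlt (by exact_mod_cast h)
    have h3 : d ≤ 1 := by omega
    exact_mod_cast h3
  haveI : IsPrincipalIdealRing (X.presheaf.stalk x) :=
    isPrincipalIdealRing_of_normal_dim_le_one _ hd1
  exact (mem_freeLocus_iff F x).mpr (exists_nhd_of_torsionFree_pid F x htf)

end Groth.Agent.Lib.helper9.LocFree
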