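import Mathlib.Algebra.Category.ModuleCat.ProjectiveDimension
import Mathlib.Algebra.Category.ModuleCat.InjectiveDimension
import Mathlib.CategoryTheory.Abelian.Projective.Dimension
import Mathlib.CategoryTheory.Abelian.Injective.Dimension
import Mathlib.Algebra.Category.ModuleCat.Ext.HasExt
import Mathlib.Algebra.Homology.DerivedCategory.Ext.Basic
import Mathlib.RingTheory.Ideal.Quotient.Operations
import Mathlib.Tactic

set_option autoImplicit false
universe u
open CategoryTheory

namespace Groth.Agent.Lib.helper9.ExtCyclic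

variable (A : Type u) [CommRing A]

/-- Baer from vanishing of Ext¹(A/I, M). -/
theorem injective_of_ext_one_cyclic (M : ModuleCat.{u} A)
    (h : ∀ I : Ideal A, Subsingleton (Abelian.Ext (ModuleCat.of A (A ⧸ I)) M 1)) :
    Injective M := by
  have hM : Module.Injective A M := by
    apply Module.Baer.injective
    intro I g
    let S : ShortComplex (ModuleCat.{u} A) :=
      ModuleCat.shortComplexOfCompEqZero (I.subtype) (I.mkQ)
        (LinearMap.exact_subtype_mkQ I).linearMap_comp_eq_zero
    have hS : S.ShortExact := ModuleCat.shortComplex_shortExact S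
      (LinearMap.exact_subtype_mkQ I) (Submodule.injective_subtype I) (Submodule.mkQ_surjective I)
    have hsub : Subsingleton (Abelian.Ext S.X₃ M 1) := h I
    obtain ⟨φ, hφ⟩ := Abelian.Ext.contravariant_sequence_exact₁ hS M
      (Abelian.Ext.mk₀ (ModuleCat.ofHom (X := I) g)) (zero_add 1) (Subsingleton.elim _ _)
    obtain ⟨φ, rfl⟩ := Abelian.Ext.homEquiv₀.symm.surjective φ
    have h2 : S.f ≫ φ = ModuleCat.ofHom (X := I) g := by
      apply Abelian.Ext.homEquiv₀.symm.injective
      simpa using hφ
    refine ⟨φ.hom, fun x hx => ?_⟩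
    have := congrArg (fun k => k.hom ⟨x, hx⟩) h2
    simp only [ModuleCat.hom_comp, LinearMap.coe_comp, Function.comp_apply, ModuleCat.hom_ofHom] at this
    exact this
  exact (Module.injective_iff_injective_object A M).mp hM

open Limits in
theorem hasInjectiveDimensionLT_of_ext_cyclic (n : ℕ) (M : ModuleCat.{u} A)
    (h : ∀ I : Ideal A, Subsingleton (Abelian.Ext (ModuleCat.of A (A ⧸ I)) M (n + 1))) :
    HasInjectiveDimensionLT M (n + 1) := by
  induction n generalizing M with
  | zero =>
    have := injective_of_ext_one_cyclic A M h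
    infer_instance
  | succ n ih =>
    obtain ⟨⟨E, hE, f, hf⟩⟩ := EnoughInjectives.presentation M
    let S : ShortComplex (ModuleCat.{u} A) := ShortComplex.mk f (cokernel.π f) (cokernel.condition f)
    have hS : S.ShortExact := { exact := ShortComplex.exact_cokernel f }
    have hX2 : Injective S.X₂ := hE
    have h3 : HasInjectiveDimensionLT S.X₃ (n + 1) := by
      apply ih
      intro I
      refine ⟨fun x y => ?_⟩
      have key : ∀ x : Abelian.Ext (ModuleCat.of A (A ⧸ I)) S.X₃ (n + 1), x = 0 := by
        intro x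
        have := h I
        obtain ⟨x₂, rfl⟩ := Abelian.Ext.covariant_sequence_exact₃ _ hS x (rfl : n + 1 + 1 = n + 1 + 1)
          (Subsingleton.elim _ _)
        rw [Abelian.Ext.eq_zero_of_injective x₂, Abelian.Ext.zero_comp]
      rw [key x, key y]
    exact (hS.hasInjectiveDimensionLT_X₃_iff n hX2).mp h3

theorem hasInjectiveDimensionLT_iff_ext_cyclic (n : ℕ) (M : ModuleCat.{u} A) :
    HasInjectiveDimensionLT M (n + 1) ↔
      ∀ I : Ideal A, Subsingleton (Abelian.Ext (ModuleCat.of A (A ⧸ I)) M (n + 1)) :=
  ⟨fun _ I => HasInjectiveDimensionLT.subsingleton M (n + 1) (n + 1) le_rfl _,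
    hasInjectiveDimensionLT_of_ext_cyclic A n M⟩

variable {A}

/-- Subsingleton-ness of `Ext M - k` is invariant under isomorphism in the second variable. -/
theorem subsingleton_ext_of_iso {M X Y : ModuleCat.{u} A} (k : ℕ) (e : X ≅ Y)
    (h : Subsingleton (Abelian.Ext M X k)) : Subsingleton (Abelian.Ext M Y k) := by
  have key : ∀ x : Abelian.Ext M Y k, x = 0 := by
    intro x
    have h1 : (x.comp (Abelian.Ext.mk₀ e.inv) (add_zero k)) = 0 := Subsingleton.elim _ _
    have h2 : (x.comp (Abelian.Ext.mk₀ e.inv) (add_zero k)).comp (Abelian.Ext.mk₀ e.hom) (add_zero k)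
        = x := by
      rw [Abelian.Ext.comp_assoc_of_third_deg_zero, Abelian.Ext.mk₀_comp_mk₀, e.inv_hom_id,
        Abelian.Ext.comp_mk₀_id]
    rw [← h2, h1, Abelian.Ext.zero_comp]
  exact ⟨fun x y => by rw [key x, key y]⟩

theorem subsingleton_ext_of_isZero {M N : ModuleCat.{u} A} (k : ℕ) (hN : Limits.IsZero N) :
    Subsingleton (Abelian.Ext M N k) := by
  have key : ∀ x : Abelian.Ext M N k, x = 0 := by
    intro x
    rw [← x.comp_mk₀_id, hN.eq_zero_of_tgt (𝟙 N), Abelian.Ext.mk₀_zero, Abelian.Ext.comp_zero]
  exact ⟨fun x y => by rw [key x, key y]⟩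

theorem subsingleton_ext_of_span (M : ModuleCat.{u} A) (k : ℕ)
    (h : ∀ I : Ideal A, Subsingleton (Abelian.Ext M (ModuleCat.of A (A ⧸ I)) k))
    (n : ℕ) (N : ModuleCat.{u} A) (g : Fin n → N) (hg : Submodule.span A (Set.range g) = ⊤) :
    Subsingleton (Abelian.Ext M N k) := by
  induction n generalizing N with
  | zero =>
    have hN : Subsingleton N := by
      have h1 : (⊥ : Submodule A N) = ⊤ := by
        rw [← hg]; simp
      exact (Submodule.subsingleton_iff A).mp (subsingleton_of_bot_eq_top h1)
    exact subsingleton_ext_of_isZero k (ModuleCat.isZero_of_subsingleton N)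
  | succ n ih =>
    set x : N := g 0 with hx
    let φ : A →ₗ[A] N := LinearMap.toSpanSingleton A N x
    let N' : Submodule A N := LinearMap.range φ
    let S : ShortComplex (ModuleCat.{u} A) :=
      ModuleCat.shortComplexOfCompEqZero (N'.subtype) (N'.mkQ)
        (LinearMap.exact_subtype_mkQ N').linearMap_comp_eq_zero
    have hS : S.ShortExact := ModuleCat.shortComplex_shortExact S
      (LinearMap.exact_subtype_mkQ N') (Submodule.injective_subtype N') (Submodule.mkQ_surjective N')
    have h1 : Subsingleton (Abelian.Ext M S.X₁ k) := by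
      refine subsingleton_ext_of_iso k (φ.quotKerEquivRange).toModuleIso (h (LinearMap.ker φ))
    have h3 : Subsingleton (Abelian.Ext M S.X₃ k) := by
      apply ih S.X₃ (fun i => N'.mkQ (g i.succ))
      rw [eq_top_iff]
      rintro y -
      obtain ⟨y, rfl⟩ := Submodule.mkQ_surjective N' y
      have hy : y ∈ Submodule.span A (Set.range g) := by rw [hg]; trivial
      induction hy using Submodule.span_induction with
      | mem z hz =>
        obtain ⟨i, rfl⟩ := hz
        refine Fin.cases ?_ (fun j => ?_) i
        · have : N'.mkQ (g 0) = 0 := by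
            rw [Submodule.mkQ_apply, Submodule.Quotient.mk_eq_zero]
            exact ⟨1, by simp [φ, hx]⟩
          rw [this]; exact Submodule.zero_mem _
        · exact Submodule.subset_span ⟨j, rfl⟩
      | zero => rw [map_zero]; exact Submodule.zero_mem _
      | add a b _ _ ha hb => rw [map_add]; exact Submodule.add_mem _ ha hb
      | smul r a _ ha => rw [map_smul]; exact Submodule.smul_mem _ r ha
    have key : ∀ x : Abelian.Ext M N k, x = 0 := by
      intro x₂
      obtain ⟨x₁, rfl⟩ := Abelian.Ext.covariant_sequence_exact₂ M hS (x₂ : Abelian.Ext M S.X₂ k)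
        (Subsingleton.elim _ _)
      rw [Subsingleton.elim x₁ 0, Abelian.Ext.zero_comp]
    exact ⟨fun x y => by rw [key x, key y]⟩

/-- If `Ext^k(M, A/I) = 0` for all ideals `I`, then `Ext^k(M, N) = 0` for all f.g. `N`. -/
theorem subsingleton_ext_of_finite (M : ModuleCat.{u} A) (k : ℕ)
    (h : ∀ I : Ideal A, Subsingleton (Abelian.Ext M (ModuleCat.of A (A ⧸ I)) k))
    (N : ModuleCat.{u} A) [Module.Finite A N] : Subsingleton (Abelian.Ext M N k) := by
  obtain ⟨n, g, hg⟩ := Module.Finite.exists_fin (R := A) (M := N)
  exact subsingleton_ext_of_span M k h n N g hg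

/-- Over a Noetherian ring, a f.g. module `M` with `Ext^{n+1}(M, N) = 0` for all f.g. `N` has
projective dimension `≤ n`. -/
theorem hasProjectiveDimensionLT_of_ext_finite [IsNoetherianRing A] (n : ℕ) (M : ModuleCat.{u} A)
    [Module.Finite A M]
    (h : ∀ (N : ModuleCat.{u} A), Module.Finite A N → Subsingleton (Abelian.Ext M N (n + 1))) :
    HasProjectiveDimensionLT M (n + 1) := by
  induction n generalizing M with
  | zero =>
    obtain ⟨r, π, hπ⟩ := Module.Finite.exists_fin' A M
    let K : Submodule A (Fin r → A) := LinearMap.ker π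
    let S : ShortComplex (ModuleCat.{u} A) :=
      ModuleCat.shortComplexOfCompEqZero (K.subtype) π
        (LinearMap.exact_subtype_ker_map π).linearMap_comp_eq_zero
    have hS : S.ShortExact := ModuleCat.shortComplex_shortExact S
      (LinearMap.exact_subtype_ker_map π) (Submodule.injective_subtype K) hπ
    have hK : Module.Finite A S.X₁ := by
      change Module.Finite A K
      infer_instance
    have hsub := h S.X₁ hK
    obtain ⟨ρ, hρ⟩ := Abelian.Ext.contravariant_sequence_exact₁ hS S.X₁
      (Abelian.Ext.mk₀ (𝟙 S.X₁)) (zero_add 1) (Subsingleton.elim _ _)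
    obtain ⟨ρ, rfl⟩ := Abelian.Ext.homEquiv₀.symm.surjective ρ
    have h2 : S.f ≫ ρ = 𝟙 S.X₁ := by
      apply Abelian.Ext.homEquiv₀.symm.injective
      simpa using hρ
    have hepi : Epi S.g := hS.epi_g
    let spl := ShortComplex.Splitting.ofExactOfRetraction S hS.exact ρ h2 hepi
    have hP : Projective S.X₂ := by
      change Projective (ModuleCat.of A (Fin r → A))
      infer_instance
    let R : Retract S.X₃ S.X₂ := ⟨spl.s, S.g, spl.s_g⟩
    exact R.hasProjectiveDimensionLT 1
  | succ n ih =>
    obtain ⟨r, π, hπ⟩ := Module.Finite.exists_fin' A M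
    let K : Submodule A (Fin r → A) := LinearMap.ker π
    let S : ShortComplex (ModuleCat.{u} A) :=
      ModuleCat.shortComplexOfCompEqZero (K.subtype) π
        (LinearMap.exact_subtype_ker_map π).linearMap_comp_eq_zero
    have hS : S.ShortExact := ModuleCat.shortComplex_shortExact S
      (LinearMap.exact_subtype_ker_map π) (Submodule.injective_subtype K) hπ
    have hK : Module.Finite A S.X₁ := by
      change Module.Finite A K
      infer_instance
    have hP : Projective S.X₂ := by
      change Projective (ModuleCat.of A (Fin r → A))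
      infer_instance
    have h1 : HasProjectiveDimensionLT S.X₁ (n + 1) := by
      apply ih
      intro N hN
      have := h N hN
      have key : ∀ x : Abelian.Ext S.X₁ N (n + 1), x = 0 := by
        intro x₁
        obtain ⟨x₂, rfl⟩ := Abelian.Ext.contravariant_sequence_exact₁ hS N x₁
          (add_comm 1 (n + 1)) (Subsingleton.elim _ _)
        rw [Abelian.Ext.eq_zero_of_projective x₂, Abelian.Ext.comp_zero]
      exact ⟨fun x y => by rw [key x, key y]⟩
    exact (hS.hasProjectiveDimensionLT_X₃_iff n hP).mpr h1

theorem hasProjectiveDimensionLT_iff_ext_cyclic [IsNoetherianRing A] (n : ℕ) (M : ModuleCat.{u} A)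
    [Module.Finite A M] :
    HasProjectiveDimensionLT M (n + 1) ↔
      ∀ I : Ideal A, Subsingleton (Abelian.Ext M (ModuleCat.of A (A ⧸ I)) (n + 1)) :=
  ⟨fun _ _ => HasProjectiveDimensionLT.subsingleton M (n + 1) (n + 1) le_rfl _,
    fun h => hasProjectiveDimensionLT_of_ext_finite n M
      (fun N _ => subsingleton_ext_of_finite M (n + 1) h N)⟩

end Groth.Agent.Lib.helper9.ExtCyclic
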