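import Groth.Prelude.Def_Flat
import Mathlib.Topology.KrullDimension
import Mathlib.Topology.NoetherianSpace
import Mathlib.Topology.Semicontinuity.Basic

set_option autoImplicit false
universe u

open TopologicalSpace Order Topology Set

namespace Groth.Agent.H9TopDim

variable {X : Type*} [TopologicalSpace X]

/-- coheight of an irreducible closed `Z` meeting an open `U` is bounded by the dimension of `U`. -/
theorem coheight_le_dim_open (Z : IrreducibleCloseds X) (U : Opens X)
    (h : ((Z : Set X) ∩ U).Nonempty) :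
    (Order.coheight Z : WithBot ℕ∞) ≤ topologicalKrullDim (U : Set X) := by
  have hemb : IsOpenEmbedding (Subtype.val : ↥(U : Set X) → X) := U.isOpen.isOpenEmbedding_subtypeVal
  have hne : ((Subtype.val : ↥(U : Set X) → X) ⁻¹' (Z : Set X)).Nonempty := by
    obtain ⟨x, hxZ, hxU⟩ := h
    exact ⟨⟨x, hxU⟩, hxZ⟩
  let e := IrreducibleCloseds.orderIsoOfIsOpenEmbedding (Subtype.val : ↥(U : Set X) → X) hemb
  let Z' : IrreducibleCloseds ↥(U : Set X) := e.symm ⟨Z, hne⟩
  have h1 : IrreducibleCloseds.map Subtype.val hemb.continuous Z' = Z := by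
    have := e.apply_symm_apply ⟨Z, hne⟩
    exact congrArg Subtype.val this
  have h2 := hemb.coheight_map Z'
  rw [h1] at h2
  rw [h2]
  exact Order.coheight_le_krullDim Z'

theorem dim_subset_le (A : Set X) : topologicalKrullDim A ≤ topologicalKrullDim X :=
  topologicalKrullDim_subspace_le X A

theorem dim_mono {A B : Set X} (h : A ⊆ B) : topologicalKrullDim A ≤ topologicalKrullDim B :=
  (Topology.IsEmbedding.inclusion h).isInducing.topologicalKrullDim_le

theorem localDim_le_dim_open (U : Opens X) (x : X) (hx : x ∈ U) :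
    FlatMor.localDim X x ≤ topologicalKrullDim (U : Set X) :=
  iInf_le (fun U : {U : Opens X // x ∈ U} => topologicalKrullDim (U.1 : Set X)) ⟨U, hx⟩

theorem localDim_le_dim (x : X) : FlatMor.localDim X x ≤ topologicalKrullDim X :=
  (localDim_le_dim_open ⊤ x trivial).trans (dim_subset_le _)

theorem coheight_le_localDim (Z : IrreducibleCloseds X) (x : X) (hx : x ∈ (Z : Set X)) :
    (Order.coheight Z : WithBot ℕ∞) ≤ FlatMor.localDim X x := by
  refine le_iInf fun U => ?_
  exact coheight_le_dim_open Z U.1 ⟨x, hx, U.2⟩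

/-- dim X = sup of local dimensions. -/
theorem dim_eq_iSup_localDim : topologicalKrullDim X = ⨆ x : X, FlatMor.localDim X x := by
  apply le_antisymm
  · unfold topologicalKrullDim
    rw [Order.krullDim_eq_iSup_coheight]
    refine iSup_le fun Z => ?_
    obtain ⟨x, hx⟩ := Z.isIrreducible.nonempty
    exact (coheight_le_localDim Z x hx).trans (le_iSup (fun x => FlatMor.localDim X x) x)
  · exact iSup_le fun x => localDim_le_dim x

theorem exists_open_dim_eq_localDim (x : X) :
    ∃ U : Opens X, x ∈ U ∧ topologicalKrullDim (U : Set X) = FlatMor.localDim X x := by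
  have : Nonempty {U : Opens X // x ∈ U} := ⟨⟨⊤, trivial⟩⟩
  obtain ⟨U, hU⟩ := ciInf_mem (fun U : {U : Opens X // x ∈ U} => topologicalKrullDim (U.1 : Set X))
  exact ⟨U.1, U.2, hU⟩

theorem dim_eq_iSup_open_cover {ι : Type*} (U : ι → Opens X) (hcov : ⨆ i, U i = ⊤) :
    topologicalKrullDim X = ⨆ i, topologicalKrullDim (U i) := by
  apply le_antisymm
  · unfold topologicalKrullDim
    rw [Order.krullDim_eq_iSup_coheight]
    refine iSup_le fun Z => ?_
    obtain ⟨x, hx⟩ := Z.isIrreducible.nonempty
    have : x ∈ (⨆ i, U i : Opens X) := by rw [hcov]; trivial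
    obtain ⟨i, hi⟩ := Opens.mem_iSup.mp this
    exact (coheight_le_dim_open Z (U i) ⟨x, hx, hi⟩).trans
      (le_iSup (fun i => topologicalKrullDim (U i)) i)
  · exact iSup_le fun i => dim_subset_le _

end Groth.Agent.H9TopDim

namespace Groth.Agent.H9TopDim

variable {X : Type*} [TopologicalSpace X]

theorem isIrreducible_preimage_of_isInducing {Y : Type*} [TopologicalSpace Y] {f : Y → X}
    (hf : IsInducing f) {B : Set X} (hB : IsIrreducible B) (hBr : B ⊆ Set.range f) :
    IsIrreducible (f ⁻¹' B) := by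
  constructor
  · obtain ⟨b, hb⟩ := hB.nonempty
    obtain ⟨y, rfl⟩ := hBr hb
    exact ⟨y, hb⟩
  · intro u v hu hv hne1 hne2
    obtain ⟨u', hu', rfl⟩ := hf.isOpen_iff.mp hu
    obtain ⟨v', hv', rfl⟩ := hf.isOpen_iff.mp hv
    obtain ⟨y1, hy1B, hy1u⟩ := hne1
    obtain ⟨y2, hy2B, hy2v⟩ := hne2
    obtain ⟨b, hbB, hbu, hbv⟩ := hB.isPreirreducible u' v' hu' hv' ⟨f y1, hy1B, hy1u⟩ ⟨f y2, hy2B, hy2v⟩
    obtain ⟨y, rfl⟩ := hBr hbB
    exact ⟨y, hbB, hbu, hbv⟩

/-- height is preserved under closed embeddings. -/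
theorem height_map_of_isClosedEmbedding {Y : Type*} [TopologicalSpace Y] {f : Y → X}
    (hf : IsClosedEmbedding f) (W : IrreducibleCloseds Y) :
    Order.height (IrreducibleCloseds.map f hf.continuous W) = Order.height W := by
  symm
  refine Order.height_eq_of_strictMono (IrreducibleCloseds.map f hf.continuous)
    (IrreducibleCloseds.map_strictMono_of_isInducing hf.isInducing) ?_ W
  intro W B hB
  have hWcl : closure (f '' (W : Set Y)) = f '' (W : Set Y) :=
    (hf.isClosedMap _ W.isClosed).closure_eq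
  have hBsub : (B : Set X) ⊆ f '' (W : Set Y) := by
    have := hB.le
    intro b hb
    have h2 : b ∈ ((IrreducibleCloseds.map f hf.continuous W : IrreducibleCloseds X) : Set X) := this hb
    rw [IrreducibleCloseds.coe_map, hWcl] at h2
    exact h2
  have hBr : (B : Set X) ⊆ Set.range f := hBsub.trans (Set.image_subset_range _ _)
  let W' : IrreducibleCloseds Y :=
    ⟨f ⁻¹' (B : Set X), isIrreducible_preimage_of_isInducing hf.isInducing B.isIrreducible hBr,
      B.isClosed.preimage hf.continuous⟩
  have hmap : IrreducibleCloseds.map f hf.continuous W' = B := by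
    apply IrreducibleCloseds.ext
    rw [IrreducibleCloseds.coe_map]
    show closure (f '' (f ⁻¹' (B : Set X))) = B
    rw [Set.image_preimage_eq_of_subset hBr, B.isClosed.closure_eq]
  refine ⟨W', lt_of_le_of_ne ?_ ?_, hmap⟩
  · intro y hy
    have hy' : f y ∈ (B : Set X) := hy
    obtain ⟨y', hy'W, hyy'⟩ := hBsub hy'
    rw [← hf.injective hyy']
    exact hy'W
  · intro h
    rw [h] at hmap
    exact hB.ne hmap.symm

theorem height_le_dim_closed (Z : IrreducibleCloseds X) (Y : Set X) (hY : IsClosed Y)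
    (h : (Z : Set X) ⊆ Y) :
    (Order.height Z : WithBot ℕ∞) ≤ topologicalKrullDim Y := by
  have hemb : IsClosedEmbedding (Subtype.val : ↥Y → X) := hY.isClosedEmbedding_subtypeVal
  have hBr : (Z : Set X) ⊆ Set.range (Subtype.val : ↥Y → X) := by
    rw [Subtype.range_coe]; exact h
  let Z' : IrreducibleCloseds ↥Y :=
    ⟨Subtype.val ⁻¹' (Z : Set X),
      isIrreducible_preimage_of_isInducing hemb.isInducing Z.isIrreducible hBr,
      Z.isClosed.preimage hemb.continuous⟩
  have hmap : IrreducibleCloseds.map Subtype.val hemb.continuous Z' = Z := by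
    apply IrreducibleCloseds.ext
    rw [IrreducibleCloseds.coe_map]
    show closure (Subtype.val '' (Subtype.val ⁻¹' (Z : Set X))) = Z
    rw [Set.image_preimage_eq_of_subset hBr, Z.isClosed.closure_eq]
  have h2 := height_map_of_isClosedEmbedding hemb Z'
  rw [hmap] at h2
  rw [h2]
  exact Order.height_le_krullDim Z'

theorem exists_subset_of_finite_closed_cover {ι : Type*} [Finite ι] (Y : ι → Set X)
    (hY : ∀ i, IsClosed (Y i)) {Z : Set X} (hZ : IsIrreducible Z) (hcov : Z ⊆ ⋃ i, Y i) :
    ∃ i, Z ⊆ Y i := by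
  classical
  have := Fintype.ofFinite ι
  have := isIrreducible_iff_sUnion_isClosed.mp hZ (Finset.univ.image Y)
    (by intro z hz; simp only [Finset.mem_image, Finset.mem_univ, true_and] at hz
        obtain ⟨i, rfl⟩ := hz; exact hY i)
    (by intro z hz
        obtain ⟨i, hi⟩ := Set.mem_iUnion.mp (hcov hz)
        exact Set.mem_sUnion.mpr ⟨Y i, by simp, hi⟩)
  obtain ⟨z, hz, hZz⟩ := this
  simp only [Finset.mem_image, Finset.mem_univ, true_and] at hz
  obtain ⟨i, rfl⟩ := hz
  exact ⟨i, hZz⟩

theorem dim_eq_iSup_finite_closed_cover {ι : Type*} [Finite ι] (Y : ι → Set X)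
    (hY : ∀ i, IsClosed (Y i)) (hcov : ⋃ i, Y i = Set.univ) :
    topologicalKrullDim X = ⨆ i, topologicalKrullDim (Y i) := by
  apply le_antisymm
  · unfold topologicalKrullDim
    rw [Order.krullDim_eq_iSup_height]
    refine iSup_le fun Z => ?_
    obtain ⟨i, hi⟩ := exists_subset_of_finite_closed_cover Y hY Z.isIrreducible
      (by rw [hcov]; exact Set.subset_univ _)
    exact (height_le_dim_closed Z (Y i) (hY i) hi).trans
      (le_iSup (fun i => topologicalKrullDim (Y i)) i)
  · exact iSup_le fun i => dim_subset_le _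

end Groth.Agent.H9TopDim

namespace Groth.Agent.H9TopDim

variable {X : Type*} [TopologicalSpace X]

/-- the irreducible closed subset `closure {x}`. -/
def clPt (x : X) : IrreducibleCloseds X :=
  ⟨closure {x}, isIrreducible_singleton.closure, isClosed_closure⟩

theorem dim_nonneg_of_nonempty [Nonempty X] : 0 ≤ topologicalKrullDim X := by
  obtain ⟨x⟩ := ‹Nonempty X›
  have : Nonempty (IrreducibleCloseds X) := ⟨clPt x⟩
  exact Order.krullDim_nonneg

theorem isClosed_singleton_of_dim_le_zero [T0Space X] (h : topologicalKrullDim X ≤ 0) (x : X) :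
    IsClosed ({x} : Set X) := by
  have hmin := Order.krullDim_nonpos_iff_forall_isMin.mp h
  have : closure ({x} : Set X) = {x} := by
    apply Set.Subset.antisymm _ subset_closure
    intro y hy
    have hle : clPt y ≤ clPt x := by
      intro z hz
      exact (closure_minimal (Set.singleton_subset_iff.mpr hy) isClosed_closure) hz
    have hge : clPt x ≤ clPt y := hmin (clPt x) hle
    have heq : closure ({y} : Set X) = closure {x} := Set.Subset.antisymm hle hge
    have : Inseparable y x := inseparable_iff_closure_eq.mpr heq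
    exact Set.mem_singleton_iff.mpr this.eq
  rw [← this]; exact isClosed_closure

theorem finite_discrete_of_dim_le_zero [NoetherianSpace X] [T0Space X]
    (h : topologicalKrullDim X ≤ 0) : Finite X ∧ DiscreteTopology X := by
  have hcl := isClosed_singleton_of_dim_le_zero h
  have hT1 : T1Space X := ⟨hcl⟩
  have hmin := Order.krullDim_nonpos_iff_forall_isMin.mp h
  have hfin : (irreducibleComponents X).Finite := NoetherianSpace.finite_irreducibleComponents
  have hsub : ∀ Z ∈ irreducibleComponents X, (Z : Set X).Subsingleton := by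
    intro Z hZ
    have hZirr : IsIrreducible Z := hZ.1
    have hZcl : IsClosed Z := isClosed_of_mem_irreducibleComponents Z hZ
    let Z' : IrreducibleCloseds X := ⟨Z, hZirr, hZcl⟩
    intro a ha b hb
    have h1 : clPt a ≤ Z' := by
      intro z hz
      exact (closure_minimal (Set.singleton_subset_iff.mpr ha) hZcl) hz
    have h2 : Z' ≤ clPt a := hmin Z' h1
    have hb' : b ∈ closure ({a} : Set X) := h2 hb
    rw [(hcl a).closure_eq] at hb'
    exact (Set.mem_singleton_iff.mp hb').symm
  have huniv : (Set.univ : Set X) = ⋃₀ irreducibleComponents X := sUnion_irreducibleComponents.symm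
  have hfinX : (Set.univ : Set X).Finite := by
    rw [huniv]
    exact hfin.sUnion fun Z hZ => (hsub Z hZ).finite
  have hF : Finite X := Set.finite_univ_iff.mp hfinX
  exact ⟨hF, inferInstance⟩

theorem dim_eq_zero_iff_finite_discrete [NoetherianSpace X] [T0Space X] [Nonempty X] :
    topologicalKrullDim X = 0 ↔ Finite X ∧ DiscreteTopology X := by
  constructor
  · intro h
    exact finite_discrete_of_dim_le_zero h.le
  · rintro ⟨_, hd⟩
    exact le_antisymm (topologicalKrullDim_zero_of_discreteTopology X) dim_nonneg_of_nonempty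

theorem localDim_nonneg (x : X) : 0 ≤ FlatMor.localDim X x := by
  refine le_iInf fun U => ?_
  have : Nonempty ↥(U.1 : Set X) := ⟨⟨x, U.2⟩⟩
  exact dim_nonneg_of_nonempty

theorem isOpen_singleton_iff_localDim_eq_zero [NoetherianSpace X] [T0Space X] (x : X) :
    IsOpen ({x} : Set X) ↔ FlatMor.localDim X x = 0 := by
  constructor
  · intro h
    apply le_antisymm _ (localDim_nonneg x)
    have h1 := localDim_le_dim_open ⟨{x}, h⟩ x rfl
    refine h1.trans ?_
    have : Subsingleton ↥((⟨{x}, h⟩ : Opens X) : Set X) := by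
      constructor
      rintro ⟨a, ha⟩ ⟨b, hb⟩
      have ha' : a = x := ha
      have hb' : b = x := hb
      subst ha'; subst hb'; rfl
    exact topologicalKrullDim_zero_of_discreteTopology _
  · intro h
    obtain ⟨U, hxU, hU⟩ := exists_open_dim_eq_localDim x
    rw [h] at hU
    obtain ⟨_, hdisc⟩ := finite_discrete_of_dim_le_zero (X := ↥(U : Set X)) hU.le
    have hopen : IsOpen ({⟨x, hxU⟩} : Set ↥(U : Set X)) := isOpen_discrete _
    have := U.isOpen.isOpenMap_subtype_val _ hopen
    simpa using this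

theorem dim_eq_iSup_localDim_closedPoints [NoetherianSpace X] [T0Space X] :
    topologicalKrullDim X = ⨆ x ∈ {x : X | IsClosed ({x} : Set X)}, FlatMor.localDim X x := by
  apply le_antisymm
  · unfold topologicalKrullDim
    rw [Order.krullDim_eq_iSup_coheight]
    refine iSup_le fun Z => ?_
    obtain ⟨x, hxZ, hx⟩ := Z.isClosed.exists_closed_singleton Z.isIrreducible.nonempty
    refine (coheight_le_localDim Z x hxZ).trans ?_
    exact le_iSup₂_of_le x hx le_rfl
  · exact iSup₂_le fun x _ => localDim_le_dim x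

end Groth.Agent.H9TopDim

namespace Groth.Agent.H9TopDim

variable {X : Type*} [TopologicalSpace X]

/-- The dimension of a subset `A` of a subspace `S` equals the dimension of its image in `X`. -/
theorem dim_image_val (S : Set X) (A : Set ↥S) :
    topologicalKrullDim ↥A = topologicalKrullDim ↥(Subtype.val '' A : Set X) := by
  apply le_antisymm
  · let g : ↥A → ↥(Subtype.val '' A : Set X) := fun a => ⟨a.1.1, ⟨a.1, a.2, rfl⟩⟩
    have hg : IsInducing g := by
      have hcomp : IsInducing ((Subtype.val : ↥(Subtype.val '' A : Set X) → X) ∘ g) := by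
        have : ((Subtype.val : ↥(Subtype.val '' A : Set X) → X) ∘ g) =
            (Subtype.val : ↥S → X) ∘ (Subtype.val : ↥A → ↥S) := rfl
        rw [this]
        exact IsInducing.subtypeVal.comp IsInducing.subtypeVal
      exact (IsInducing.subtypeVal.of_comp_iff).mp hcomp
    exact hg.topologicalKrullDim_le
  · have hex : ∀ x : ↥(Subtype.val '' A : Set X), ∃ a : ↥A, a.1.1 = x.1 := by
      rintro ⟨x, a, ha, rfl⟩
      exact ⟨⟨a, ha⟩, rfl⟩
    choose g hg using hex
    have hg' : IsInducing g := by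
      have hvv : IsInducing ((Subtype.val : ↥S → X) ∘ (Subtype.val : ↥A → ↥S)) :=
        IsInducing.subtypeVal.comp IsInducing.subtypeVal
      have hcomp : IsInducing (((Subtype.val : ↥S → X) ∘ (Subtype.val : ↥A → ↥S)) ∘ g) := by
        have : (((Subtype.val : ↥S → X) ∘ (Subtype.val : ↥A → ↥S)) ∘ g) =
            (Subtype.val : ↥(Subtype.val '' A : Set X) → X) := by
          funext x; exact hg x
        rw [this]
        exact IsInducing.subtypeVal
      exact (hvv.of_comp_iff).mp hcomp
    exact hg'.topologicalKrullDim_le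

theorem dim_preimage_val_le (S B : Set X) :
    topologicalKrullDim ↥(Subtype.val ⁻¹' B : Set ↥S) ≤ topologicalKrullDim ↥B := by
  rw [dim_image_val]
  apply dim_mono
  rintro _ ⟨a, ha, rfl⟩
  exact ha

theorem dim_preimage_val_le_of_subset (S T B C : Set X) (h : S ∩ B ⊆ T ∩ C) :
    topologicalKrullDim ↥(Subtype.val ⁻¹' B : Set ↥S) ≤
      topologicalKrullDim ↥(Subtype.val ⁻¹' C : Set ↥T) := by
  rw [dim_image_val, dim_image_val]
  apply dim_mono
  rintro _ ⟨a, ha, rfl⟩
  have := h ⟨a.2, ha⟩
  exact ⟨⟨a.1, this.1⟩, this.2, rfl⟩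

theorem dim_eq_iSup_locallyFinite_closed_cover {ι : Type*} (Y : ι → Set X)
    (hY : ∀ i, IsClosed (Y i)) (hlf : LocallyFinite Y) (hcov : ⋃ i, Y i = Set.univ) :
    topologicalKrullDim X = ⨆ i, topologicalKrullDim (Y i) := by
  apply le_antisymm
  · -- choose for each x an open neighbourhood meeting finitely many Y i
    have hex : ∀ x : X, ∃ U : Opens X, x ∈ U ∧ {i | (Y i ∩ U).Nonempty}.Finite := by
      intro x
      obtain ⟨t, ht, hfin⟩ := hlf x
      obtain ⟨U, hUt, hUo, hxU⟩ := mem_nhds_iff.mp ht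
      refine ⟨⟨U, hUo⟩, hxU, hfin.subset ?_⟩
      rintro i ⟨y, hyY, hyU⟩
      exact ⟨y, hyY, hUt hyU⟩
    choose U hxU hfin using hex
    have hcovU : ⨆ x, U x = ⊤ := by
      rw [eq_top_iff]
      intro x _
      exact Opens.mem_iSup.mpr ⟨x, hxU x⟩
    rw [dim_eq_iSup_open_cover U hcovU]
    refine iSup_le fun x => ?_
    -- the finite closed cover of U x
    have : Finite {i | (Y i ∩ U x).Nonempty} := (hfin x).to_subtype
    let Y' : {i | (Y i ∩ U x).Nonempty} → Set ↥(U x : Set X) := fun i => Subtype.val ⁻¹' (Y i.1)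
    have hY' : ∀ i, IsClosed (Y' i) := fun i => (hY i.1).preimage continuous_subtype_val
    have hcov' : ⋃ i, Y' i = Set.univ := by
      rw [Set.eq_univ_iff_forall]
      rintro ⟨y, hyU⟩
      have : y ∈ ⋃ i, Y i := by rw [hcov]; trivial
      obtain ⟨i, hi⟩ := Set.mem_iUnion.mp this
      exact Set.mem_iUnion.mpr ⟨⟨i, ⟨y, hi, hyU⟩⟩, hi⟩
    have h1 := dim_eq_iSup_finite_closed_cover Y' hY' hcov'
    change topologicalKrullDim ↥(U x : Set X) ≤ _
    rw [h1]
    refine iSup_le fun i => ?_
    exact (dim_preimage_val_le _ _).trans (le_iSup (fun i => topologicalKrullDim (Y i)) i.1)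
  · exact iSup_le fun i => dim_subset_le _

theorem localDim_subset_le (Y : Set X) (x : X) (hx : x ∈ Y) :
    FlatMor.localDim ↥Y ⟨x, hx⟩ ≤ FlatMor.localDim X x := by
  refine le_iInf fun U => ?_
  let V : Opens ↥Y := ⟨Subtype.val ⁻¹' (U.1 : Set X), U.1.isOpen.preimage continuous_subtype_val⟩
  have hV : (⟨x, hx⟩ : ↥Y) ∈ V := U.2
  refine (localDim_le_dim_open V ⟨x, hx⟩ hV).trans ?_
  exact dim_preimage_val_le Y (U.1 : Set X)

theorem localDim_eq_iSup_finite_closed_cover (x : X) {ι : Type*} [Finite ι] (Y : ι → Set X)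
    (hY : ∀ i, IsClosed (Y i)) (hx : ∀ i, x ∈ Y i) (hcov : ⋃ i, Y i = Set.univ) :
    FlatMor.localDim X x = ⨆ i, FlatMor.localDim (Y i) ⟨x, hx i⟩ := by
  apply le_antisymm
  · have hex : ∀ i, ∃ W : Opens X, x ∈ W ∧
        topologicalKrullDim ↥(Subtype.val ⁻¹' (W : Set X) : Set ↥(Y i)) =
          FlatMor.localDim (Y i) ⟨x, hx i⟩ := by
      intro i
      obtain ⟨V, hxV, hV⟩ := exists_open_dim_eq_localDim (X := ↥(Y i)) ⟨x, hx i⟩
      obtain ⟨W, hW, hWV⟩ := isOpen_induced_iff.mp V.isOpen
      refine ⟨⟨W, hW⟩, ?_, ?_⟩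
      · have : (⟨x, hx i⟩ : ↥(Y i)) ∈ Subtype.val ⁻¹' W := by rw [hWV]; exact hxV
        exact this
      · rw [← hV]
        show topologicalKrullDim ↥(Subtype.val ⁻¹' W : Set ↥(Y i)) = _
        rw [hWV]
    choose W hxW hW using hex
    have := Fintype.ofFinite ι
    let U : Opens X := ⟨⋂ i, (W i : Set X), isOpen_iInter_of_finite fun i => (W i).isOpen⟩
    have hxU : x ∈ U := Set.mem_iInter.mpr hxW
    refine (localDim_le_dim_open U x hxU).trans ?_
    let Y' : ι → Set ↥(U : Set X) := fun i => Subtype.val ⁻¹' (Y i)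
    have hY' : ∀ i, IsClosed (Y' i) := fun i => (hY i).preimage continuous_subtype_val
    have hcov' : ⋃ i, Y' i = Set.univ := by
      rw [Set.eq_univ_iff_forall]
      rintro ⟨y, hyU⟩
      have : y ∈ ⋃ i, Y i := by rw [hcov]; trivial
      obtain ⟨i, hi⟩ := Set.mem_iUnion.mp this
      exact Set.mem_iUnion.mpr ⟨i, hi⟩
    rw [dim_eq_iSup_finite_closed_cover Y' hY' hcov']
    refine iSup_le fun i => ?_
    refine le_trans ?_ (le_iSup (fun i => FlatMor.localDim (Y i) ⟨x, hx i⟩) i)
    rw [← hW i]
    apply dim_preimage_val_le_of_subset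
    rintro y ⟨hyU, hyY⟩
    exact ⟨hyY, Set.mem_iInter.mp hyU i⟩
  · exact iSup_le fun i => localDim_subset_le (Y i) x (hx i)

end Groth.Agent.H9TopDim
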