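import Groth.Agent.Lib.helper9.Depth23
import Mathlib.RingTheory.RingHom.Surjective

/-!
# Depth and dimension under change of rings (isomorphisms, surjections)
-/

universe u v u' v'

open RingTheory.Sequence Pointwise

namespace Groth.Agent.Lib.helper9.Depth

open LocCoh

section Semilinear

variable {R : Type u} {S : Type u'} [CommRing R] [CommRing S]
  {M : Type v} {M₂ : Type v'} [AddCommGroup M] [AddCommGroup M₂] [Module R M] [Module S M₂]

lemma smul_top_eq_top_of_addEquiv (σ : R →+* S) (e : M ≃+ M₂)
    (he : ∀ (r : R) (x : M), e (r • x) = σ r • e x) (I : Ideal R)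
    (h : I • (⊤ : Submodule R M) = ⊤) : (I.map σ) • (⊤ : Submodule S M₂) = ⊤ := by
  rw [eq_top_iff]
  intro y _
  obtain ⟨x, rfl⟩ := e.surjective y
  have hx : x ∈ I • (⊤ : Submodule R M) := by rw [h]; exact Submodule.mem_top
  refine Submodule.smul_induction_on (p := fun x => e x ∈ (I.map σ) • (⊤ : Submodule S M₂)) hx
    (fun r hr m _ => ?_) (fun a b ha hb => ?_)
  · change e (r • m) ∈ _
    rw [he]
    exact Submodule.smul_mem_smul (Ideal.mem_map_of_mem σ hr) Submodule.mem_top
  · change e (a + b) ∈ _
    rw [map_add]
    exact Submodule.add_mem _ ha hb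

lemma idealDepth_le_of_addEquiv (σ : R ≃+* S) (e : M ≃+ M₂)
    (he : ∀ (r : R) (x : M), e (r • x) = σ r • e x) (I : Ideal R) :
    idealDepth I M ≤ idealDepth (I.map (σ : R →+* S)) M₂ := by
  classical
  have hes : ∀ (s : S) (y : M₂), e.symm (s • y) = σ.symm s • e.symm y := by
    intro s y
    apply e.injective
    rw [he, AddEquiv.apply_symm_apply, AddEquiv.apply_symm_apply, RingEquiv.apply_symm_apply]
  by_cases h2 : (I.map (σ : R →+* S)) • (⊤ : Submodule S M₂) = ⊤
  · unfold idealDepth
    rw [if_pos h2]
    exact le_top
  · have h1 : ¬ I • (⊤ : Submodule R M) = ⊤ := by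
      intro h
      exact h2 (smul_top_eq_top_of_addEquiv (σ : R →+* S) e he I h)
    unfold idealDepth
    rw [if_neg h1, if_neg h2]
    refine iSup₂_le fun rs hrs => ?_
    have hreg : IsWeaklyRegular M₂ (rs.map σ) :=
      (e.isWeaklyRegular_congr (List.forall₂_map_right_iff.mpr
        (List.forall₂_same.mpr fun r _ x => he r x))).mp hrs.1
    have hmem : ∀ r ∈ rs.map σ, r ∈ I.map (σ : R →+* S) := by
      intro r hr
      obtain ⟨a, ha, rfl⟩ := List.mem_map.mp hr
      exact Ideal.mem_map_of_mem _ (hrs.2 a ha)
    have := le_iSup₂ (f := fun (rs : List S)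
      (_ : IsWeaklyRegular M₂ rs ∧ ∀ r ∈ rs, r ∈ I.map (σ : R →+* S)) =>
      (rs.length : ℕ∞)) (rs.map σ) ⟨hreg, hmem⟩
    simpa using this

/-- depth is invariant under semilinear isomorphisms. -/
theorem idealDepth_eq_of_addEquiv (σ : R ≃+* S) (e : M ≃+ M₂)
    (he : ∀ (r : R) (x : M), e (r • x) = σ r • e x) (I : Ideal R) :
    idealDepth I M = idealDepth (I.map (σ : R →+* S)) M₂ := by
  apply le_antisymm (idealDepth_le_of_addEquiv σ e he I)
  have hes : ∀ (s : S) (y : M₂), e.symm (s • y) = σ.symm s • e.symm y := by
    intro s y
    apply e.injective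
    rw [he, AddEquiv.apply_symm_apply, AddEquiv.apply_symm_apply, RingEquiv.apply_symm_apply]
  have := idealDepth_le_of_addEquiv σ.symm e.symm hes (I.map (σ : R →+* S))
  rwa [Ideal.map_of_equiv] at this

lemma annihilator_map_of_addEquiv (σ : R ≃+* S) (e : M ≃+ M₂)
    (he : ∀ (r : R) (x : M), e (r • x) = σ r • e x) :
    Module.annihilator S M₂ = (Module.annihilator R M).map (σ : R →+* S) := by
  ext s
  have hmap : s ∈ (Module.annihilator R M).map (σ : R →+* S) ↔
      ∃ x ∈ Module.annihilator R M, σ x = s := Ideal.mem_map_of_equiv σ s
  rw [hmap, Module.mem_annihilator]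
  constructor
  · intro h
    refine ⟨σ.symm s, ?_, RingEquiv.apply_symm_apply _ _⟩
    rw [Module.mem_annihilator]
    intro x
    apply e.injective
    rw [he, RingEquiv.apply_symm_apply, h, map_zero]
  · rintro ⟨r, hr, rfl⟩ y
    obtain ⟨x, rfl⟩ := e.surjective y
    rw [← he, Module.mem_annihilator.mp hr, map_zero]

/-- dimension of the support is invariant under semilinear isomorphisms. -/
theorem supportDim_eq_of_addEquiv [Module.Finite R M] [Module.Finite S M₂] (σ : R ≃+* S)
    (e : M ≃+ M₂) (he : ∀ (r : R) (x : M), e (r • x) = σ r • e x) :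
    Module.supportDim R M = Module.supportDim S M₂ := by
  rw [Module.supportDim_eq_ringKrullDim_quotient_annihilator,
    Module.supportDim_eq_ringKrullDim_quotient_annihilator]
  exact ringKrullDim_eq_of_ringEquiv
    (Ideal.quotientEquiv _ _ σ (annihilator_map_of_addEquiv σ e he))

end Semilinear

section Surjective

variable {R : Type u} {S : Type u'} [CommRing R] [CommRing S] [Algebra R S]
  {M : Type v} [AddCommGroup M] [Module R M] [Module S M] [IsScalarTower R S M]

lemma smul_top_eq_top_iff_map (I : Ideal R) :
    (I.map (algebraMap R S)) • (⊤ : Submodule S M) = ⊤ ↔ I • (⊤ : Submodule R M) = ⊤ := by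
  rw [← Submodule.restrictScalars_eq_top_iff R, Ideal.smul_restrictScalars,
    Submodule.restrictScalars_top]

/-- `depth_I M ≤ depth_{IS} M` for an `S`-module `M`. -/
lemma idealDepth_le_idealDepth_map (I : Ideal R) :
    idealDepth I M ≤ idealDepth (I.map (algebraMap R S)) M := by
  classical
  by_cases h2 : (I.map (algebraMap R S)) • (⊤ : Submodule S M) = ⊤
  · unfold idealDepth
    rw [if_pos h2]
    exact le_top
  · have h1 : ¬ I • (⊤ : Submodule R M) = ⊤ := fun h => h2 ((smul_top_eq_top_iff_map I).mpr h)
    unfold idealDepth
    rw [if_neg h1, if_neg h2]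
    refine iSup₂_le fun rs hrs => ?_
    have hreg : IsWeaklyRegular M (rs.map (algebraMap R S)) :=
      (isWeaklyRegular_map_algebraMap_iff S M rs).mpr hrs.1
    have hmem : ∀ r ∈ rs.map (algebraMap R S), r ∈ I.map (algebraMap R S) := by
      intro r hr
      obtain ⟨a, ha, rfl⟩ := List.mem_map.mp hr
      exact Ideal.mem_map_of_mem _ (hrs.2 a ha)
    have := le_iSup₂ (f := fun (rs : List S)
      (_ : IsWeaklyRegular M rs ∧ ∀ r ∈ rs, r ∈ I.map (algebraMap R S)) =>
      (rs.length : ℕ∞)) (rs.map (algebraMap R S)) ⟨hreg, hmem⟩
    simpa using this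

lemma exists_list_map_eq (hs : Function.Surjective (algebraMap R S)) (I : Ideal R) :
    ∀ rs' : List S, (∀ r ∈ rs', r ∈ I.map (algebraMap R S)) →
      ∃ rs : List R, rs.map (algebraMap R S) = rs' ∧ ∀ r ∈ rs, r ∈ I := by
  intro rs'
  induction rs' with
  | nil => exact fun _ => ⟨[], rfl, by simp⟩
  | cons a t ih =>
    intro h
    obtain ⟨rs, hrs, hmem⟩ := ih (fun r hr => h r (List.mem_cons_of_mem _ hr))
    obtain ⟨x, hx, hxa⟩ := (Ideal.mem_map_iff_of_surjective _ hs).mp (h a List.mem_cons_self)
    refine ⟨x :: rs, by simp [hrs, hxa], ?_⟩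
    intro r hr
    rcases List.mem_cons.mp hr with rfl | hr
    · exact hx
    · exact hmem r hr

/-- depth does not change along a surjective ring map. -/
theorem idealDepth_eq_of_surjective (hs : Function.Surjective (algebraMap R S)) (I : Ideal R) :
    idealDepth I M = idealDepth (I.map (algebraMap R S)) M := by
  classical
  apply le_antisymm (idealDepth_le_idealDepth_map I)
  by_cases h1 : I • (⊤ : Submodule R M) = ⊤
  · unfold idealDepth
    rw [if_pos h1]
    exact le_top
  · have h2 : ¬ (I.map (algebraMap R S)) • (⊤ : Submodule S M) = ⊤ :=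
      fun h => h1 ((smul_top_eq_top_iff_map I).mp h)
    unfold idealDepth
    rw [if_neg h1, if_neg h2]
    refine iSup₂_le fun rs' hrs' => ?_
    obtain ⟨rs, hrs, hmem⟩ := exists_list_map_eq hs I rs' hrs'.2
    have hreg : IsWeaklyRegular M rs := by
      rw [← isWeaklyRegular_map_algebraMap_iff S M rs, hrs]
      exact hrs'.1
    have := le_iSup₂ (f := fun (rs : List R)
      (_ : IsWeaklyRegular M rs ∧ ∀ r ∈ rs, r ∈ I) => (rs.length : ℕ∞)) rs ⟨hreg, hmem⟩
    rw [← hrs, List.length_map]
    exact this

omit [IsScalarTower R S M] in
lemma annihilator_eq_comap [IsScalarTower R S M] :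
    Module.annihilator R M = (Module.annihilator S M).comap (algebraMap R S) := by
  ext r
  rw [Ideal.mem_comap, Module.mem_annihilator, Module.mem_annihilator]
  simp only [algebraMap_smul]

/-- the dimension of the support does not change along a surjective ring map. -/
theorem supportDim_eq_of_surjective [Module.Finite R M] [Module.Finite S M]
    (hs : Function.Surjective (algebraMap R S)) :
    Module.supportDim R M = Module.supportDim S M := by
  rw [Module.supportDim_eq_ringKrullDim_quotient_annihilator,
    Module.supportDim_eq_ringKrullDim_quotient_annihilator]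
  let f : R →+* S ⧸ Module.annihilator S M :=
    (Ideal.Quotient.mk (Module.annihilator S M)).comp (algebraMap R S)
  have hf : Function.Surjective f := Ideal.Quotient.mk_surjective.comp hs
  have hker : RingHom.ker f = Module.annihilator R M := by
    refine Eq.trans ?_ (annihilator_eq_comap (R := R) (S := S) (M := M)).symm
    ext r
    rw [RingHom.mem_ker, Ideal.mem_comap]
    exact Ideal.Quotient.eq_zero_iff_mem
  exact ringKrullDim_eq_of_ringEquiv
    ((Ideal.quotEquivOfEq hker.symm).trans (RingHom.quotientKerEquivOfSurjective hf))

end Surjective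

section LocalEquiv

variable {R : Type u} {S : Type u'} [CommRing R] [CommRing S] [IsLocalRing R] [IsLocalRing S]

lemma map_maximalIdeal_of_ringEquiv (σ : R ≃+* S) :
    (IsLocalRing.maximalIdeal R).map (σ : R →+* S) = IsLocalRing.maximalIdeal S := by
  rw [Ideal.map_comap_of_equiv]
  ext y
  rw [Ideal.mem_comap, IsLocalRing.mem_maximalIdeal, IsLocalRing.mem_maximalIdeal,
    mem_nonunits_iff, mem_nonunits_iff]
  exact not_congr (MulEquiv.isUnit_map σ.symm.toMulEquiv)

/-- depth over local rings is invariant under semilinear isomorphisms. -/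
theorem depth_eq_of_addEquiv {M : Type v} {M₂ : Type v'} [AddCommGroup M] [AddCommGroup M₂]
    [Module R M] [Module S M₂] (σ : R ≃+* S) (e : M ≃+ M₂)
    (he : ∀ (r : R) (x : M), e (r • x) = σ r • e x) : depth R M = depth S M₂ := by
  unfold depth
  rw [idealDepth_eq_of_addEquiv σ e he, map_maximalIdeal_of_ringEquiv]

end LocalEquiv

section IsLocalizedModule

variable {R : Type u} [CommRing R] (p : Ideal R) [p.IsPrime] (R' : Type u') [CommRing R']
  [Algebra R R'] [IsLocalization.AtPrime R' p]
  {M : Type v} {N : Type v'} [AddCommGroup M] [Module R M] [AddCommGroup N] [Module R N]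
  [Module R' N] [IsScalarTower R R' N] (f : M →ₗ[R] N) [IsLocalizedModule p.primeCompl f]

/-- the comparison isomorphism `M_p ≃ N` is semilinear over `R_p ≃ R'`. -/
lemma iso_smul (a : Localization.AtPrime p) (x : LocalizedModule p.primeCompl M) :
    IsLocalizedModule.iso p.primeCompl f (a • x) =
      (IsLocalization.algEquiv p.primeCompl (Localization.AtPrime p) R' a) •
        IsLocalizedModule.iso p.primeCompl f x := by
  obtain ⟨r, s, rfl⟩ := IsLocalization.exists_mk'_eq p.primeCompl a
  apply IsLocalizedModule.smul_injective f s
  change s • IsLocalizedModule.iso p.primeCompl f _ = s • (_ • IsLocalizedModule.iso p.primeCompl f x)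
  rw [Submonoid.smul_def, Submonoid.smul_def, ← LinearEquiv.map_smul,
    ← algebraMap_smul (Localization.AtPrime p) (s : R), smul_smul, IsLocalization.mk'_spec',
    algebraMap_smul, LinearEquiv.map_smul, IsLocalization.algEquiv_mk',
    ← algebraMap_smul R' (s : R), smul_smul, IsLocalization.mk'_spec', algebraMap_smul]

include f in
theorem depth_eq_of_isLocalizedModule [IsLocalRing R'] :
    depth (Localization.AtPrime p) (LocalizedModule p.primeCompl M) = depth R' N :=
  depth_eq_of_addEquiv
    (IsLocalization.algEquiv p.primeCompl (Localization.AtPrime p) R').toRingEquiv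
    (IsLocalizedModule.iso p.primeCompl f).toAddEquiv (iso_smul p R' f)

include f in
theorem supportDim_eq_of_isLocalizedModule [Module.Finite R M] :
    Module.supportDim (Localization.AtPrime p) (LocalizedModule p.primeCompl M) =
      Module.supportDim R' N := by
  haveI : Module.Finite R' N := Module.Finite.of_isLocalizedModule p.primeCompl f
  exact supportDim_eq_of_addEquiv
    (IsLocalization.algEquiv p.primeCompl (Localization.AtPrime p) R').toRingEquiv
    (IsLocalizedModule.iso p.primeCompl f).toAddEquiv (iso_smul p R' f)

end IsLocalizedModule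

section SurjectiveLocal

variable {R' : Type u} {S' : Type u'} [CommRing R'] [CommRing S'] [IsLocalRing R'] [IsLocalRing S']
  [Algebra R' S'] {N : Type v} [AddCommGroup N] [Module R' N] [Module S' N] [IsScalarTower R' S' N]

/-- depth does not change along a surjection of local rings. -/
theorem depth_eq_of_surjective (hs : Function.Surjective (algebraMap R' S')) :
    depth R' N = depth S' N := by
  unfold depth
  rw [idealDepth_eq_of_surjective hs, IsLocalRing.map_maximalIdeal_of_surjective _ hs]

end SurjectiveLocal

section SurjectiveLocalization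

variable {R S : Type u} [CommRing R] [CommRing S] [Algebra R S]
  {M : Type u} [AddCommGroup M] [Module R M] [Module S M] [IsScalarTower R S M]

/-- for a surjection `R → S`, a prime `P` of `S` and `p = P ∩ R`, the `S`-localization `M_P` is a
localization of the `R`-module `M` at `p`. -/
lemma isLocalizedModule_comap_of_surjective (hs : Function.Surjective (algebraMap R S))
    (P : Ideal S) [P.IsPrime] :
    IsLocalizedModule (P.comap (algebraMap R S)).primeCompl
      ((LocalizedModule.mkLinearMap P.primeCompl M).restrictScalars R) where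
  map_units s := by
    have hs' : algebraMap R S s ∈ P.primeCompl := s.2
    have := IsLocalizedModule.map_units (LocalizedModule.mkLinearMap P.primeCompl M)
      ⟨algebraMap R S s, hs'⟩
    rw [Module.End.isUnit_iff] at this ⊢
    convert this using 1
    ext n
    simp only [Module.algebraMap_end_apply]
    rw [algebraMap_smul]
  surj y := by
    induction y using LocalizedModule.induction_on with
    | h m t =>
      obtain ⟨s, hst⟩ := hs (t : S)
      have hsp : s ∈ (P.comap (algebraMap R S)).primeCompl := by
        change algebraMap R S s ∉ P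
        rw [hst]; exact t.2
      refine ⟨⟨m, ⟨s, hsp⟩⟩, ?_⟩
      change s • LocalizedModule.mk m t = LocalizedModule.mk m 1
      rw [LocalizedModule.smul'_mk, LocalizedModule.mk_eq]
      refine ⟨1, ?_⟩
      rw [one_smul, one_smul, one_smul, ← algebraMap_smul S s m, hst]
      rfl
  exists_of_eq {m₁ m₂} h := by
    change LocalizedModule.mk m₁ 1 = LocalizedModule.mk m₂ 1 at h
    rw [LocalizedModule.mk_eq] at h
    obtain ⟨c, hc⟩ := h
    obtain ⟨s, hsc⟩ := hs (c : S)
    have hsp : s ∈ (P.comap (algebraMap R S)).primeCompl := by
      change algebraMap R S s ∉ P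
      rw [hsc]; exact c.2
    refine ⟨⟨s, hsp⟩, ?_⟩
    rw [one_smul, one_smul] at hc
    change s • m₁ = s • m₂
    rw [← algebraMap_smul S s m₁, ← algebraMap_smul S s m₂, hsc]
    exact hc

/-- for a surjection `R → S`, an `S`-module `M`, a prime `P` of `S` and `p = P ∩ R`:
`depth_{R_p} M_p = depth_{S_P} M_P` and `dim_{R_p} M_p = dim_{S_P} M_P`. -/
theorem depth_supportDim_localization_of_surjective [Module.Finite R M]
    (hs : Function.Surjective (algebraMap R S)) (P : Ideal S) [P.IsPrime] :
    depth (Localization.AtPrime (P.comap (algebraMap R S)))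
        (LocalizedModule (P.comap (algebraMap R S)).primeCompl M) =
      depth (Localization.AtPrime P) (LocalizedModule P.primeCompl M) ∧
    Module.supportDim (Localization.AtPrime (P.comap (algebraMap R S)))
        (LocalizedModule (P.comap (algebraMap R S)).primeCompl M) =
      Module.supportDim (Localization.AtPrime P) (LocalizedModule P.primeCompl M) := by
  haveI : Module.Finite S M := Module.Finite.of_restrictScalars_finite R S M
  let φ := Localization.localRingHom (P.comap (algebraMap R S)) P (algebraMap R S) rfl
  letI : Algebra (Localization.AtPrime (P.comap (algebraMap R S))) (Localization.AtPrime P) :=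
    φ.toAlgebra
  letI : Module (Localization.AtPrime (P.comap (algebraMap R S)))
      (LocalizedModule P.primeCompl M) := Module.compHom _ φ
  haveI : IsScalarTower (Localization.AtPrime (P.comap (algebraMap R S)))
      (Localization.AtPrime P) (LocalizedModule P.primeCompl M) :=
    ⟨fun a b n => by
      change (φ a * b) • n = φ a • (b • n)
      rw [mul_smul]⟩
  haveI : IsScalarTower R (Localization.AtPrime (P.comap (algebraMap R S)))
      (LocalizedModule P.primeCompl M) :=
    ⟨fun r a n => by
      change φ (r • a) • n = r • (φ a • n)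
      rw [Algebra.smul_def, map_mul, Localization.localRingHom_to_map, mul_smul,
        algebraMap_smul, algebraMap_smul]⟩
  have hφ : Function.Surjective (algebraMap (Localization.AtPrime (P.comap (algebraMap R S)))
      (Localization.AtPrime P)) :=
    RingHom.surjective_localRingHom_of_surjective _ hs P
  haveI := isLocalizedModule_comap_of_surjective (M := M) hs P
  haveI : Module.Finite (Localization.AtPrime (P.comap (algebraMap R S)))
      (LocalizedModule P.primeCompl M) :=
    Module.Finite.of_isLocalizedModule (P.comap (algebraMap R S)).primeCompl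
      ((LocalizedModule.mkLinearMap P.primeCompl M).restrictScalars R)
  constructor
  · rw [depth_eq_of_isLocalizedModule (P.comap (algebraMap R S))
      (Localization.AtPrime (P.comap (algebraMap R S)))
      ((LocalizedModule.mkLinearMap P.primeCompl M).restrictScalars R)]
    exact depth_eq_of_surjective hφ
  · rw [supportDim_eq_of_isLocalizedModule (P.comap (algebraMap R S))
      (Localization.AtPrime (P.comap (algebraMap R S)))
      ((LocalizedModule.mkLinearMap P.primeCompl M).restrictScalars R)]
    exact supportDim_eq_of_surjective hφ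

lemma depth_supportDim_localization_of_surjective' [Module.Finite R M]
    (hs : Function.Surjective (algebraMap R S)) (p : Ideal R) [p.IsPrime] (P : Ideal S) [P.IsPrime]
    (hpP : P.comap (algebraMap R S) = p) :
    depth (Localization.AtPrime p) (LocalizedModule p.primeCompl M) =
      depth (Localization.AtPrime P) (LocalizedModule P.primeCompl M) ∧
    Module.supportDim (Localization.AtPrime p) (LocalizedModule p.primeCompl M) =
      Module.supportDim (Localization.AtPrime P) (LocalizedModule P.primeCompl M) := by
  subst hpP
  exact depth_supportDim_localization_of_surjective hs P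

/-- Serre's condition `(S_k)` for an `S`-module does not depend on the base ring along a
surjection `R → S`. -/
theorem hasSk_iff_of_surjective [Module.Finite R M] (hs : Function.Surjective (algebraMap R S))
    (k : ℕ) : HasSk k S M ↔ HasSk k R M := by
  constructor
  · intro h p _
    by_cases hker : RingHom.ker (algebraMap R S) ≤ p
    · haveI : (p.map (algebraMap R S)).IsPrime := Ideal.map_isPrime_of_surjective hs hker
      have hcomap : (p.map (algebraMap R S)).comap (algebraMap R S) = p := by
        rw [Ideal.comap_map_of_surjective _ hs, sup_eq_left]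
        exact hker
      obtain ⟨h1, h2⟩ := depth_supportDim_localization_of_surjective' (M := M) hs p
        (p.map (algebraMap R S)) hcomap
      rw [h1, h2]
      exact h (p.map (algebraMap R S))
    · obtain ⟨r, hr, hrp⟩ := SetLike.not_le_iff_exists.mp hker
      haveI : Subsingleton (LocalizedModule p.primeCompl M) := by
        constructor
        intro a b
        suffices h0 : ∀ c : LocalizedModule p.primeCompl M, c = 0 by rw [h0 a, h0 b]
        intro c
        induction c using LocalizedModule.induction_on with
        | h m s =>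
          rw [mk_eq_zero_iff']
          refine ⟨⟨r, hrp⟩, ?_⟩
          change r • m = 0
          rw [← algebraMap_smul S r m, (RingHom.mem_ker).mp hr, zero_smul]
      rw [Module.supportDim_eq_bot_of_subsingleton]
      simp
  · intro h P _
    obtain ⟨h1, h2⟩ := depth_supportDim_localization_of_surjective (M := M) hs P
    rw [← h1, ← h2]
    exact h (P.comap (algebraMap R S))

end SurjectiveLocalization

end Groth.Agent.Lib.helper9.Depth
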