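import Mathlib.RingTheory.Ideal.KrullsHeightTheorem
import Mathlib.RingTheory.KrullDimension.Module
import Mathlib.RingTheory.Spectrum.Maximal.Basic

/-!
# Semi-local Noetherian rings have finite Krull dimension
-/

namespace Groth.Agent.Lib.helper9.SemiLocalDim

variable (A : Type*) [CommRing A] [IsNoetherianRing A] [Finite (MaximalSpectrum A)]

theorem ringKrullDim_lt_top : ringKrullDim A < ⊤ := by
  classical
  nontriviality A
  rw [← Ideal.sup_isMaximal_height_eq_ringKrullDim, ← WithBot.coe_top, WithBot.coe_lt_coe]
  have hfin : {I : Ideal A | I.IsMaximal}.Finite :=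
    Set.finite_coe_iff.mp ((MaximalSpectrum.equivSubtype A).finite_iff.mp inferInstance)
  have hle : (⨆ (I : Ideal A) (_ : I.IsMaximal), I.height) ≤ hfin.toFinset.sup Ideal.height := by
    refine iSup_le fun I => iSup_le fun hI => ?_
    exact Finset.le_sup (f := Ideal.height) (hfin.mem_toFinset.mpr hI)
  refine lt_of_le_of_lt hle ?_
  rw [Finset.sup_lt_iff (by exact bot_lt_top)]
  intro I hI
  have hI' : I.IsMaximal := hfin.mem_toFinset.mp hI
  exact Ideal.height_lt_top hI'.ne_top

theorem ringKrullDim_ne_top : ringKrullDim A ≠ ⊤ := (ringKrullDim_lt_top A).ne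

theorem supportDim_ne_top (M : Type*) [AddCommGroup M] [Module A M] :
    Module.supportDim A M ≠ ⊤ :=
  (lt_of_le_of_lt (Module.supportDim_le_ringKrullDim A M) (ringKrullDim_lt_top A)).ne

theorem exists_nat_eq_supportDim (M : Type*) [AddCommGroup M] [Module A M] [Nontrivial M] :
    ∃ n : ℕ, Module.supportDim A M = n := by
  have h1 := supportDim_ne_top A M
  have h2 : Module.supportDim A M ≠ ⊥ := Module.supportDim_ne_bot_of_nontrivial A M
  cases h : Module.supportDim A M with
  | bot => exact absurd h h2
  | coe m =>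
    cases m with
    | top => exact absurd h h1
    | coe n => exact ⟨n, rfl⟩

end Groth.Agent.Lib.helper9.SemiLocalDim
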