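import Groth.Agent.Lib.helper9.Depth4
import Groth.Agent.Lib.helper9.SemiLocalDim
import Groth.Agent.S5767
import Groth.Agent.S5768

/-!
# Cohen–Macaulay modules over a Noetherian local ring (prelude notion `LocCoh.IsCohenMacaulayModule`)
-/

universe u

open CategoryTheory RingTheory.Sequence Pointwise

namespace Groth.Agent.Lib.helper9.Depth

open LocCoh

section Congr

variable {R : Type u} [CommRing R] (I : Ideal R) {M N : Type u} [AddCommGroup M] [Module R M]
  [AddCommGroup N] [Module R N]

lemma smul_top_eq_top_congr (e : M ≃ₗ[R] N) :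
    I • (⊤ : Submodule R M) = ⊤ ↔ I • (⊤ : Submodule R N) = ⊤ := by
  have key : ∀ {M N : Type u} [AddCommGroup M] [Module R M] [AddCommGroup N] [Module R N]
      (e : M ≃ₗ[R] N), I • (⊤ : Submodule R M) = ⊤ → I • (⊤ : Submodule R N) = ⊤ := by
    intro M N _ _ _ _ e h
    have := congrArg (Submodule.map e.toLinearMap) h
    rw [Submodule.map_smul'', Submodule.map_top, LinearEquiv.range] at this
    exact this
  exact ⟨key e, key e.symm⟩

theorem idealDepth_congr (e : M ≃ₗ[R] N) : idealDepth I M = idealDepth I N := by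
  unfold idealDepth
  by_cases h : I • (⊤ : Submodule R M) = ⊤
  · rw [if_pos h, if_pos ((smul_top_eq_top_congr I e).mp h)]
  · rw [if_neg h, if_neg (fun h' => h ((smul_top_eq_top_congr I e).mpr h'))]
    refine iSup_congr fun rs => ?_
    exact iSup_congr_Prop (and_congr (e.isWeaklyRegular_congr rs) Iff.rfl) (fun _ => rfl)

end Congr


section QuotList

variable {R : Type u} [CommRing R] [IsNoetherianRing R] {I : Ideal R}

/-- `depth_I (M/(xs)M) + |xs| = depth_I M` for a weakly regular sequence `xs` in `I`. -/
theorem idealDepth_quot_ofList_add_length : ∀ (xs : List R) (M : Type u) [AddCommGroup M]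
    [Module R M] [Module.Finite R M], I • (⊤ : Submodule R M) ≠ ⊤ → IsWeaklyRegular M xs →
    (∀ x ∈ xs, x ∈ I) →
    idealDepth I (M ⧸ (Ideal.ofList xs • (⊤ : Submodule R M))) + xs.length = idealDepth I M := by
  intro xs
  induction xs with
  | nil =>
    intro M _ _ _ _ _ _
    have h0 : (Ideal.ofList ([] : List R) • (⊤ : Submodule R M)) = ⊥ := by
      rw [Ideal.ofList_nil, Submodule.bot_smul]
    rw [idealDepth_congr I (Submodule.quotEquivOfEqBot _ h0)]
    simp
  | cons x xs ih =>
    intro M _ _ _ hIM hreg hmem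
    rw [isWeaklyRegular_cons_iff] at hreg
    have hx : x ∈ I := hmem x List.mem_cons_self
    have hIM' := smul_top_quotSMulTop_ne_top hx hIM
    have h1 := ih (QuotSMulTop x M) hIM' hreg.2 (fun r hr => hmem r (List.mem_cons_of_mem _ hr))
    rw [idealDepth_congr I (Submodule.quotOfListConsSMulTopEquivQuotSMulTopInner M x xs),
      ← idealDepth_quotSMulTop_add_one hIM hx hreg.1, ← h1, List.length_cons]
    push_cast
    rw [add_assoc]

end QuotList

section WithBotENat

lemma eq_bot_or_exists_nat {a : WithBot ℕ∞} (h : a ≠ ⊤) : a = ⊥ ∨ ∃ n : ℕ, a = n := by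
  cases a with
  | bot => exact Or.inl rfl
  | coe m =>
    cases m with
    | top => exact absurd rfl h
    | coe n => exact Or.inr ⟨n, rfl⟩

end WithBotENat

section CM

variable {R : Type u} [CommRing R] [IsLocalRing R] [IsNoetherianRing R]

lemma supportDim_eq_bot_or_nat (M : Type u) [AddCommGroup M] [Module R M] :
    Module.supportDim R M = ⊥ ∨ ∃ n : ℕ, Module.supportDim R M = n :=
  eq_bot_or_exists_nat (SemiLocalDim.supportDim_ne_top R M)

lemma nontrivial_of_isCohenMacaulayModule {M : Type u} [AddCommGroup M] [Module R M]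
    (hM : IsCohenMacaulayModule R M) : Nontrivial M := by
  rw [← Module.supportDim_ne_bot_iff_nontrivial R, hM]
  exact WithBot.coe_ne_bot

omit [IsLocalRing R] [IsNoetherianRing R] in
lemma ringKrullDim_quotient_le_supportDim {M : Type u} [AddCommGroup M] [Module R M]
    {p : PrimeSpectrum R} (hp : p ∈ Module.support R M) :
    ringKrullDim (R ⧸ p.asIdeal) ≤ Module.supportDim R M := by
  rw [ringKrullDim_quotient]
  unfold Module.supportDim
  exact Order.krullDim_le_of_strictMono
    (fun q : PrimeSpectrum.zeroLocus (p.asIdeal : Set R) =>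
      (⟨q.1, Module.mem_support_mono ((PrimeSpectrum.mem_zeroLocus _ _).mp q.2) hp⟩ :
        Module.support R M)) (fun q q' h => h)

omit [IsLocalRing R] [IsNoetherianRing R] in
lemma mem_support_of_mem_associatedPrimes {M : Type u} [AddCommGroup M] [Module R M]
    [Module.Finite R M] {p : Ideal R} (hp : p ∈ associatedPrimes R M) :
    (⟨p, hp.isPrime⟩ : PrimeSpectrum R) ∈ Module.support R M := by
  rw [Module.mem_support_iff_of_finite]
  have := IsAssociatedPrime.annihilator_le hp
  rw [Submodule.annihilator_top] at this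
  exact this

theorem depth_le_supportDim (M : Type u) [AddCommGroup M] [Module R M] [Module.Finite R M]
    [Nontrivial M] : ((depth R M : ℕ∞) : WithBot ℕ∞) ≤ Module.supportDim R M := by
  obtain ⟨p, hp⟩ := associatedPrimes.nonempty R M
  have h1 : ringKrullDim (R ⧸ p) ≤ Module.supportDim R M :=
    ringKrullDim_quotient_le_supportDim (p := ⟨p, hp.isPrime⟩)
      (mem_support_of_mem_associatedPrimes hp)
  exact (depth_le_ringKrullDim_quotient_of_mem_associatedPrimes M p hp).trans h1

theorem ringKrullDim_quotient_eq_supportDim_of_isCohenMacaulayModule {M : Type u} [AddCommGroup M]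
    [Module R M] [Module.Finite R M] (hM : IsCohenMacaulayModule R M) {p : Ideal R}
    (hp : p ∈ associatedPrimes R M) : ringKrullDim (R ⧸ p) = Module.supportDim R M := by
  have h1 : ringKrullDim (R ⧸ p) ≤ Module.supportDim R M :=
    ringKrullDim_quotient_le_supportDim (p := ⟨p, hp.isPrime⟩)
      (mem_support_of_mem_associatedPrimes hp)
  refine le_antisymm h1 ?_
  rw [hM]
  exact depth_le_ringKrullDim_quotient_of_mem_associatedPrimes M p hp

lemma exists_nat_depth (M : Type u) [AddCommGroup M] [Module R M] [Module.Finite R M]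
    [Nontrivial M] : ∃ n : ℕ, depth R M = n :=
  exists_nat_eq_idealDepth (I := IsLocalRing.maximalIdeal R) M (maximalIdeal_smul_top_ne_top M)

lemma mem_ringJacobson_of_mem_maximalIdeal {x : R} (hx : x ∈ IsLocalRing.maximalIdeal R) :
    x ∈ Ring.jacobson R := by
  rw [IsLocalRing.ringJacobson_eq_maximalIdeal]
  exact hx

/-- In a CM module, an element of `m` cutting the dimension down by one is regular. -/
theorem isSMulRegular_of_supportDim_quotSMulTop_add_one_eq {M : Type u} [AddCommGroup M]
    [Module R M] [Module.Finite R M] (hM : IsCohenMacaulayModule R M) {g : R}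
    (hg : g ∈ IsLocalRing.maximalIdeal R)
    (hdim : Module.supportDim R (QuotSMulTop g M) + 1 = Module.supportDim R M) :
    IsSMulRegular M g := by
  have h1 := (Groth.Agent.S5767.result R M g (mem_ringJacobson_of_mem_maximalIdeal hg)).mp hdim
  rw [isSMulRegular_iff_right_eq_zero_of_smul]
  intro m hm
  by_contra hm0
  have hmem : g ∈ {r : R | ∃ x : M, x ≠ 0 ∧ r • x = 0} := ⟨m, hm0, hm⟩
  rw [← biUnion_associatedPrimes_eq_zero_divisors R M] at hmem
  simp only [Set.mem_iUnion] at hmem
  obtain ⟨p, hp, hgp⟩ := hmem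
  exact h1 ⟨p, hp.isPrime⟩ (mem_support_of_mem_associatedPrimes hp)
    (ringKrullDim_quotient_eq_supportDim_of_isCohenMacaulayModule hM hp) hgp

theorem isCohenMacaulayModule_quotSMulTop {M : Type u} [AddCommGroup M]
    [Module R M] [Module.Finite R M] (hM : IsCohenMacaulayModule R M) {g : R}
    (hg : g ∈ IsLocalRing.maximalIdeal R) (hreg : IsSMulRegular M g) :
    IsCohenMacaulayModule R (QuotSMulTop g M) := by
  haveI := nontrivial_of_isCohenMacaulayModule hM
  have hIM := maximalIdeal_smul_top_ne_top (R := R) M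
  have hIM' := smul_top_quotSMulTop_ne_top hg hIM
  haveI : Nontrivial (QuotSMulTop g M) := by
    by_contra hn
    rw [not_nontrivial_iff_subsingleton] at hn
    exact hIM' (Subsingleton.elim _ _)
  have h1 : Module.supportDim R (QuotSMulTop g M) + 1 = Module.supportDim R M :=
    Module.supportDim_quotSMulTop_succ_eq_supportDim hreg hg
  have h2 : depth R (QuotSMulTop g M) + 1 = depth R M :=
    idealDepth_quotSMulTop_add_one hIM hg hreg
  obtain ⟨d', hd'⟩ := SemiLocalDim.exists_nat_eq_supportDim R (QuotSMulTop g M)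
  obtain ⟨n', hn'⟩ := exists_nat_depth (R := R) (QuotSMulTop g M)
  unfold IsCohenMacaulayModule at hM ⊢
  rw [hd', hn']
  rw [hd', hM, ← h2, hn'] at h1
  have : d' + 1 = n' + 1 := by exact_mod_cast h1
  have : d' = n' := by omega
  exact_mod_cast this

theorem isCohenMacaulayModule_congr {M N : Type u} [AddCommGroup M] [Module R M]
    [AddCommGroup N] [Module R N] (e : M ≃ₗ[R] N) :
    IsCohenMacaulayModule R M ↔ IsCohenMacaulayModule R N := by
  unfold IsCohenMacaulayModule depth
  rw [Module.supportDim_eq_of_equiv e, idealDepth_congr _ e]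

end CM

end Groth.Agent.Lib.helper9.Depth
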