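import Groth.Agent.Lib.helper9.Depth11

/-!
# Localization of quotients by regular elements; Serre's condition under quotient by regular elements
-/

universe u

open CategoryTheory RingTheory.Sequence Pointwise

namespace Groth.Agent.Lib.helper9.Depth

open LocCoh

section QuotLoc

variable {A : Type u} [CommRing A] (p : Ideal A) [p.IsPrime] (M : Type u) [AddCommGroup M]
  [Module A M]

/-- `(M/JM)_p ≃ M_p / J M_p`. -/
noncomputable def quotLocEquiv (J : Ideal A) :
    LocalizedModule p.primeCompl (M ⧸ J • (⊤ : Submodule A M)) ≃ₗ[Localization.AtPrime p]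
      (LocalizedModule p.primeCompl M ⧸ (J.map (algebraMap A (Localization.AtPrime p))) •
        (⊤ : Submodule (Localization.AtPrime p) (LocalizedModule p.primeCompl M))) :=
  (localizedQuotientEquiv p.primeCompl (J • (⊤ : Submodule A M))).symm.trans
    (Submodule.quotEquivOfEq _ _ (localized'_smul_top M p J))

/-- `(M/xM)_p ≃ M_p / x M_p`. -/
noncomputable def quotSMulTopLocEquiv (x : A) :
    LocalizedModule p.primeCompl (QuotSMulTop x M) ≃ₗ[Localization.AtPrime p]
      QuotSMulTop (algebraMap A (Localization.AtPrime p) x) (LocalizedModule p.primeCompl M) :=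
  (IsLocalizedModule.mapEquiv p.primeCompl
      (LocalizedModule.mkLinearMap p.primeCompl (QuotSMulTop x M))
      (LocalizedModule.mkLinearMap p.primeCompl (M ⧸ Ideal.span {x} • (⊤ : Submodule A M)))
      (Localization.AtPrime p)
      (Submodule.quotEquivOfEq _ _ (Submodule.ideal_span_singleton_smul x ⊤).symm)).trans <|
    (quotLocEquiv p M (Ideal.span {x})).trans <|
      Submodule.quotEquivOfEq _ _ (by
        rw [Ideal.map_span, Set.image_singleton, Submodule.ideal_span_singleton_smul])

end QuotLoc

section Sk

lemma natCast_min_le_iff (k nd ne : ℕ) :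
    min (k : WithBot ℕ∞) (nd : WithBot ℕ∞) ≤ ((ne : ℕ∞) : WithBot ℕ∞) ↔ min k nd ≤ ne := by
  rcases le_total k nd with h | h
  · have h' : (k : WithBot ℕ∞) ≤ (nd : WithBot ℕ∞) := by exact_mod_cast h
    rw [min_eq_left h, min_eq_left h']
    exact_mod_cast Iff.rfl
  · have h' : (nd : WithBot ℕ∞) ≤ (k : WithBot ℕ∞) := by exact_mod_cast h
    rw [min_eq_right h, min_eq_right h']
    exact_mod_cast Iff.rfl

variable {A : Type u} [CommRing A]

lemma hasSk_congr {M N : Type u} [AddCommGroup M] [Module A M] [AddCommGroup N] [Module A N]
    (e : M ≃ₗ[A] N) (k : ℕ) : HasSk k A M ↔ HasSk k A N := by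
  have key : ∀ {M N : Type u} [AddCommGroup M] [Module A M] [AddCommGroup N] [Module A N]
      (e : M ≃ₗ[A] N), HasSk k A M → HasSk k A N := by
    intro M N _ _ _ _ e h p _
    let eP := IsLocalizedModule.mapEquiv p.primeCompl (LocalizedModule.mkLinearMap p.primeCompl M)
      (LocalizedModule.mkLinearMap p.primeCompl N) (Localization.AtPrime p) e
    have h1 := h p
    unfold depth at h1 ⊢
    rw [Module.supportDim_eq_of_equiv eP, idealDepth_congr _ eP] at h1
    exact h1
  exact ⟨key e, key e.symm⟩

variable [IsNoetherianRing A]

/-- the localization at `p` of `M/xM`: dimension and depth drop by one (when `x ∈ p`, `M_p ≠ 0`). -/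
lemma supportDim_depth_localization_quotSMulTop (p : Ideal A) [p.IsPrime] (M : Type u)
    [AddCommGroup M] [Module A M] [Module.Finite A M] {x : A} (hx : IsSMulRegular M x)
    (hxp : x ∈ p) [Nontrivial (LocalizedModule p.primeCompl M)] :
    Module.supportDim (Localization.AtPrime p) (LocalizedModule p.primeCompl (QuotSMulTop x M)) + 1 =
      Module.supportDim (Localization.AtPrime p) (LocalizedModule p.primeCompl M) ∧
    depth (Localization.AtPrime p) (LocalizedModule p.primeCompl (QuotSMulTop x M)) + 1 =
      depth (Localization.AtPrime p) (LocalizedModule p.primeCompl M) := by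
  have e := quotSMulTopLocEquiv p M x
  have hx' : IsSMulRegular (LocalizedModule p.primeCompl M)
      (algebraMap A (Localization.AtPrime p) x) := by
    have h1 : IsWeaklyRegular M [x] := (isWeaklyRegular_singleton_iff M x).mpr hx
    have h2 := h1.of_isLocalizedModule (Localization.AtPrime p) p.primeCompl
      (LocalizedModule.mkLinearMap p.primeCompl M)
    rwa [List.map_singleton, isWeaklyRegular_singleton_iff] at h2
  have hmem : algebraMap A (Localization.AtPrime p) x ∈
      IsLocalRing.maximalIdeal (Localization.AtPrime p) :=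
    (IsLocalization.AtPrime.to_map_mem_maximal_iff (Localization.AtPrime p) p x).mpr hxp
  constructor
  · rw [Module.supportDim_eq_of_equiv e]
    exact Module.supportDim_quotSMulTop_succ_eq_supportDim hx' hmem
  · unfold depth
    rw [idealDepth_congr _ e]
    exact idealDepth_quotSMulTop_add_one
      (maximalIdeal_smul_top_ne_top (R := Localization.AtPrime p) _) hmem hx'

lemma subsingleton_localization_quotSMulTop_of_notMem (p : Ideal A) [p.IsPrime] (M : Type u)
    [AddCommGroup M] [Module A M] {x : A} (hxp : x ∉ p) :
    Subsingleton (LocalizedModule p.primeCompl (QuotSMulTop x M)) := by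
  have e := quotSMulTopLocEquiv p M x
  have hu : IsUnit (algebraMap A (Localization.AtPrime p) x) :=
    IsLocalization.map_units (Localization.AtPrime p) (⟨x, hxp⟩ : p.primeCompl)
  have : Subsingleton (QuotSMulTop (algebraMap A (Localization.AtPrime p) x)
      (LocalizedModule p.primeCompl M)) := by
    rw [Submodule.Quotient.subsingleton_iff, eq_top_iff]
    intro m _
    rw [Submodule.mem_smul_pointwise_iff_exists]
    obtain ⟨u, hu'⟩ := hu
    refine ⟨(↑u⁻¹ : Localization.AtPrime p) • m, trivial, ?_⟩
    rw [← hu', smul_smul, Units.mul_inv, one_smul]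
  exact e.toEquiv.subsingleton

lemma subsingleton_localization_quotSMulTop_of_subsingleton (p : Ideal A) [p.IsPrime] (M : Type u)
    [AddCommGroup M] [Module A M] (x : A) [Subsingleton (LocalizedModule p.primeCompl M)] :
    Subsingleton (LocalizedModule p.primeCompl (QuotSMulTop x M)) := by
  have e := quotSMulTopLocEquiv p M x
  have : Subsingleton (QuotSMulTop (algebraMap A (Localization.AtPrime p) x)
      (LocalizedModule p.primeCompl M)) := by
    constructor
    intro a b
    obtain ⟨a, rfl⟩ := Submodule.Quotient.mk_surjective _ a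
    obtain ⟨b, rfl⟩ := Submodule.Quotient.mk_surjective _ b
    rw [Subsingleton.elim a b]
  exact e.toEquiv.subsingleton

/-- `(S_k)` for `M` gives `(S_{k-1})` for `M/xM`, `x` regular on `M`. -/
theorem hasSk_quotSMulTop {M : Type u} [AddCommGroup M] [Module A M] [Module.Finite A M] {k : ℕ}
    (hM : HasSk k A M) {x : A} (hx : IsSMulRegular M x) : HasSk (k - 1) A (QuotSMulTop x M) := by
  intro p _
  by_cases hxp : x ∈ p
  · by_cases hMp : Subsingleton (LocalizedModule p.primeCompl M)
    · have := subsingleton_localization_quotSMulTop_of_subsingleton p M x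
      rw [Module.supportDim_eq_bot_of_subsingleton, min_eq_right bot_le]
      exact bot_le
    · rw [not_subsingleton_iff_nontrivial] at hMp
      obtain ⟨h1, h2⟩ := supportDim_depth_localization_quotSMulTop p M hx hxp
      have h3 := hM p
      obtain ⟨nd, hd⟩ := SemiLocalDim.exists_nat_eq_supportDim (Localization.AtPrime p)
        (LocalizedModule p.primeCompl M)
      obtain ⟨ne, he⟩ := exists_nat_depth (R := Localization.AtPrime p)
        (LocalizedModule p.primeCompl M)
      rw [hd] at h1 h3
      rw [he] at h2 h3
      rcases supportDim_eq_bot_or_nat (R := Localization.AtPrime p)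
        (LocalizedModule p.primeCompl (QuotSMulTop x M)) with hb | ⟨nd', hd'⟩
      · rw [hb, min_eq_right bot_le]
        exact bot_le
      · rw [hd'] at h1 ⊢
        have hne' : ∃ ne' : ℕ, depth (Localization.AtPrime p)
            (LocalizedModule p.primeCompl (QuotSMulTop x M)) = ne' := by
          cases hdd : depth (Localization.AtPrime p)
            (LocalizedModule p.primeCompl (QuotSMulTop x M)) with
          | top => rw [hdd] at h2; simp at h2
          | coe n => exact ⟨n, rfl⟩
        obtain ⟨ne', he'⟩ := hne'
        rw [he'] at h2 ⊢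
        have e1 : nd' + 1 = nd := by exact_mod_cast h1
        have e2 : ne' + 1 = ne := by exact_mod_cast h2
        have e3 : min k nd ≤ ne := (natCast_min_le_iff k nd ne).mp h3
        have e4 : min (k - 1) nd' ≤ ne' := by omega
        exact (natCast_min_le_iff (k - 1) nd' ne').mpr e4
  · have := subsingleton_localization_quotSMulTop_of_notMem p M hxp
    rw [Module.supportDim_eq_bot_of_subsingleton, min_eq_right bot_le]
    exact bot_le

/-- `(S_k)` for `M` gives `(S_{k-r})` for `M/(x_1..x_r)M`, `x` weakly regular on `M`. -/
theorem hasSk_quot_ofList : ∀ (rs : List A) {M : Type u} [AddCommGroup M] [Module A M]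
    [Module.Finite A M] {k : ℕ}, HasSk k A M → IsWeaklyRegular M rs →
    HasSk (k - rs.length) A (M ⧸ (Ideal.ofList rs • (⊤ : Submodule A M))) := by
  intro rs
  induction rs with
  | nil =>
    intro M _ _ _ k hM _
    have h0 : (Ideal.ofList ([] : List A) • (⊤ : Submodule A M)) = ⊥ := by
      rw [Ideal.ofList_nil, Submodule.bot_smul]
    rw [hasSk_congr (Submodule.quotEquivOfEqBot _ h0)]
    simpa using hM
  | cons x xs ih =>
    intro M _ _ _ k hM hreg
    rw [isWeaklyRegular_cons_iff] at hreg
    have h1 := ih (hasSk_quotSMulTop hM hreg.1) hreg.2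
    rw [hasSk_congr (Submodule.quotOfListConsSMulTopEquivQuotSMulTopInner M x xs)]
    rw [List.length_cons, Nat.add_comm, ← Nat.sub_sub]
    exact h1

end Sk

end Groth.Agent.Lib.helper9.Depth
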