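import Mathlib
import Groth.Prelude.Def_CAlg

set_option autoImplicit false
universe u

namespace Groth.Agent.Lib.helper9.LocalAlg

variable (A : Type u) [CommRing A] [IsLocalRing A] [IsNoetherianRing A]
  (N : Type u) [AddCommGroup N] [Module A N]

/-- if no element of the maximal ideal is regular on a finite module, then `m ∈ Ass` -/
lemma maximalIdeal_mem_ass_of_no_regular [Module.Finite A N]
    (h : ∀ x ∈ IsLocalRing.maximalIdeal A, ¬ IsSMulRegular N x) :
    IsLocalRing.maximalIdeal A ∈ associatedPrimes A N := by
  have hsub : ((IsLocalRing.maximalIdeal A : Ideal A) : Set A) ⊆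
      ⋃ p ∈ associatedPrimes A N, ((id p : Ideal A) : Set A) := by
    have := biUnion_associatedPrimes_eq_compl_regular A N
    simp only [id]
    rw [this]
    intro x hx
    exact h x hx
  obtain ⟨p, hp, hmp⟩ := ((IsLocalRing.maximalIdeal A).subset_union_prime_finite
    (associatedPrimes.finite A N) (f := id) 0 0 (fun _ h _ _ => h.1)).1 hsub
  have hp' : IsAssociatedPrime p N := hp
  have hpm : p = IsLocalRing.maximalIdeal A :=
    le_antisymm (IsLocalRing.le_maximalIdeal hp'.isPrime.ne_top) hmp
  rw [← hpm]
  exact hp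

/-- if `m ∈ Ass N` there is a nonzero element killed by `m` -/
lemma exists_ne_zero_killed_of_mem_ass
    (h : IsLocalRing.maximalIdeal A ∈ associatedPrimes A N) :
    ∃ n : N, n ≠ 0 ∧ ∀ x ∈ IsLocalRing.maximalIdeal A, x • n = 0 := by
  have hp' : IsAssociatedPrime (IsLocalRing.maximalIdeal A) N := h
  have hprime := hp'.isPrime
  rw [isAssociatedPrime_iff] at hp'
  obtain ⟨-, n, hn⟩ := hp'
  refine ⟨n, ?_, ?_⟩
  · intro h0
    have : (1 : A) ∈ IsLocalRing.maximalIdeal A := by
      rw [hn, Submodule.mem_colon_singleton, h0]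
      simp
    exact hprime.ne_top ((Ideal.eq_top_iff_one _).mpr this)
  · intro x hx
    rw [hn, Submodule.mem_colon_singleton] at hx
    simpa using hx

lemma not_regular_of_mem_ass
    (h : IsLocalRing.maximalIdeal A ∈ associatedPrimes A N) :
    ∀ x ∈ IsLocalRing.maximalIdeal A, ¬ IsSMulRegular N x := by
  obtain ⟨n, hn0, hn⟩ := exists_ne_zero_killed_of_mem_ass A N h
  intro x hx hreg
  apply hn0
  apply hreg
  simp only [smul_zero]
  exact hn x hx

/-- depth zero criterion -/
lemma depth_eq_zero_iff [Module.Finite A N] :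
    LocCoh.depth A N = 0 ↔ IsLocalRing.maximalIdeal A ∈ associatedPrimes A N := by
  classical
  unfold LocCoh.depth LocCoh.idealDepth
  constructor
  · intro h
    split_ifs at h with htop
    · exact absurd h (by simp)
    · apply maximalIdeal_mem_ass_of_no_regular
      intro x hx hreg
      have hle : ((([x] : List A).length : ℕ∞)) ≤
          ⨆ (rs : List A) (_ : RingTheory.Sequence.IsWeaklyRegular N rs ∧
            ∀ r ∈ rs, r ∈ IsLocalRing.maximalIdeal A), (rs.length : ℕ∞) := by
        refine le_iSup₂_of_le [x] ⟨?_, ?_⟩ le_rfl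
        · exact (RingTheory.Sequence.isWeaklyRegular_singleton_iff N x).mpr hreg
        · intro r hr
          rw [List.mem_singleton] at hr
          rw [hr]
          exact hx
      rw [h] at hle
      simp at hle
  · intro h
    obtain ⟨n, hn0, hn⟩ := exists_ne_zero_killed_of_mem_ass A N h
    have hnt : Nontrivial N := ⟨⟨n, 0, hn0⟩⟩
    have hne : IsLocalRing.maximalIdeal A • (⊤ : Submodule A N) ≠ ⊤ := by
      intro htop
      have hfg : (⊤ : Submodule A N).FG := Module.Finite.fg_top
      have := Submodule.eq_bot_of_le_smul_of_le_jacobson_bot (IsLocalRing.maximalIdeal A) ⊤ hfg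
        (le_of_eq htop.symm) (IsLocalRing.maximalIdeal_le_jacobson ⊥)
      exact top_ne_bot this
    rw [if_neg hne]
    apply le_antisymm _ zero_le
    apply iSup₂_le
    rintro rs ⟨hreg, hmem⟩
    cases rs with
    | nil => simp
    | cons r rs =>
      exfalso
      have hr : IsSMulRegular N r :=
        ((RingTheory.Sequence.isWeaklyRegular_cons_iff N r rs).mp hreg).1
      exact not_regular_of_mem_ass A N h r (hmem r (List.mem_cons_self)) hr

end Groth.Agent.Lib.helper9.LocalAlg
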