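import Mathlib
import Groth.Agent.Lib.helper9.Depth12
import Groth.Agent.Lib.helper9.LocalAlg

/-!
# Serre's criterion, direction `normal ⇒ R₁ + S₂` (local lemmas)
-/

universe u

open CategoryTheory RingTheory.Sequence Pointwise

namespace Groth.Agent.Lib.helper9.Serre

open LocCoh Groth.Agent.Lib.helper9.Depth

variable (A : Type u) [CommRing A] [IsNoetherianRing A] [IsLocalRing A] [IsDomain A]

/-- a normal Noetherian local domain of dimension `≤ 1` is regular. -/
theorem isRegularLocalRing_of_normal_of_dim_le_one [IsIntegrallyClosed A]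
    (hdim : ringKrullDim A ≤ 1) : IsRegularLocalRing A := by
  have h4 : IsIntegrallyClosed A ∧ ∀ P : Ideal A, P ≠ ⊥ → P.IsPrime →
      P = IsLocalRing.maximalIdeal A := by
    refine ⟨inferInstance, fun P hP hPp => ?_⟩
    by_contra hne
    have hlt : P < IsLocalRing.maximalIdeal A :=
      lt_of_le_of_ne (IsLocalRing.le_maximalIdeal hPp.ne_top) hne
    have h1 := Ideal.height_add_one_le_of_lt_of_isPrime hlt
    have h2 : ((IsLocalRing.maximalIdeal A).height : WithBot ℕ∞) ≤ 1 := by
      rw [IsLocalRing.maximalIdeal_height_eq_ringKrullDim]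
      exact hdim
    have h3 : (IsLocalRing.maximalIdeal A).height ≤ 1 := by exact_mod_cast h2
    have h5 : P.height + 1 ≤ 1 := h1.trans h3
    have h6 : P.height = 0 := by
      have h7 : P.height + 1 ≤ 0 + 1 := by simpa using h5
      have := (ENat.add_le_add_iff_right (by decide : (1 : ℕ∞) ≠ ⊤)).1 h7
      exact le_antisymm this zero_le
    exact hP (Ideal.height_eq_zero_iff_eq_bot.1 h6)
  haveI : IsPrincipalIdealRing A :=
    ((tfae_of_isNoetherianRing_of_isLocalRing_of_isDomain A).out 3 0).1 h4
  infer_instance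

/-- a normal Noetherian local domain of dimension `≥ 2` has depth `≥ 2`: the maximal ideal is
not associated to `A/xA`. -/
theorem not_mem_ass_of_normal [IsIntegrallyClosed A] (hdim : (2 : WithBot ℕ∞) ≤ ringKrullDim A)
    (x : A) (hx : x ≠ 0) :
    IsLocalRing.maximalIdeal A ∉ associatedPrimes A (QuotSMulTop x A) := by
  intro hass
  obtain ⟨y', hy0, hykill⟩ := LocalAlg.exists_ne_zero_killed_of_mem_ass A (QuotSMulTop x A) hass
  obtain ⟨y, rfl⟩ := Submodule.Quotient.mk_surjective _ y'
  -- `y ∉ xA`, `m y ⊆ xA`
  have hy : ∀ w : A, y ≠ x * w := by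
    intro w hw
    apply hy0
    rw [Submodule.Quotient.mk_eq_zero, Submodule.mem_smul_pointwise_iff_exists]
    exact ⟨w, trivial, by rw [hw, smul_eq_mul]⟩
  have hyne : y ≠ 0 := fun h => hy 0 (by rw [h, mul_zero])
  have hc : ∀ t ∈ IsLocalRing.maximalIdeal A, ∃ c : A, t * y = x * c := by
    intro t ht
    have h1 := hykill t ht
    rw [← Submodule.Quotient.mk_smul, Submodule.Quotient.mk_eq_zero,
      Submodule.mem_smul_pointwise_iff_exists] at h1
    obtain ⟨c, -, hc⟩ := h1
    exact ⟨c, by simpa [smul_eq_mul] using hc.symm⟩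
  by_cases hcase : ∀ t ∈ IsLocalRing.maximalIdeal A, ∀ c : A, t * y = x * c →
      c ∈ IsLocalRing.maximalIdeal A
  · -- `z = y/x` is integral
    let K := FractionRing A
    let z : K := algebraMap A K y / algebraMap A K x
    have hxK : algebraMap A K x ≠ 0 := by
      intro h0
      exact hx ((IsFractionRing.injective A K) (h0.trans (map_zero _).symm))
    let N : Submodule A K := Submodule.map (Algebra.linearMap A K) (IsLocalRing.maximalIdeal A)
    have hNfg : N.FG := (IsNoetherian.noetherian (IsLocalRing.maximalIdeal A)).map _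
    have hNne : N ≠ ⊥ := by
      intro hbot
      have : algebraMap A K x ∈ N := ⟨x, ?_, rfl⟩
      · rw [hbot, Submodule.mem_bot] at this
        exact hxK this
      · -- x ∈ m: otherwise x is a unit and `y ∈ xA`
        by_contra hxm
        have hu : IsUnit x := by
          by_contra hnu
          exact hxm ((IsLocalRing.mem_maximalIdeal x).2 hnu)
        obtain ⟨u, rfl⟩ := hu
        exact hy (↑u⁻¹ * y) (by rw [← mul_assoc, Units.mul_inv, one_mul])
    have hzN : ∀ n ∈ N, z • n ∈ N := by
      rintro _ ⟨t, ht, rfl⟩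
      obtain ⟨c, hc'⟩ := hc t ht
      refine ⟨c, hcase t ht c hc', ?_⟩
      change algebraMap A K c = z * algebraMap A K t
      have : algebraMap A K t * algebraMap A K y = algebraMap A K x * algebraMap A K c := by
        rw [← map_mul, ← map_mul, hc']
      rw [div_mul_eq_mul_div, eq_div_iff hxK, mul_comm (algebraMap A K c), ← this, mul_comm]
    have hzint : IsIntegral A z := isIntegral_of_smul_mem_submodule N hNne hNfg z hzN
    obtain ⟨w, hw⟩ := (isIntegrallyClosed_iff K).1 inferInstance hzint
    apply hy w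
    apply IsFractionRing.injective A K
    rw [map_mul, hw]
    exact (mul_div_cancel₀ _ hxK).symm
  · -- the maximal ideal is principal
    push_neg at hcase
    obtain ⟨t, ht, c, hc', hcm⟩ := hcase
    have hcu : IsUnit c := by
      by_contra hnu
      exact hcm ((IsLocalRing.mem_maximalIdeal c).2 hnu)
    obtain ⟨u, rfl⟩ := hcu
    have hmt : IsLocalRing.maximalIdeal A = Ideal.span {t} := by
      apply le_antisymm
      · intro s hs
        obtain ⟨d, hd⟩ := hc s hs
        rw [Ideal.mem_span_singleton']
        refine ⟨↑u⁻¹ * d, ?_⟩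
        apply mul_right_cancel₀ hyne
        have : ↑u⁻¹ * d * t * y = ↑u⁻¹ * d * (t * y) := by ring
        rw [this, hc', hd]
        have : ↑u⁻¹ * d * (x * ↑u) = (↑u⁻¹ * ↑u) * (x * d) := by ring
        rw [this, Units.inv_mul, one_mul]
      · rw [Ideal.span_le, Set.singleton_subset_iff]
        exact ht
    have hht : (IsLocalRing.maximalIdeal A).height ≤ 1 := by
      haveI : (Ideal.span {t}).IsPrincipal := ⟨⟨t, rfl⟩⟩
      apply Ideal.height_le_one_of_isPrincipal_of_mem_minimalPrimes (Ideal.span {t})
      rw [← hmt]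
      exact ⟨⟨inferInstance, le_rfl⟩, fun q hq hle => hq.2⟩
    have : ringKrullDim A ≤ 1 := by
      rw [← IsLocalRing.maximalIdeal_height_eq_ringKrullDim]
      exact_mod_cast hht
    have h21 : (2 : WithBot ℕ∞) ≤ 1 := hdim.trans this
    exact absurd h21 (by decide)

/-- `S₂` at the closed point for a normal Noetherian local domain. -/
theorem min_two_dim_le_depth_of_normal [IsIntegrallyClosed A] :
    min (2 : WithBot ℕ∞) (ringKrullDim A) ≤ ((depth A A : ℕ∞) : WithBot ℕ∞) := by
  by_cases hfield : IsLocalRing.maximalIdeal A = ⊥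
  · -- dimension 0
    have : ringKrullDim A = 0 := by
      rw [← IsLocalRing.maximalIdeal_height_eq_ringKrullDim, hfield, Ideal.height_bot]
      rfl
    rw [this]
    have h0 : min (2 : WithBot ℕ∞) 0 = 0 := min_eq_right (by decide)
    rw [h0]
    exact_mod_cast (zero_le : (0 : ℕ∞) ≤ depth A A)
  · obtain ⟨x, hxm, hx0⟩ := Submodule.exists_mem_ne_zero_of_ne_bot hfield
    have hreg : IsSMulRegular A x := by
      intro a b hab
      simp only [smul_eq_mul] at hab
      exact mul_left_cancel₀ hx0 hab
    have hIM : IsLocalRing.maximalIdeal A • (⊤ : Submodule A A) ≠ ⊤ :=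
      maximalIdeal_smul_top_ne_top (R := A) A
    have h1 := idealDepth_quotSMulTop_add_one hIM hxm hreg
    by_cases hdim : (2 : WithBot ℕ∞) ≤ ringKrullDim A
    · rw [min_eq_left hdim]
      have hne : depth A (QuotSMulTop x A) ≠ 0 := by
        intro h0
        exact not_mem_ass_of_normal A hdim x hx0
          ((LocalAlg.depth_eq_zero_iff A (QuotSMulTop x A)).1 h0)
      have h2 : (1 : ℕ∞) ≤ depth A (QuotSMulTop x A) := Order.one_le_iff_ne_zero.2 hne
      have h3 : (2 : ℕ∞) ≤ depth A A := by
        unfold depth at h2 ⊢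
        rw [← h1]
        calc (2 : ℕ∞) = 1 + 1 := by norm_num
          _ ≤ _ := by gcongr
      exact (WithBot.coe_le_coe.2 h3 : ((2 : ℕ∞) : WithBot ℕ∞) ≤ _)
    · have h3 : (1 : ℕ∞) ≤ depth A A := by
        unfold depth
        rw [← h1]
        exact le_add_self
      have hle : min (2 : WithBot ℕ∞) (ringKrullDim A) ≤ 1 := by
        rw [not_le] at hdim
        have : ringKrullDim A ≤ 1 := by
          have h4 : ringKrullDim A < ((2 : ℕ∞) : WithBot ℕ∞) := hdim
          cases hd : ringKrullDim A with
          | bot => exact bot_le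
          | coe n =>
            rw [hd] at h4
            have h5 : n < 2 := by exact_mod_cast h4
            have h6 : n ≤ 1 := by
              have : n + 1 ≤ 2 := Order.add_one_le_of_lt h5
              have h7 : n + 1 ≤ 1 + 1 := by rw [one_add_one_eq_two]; exact this
              exact (ENat.add_le_add_iff_right (by decide : (1 : ℕ∞) ≠ ⊤)).1 h7
            exact_mod_cast h6
        exact (min_le_right _ _).trans this
      refine hle.trans ?_
      exact (WithBot.coe_le_coe.2 h3 : ((1 : ℕ∞) : WithBot ℕ∞) ≤ _)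

end Groth.Agent.Lib.helper9.Serre
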