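import Groth.Agent.Lib.helper9.Depth17

/-!
# Connectedness in codimension `d - 1` (chains of minimal primes)
-/

universe u

open CategoryTheory RingTheory.Sequence Pointwise

namespace Groth.Agent.Lib.helper9.Depth

open LocCoh

section

variable {A : Type u} [CommRing A] [IsNoetherianRing A]

/-- the linking relation: `q` is a minimal prime and `p, q` lie in a common prime of height `< d`. -/
def Linked (d : ℕ) (p q : Ideal A) : Prop :=
  q ∈ minimalPrimes A ∧ ∃ (Q : Ideal A) (_ : Q.IsPrime), p ≤ Q ∧ q ≤ Q ∧ Q.height + 1 ≤ (d : ℕ∞)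

theorem minimalPrimes_reflTransGen [ConnectedSpace (PrimeSpectrum A)] (d : ℕ)
    (h : ∀ (p : Ideal A) [p.IsPrime], (d : ℕ∞) ≤ p.height →
      (2 : ℕ∞) ≤ depth (Localization.AtPrime p) (Localization.AtPrime p))
    (p' p'' : Ideal A) (hp' : p' ∈ minimalPrimes A) (hp'' : p'' ∈ minimalPrimes A) :
    Relation.ReflTransGen (Linked d) p' p'' := by
  classical
  by_contra hcon
  let S1 : Set (Ideal A) := {p | p ∈ minimalPrimes A ∧ Relation.ReflTransGen (Linked d) p' p}
  let S2 : Set (Ideal A) := {p | p ∈ minimalPrimes A ∧ ¬ Relation.ReflTransGen (Linked d) p' p}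
  have hS1 : S1 ⊆ minimalPrimes A := fun p hp => hp.1
  have hS2 : S2 ⊆ minimalPrimes A := fun p hp => hp.1
  have hcover : minimalPrimes A ⊆ S1 ∪ S2 := by
    intro p hp
    by_cases hr : Relation.ReflTransGen (Linked d) p' p
    · exact Or.inl ⟨hp, hr⟩
    · exact Or.inr ⟨hp, hr⟩
  have hfin1 : S1.Finite := (minimalPrimes.finite_of_isNoetherianRing A).subset hS1
  have hfin2 : S2.Finite := (minimalPrimes.finite_of_isNoetherianRing A).subset hS2
  have hne1 : (upper S1).Nonempty :=
    ⟨⟨p', hp'.1.1⟩, p', ⟨hp', Relation.ReflTransGen.refl⟩, le_rfl⟩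
  have hne2 : (upper S2).Nonempty := ⟨⟨p'', hp''.1.1⟩, p'', ⟨hp'', hcon⟩, le_rfl⟩
  have hpre : _root_.IsPreconnected (Set.univ : Set (PrimeSpectrum A)) := isPreconnected_univ
  rw [isPreconnected_closed_iff] at hpre
  obtain ⟨q, -, hq1, hq2⟩ := hpre _ _ (isClosed_upper hfin1) (isClosed_upper hfin2)
    (by rw [upper_union_eq_univ hcover]) (by simpa using hne1) (by simpa using hne2)
  obtain ⟨q', -, ⟨p₁, hp₁, hp₁q⟩, ⟨p₂, hp₂, hp₂q⟩, h3⟩ :=
    exists_le_depth_lt_two S1 S2 hS1 hS2 hcover q hq1 hq2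
  have hht : q'.asIdeal.height + 1 ≤ (d : ℕ∞) := by
    have hlt : q'.asIdeal.height < (d : ℕ∞) := by
      by_contra hge
      rw [not_lt] at hge
      exact h3 (h q'.asIdeal hge)
    exact Order.add_one_le_of_lt hlt
  exact hp₂.2 (hp₁.2.tail ⟨hp₂.1, q'.asIdeal, q'.isPrime, hp₁q, hp₂q, hht⟩)

/-- chain as a function on `Fin (n+1)`. -/
theorem exists_fin_chain_of_reflTransGen {d : ℕ} {p' p'' : Ideal A}
    (hp' : p' ∈ minimalPrimes A)
    (hr : Relation.ReflTransGen (Linked d) p' p'') :
    ∃ (n : ℕ) (c : Fin (n + 1) → Ideal A), c 0 = p' ∧ c (Fin.last n) = p'' ∧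
      (∀ i, c i ∈ minimalPrimes A) ∧
      ∀ i : Fin n, ∃ (q : Ideal A) (_ : q.IsPrime),
        c i.castSucc ≤ q ∧ c i.succ ≤ q ∧ q.height + 1 ≤ (d : ℕ∞) := by
  induction hr with
  | refl => exact ⟨0, fun _ => p', rfl, rfl, fun _ => hp', fun i => i.elim0⟩
  | @tail b c' _ hbc ih =>
    obtain ⟨n, c, hc0, hcl, hcm, hcc⟩ := ih
    refine ⟨n + 1, Fin.snoc c c', ?_, ?_, ?_, ?_⟩
    · have : (0 : Fin (n + 2)) = Fin.castSucc (0 : Fin (n + 1)) := rfl
      rw [this, Fin.snoc_castSucc]
      exact hc0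
    · exact Fin.snoc_last _ _
    · intro i
      induction i using Fin.lastCases with
      | last => rw [Fin.snoc_last]; exact hbc.1
      | cast j => rw [Fin.snoc_castSucc]; exact hcm j
    · intro i
      induction i using Fin.lastCases with
      | last =>
        rw [Fin.succ_last, Fin.snoc_last, Fin.snoc_castSucc, hcl]
        exact hbc.2
      | cast j =>
        have e1 : (Fin.snoc c c' : Fin (n + 2) → Ideal A) (Fin.castSucc (Fin.castSucc j)) =
            c (Fin.castSucc j) := Fin.snoc_castSucc (α := fun _ => Ideal A) c' c _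
        have e2 : (Fin.snoc c c' : Fin (n + 2) → Ideal A) (Fin.succ (Fin.castSucc j)) =
            c (Fin.succ j) := by
          rw [← Fin.castSucc_succ]
          exact Fin.snoc_castSucc (α := fun _ => Ideal A) c' c _
        rw [e1, e2]
        exact hcc j

omit [IsNoetherianRing A] in
theorem exists_list_chain_of_reflTransGen {d : ℕ} (hd : 1 ≤ d) (p'' : PrimeSpectrum A)
    (hp'' : p''.asIdeal ∈ minimalPrimes A) {a : Ideal A}
    (hr : Relation.ReflTransGen (Linked d) a p''.asIdeal) :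
    ∀ x : PrimeSpectrum A, x.asIdeal = a → x.asIdeal ∈ minimalPrimes A →
      ∃ l : List (PrimeSpectrum A), l.head? = some x ∧ l.getLast? = some p'' ∧
        (∀ p ∈ l, p.asIdeal ∈ minimalPrimes A) ∧
        List.IsChain (fun p q => ∃ r : PrimeSpectrum A, p ≤ r ∧ q ≤ r ∧
          r.asIdeal.height ≤ (d - 1 : ℕ)) l := by
  induction hr using Relation.ReflTransGen.head_induction_on with
  | refl =>
    intro x hx _
    have : x = p'' := PrimeSpectrum.ext hx
    subst this
    exact ⟨[x], rfl, rfl, by simpa using hp'', List.isChain_singleton _⟩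
  | @head a b hab hbc ih =>
    intro x hx hxmin
    obtain ⟨hbmin, Q, hQ, haQ, hbQ, hht⟩ := hab
    obtain ⟨l, hl1, hl2, hl3, hl4⟩ := ih ⟨b, hbmin.1.1⟩ rfl hbmin
    match l, hl1 with
    | b' :: l', hl1 =>
      have hb' : b' = ⟨b, hbmin.1.1⟩ := by simpa using hl1
      refine ⟨x :: b' :: l', rfl, ?_, ?_, ?_⟩
      · rw [List.getLast?_cons_cons]
        exact hl2
      · intro p hp
        rcases List.mem_cons.mp hp with rfl | hp
        · exact hxmin
        · exact hl3 p hp
      · rw [List.isChain_cons_cons]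
        refine ⟨⟨⟨Q, hQ⟩, ?_, ?_, ?_⟩, hl4⟩
        · change x.asIdeal ≤ Q
          rw [hx]; exact haQ
        · rw [hb']
          exact hbQ
        · change Q.height ≤ _
          have hfin : Q.height ≠ ⊤ := by
            intro htop
            rw [htop] at hht
            simp at hht
          obtain ⟨m, hm⟩ : ∃ m : ℕ, Q.height = m := ⟨_, (ENat.natCast_toNat hfin).symm⟩
          rw [hm] at hht ⊢
          have : m + 1 ≤ d := by exact_mod_cast hht
          have : m ≤ d - 1 := by omega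
          exact_mod_cast this

end

end Groth.Agent.Lib.helper9.Depth
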