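import Groth.Agent.Lib.helper9.Depth18
import Groth.Prelude.Def_Found

/-!
# Catenary local rings: saturated chains, coheight along a covering, equidimensionality
-/

universe u

open CategoryTheory RingTheory.Sequence Pointwise

namespace Groth.Agent.Lib.helper9.Depth

open LocCoh

section OrderLemmas

variable {α : Type*} [PartialOrder α]

/-- a series of maximal length from its head is saturated. -/
lemma covBy_of_length_eq_coheight {p : LTSeries α} (h : (p.length : ℕ∞) = Order.coheight p.head)
    (i : Fin p.length) : p i.castSucc ⋖ p i.succ := by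
  refine ⟨p.step i, fun z hz1 hz2 => ?_⟩
  have e1 := Order.coheight_eq_index_of_length_eq_head_coheight h i.castSucc
  have e2 := Order.coheight_eq_index_of_length_eq_head_coheight h i.succ
  have h1 := Order.coheight_add_one_le hz1
  have h2 := Order.coheight_add_one_le hz2
  rw [e1, Fin.rev_castSucc] at h1
  rw [e2, Fin.rev_succ] at h2
  obtain ⟨c, hc⟩ : ∃ c : ℕ, Order.coheight z = c := by
    have : Order.coheight z ≠ ⊤ := by
      intro htop
      rw [htop] at h1
      simp at h1
    exact ⟨_, (ENat.natCast_toNat this).symm⟩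
  rw [hc] at h1 h2
  simp only [Fin.val_succ, Fin.val_castSucc] at h1 h2
  have h1' : c + 1 ≤ (i.rev : ℕ) + 1 := by exact_mod_cast h1
  have h2' : (i.rev : ℕ) + 1 ≤ c := by exact_mod_cast h2
  omega

/-- a series of maximal length from its head ends at a maximal element. -/
lemma isMax_last_of_length_eq_coheight {p : LTSeries α}
    (h : (p.length : ℕ∞) = Order.coheight p.head) : IsMax p.last := by
  have e1 := Order.coheight_eq_index_of_length_eq_head_coheight h (Fin.last _)
  rw [Fin.rev_last] at e1
  have e2 : Order.coheight p.last = 0 := by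
    change Order.coheight (p (Fin.last _)) = 0
    rw [e1]; rfl
  exact Order.coheight_eq_zero.mp e2

/-- prepend an element to a series. -/
def consSeries (t : LTSeries α) (a : α) (h : a < t.head) : LTSeries α where
  length := t.length + 1
  toFun := Fin.cons a t.toFun
  step := by
    intro i
    refine Fin.cases ?_ (fun j => ?_) i
    · exact h
    · exact t.step j

@[simp] lemma consSeries_length (t : LTSeries α) (a : α) (h : a < t.head) :
    (consSeries t a h).length = t.length + 1 := rfl

lemma consSeries_head (t : LTSeries α) (a : α) (h : a < t.head) :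
    (consSeries t a h).head = a := rfl

lemma consSeries_last (t : LTSeries α) (a : α) (h : a < t.head) :
    (consSeries t a h).last = t.last := by
  change Fin.cons (α := fun _ => α) a t.toFun (Fin.last (t.length + 1)) = t.toFun (Fin.last t.length)
  rw [← Fin.succ_last, Fin.cons_succ]

lemma consSeries_covBy (t : LTSeries α) (a : α) (h : a ⋖ t.head)
    (ht : ∀ i : Fin t.length, t i.castSucc ⋖ t i.succ) (i : Fin (consSeries t a h.lt).length) :
    (consSeries t a h.lt) i.castSucc ⋖ (consSeries t a h.lt) i.succ := by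
  refine Fin.cases ?_ (fun j => ?_) i
  · exact h
  · exact ht j

end OrderLemmas

section Catenary

variable {A : Type u} [CommRing A] [IsLocalRing A] [IsNoetherianRing A]

omit [IsNoetherianRing A] in
lemma eq_closedPoint_of_isMax {x : PrimeSpectrum A} (hx : IsMax x) :
    x = IsLocalRing.closedPoint A := by
  have h1 : x ≤ IsLocalRing.closedPoint A := IsLocalRing.le_maximalIdeal x.isPrime.ne_top
  exact le_antisymm h1 (hx h1)

lemma coheight_ne_top (x : PrimeSpectrum A) : Order.coheight x ≠ ⊤ := by
  intro htop
  have h1 := Order.coheight_le_krullDim x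
  rw [htop] at h1
  have h2 : ringKrullDim A < ⊤ := SemiLocalDim.ringKrullDim_lt_top A
  exact absurd (lt_of_le_of_lt h1 h2) (by simp)

/-- in a catenary Noetherian local ring, `coheight` drops by exactly one along a covering. -/
theorem coheight_eq_add_one_of_covBy (hcat : CAlg.IsCatenary A) {x y : PrimeSpectrum A}
    (hxy : x ⋖ y) : Order.coheight x = Order.coheight y + 1 := by
  obtain ⟨n, hn⟩ : ∃ n : ℕ, Order.coheight x = n := ⟨_, (ENat.natCast_toNat (coheight_ne_top x)).symm⟩
  obtain ⟨k, hk⟩ : ∃ k : ℕ, Order.coheight y = k := ⟨_, (ENat.natCast_toNat (coheight_ne_top y)).symm⟩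
  obtain ⟨s, hs1, hs2⟩ := Order.exists_series_of_coheight_eq_coe x hn
  obtain ⟨t', ht1, ht2⟩ := Order.exists_series_of_coheight_eq_coe y hk
  have hsmax : (s.length : ℕ∞) = Order.coheight s.head := by rw [hs1, hn, hs2]
  have htmax : (t'.length : ℕ∞) = Order.coheight t'.head := by rw [ht1, hk, ht2]
  have hxy' : x ⋖ t'.head := by rw [ht1]; exact hxy
  let t := consSeries t' x hxy'.lt
  have h1 : s.length = t.length := by
    apply hcat.2 s t
    · rw [hs1]; rfl
    · rw [eq_closedPoint_of_isMax (isMax_last_of_length_eq_coheight hsmax)]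
      change _ = (consSeries t' x hxy'.lt).last
      rw [consSeries_last, eq_closedPoint_of_isMax (isMax_last_of_length_eq_coheight htmax)]
    · exact covBy_of_length_eq_coheight hsmax
    · exact consSeries_covBy t' x hxy' (covBy_of_length_eq_coheight htmax)
  rw [hn, hk]
  have : n = k + 1 := by
    rw [← hs2, ← ht2]
    exact h1
  exact_mod_cast this

omit [IsNoetherianRing A] in
lemma connectedSpace_of_isLocalRing : ConnectedSpace (PrimeSpectrum A) := by
  have hmem : ∀ t : Set (PrimeSpectrum A), IsClosed t → t.Nonempty → IsLocalRing.closedPoint A ∈ t := by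
    intro t ht ⟨x, hx⟩
    have h1 : x ≤ IsLocalRing.closedPoint A := IsLocalRing.le_maximalIdeal x.isPrime.ne_top
    exact ((PrimeSpectrum.le_iff_specializes _ _).mp h1).mem_closed ht hx
  refine { toNonempty := ⟨IsLocalRing.closedPoint A⟩, isPreconnected_univ := ?_ }
  rw [isPreconnected_closed_iff]
  intro t t' ht ht' _ hne hne'
  rw [Set.univ_inter] at hne hne' ⊢
  exact ⟨_, hmem t ht hne, hmem t' ht' hne'⟩

/-- linked minimal primes have the same coheight (catenary local ring, `d = 2`). -/
lemma coheight_eq_of_linked (hcat : CAlg.IsCatenary A) {a b : Ideal A} (ha : a ∈ minimalPrimes A)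
    (hab : Linked 2 a b) :
    Order.coheight (⟨a, ha.1.1⟩ : PrimeSpectrum A) =
      Order.coheight (⟨b, hab.1.1.1⟩ : PrimeSpectrum A) := by
  obtain ⟨hb, Q, hQ, haQ, hbQ, hht⟩ := hab
  have haprime : a.IsPrime := ha.1.1
  have hbprime : b.IsPrime := hb.1.1
  by_cases haQ' : a = Q
  · have hba : b ≤ a := haQ' ▸ hbQ
    have : a = b := le_antisymm (ha.2 ⟨hbprime, bot_le⟩ hba) hba
    subst this
    rfl
  by_cases hbQ' : b = Q
  · have hab' : a ≤ b := hbQ' ▸ haQ
    have : a = b := le_antisymm hab' (hb.2 ⟨haprime, bot_le⟩ hab')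
    subst this
    rfl
  obtain ⟨m, hm⟩ : ∃ m : ℕ, Q.height = m := by
    have hfin : Q.height ≠ ⊤ := by
      intro htop
      rw [htop] at hht
      simp at hht
    exact ⟨_, (ENat.natCast_toNat hfin).symm⟩
  have hm1 : m ≤ 1 := by
    rw [hm] at hht
    have : m + 1 ≤ 2 := by exact_mod_cast hht
    omega
  have hcov : ∀ (c : Ideal A) (hc : c.IsPrime), c ≤ Q → c ≠ Q →
      (⟨c, hc⟩ : PrimeSpectrum A) ⋖ ⟨Q, hQ⟩ := by
    intro c hc hcQ hne
    refine ⟨lt_of_le_of_ne hcQ (fun h => hne (congrArg PrimeSpectrum.asIdeal h)), ?_⟩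
    intro z hz1 hz2
    have hz1' : c < z.asIdeal := hz1
    have hz2' : z.asIdeal < Q := hz2
    have e1 := Ideal.height_add_one_le_of_lt_of_isPrime hz1'
    have e2 := Ideal.height_add_one_le_of_lt_of_isPrime hz2'
    have e3 : (1 : ℕ∞) ≤ z.asIdeal.height := le_trans (by simp) e1
    have e4 : (1 : ℕ∞) + 1 ≤ Q.height := le_trans (by gcongr) e2
    rw [hm] at e4
    have : 1 + 1 ≤ m := by exact_mod_cast e4
    omega
  rw [coheight_eq_add_one_of_covBy hcat (hcov a haprime haQ haQ'),
    coheight_eq_add_one_of_covBy hcat (hcov b hbprime hbQ hbQ')]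

/-- A catenary Noetherian local ring with `depth A_p ≥ 2` whenever `ht p ≥ 2` is equidimensional. -/
theorem ringKrullDim_quotient_minimalPrime_eq (hcat : CAlg.IsCatenary A)
    (h : ∀ (p : Ideal A) [p.IsPrime], (2 : ℕ∞) ≤ p.height →
      (2 : ℕ∞) ≤ depth (Localization.AtPrime p) (Localization.AtPrime p))
    (p : Ideal A) (hp : p ∈ minimalPrimes A) : ringKrullDim (A ⧸ p) = ringKrullDim A := by
  have := connectedSpace_of_isLocalRing (A := A)
  have hpprime : p.IsPrime := hp.1.1
  -- all minimal primes have the coheight of `p`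
  have hall : ∀ q (hq : q ∈ minimalPrimes A),
      Order.coheight (⟨q, hq.1.1⟩ : PrimeSpectrum A) =
        Order.coheight (⟨p, hpprime⟩ : PrimeSpectrum A) := by
    intro q hq
    have hr := minimalPrimes_reflTransGen 2 (by exact_mod_cast h) p q hp hq
    induction hr with
    | refl => rfl
    | @tail b c hpb hbc ih =>
      have hbmin : b ∈ minimalPrimes A := by
        cases hpb with
        | refl => exact hp
        | tail _ h' => exact h'.1
      rw [← ih hbmin]
      exact (coheight_eq_of_linked hcat hbmin hbc).symm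
  have e1 := ringKrullDim_quotient_eq_coheight (⟨p, hpprime⟩ : PrimeSpectrum A)
  change ringKrullDim (A ⧸ p) = _ at e1
  rw [e1]
  apply le_antisymm
  · exact Order.coheight_le_krullDim _
  · unfold ringKrullDim
    rw [Order.krullDim_eq_iSup_coheight]
    refine iSup_le fun x => ?_
    obtain ⟨q, hq, hqx⟩ := Ideal.exists_minimalPrimes_le (I := ⊥) (J := x.asIdeal) bot_le
    have hle : (⟨q, hq.1.1⟩ : PrimeSpectrum A) ≤ x := hqx
    have := Order.coheight_anti hle
    rw [hall q hq] at this
    exact_mod_cast this

end Catenary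

end Groth.Agent.Lib.helper9.Depth
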