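import Groth.Agent.Lib.helper9.Depth26
import Mathlib.RingTheory.Localization.LocalizationLocalization

/-!
# Transitivity of localization for depth and dimension

For a multiplicative set `S` of `A`, a prime `P` of `S⁻¹A` and `p = P ∩ A`:
`((S⁻¹M)_P` over `(S⁻¹A)_P)` has the same depth and dimension as `M_p` over `A_p`.
-/

universe u

open RingTheory.Sequence Pointwise

namespace Groth.Agent.Lib.helper9.Depth

open LocCoh

section Trans

variable {A : Type*} [CommRing A]

/-- composition of localizations of modules. -/
lemma isLocalizedModule_comp {S₁ S₂ : Submonoid A} (h : S₁ ≤ S₂) {M M₁ M₂ : Type*}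
    [AddCommGroup M] [Module A M] [AddCommGroup M₁] [Module A M₁] [AddCommGroup M₂] [Module A M₂]
    (f₁ : M →ₗ[A] M₁) (f₂ : M₁ →ₗ[A] M₂) [IsLocalizedModule S₁ f₁] [IsLocalizedModule S₂ f₂] :
    IsLocalizedModule S₂ (f₂ ∘ₗ f₁) where
  map_units s := IsLocalizedModule.map_units f₂ s
  surj y := by
    obtain ⟨⟨m₁, t₂⟩, h2⟩ := IsLocalizedModule.surj S₂ f₂ y
    obtain ⟨⟨m, t₁⟩, h1⟩ := IsLocalizedModule.surj S₁ f₁ m₁
    refine ⟨⟨m, ⟨(t₁ : A) * (t₂ : A), S₂.mul_mem (h t₁.2) t₂.2⟩⟩, ?_⟩
    change ((t₁ : A) * (t₂ : A)) • y = f₂ (f₁ m)
    change (t₂ : A) • y = f₂ m₁ at h2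
    change (t₁ : A) • m₁ = f₁ m at h1
    rw [mul_smul, h2, ← map_smul, h1]
  exists_of_eq {a b} hab := by
    change f₂ (f₁ a) = f₂ (f₁ b) at hab
    obtain ⟨c, hc⟩ := IsLocalizedModule.exists_of_eq (S := S₂) (f := f₂) hab
    change (c : A) • f₁ a = (c : A) • f₁ b at hc
    rw [← map_smul, ← map_smul] at hc
    obtain ⟨c', hc'⟩ := IsLocalizedModule.exists_of_eq (S := S₁) (f := f₁) hc
    change (c' : A) • (c : A) • a = (c' : A) • (c : A) • b at hc'
    refine ⟨⟨(c' : A) * (c : A), S₂.mul_mem (h c'.2) c.2⟩, ?_⟩
    change ((c' : A) * (c : A)) • a = ((c' : A) * (c : A)) • b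
    rw [mul_smul, mul_smul, hc']

/-- a localization of `A'`-modules at `T ⊆ A'` (where `A' = S⁻¹A` and `S` maps into `T`) is, as a
map of `A`-modules, a localization at the preimage of `T`. -/
lemma isLocalizedModule_restrictScalars_comap (S : Submonoid A) {A' : Type*} [CommRing A']
    [Algebra A A'] [IsLocalization S A'] (T : Submonoid A')
    (hST : ∀ s ∈ S, algebraMap A A' s ∈ T) {N₁ N₂ : Type*}
    [AddCommGroup N₁] [Module A N₁] [Module A' N₁] [IsScalarTower A A' N₁]
    [AddCommGroup N₂] [Module A N₂] [Module A' N₂] [IsScalarTower A A' N₂]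
    (g : N₁ →ₗ[A'] N₂) [IsLocalizedModule T g] :
    IsLocalizedModule (T.comap (algebraMap A A')) (g.restrictScalars A) where
  map_units x := by
    have := IsLocalizedModule.map_units g ⟨algebraMap A A' x, x.2⟩
    rw [Module.End.isUnit_iff] at this ⊢
    convert this using 1
    ext n
    simp only [Module.algebraMap_end_apply]
    rw [algebraMap_smul]
  surj y := by
    obtain ⟨⟨n, t⟩, hnt⟩ := IsLocalizedModule.surj T g y
    change (t : A') • y = g n at hnt
    obtain ⟨a, s, has⟩ := IsLocalization.exists_mk'_eq S (t : A')
    have hat : algebraMap A A' a = algebraMap A A' s * (t : A') := by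
      rw [← has, IsLocalization.mk'_spec']
    have haT : a ∈ T.comap (algebraMap A A') := by
      change algebraMap A A' a ∈ T
      rw [hat]
      exact T.mul_mem (hST s s.2) t.2
    refine ⟨⟨(s : A) • n, ⟨a, haT⟩⟩, ?_⟩
    change a • y = g ((s : A) • n)
    rw [← algebraMap_smul A' a y, hat, mul_smul, hnt, ← algebraMap_smul A' (s : A) n, map_smul]
  exists_of_eq {n₁ n₂} h := by
    change g n₁ = g n₂ at h
    obtain ⟨c, hc⟩ := IsLocalizedModule.exists_of_eq (S := T) (f := g) h
    change (c : A') • n₁ = (c : A') • n₂ at hc
    obtain ⟨a, s, has⟩ := IsLocalization.exists_mk'_eq S (c : A')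
    have hat : algebraMap A A' a = algebraMap A A' s * (c : A') := by
      rw [← has, IsLocalization.mk'_spec']
    have haT : a ∈ T.comap (algebraMap A A') := by
      change algebraMap A A' a ∈ T
      rw [hat]
      exact T.mul_mem (hST s s.2) c.2
    refine ⟨⟨a, haT⟩, ?_⟩
    change a • n₁ = a • n₂
    rw [← algebraMap_smul A' a n₁, ← algebraMap_smul A' a n₂, hat, mul_smul, mul_smul, hc]

end Trans

section Main

variable {A : Type u} [CommRing A] (S : Submonoid A) (M : Type u) [AddCommGroup M] [Module A M]
  (P : Ideal (Localization S)) [P.IsPrime]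

lemma algebraMap_notMem_of_mem_submonoid {s : A} (hs : s ∈ S) :
    algebraMap A (Localization S) s ∉ P := fun h =>
  (inferInstance : P.IsPrime).ne_top
    (Ideal.eq_top_of_isUnit_mem _ h (IsLocalization.map_units (Localization S) ⟨s, hs⟩))

/-- `(S⁻¹M)_P` is a localization of `M` at `p = P ∩ A`. -/
lemma isLocalizedModule_localization_localization :
    IsLocalizedModule (P.comap (algebraMap A (Localization S))).primeCompl
      (((LocalizedModule.mkLinearMap P.primeCompl (LocalizedModule S M)).restrictScalars A) ∘ₗ
        LocalizedModule.mkLinearMap S M) := by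
  have hST : ∀ s ∈ S, algebraMap A (Localization S) s ∈ P.primeCompl := fun s hs =>
    algebraMap_notMem_of_mem_submonoid S P hs
  haveI h2 := isLocalizedModule_restrictScalars_comap S P.primeCompl hST
    (LocalizedModule.mkLinearMap P.primeCompl (LocalizedModule S M))
  have heq : P.primeCompl.comap (algebraMap A (Localization S)) =
      (P.comap (algebraMap A (Localization S))).primeCompl := by
    ext x; rfl
  rw [heq] at h2
  have hle : S ≤ (P.comap (algebraMap A (Localization S))).primeCompl := fun s hs =>
    algebraMap_notMem_of_mem_submonoid S P hs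
  exact isLocalizedModule_comp hle _ _

/-- transitivity of localization for depth and dimension. -/
theorem depth_supportDim_localization_localization [Module.Finite A M] :
    depth (Localization.AtPrime P) (LocalizedModule P.primeCompl (LocalizedModule S M)) =
      depth (Localization.AtPrime (P.comap (algebraMap A (Localization S))))
        (LocalizedModule (P.comap (algebraMap A (Localization S))).primeCompl M) ∧
    Module.supportDim (Localization.AtPrime P)
        (LocalizedModule P.primeCompl (LocalizedModule S M)) =
      Module.supportDim (Localization.AtPrime (P.comap (algebraMap A (Localization S))))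
        (LocalizedModule (P.comap (algebraMap A (Localization S))).primeCompl M) := by
  haveI := isLocalizedModule_localization_localization S M P
  exact ⟨(depth_eq_of_isLocalizedModule (P.comap (algebraMap A (Localization S)))
      (Localization.AtPrime P)
      (((LocalizedModule.mkLinearMap P.primeCompl (LocalizedModule S M)).restrictScalars A) ∘ₗ
        LocalizedModule.mkLinearMap S M)).symm,
    (supportDim_eq_of_isLocalizedModule (P.comap (algebraMap A (Localization S)))
      (Localization.AtPrime P)
      (((LocalizedModule.mkLinearMap P.primeCompl (LocalizedModule S M)).restrictScalars A) ∘ₗ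
        LocalizedModule.mkLinearMap S M)).symm⟩

lemma depth_supportDim_localization_localization' [Module.Finite A M] (p : Ideal A) [p.IsPrime]
    (hpP : P.comap (algebraMap A (Localization S)) = p) :
    depth (Localization.AtPrime P) (LocalizedModule P.primeCompl (LocalizedModule S M)) =
      depth (Localization.AtPrime p) (LocalizedModule p.primeCompl M) ∧
    Module.supportDim (Localization.AtPrime P)
        (LocalizedModule P.primeCompl (LocalizedModule S M)) =
      Module.supportDim (Localization.AtPrime p) (LocalizedModule p.primeCompl M) := by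
  subst hpP
  exact depth_supportDim_localization_localization S M P

/-- `(S_k)` passes to localizations. -/
theorem hasSk_localization [Module.Finite A M] {k : ℕ} (h : HasSk k A M) :
    HasSk k (Localization S) (LocalizedModule S M) := by
  intro P _
  obtain ⟨h1, h2⟩ := depth_supportDim_localization_localization S M P
  rw [h1, h2]
  exact h _

end Main

end Groth.Agent.Lib.helper9.Depth
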