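import Mathlib
import Groth.Agent.Lib.helper9.Depth18
import Groth.Agent.Lib.helper9.Depth19
import Groth.Agent.Lib.helper9.Depth27
import Groth.Agent.Lib.helper5.RegLoc
import Groth.Agent.Lib.helper6.RegNormal
import Groth.Agent.Lib.helper26.NormalLocus

/-!
# Serre's criterion, direction `R₁ + S₂ ⇒ normal`
-/

universe u

open CategoryTheory RingTheory.Sequence Pointwise

namespace Groth.Agent.Lib.helper9.Serre

open LocCoh Groth.Agent.Lib.helper9.Depth

section

variable {A : Type u} [CommRing A] [IsNoetherianRing A]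

/-- the `S_k` inequality at `P` in terms of the height. -/
lemma hasSk_self_at {k : ℕ} (hS : HasSk k A A) (P : Ideal A) [P.IsPrime] :
    min (k : WithBot ℕ∞) ((P.height : ℕ∞) : WithBot ℕ∞) ≤
      ((depth (Localization.AtPrime P) (Localization.AtPrime P) : ℕ∞) : WithBot ℕ∞) := by
  have h := hS P
  rw [depth_localizedModule_self, Module.supportDim_eq_of_equiv (localizedModuleSelfEquiv P),
    supportDim_self_localization] at h
  exact h

lemma two_le_depth_of_hasSk_two (hS : HasSk 2 A A) (P : Ideal A) [P.IsPrime]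
    (hP : (2 : ℕ∞) ≤ P.height) :
    (2 : ℕ∞) ≤ depth (Localization.AtPrime P) (Localization.AtPrime P) := by
  have h := hasSk_self_at hS P
  have h2 : ((2 : ℕ) : WithBot ℕ∞) ≤ ((P.height : ℕ∞) : WithBot ℕ∞) := by
    rw [← WithBot.coe_natCast]
    exact WithBot.coe_le_coe.2 (by exact_mod_cast hP)
  rw [min_eq_left h2, ← WithBot.coe_natCast, WithBot.coe_le_coe] at h
  exact_mod_cast h

lemma height_le_one_of_depth_le_one (hS : HasSk 2 A A) (P : Ideal A) [P.IsPrime]
    (hP : depth (Localization.AtPrime P) (Localization.AtPrime P) ≤ 1) : P.height ≤ 1 := by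
  by_contra hcon
  rw [not_le] at hcon
  have h2 : (2 : ℕ∞) ≤ P.height := by
    have := Order.add_one_le_of_lt hcon
    rwa [one_add_one_eq_two] at this
  have := (two_le_depth_of_hasSk_two hS P h2).trans hP
  exact absurd this (by decide)

lemma hasSk_one_of_hasSk_two (hS : HasSk 2 A A) : HasSk 1 A A := by
  intro P _
  refine le_trans ?_ (hS P)
  apply min_le_min_right
  exact_mod_cast (by norm_num : (1 : ℕ) ≤ 2)

/-- minimal primes contained in a prime `Q` with `A_Q` a domain coincide. -/
lemma eq_of_le_of_isDomain_localization {a b Q : Ideal A} [Q.IsPrime]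
    (ha : a ∈ minimalPrimes A) (hb : b ∈ minimalPrimes A) (haQ : a ≤ Q) (hbQ : b ≤ Q)
    [IsDomain (Localization.AtPrime Q)] : a = b := by
  have key : ∀ c : Ideal A, c ∈ minimalPrimes A → c ≤ Q →
      c = (⊥ : Ideal (Localization.AtPrime Q)).comap (algebraMap A (Localization.AtPrime Q)) := by
    intro c hc hcQ
    haveI := hc.1.1
    have hdisj : Disjoint (Q.primeCompl : Set A) (c : Set A) := by
      rw [Set.disjoint_left]
      intro x hx hxc
      exact hx (hcQ hxc)
    have hprime := IsLocalization.isPrime_of_isPrime_disjoint Q.primeCompl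
      (Localization.AtPrime Q) c hc.1.1 hdisj
    have hcomap := IsLocalization.under_map_of_isPrime_disjoint Q.primeCompl
      (Localization.AtPrime Q) hc.1.1 hdisj
    rw [Ideal.under_def] at hcomap
    have hmin : c.map (algebraMap A (Localization.AtPrime Q)) ∈
        minimalPrimes (Localization.AtPrime Q) := by
      have h1 := IsLocalization.minimalPrimes_map Q.primeCompl (Localization.AtPrime Q)
        (⊥ : Ideal A)
      rw [Ideal.map_bot] at h1
      change _ ∈ (⊥ : Ideal (Localization.AtPrime Q)).minimalPrimes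
      rw [h1, Set.mem_preimage, Ideal.under_def, hcomap]
      exact hc
    rw [IsDomain.minimalPrimes_eq_singleton_bot, Set.mem_singleton_iff] at hmin
    rw [← hmin, hcomap]
  rw [key a ha haQ, ← key b hb hbQ]

variable (A)

/-- `R₁ + S₂` on a connected spectrum: unique minimal prime. -/
theorem minimalPrimes_subsingleton [ConnectedSpace (PrimeSpectrum A)] (hR : HasRk 1 A)
    (hS : HasSk 2 A A) (P' P'' : Ideal A) (hP' : P' ∈ minimalPrimes A)
    (hP'' : P'' ∈ minimalPrimes A) : P' = P'' := by
  have hchain := minimalPrimes_reflTransGen (A := A) 2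
    (fun P _ hP => two_le_depth_of_hasSk_two hS P (by exact_mod_cast hP)) P' P'' hP' hP''
  have key : ∀ x, Relation.ReflTransGen (Linked 2) P' x → x ∈ minimalPrimes A ∧ P' = x := by
    intro x hx
    induction hx with
    | refl => exact ⟨hP', rfl⟩
    | @tail b c _ hbc ih =>
      obtain ⟨hb, hPb⟩ := ih
      obtain ⟨hc, Q, hQ, hbQ, hcQ, hht⟩ := hbc
      haveI := hQ
      have hQ1 : Q.height ≤ 1 := by
        have h1 : Q.height + 1 ≤ 1 + 1 := by
          rw [one_add_one_eq_two]; exact_mod_cast hht
        exact (ENat.add_le_add_iff_right (by decide : (1 : ℕ∞) ≠ ⊤)).1 h1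
      haveI : IsRegularLocalRing (Localization.AtPrime Q) := hR Q (by exact_mod_cast hQ1)
      haveI : IsDomain (Localization.AtPrime Q) := Groth.Agent.H5.RegLoc.isDomain _
      refine ⟨hc, ?_⟩
      rw [hPb]
      exact eq_of_le_of_isDomain_localization hb hc hbQ hcQ
  exact (key P'' hchain).2

/-- `R₁ + S₂` on a connected spectrum: domain. -/
theorem isDomain_of_R1_S2 [Nontrivial A] [ConnectedSpace (PrimeSpectrum A)] (hR : HasRk 1 A)
    (hS : HasSk 2 A A) : IsDomain A := by
  obtain ⟨P₀, hP₀⟩ := Ideal.nonempty_minimalPrimes (bot_ne_top (α := Ideal A))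
  have hP₀' : P₀ ∈ minimalPrimes A := hP₀
  haveI := hP₀.1.1
  have hass : ∀ P ∈ associatedPrimes A A, P = P₀ := by
    intro P hP
    have h1 := (noEmbedded_iff_hasSk_one (A := A) (M := A)).2 (hasSk_one_of_hasSk_two hS) P hP
    have hann : Module.annihilator A A = ⊥ := by
      rw [eq_bot_iff]
      intro x hx
      have := Module.mem_annihilator.1 hx (1 : A)
      simpa using this
    rw [hann] at h1
    exact minimalPrimes_subsingleton A hR hS P P₀ h1 hP₀'
  have hle : P₀.primeCompl ≤ nonZeroDivisors A := by
    intro x hx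
    rw [mem_nonZeroDivisors_iff_right]
    intro y hxy
    by_contra hy
    obtain ⟨P, hP, hle⟩ := exists_le_isAssociatedPrime_of_isNoetherianRing A y hy
    have hPP₀ := hass P hP
    apply hx
    rw [← hPP₀]
    apply hle
    rw [Submodule.mem_colon_singleton]
    simpa [mul_comm] using hxy
  haveI : IsRegularLocalRing (Localization.AtPrime P₀) := hR P₀ (by
    rw [Ideal.height_eq_zero_iff.2 hP₀']
    exact zero_le)
  haveI : IsDomain (Localization.AtPrime P₀) := Groth.Agent.H5.RegLoc.isDomain _
  exact (IsLocalization.injective (Localization.AtPrime P₀) hle).isDomain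
    (algebraMap A (Localization.AtPrime P₀))

end

section Normal

variable (A : Type u) [CommRing A] [IsNoetherianRing A] [IsDomain A]

/-- `R₁ + S₂` domain is integrally closed. -/
theorem isIntegrallyClosed_of_R1_S2 (hR : HasRk 1 A) (hS : HasSk 2 A A) :
    IsIntegrallyClosed A := by
  rw [isIntegrallyClosed_iff (FractionRing A)]
  intro z hz
  obtain ⟨a, ⟨b, hb⟩, hab⟩ := IsLocalization.exists_mk'_eq (nonZeroDivisors A) z
  have hb0 : b ≠ 0 := nonZeroDivisors.ne_zero hb
  have hzb : z * algebraMap A (FractionRing A) b = algebraMap A (FractionRing A) a := by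
    rw [← hab]
    exact IsLocalization.mk'_spec _ _ _
  by_contra hcon
  -- `a ∉ bA`
  have hnot : (Submodule.Quotient.mk a : QuotSMulTop b A) ≠ 0 := by
    intro h0
    rw [Submodule.Quotient.mk_eq_zero, Submodule.mem_smul_pointwise_iff_exists] at h0
    obtain ⟨c, -, hc⟩ := h0
    apply hcon
    refine ⟨c, ?_⟩
    have hbK : algebraMap A (FractionRing A) b ≠ 0 := by
      intro h0
      exact hb0 ((IsFractionRing.injective A (FractionRing A)) (h0.trans (map_zero _).symm))
    apply mul_right_cancel₀ hbK
    rw [hzb, ← map_mul, ← hc, smul_eq_mul, mul_comm]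
  obtain ⟨P, hP, hle⟩ := exists_le_isAssociatedPrime_of_isNoetherianRing A _ hnot
  haveI hPprime : P.IsPrime := hP.isPrime
  have hbP : b ∈ P := by
    apply hle
    rw [Submodule.mem_colon_singleton]
    rw [← Submodule.Quotient.mk_smul, Submodule.mem_bot, Submodule.Quotient.mk_eq_zero,
      Submodule.mem_smul_pointwise_iff_exists]
    exact ⟨a, trivial, rfl⟩
  have hreg : IsSMulRegular A b := by
    intro x y hxy
    simp only [smul_eq_mul] at hxy
    exact mul_left_cancel₀ hb0 hxy
  -- depth of `A_P` is one
  have hd0 := (depth_localization_eq_zero_iff P (QuotSMulTop b A)).2 hP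
  haveI : Nontrivial (LocalizedModule P.primeCompl A) :=
    (localizedModuleSelfEquiv P).toEquiv.nontrivial
  obtain ⟨-, hd1⟩ := supportDim_depth_localization_quotSMulTop P A hreg hbP
  rw [hd0, zero_add, depth_localizedModule_self] at hd1
  have hht : P.height ≤ 1 := height_le_one_of_depth_le_one hS P hd1.symm.le
  haveI : IsRegularLocalRing (Localization.AtPrime P) := hR P (by exact_mod_cast hht)
  have hIC := (Groth.Agent.Lib.helper26.NormalLocus.isIntegrallyClosed_atPrime_iff P).1
    (Groth.Agent.Lib.helper6.RegNormal.isIntegrallyClosed _)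
  obtain ⟨s, hs, c, hc⟩ := hIC z hz
  apply hs
  apply hle
  rw [Submodule.mem_colon_singleton]
  rw [← Submodule.Quotient.mk_smul, Submodule.mem_bot, Submodule.Quotient.mk_eq_zero,
    Submodule.mem_smul_pointwise_iff_exists]
  refine ⟨c, trivial, ?_⟩
  apply IsFractionRing.injective A (FractionRing A)
  rw [smul_eq_mul, smul_eq_mul, map_mul, map_mul, ← hc, ← hzb]
  ring

end Normal

end Groth.Agent.Lib.helper9.Serre
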