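import Mathlib
import Groth.Agent.Lib.helper9.Serre2

/-!
# An `(S₂)` criterion for Noetherian domains

`hasSk_two_of_ass`: a Noetherian domain `B` satisfies `(S₂)` as soon as every associated prime of a
nonzero principal ideal has height `≤ 1`.
-/

universe u

open CategoryTheory RingTheory.Sequence Pointwise

namespace Groth.Agent.Lib.helper9.Serre

open LocCoh Groth.Agent.Lib.helper9.Depth

variable (B : Type u) [CommRing B] [IsNoetherianRing B] [IsDomain B]

/-- a Noetherian domain in which the associated primes of nonzero principal ideals have height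
`≤ 1` satisfies `(S₂)`. -/
theorem hasSk_two_of_ass
    (h : ∀ (Q : Ideal B) [Q.IsPrime] (b : B), b ∈ Q → b ≠ 0 →
      Q ∈ associatedPrimes B (QuotSMulTop b B) → Q.height ≤ 1) :
    HasSk 2 B B := by
  intro Q _
  have hdim : Module.supportDim (Localization.AtPrime Q) (LocalizedModule Q.primeCompl B) =
      (Q.height : WithBot ℕ∞) := by
    rw [Module.supportDim_eq_of_equiv (localizedModuleSelfEquiv Q),
      Module.supportDim_self_eq_ringKrullDim,
      IsLocalization.AtPrime.ringKrullDim_eq_height Q (Localization.AtPrime Q)]
  rw [hdim]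
  by_cases hQ : Q = ⊥
  · have h0 : Q.height = 0 := by rw [hQ]; exact Ideal.height_bot
    rw [h0]
    refine (min_le_right _ _).trans ?_
    exact WithBot.coe_le_coe.2 zero_le
  · obtain ⟨b, hbQ, hb0⟩ := Submodule.exists_mem_ne_zero_of_ne_bot hQ
    have hreg : IsSMulRegular B b := by
      intro x y hxy
      simp only [smul_eq_mul] at hxy
      exact mul_left_cancel₀ hb0 hxy
    have : Nontrivial (LocalizedModule Q.primeCompl B) :=
      (localizedModuleSelfEquiv Q).toEquiv.nontrivial
    obtain ⟨-, hd⟩ := supportDim_depth_localization_quotSMulTop Q B hreg hbQ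
    by_cases hass : Q ∈ associatedPrimes B (QuotSMulTop b B)
    · have hht := h Q b hbQ hb0 hass
      have h1 : (1 : ℕ∞) ≤ depth (Localization.AtPrime Q) (LocalizedModule Q.primeCompl B) := by
        rw [← hd]
        exact le_add_self
      refine (min_le_right _ _).trans ?_
      exact WithBot.coe_le_coe.2 (hht.trans h1)
    · have hne : depth (Localization.AtPrime Q)
          (LocalizedModule Q.primeCompl (QuotSMulTop b B)) ≠ 0 := by
        intro h0
        exact hass ((depth_localization_eq_zero_iff (A := B) (p := Q)
          (M := QuotSMulTop b B)).1 h0)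
      have h2 : (1 : ℕ∞) ≤ depth (Localization.AtPrime Q)
          (LocalizedModule Q.primeCompl (QuotSMulTop b B)) := Order.one_le_iff_ne_zero.2 hne
      have h3 : (2 : ℕ∞) ≤ depth (Localization.AtPrime Q) (LocalizedModule Q.primeCompl B) := by
        rw [← hd]
        calc (2 : ℕ∞) = 1 + 1 := by norm_num
          _ ≤ _ := by gcongr
      refine (min_le_left _ _).trans ?_
      exact (WithBot.coe_le_coe.2 h3 : ((2 : ℕ∞) : WithBot ℕ∞) ≤ _)

end Groth.Agent.Lib.helper9.Serre
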