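import Mathlib
import Groth.Agent.Lib.helper9.Serre3
import Groth.Agent.Lib.helper9.Serre1
import Groth.Agent.Lib.helper9.Depth24
import Groth.Agent.Lib.helper6.AusBuchE
import Groth.Agent.Lib.helper6.RegNormal
import Groth.Prelude.Def_EGA4b

/-!
# Openness of the normal locus

For a Noetherian ring `A` let `T` be the set of primes `Q` with `depth A_Q ≤ 1` and `A_Q` not regular.
* `mem_norLocus_iff`: `P` is a normal point iff no `Q ∈ T` lies below `P` (Serre's criterion).
* `isOpen_norLocus_of_ideal`: if an ideal `J` lies in every `Q ∈ T` and every associated prime of `A`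
  containing `J` is in `T`, then the normal locus is open.
-/

universe u

open Pointwise

namespace Groth.Agent.Lib.helper9.NorOpen

open LocCoh Groth.Agent.Lib.helper9.Depth

section Transfer

variable {A : Type u} [CommRing A]

/-- for `Q ≤ P` the local ring `A_Q` is a localization of `A_P` at a prime. -/
lemma exists_equiv_of_le (P Q : Ideal A) [hP : P.IsPrime] [hQ : Q.IsPrime] (hQP : Q ≤ P) :
    ∃ (Q' : Ideal (Localization.AtPrime P)) (_ : Q'.IsPrime),
      Nonempty (Localization.AtPrime Q ≃+* Localization.AtPrime Q') := by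
  have hdisj : Disjoint (P.primeCompl : Set A) (Q : Set A) := by
    rw [Set.disjoint_left]
    intro a ha haQ
    exact ha (hQP haQ)
  have hQ' : (Q.map (algebraMap A (Localization.AtPrime P))).IsPrime :=
    IsLocalization.isPrime_of_isPrime_disjoint P.primeCompl _ Q hQ hdisj
  have hcomap : (Q.map (algebraMap A (Localization.AtPrime P))).comap
      (algebraMap A (Localization.AtPrime P)) = Q :=
    IsLocalization.under_map_of_isPrime_disjoint P.primeCompl _ hQ hdisj
  refine ⟨_, hQ', ?_⟩
  have e := IsLocalization.localizationLocalizationAtPrimeIsoLocalization P.primeCompl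
    (Q.map (algebraMap A (Localization.AtPrime P)))
  have key : ∀ (Q₁ : Ideal A) [Q₁.IsPrime], Q₁ = Q →
      Nonempty (Localization.AtPrime Q₁ ≃+*
        Localization.AtPrime (Q.map (algebraMap A (Localization.AtPrime P)))) →
      Nonempty (Localization.AtPrime Q ≃+*
        Localization.AtPrime (Q.map (algebraMap A (Localization.AtPrime P)))) := by
    intro Q₁ _ h1 h2
    subst h1
    exact h2
  exact key _ hcomap ⟨e.toRingEquiv⟩

/-- a prime of `A_P` contracts to a prime `Q ≤ P` with the same local ring. -/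
lemma comap_le_and_equiv (P : Ideal A) [hP : P.IsPrime] (Q' : Ideal (Localization.AtPrime P))
    [hQ' : Q'.IsPrime] :
    Q'.comap (algebraMap A (Localization.AtPrime P)) ≤ P ∧
      Nonempty (Localization.AtPrime (Q'.comap (algebraMap A (Localization.AtPrime P))) ≃+*
        Localization.AtPrime Q') := by
  constructor
  · have h1 : Q' ≤ IsLocalRing.maximalIdeal (Localization.AtPrime P) :=
      IsLocalRing.le_maximalIdeal hQ'.ne_top
    have h2 := Ideal.comap_mono (f := algebraMap A (Localization.AtPrime P)) h1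
    have h3 : (IsLocalRing.maximalIdeal (Localization.AtPrime P)).comap
        (algebraMap A (Localization.AtPrime P)) = P := Localization.AtPrime.under_maximalIdeal
    rwa [h3] at h2
  · exact ⟨(IsLocalization.localizationLocalizationAtPrimeIsoLocalization P.primeCompl
      Q').toRingEquiv⟩

/-- depth is invariant under ring isomorphisms of local rings. -/
lemma depth_self_eq_of_ringEquiv {R S : Type u} [CommRing R] [CommRing S] [IsLocalRing R]
    [IsLocalRing S] (e : R ≃+* S) : depth R R = depth S S :=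
  depth_eq_of_addEquiv e e.toAddEquiv (fun r x => map_mul e r x)

end Transfer

section N1

variable (A : Type u) [CommRing A] [IsNoetherianRing A]

/-- the primes obstructing normality: depth `≤ 1` and not regular. -/
def bad : Set (PrimeSpectrum A) :=
  {Q | depth (Localization.AtPrime Q.asIdeal) (Localization.AtPrime Q.asIdeal) ≤ 1 ∧
    ¬ IsRegularLocalRing (Localization.AtPrime Q.asIdeal)}

lemma dim_le_one_of_min_le {d : WithBot ℕ∞} (h : min (2 : WithBot ℕ∞) d ≤ 1) : d ≤ 1 := by
  by_cases hdim : (2 : WithBot ℕ∞) ≤ d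
  · rw [min_eq_left hdim] at h
    exact absurd h (by decide)
  · rw [not_le] at hdim
    have h4 : d < ((2 : ℕ∞) : WithBot ℕ∞) := hdim
    cases hd : d with
    | bot => exact bot_le
    | coe n =>
      rw [hd] at h4
      have h5 : n < 2 := by exact_mod_cast h4
      have h6 : n ≤ 1 := by
        have : n + 1 ≤ 2 := Order.add_one_le_of_lt h5
        have h7 : n + 1 ≤ 1 + 1 := by rw [one_add_one_eq_two]; exact this
        exact (ENat.add_le_add_iff_right (by decide : (1 : ℕ∞) ≠ ⊤)).1 h7
      exact_mod_cast h6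

/-- **Serre's criterion**, pointwise form: `P` is a normal point iff no bad prime lies below it. -/
theorem mem_norLocus_iff (P : PrimeSpectrum A) :
    P ∈ EGA4.norLocus A ↔ ∀ Q ∈ bad A, ¬ Q ≤ P := by
  constructor
  · rintro ⟨hdom, hic⟩ Q ⟨hdepth, hnr⟩ hQP
    obtain ⟨Q', hQ', ⟨e⟩⟩ := exists_equiv_of_le P.asIdeal Q.asIdeal hQP
    haveI : IsDomain (Localization.AtPrime Q') :=
      IsLocalization.isDomain_localization Q'.primeCompl_le_nonZeroDivisors
    haveI : IsIntegrallyClosed (Localization.AtPrime Q') :=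
      isIntegrallyClosed_of_isLocalization _ Q'.primeCompl Q'.primeCompl_le_nonZeroDivisors
    haveI : IsDomain (Localization.AtPrime Q.asIdeal) := e.toMulEquiv.isDomain _
    haveI : IsIntegrallyClosed (Localization.AtPrime Q.asIdeal) :=
      IsIntegrallyClosed.of_equiv e.symm
    apply hnr
    apply Serre.isRegularLocalRing_of_normal_of_dim_le_one
    apply dim_le_one_of_min_le
    refine (Serre.min_two_dim_le_depth_of_normal (Localization.AtPrime Q.asIdeal)).trans ?_
    exact_mod_cast hdepth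
  · intro h
    have key : ∀ (Q' : Ideal (Localization.AtPrime P.asIdeal)) [Q'.IsPrime],
        depth (Localization.AtPrime Q') (Localization.AtPrime Q') ≤ 1 →
          IsRegularLocalRing (Localization.AtPrime Q') := by
      intro Q' _ hd
      obtain ⟨hle, ⟨e⟩⟩ := comap_le_and_equiv P.asIdeal Q'
      by_contra hnr
      refine h ⟨Q'.comap (algebraMap A (Localization.AtPrime P.asIdeal)), inferInstance⟩
        ⟨?_, ?_⟩ hle
      · change depth (Localization.AtPrime (Q'.comap _)) (Localization.AtPrime (Q'.comap _)) ≤ 1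
        rw [depth_self_eq_of_ringEquiv e]
        exact hd
      · intro hreg
        apply hnr
        haveI : IsRegularLocalRing (Localization.AtPrime
          (Q'.comap (algebraMap A (Localization.AtPrime P.asIdeal)))) := hreg
        exact IsRegularLocalRing.of_ringEquiv e
    have hR : HasRk 1 (Localization.AtPrime P.asIdeal) := by
      intro Q' _ hht
      apply key Q'
      have h1 := depth_le_supportDim (R := Localization.AtPrime Q') (Localization.AtPrime Q')
      rw [Module.supportDim_self_eq_ringKrullDim,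
        IsLocalization.AtPrime.ringKrullDim_eq_height Q' (Localization.AtPrime Q')] at h1
      have h2 : depth (Localization.AtPrime Q') (Localization.AtPrime Q') ≤ Q'.height := by
        exact_mod_cast h1
      exact h2.trans (by exact_mod_cast hht)
    have hS : HasSk 2 (Localization.AtPrime P.asIdeal) (Localization.AtPrime P.asIdeal) := by
      intro Q' _
      rw [depth_localizedModule_self,
        Module.supportDim_eq_of_equiv (localizedModuleSelfEquiv Q'),
        Module.supportDim_self_eq_ringKrullDim]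
      by_cases hd : depth (Localization.AtPrime Q') (Localization.AtPrime Q') ≤ 1
      · haveI := key Q' hd
        obtain ⟨d, hd'⟩ := Groth.Agent.H5.RegLoc.exists_nat_dim (Localization.AtPrime Q')
        rw [Groth.Agent.Lib.helper6.AusBuchE.depth_eq_dim (Localization.AtPrime Q') d hd', hd']
        exact min_le_right _ _
      · rw [not_le] at hd
        have h2 : (2 : ℕ∞) ≤ depth (Localization.AtPrime Q') (Localization.AtPrime Q') := by
          have := Order.add_one_le_of_lt hd
          rwa [one_add_one_eq_two] at this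
        refine (min_le_left _ _).trans ?_
        exact (WithBot.coe_le_coe.2 h2 : ((2 : ℕ∞) : WithBot ℕ∞) ≤ _)
    haveI := connectedSpace_of_isLocalRing (A := Localization.AtPrime P.asIdeal)
    have hdom : IsDomain (Localization.AtPrime P.asIdeal) := Serre.isDomain_of_R1_S2 _ hR hS
    exact ⟨hdom, Serre.isIntegrallyClosed_of_R1_S2 _ hR hS⟩

end N1

section N2

variable (A : Type u) [CommRing A] [IsNoetherianRing A]

lemma depth_eq_zero_iff_mem_ass (Q : Ideal A) [Q.IsPrime] :
    depth (Localization.AtPrime Q) (Localization.AtPrime Q) = 0 ↔ Q ∈ associatedPrimes A A := by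
  rw [← depth_localizedModule_self, depth_localization_eq_zero_iff]

/-- if `depth A_Q = 1` and `g ∈ Q` avoids the associated primes of `A` inside `Q`, then `Q` is an
associated prime of `A/gA`. -/
lemma mem_ass_quotSMulTop (Q : Ideal A) [hQ : Q.IsPrime]
    (hd : depth (Localization.AtPrime Q) (Localization.AtPrime Q) = 1) (g : A) (hgQ : g ∈ Q)
    (hg : ∀ 𝔞 ∈ associatedPrimes A A, 𝔞 ≤ Q → g ∉ 𝔞) :
    Q ∈ associatedPrimes A (QuotSMulTop g A) := by
  set S := Localization.AtPrime Q with hS
  set N := LocalizedModule Q.primeCompl A with hN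
  have hmem : algebraMap A S g ∈ IsLocalRing.maximalIdeal S :=
    (IsLocalization.AtPrime.to_map_mem_maximal_iff S Q g).mpr hgQ
  have hreg : IsSMulRegular N (algebraMap A S g) := by
    by_contra hnr
    have hmem' : algebraMap A S g ∈ ({r : S | IsSMulRegular N r}ᶜ : Set S) := hnr
    rw [← biUnion_associatedPrimes_eq_compl_regular S N] at hmem'
    simp only [Set.mem_iUnion, SetLike.mem_coe, exists_prop] at hmem'
    obtain ⟨𝔞', h𝔞', hg𝔞'⟩ := hmem'
    have h𝔞'p : 𝔞'.IsPrime := (AssociatedPrimes.mem_iff.mp h𝔞').isPrime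
    have h1 : 𝔞'.comap (algebraMap A S) ∈ associatedPrimes A A := by
      have := Module.associatedPrimes.preimage_comap_associatedPrimes_eq_associatedPrimes_of_isLocalizedModule
        Q.primeCompl S (LocalizedModule.mkLinearMap Q.primeCompl A)
      rw [← this] at h𝔞'
      exact h𝔞'
    have h2 : 𝔞'.comap (algebraMap A S) ≤ Q := by
      have h3 : 𝔞' ≤ IsLocalRing.maximalIdeal S := IsLocalRing.le_maximalIdeal h𝔞'p.ne_top
      have h4 := Ideal.comap_mono (f := algebraMap A S) h3
      have h5 : (IsLocalRing.maximalIdeal S).comap (algebraMap A S) = Q :=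
        Localization.AtPrime.under_maximalIdeal
      rwa [h5] at h4
    exact hg _ h1 h2 hg𝔞'
  haveI : Nontrivial N := (localizedModuleSelfEquiv Q).toEquiv.nontrivial
  have h1 := idealDepth_quotSMulTop_add_one
    (maximalIdeal_smul_top_ne_top (R := S) N) hmem hreg
  have h2 : depth S N = 1 := (depth_localizedModule_self Q).trans hd
  have h3 : depth S (QuotSMulTop (algebraMap A S g) N) = 0 := by
    unfold depth at h2 ⊢
    rw [h2] at h1
    have h4 : idealDepth (IsLocalRing.maximalIdeal S) (QuotSMulTop (algebraMap A S g) N) + 1 =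
        0 + 1 := by rw [h1, zero_add]
    exact (ENat.add_left_injective_of_ne_top (by decide : (1 : ℕ∞) ≠ ⊤)) h4
  have e := quotSMulTopLocEquiv Q A g
  have h4 : depth S (LocalizedModule Q.primeCompl (QuotSMulTop g A)) = 0 := by
    unfold depth at h3 ⊢
    rw [idealDepth_congr _ e]
    exact h3
  exact (depth_localization_eq_zero_iff (A := A) (p := Q) (M := QuotSMulTop g A)).1 h4

/-- finitely many bad primes dominate all bad primes. -/
theorem exists_finite_dominating (J : Ideal A) (h1 : ∀ Q ∈ bad A, J ≤ Q.asIdeal)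
    (h2 : ∀ 𝔞 : PrimeSpectrum A, 𝔞.asIdeal ∈ associatedPrimes A A → J ≤ 𝔞.asIdeal → 𝔞 ∈ bad A) :
    ∃ F : Set (PrimeSpectrum A), F.Finite ∧ F ⊆ bad A ∧ ∀ Q ∈ bad A, ∃ Q₀ ∈ F, Q₀ ≤ Q := by
  classical
  set S : Set (Ideal A) := {𝔞 | 𝔞 ∈ associatedPrimes A A ∧ ¬ J ≤ 𝔞} with hSdef
  have hSfin : S.Finite := (associatedPrimes.finite A A).subset (fun 𝔞 h => h.1)
  have havoid : ¬ ((J : Set A) ⊆ ⋃ 𝔞 ∈ S, (𝔞 : Set A)) := by
    intro hsub
    obtain ⟨𝔞, h𝔞, hle⟩ := (Ideal.subset_union_prime_finite hSfin (f := id) ⊤ ⊤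
      (fun 𝔞 h _ _ => (AssociatedPrimes.mem_iff.mp h.1).isPrime)).1 hsub
    exact h𝔞.2 hle
  obtain ⟨g, hgJ, hgS⟩ := Set.not_subset.1 havoid
  have hgS' : ∀ 𝔞 ∈ S, g ∉ 𝔞 := by
    intro 𝔞 h𝔞 hg
    apply hgS
    simp only [Set.mem_iUnion, SetLike.mem_coe, exists_prop]
    exact ⟨𝔞, h𝔞, hg⟩
  set G : Set (Ideal A) := associatedPrimes A A ∪ associatedPrimes A (QuotSMulTop g A) with hG
  have hGfin : G.Finite :=
    (associatedPrimes.finite A A).union (associatedPrimes.finite A (QuotSMulTop g A))
  refine ⟨bad A ∩ {Q | Q.asIdeal ∈ G}, ?_, Set.inter_subset_left, ?_⟩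
  · refine Set.Finite.subset (hGfin.preimage
      (f := fun Q : PrimeSpectrum A => Q.asIdeal) ?_) Set.inter_subset_right
    intro Q _ Q' _ h
    exact PrimeSpectrum.ext h
  · intro Q hQ
    haveI := Q.isPrime
    by_cases hd0 : depth (Localization.AtPrime Q.asIdeal) (Localization.AtPrime Q.asIdeal) = 0
    · refine ⟨Q, ⟨hQ, Or.inl ?_⟩, le_rfl⟩
      exact (depth_eq_zero_iff_mem_ass A Q.asIdeal).1 hd0
    · have hd1 : depth (Localization.AtPrime Q.asIdeal) (Localization.AtPrime Q.asIdeal) = 1 :=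
        le_antisymm hQ.1 (Order.one_le_iff_pos.2 (pos_iff_ne_zero.2 hd0))
      by_cases hex : ∃ 𝔞 ∈ associatedPrimes A A, 𝔞 ≤ Q.asIdeal ∧ J ≤ 𝔞
      · obtain ⟨𝔞, h𝔞, h𝔞Q, hJ𝔞⟩ := hex
        have h𝔞p : 𝔞.IsPrime := (AssociatedPrimes.mem_iff.mp h𝔞).isPrime
        exact ⟨⟨𝔞, h𝔞p⟩, ⟨h2 ⟨𝔞, h𝔞p⟩ h𝔞 hJ𝔞, Or.inl h𝔞⟩, h𝔞Q⟩
      · push Not at hex
        refine ⟨Q, ⟨hQ, Or.inr ?_⟩, le_rfl⟩
        apply mem_ass_quotSMulTop A Q.asIdeal hd1 g (h1 Q hQ hgJ)
        intro 𝔞 h𝔞 h𝔞Q
        exact hgS' 𝔞 ⟨h𝔞, hex 𝔞 h𝔞 h𝔞Q⟩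

/-- the normal locus is open as soon as the bad primes are governed by an ideal. -/
theorem isOpen_norLocus_of_ideal (J : Ideal A) (h1 : ∀ Q ∈ bad A, J ≤ Q.asIdeal)
    (h2 : ∀ 𝔞 : PrimeSpectrum A, 𝔞.asIdeal ∈ associatedPrimes A A → J ≤ 𝔞.asIdeal → 𝔞 ∈ bad A) :
    IsOpen (EGA4.norLocus A) := by
  obtain ⟨F, hFfin, hFbad, hFdom⟩ := exists_finite_dominating A J h1 h2
  have heq : (EGA4.norLocus A)ᶜ = ⋃ Q₀ ∈ F, PrimeSpectrum.zeroLocus (Q₀.asIdeal : Set A) := by
    ext P
    rw [Set.mem_compl_iff, mem_norLocus_iff]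
    simp only [Set.mem_iUnion, PrimeSpectrum.mem_zeroLocus, exists_prop]
    constructor
    · intro h
      push Not at h
      obtain ⟨Q, hQ, hQP⟩ := h
      obtain ⟨Q₀, hQ₀, hQ₀Q⟩ := hFdom Q hQ
      exact ⟨Q₀, hQ₀, le_trans hQ₀Q hQP⟩
    · rintro ⟨Q₀, hQ₀, hle⟩ h
      exact h Q₀ (hFbad hQ₀) hle
  rw [← isClosed_compl_iff, heq]
  exact hFfin.isClosed_biUnion (fun _ _ => PrimeSpectrum.isClosed_zeroLocus _)

end N2

end Groth.Agent.Lib.helper9.NorOpen
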