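import Groth.Agent.Lib.helper9.FlatDepth4
import Groth.Agent.Lib.helper9.Depth24
import Groth.Agent.Lib.helper9.Serre1
import Groth.Agent.Lib.helper9.NorOpen
import Groth.Agent.Lib.helper20.RegAscent

/-!
# Flat local homomorphisms: depth of the total space, ascent of normality
-/

universe u

open TensorProduct

namespace Groth.Agent.Lib.helper9.FlatLocal

open LocCoh Groth.Agent.Lib.helper9.Depth

section

variable {R S : Type u} [CommRing R] [CommRing S] [IsLocalRing R] [IsLocalRing S]
  [IsNoetherianRing R] [IsNoetherianRing S] [Algebra R S] [IsLocalHom (algebraMap R S)]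
  [Module.Flat R S]

/-- `depth S = depth R + depth S/m_R S` for a flat local homomorphism. -/
theorem depth_eq_add (I : Ideal S) (hI : I = (IsLocalRing.maximalIdeal R).map (algebraMap R S))
    [IsLocalRing (S ⧸ I)] :
    depth S S = depth R R + depth (S ⧸ I) (S ⧸ I) := by
  subst hI
  have h1 := FlatDepth4.depth_tensor (R := R) (S := S) S R
  rw [FlatDepth4.depth_fibre_eq] at h1
  have h2 : depth S (S ⊗[R] R) = depth S S :=
    idealDepth_congr _ (AlgebraTensorModule.rid R S S)
  rw [h2] at h1
  rw [h1]
  congr 1
  have hmtop : (IsLocalRing.maximalIdeal R).map (algebraMap R S) • (⊤ : Submodule S S) =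
      (IsLocalRing.maximalIdeal R).map (algebraMap R S) := by
    rw [smul_eq_mul, Ideal.mul_top]
  have h3 : depth S (S ⧸ (IsLocalRing.maximalIdeal R).map (algebraMap R S) • (⊤ : Submodule S S)) =
      depth S (S ⧸ (IsLocalRing.maximalIdeal R).map (algebraMap R S)) :=
    idealDepth_congr _ (Submodule.quotEquivOfEq _ _ hmtop)
  rw [h3]
  exact depth_eq_of_surjective (R' := S)
    (S' := S ⧸ (IsLocalRing.maximalIdeal R).map (algebraMap R S))
    (N := S ⧸ (IsLocalRing.maximalIdeal R).map (algebraMap R S)) Ideal.Quotient.mk_surjective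

/-- ascent of normality at depth `≤ 1`: if `R` and the closed fibre are normal domains and
`depth S ≤ 1` then `S` is regular. -/
theorem regular_of_normal_of_depth_le_one [IsDomain R] [IsIntegrallyClosed R]
    (I : Ideal S) (hI : I = (IsLocalRing.maximalIdeal R).map (algebraMap R S))
    [IsDomain (S ⧸ I)] [IsIntegrallyClosed (S ⧸ I)]
    (hd : depth S S ≤ 1) : IsRegularLocalRing S := by
  haveI : Nontrivial (S ⧸ I) := inferInstance
  haveI : IsLocalRing (S ⧸ I) := EGA4.isLocalRing_quotient S I
  have h1 := depth_eq_add (R := R) I hI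
  have hR : depth R R ≤ 1 := (le_self_add).trans (h1.ge.trans hd)
  have hF : depth (S ⧸ I) (S ⧸ I) ≤ 1 := (le_add_self).trans (h1.ge.trans hd)
  have hdimR : ringKrullDim R ≤ 1 := by
    apply NorOpen.dim_le_one_of_min_le
    refine (Serre.min_two_dim_le_depth_of_normal (A := R)).trans ?_
    exact_mod_cast hR
  have hdimF : ringKrullDim (S ⧸ I) ≤ 1 := by
    apply NorOpen.dim_le_one_of_min_le
    refine (Serre.min_two_dim_le_depth_of_normal (A := S ⧸ I)).trans ?_
    exact_mod_cast hF
  haveI : IsRegularLocalRing R := Serre.isRegularLocalRing_of_normal_of_dim_le_one R hdimR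
  have hFreg : IsRegularLocalRing (S ⧸ I) := Serre.isRegularLocalRing_of_normal_of_dim_le_one (S ⧸ I) hdimF
  subst hI
  exact Groth.Agent.Lib.helper20.RegAscent.regular_of_flat_of_regular_fiber R S hFreg

end

section Dim

variable {R S : Type u} [CommRing R] [CommRing S] [IsLocalRing R] [IsLocalRing S]
  [IsNoetherianRing R] [IsNoetherianRing S] [Algebra R S] [IsLocalHom (algebraMap R S)]
  [Module.Flat R S]

/-- `dim S = dim R + dim S/m_R S` for a flat local homomorphism. -/
theorem ringKrullDim_eq_add :
    ringKrullDim S = ringKrullDim R + ringKrullDim (EGA4.FibRing R S) := by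
  haveI : (IsLocalRing.maximalIdeal S).LiesOver (IsLocalRing.maximalIdeal R) := inferInstance
  have h := Ideal.height_eq_height_add_of_liesOver_of_hasGoingDown
    (IsLocalRing.maximalIdeal R) (IsLocalRing.maximalIdeal S)
  have hmap : (IsLocalRing.maximalIdeal S).map
      (Ideal.Quotient.mk ((IsLocalRing.maximalIdeal R).map (algebraMap R S))) =
      IsLocalRing.maximalIdeal (EGA4.FibRing R S) :=
    IsLocalRing.map_maximalIdeal_of_surjective _ Ideal.Quotient.mk_surjective
  rw [hmap] at h
  rw [← IsLocalRing.maximalIdeal_height_eq_ringKrullDim,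
    ← IsLocalRing.maximalIdeal_height_eq_ringKrullDim,
    ← IsLocalRing.maximalIdeal_height_eq_ringKrullDim, h]
  push_cast
  rfl

end Dim

end Groth.Agent.Lib.helper9.FlatLocal
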