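import Groth.Agent.Lib.helper9.Depth10
import Mathlib.RingTheory.Localization.Module
import Mathlib.Algebra.Module.LocalizedModule.IsLocalization

/-!
# Cohen–Macaulay rings: `depth_a R = height a`
-/

universe u

open CategoryTheory RingTheory.Sequence Pointwise

namespace Groth.Agent.Lib.helper9.Depth

open LocCoh

section

variable {R : Type u} [CommRing R] (p : Ideal R) [p.IsPrime]

/-- `R_p` as a localized module is `R_p`. -/
noncomputable def localizedModuleSelfEquiv :
    LocalizedModule p.primeCompl R ≃ₗ[Localization.AtPrime p] Localization.AtPrime p :=
  (IsLocalizedModule.iso p.primeCompl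
    (Algebra.linearMap R (Localization.AtPrime p))).extendScalarsOfIsLocalization p.primeCompl
      (Localization.AtPrime p)

lemma depth_localizedModule_self :
    depth (Localization.AtPrime p) (LocalizedModule p.primeCompl R) =
      depth (Localization.AtPrime p) (Localization.AtPrime p) :=
  idealDepth_congr _ (localizedModuleSelfEquiv p)

lemma supportDim_self_localization :
    Module.supportDim (Localization.AtPrime p) (Localization.AtPrime p) =
      ((p.height : ℕ∞) : WithBot ℕ∞) := by
  rw [Module.supportDim_self_eq_ringKrullDim,
    IsLocalization.AtPrime.ringKrullDim_eq_height p (Localization.AtPrime p)]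

variable [IsNoetherianRing R]

lemma isCohenMacaulayLocalRing_localization_iff :
    IsCohenMacaulayLocalRing (Localization.AtPrime p) ↔
      depth (Localization.AtPrime p) (Localization.AtPrime p) = p.height := by
  constructor
  · intro h
    have := h.supportDim_eq_depth
    rw [supportDim_self_localization] at this
    exact (WithBot.coe_injective this).symm
  · intro h
    exact { supportDim_eq_depth := by rw [supportDim_self_localization, h] }

/-- a Noetherian ring is CM iff `depth_a R = height a` for all proper ideals `a`. -/
theorem isCohenMacaulayRing_iff_idealDepth_eq_height :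
    IsCohenMacaulayRing R ↔ ∀ a : Ideal R, a ≠ ⊤ → idealDepth a R = a.height := by
  constructor
  · intro hCM a ha
    have hloc : ∀ q : PrimeSpectrum R,
        depth (Localization.AtPrime q.asIdeal) (LocalizedModule q.asIdeal.primeCompl R) =
          q.asIdeal.height := by
      intro q
      rw [depth_localizedModule_self]
      exact (isCohenMacaulayLocalRing_localization_iff q.asIdeal).mp
        (hCM.isCohenMacaulayLocalRing_localization q.asIdeal)
    rw [idealDepth_eq_iInf_depth_localization]
    apply le_antisymm
    · rw [Ideal.height_eq_inf_minimalPrimes]
      refine le_iInf₂ fun J hJ => ?_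
      have hJprime : J.IsPrime := hJ.1.1
      exact iInf₂_le_of_le ⟨J, hJprime⟩ hJ.1.2 (hloc ⟨J, hJprime⟩).le
    · refine le_iInf₂ fun q hq => ?_
      rw [hloc q]
      exact Ideal.height_mono hq
  · intro h
    refine { isCohenMacaulayLocalRing_localization := fun p _ => ?_ }
    rw [isCohenMacaulayLocalRing_localization_iff]
    have h1 : idealDepth p R ≤ depth (Localization.AtPrime p) (LocalizedModule p.primeCompl R) :=
      idealDepth_le_depth_localization p R p le_rfl
    rw [depth_localizedModule_self, h p (Ideal.IsPrime.ne_top inferInstance)] at h1
    apply le_antisymm _ h1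
    have h2 := depth_le_supportDim (R := Localization.AtPrime p) (Localization.AtPrime p)
    rw [supportDim_self_localization] at h2
    exact_mod_cast h2

end

end Groth.Agent.Lib.helper9.Depth
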