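import Groth.Agent.Lib.helper9.Depth8
import Groth.Agent.S5765

/-!
# Cohen–Macaulay modules localize
-/

universe u

open CategoryTheory RingTheory.Sequence Pointwise

namespace Groth.Agent.Lib.helper9.Depth

open LocCoh

section CMLoc

variable {A : Type u} [CommRing A] [IsLocalRing A] [IsNoetherianRing A]

theorem isCohenMacaulayModule_localization_and_dim {M : Type u} [AddCommGroup M] [Module A M]
    [Module.Finite A M] (hM : IsCohenMacaulayModule A M) (p : PrimeSpectrum A)
    (hp : p ∈ Module.support A M) :
    IsCohenMacaulayModule (Localization.AtPrime p.asIdeal)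
        (LocalizedModule p.asIdeal.primeCompl M) ∧
      Module.supportDim A M =
        Module.supportDim A (M ⧸ (p.asIdeal • (⊤ : Submodule A M))) +
          Module.supportDim (Localization.AtPrime p.asIdeal)
            (LocalizedModule p.asIdeal.primeCompl M) ∧
      depth (Localization.AtPrime p.asIdeal) (LocalizedModule p.asIdeal.primeCompl M) =
        idealDepth p.asIdeal M := by
  haveI := nontrivial_of_isCohenMacaulayModule hM
  haveI : Nontrivial (LocalizedModule p.asIdeal.primeCompl M) := Module.mem_support_iff.mp hp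
  have hPm : p.asIdeal ≤ IsLocalRing.maximalIdeal A := IsLocalRing.le_maximalIdeal p.2.ne_top
  have hPM : p.asIdeal • (⊤ : Submodule A M) ≠ ⊤ := fun h =>
    maximalIdeal_smul_top_ne_top (R := A) M
      (top_le_iff.mp (h.ge.trans (Submodule.smul_mono_left hPm)))
  have h1 := Groth.Agent.S5765.result A M p.asIdeal
  have h2 := supportDim_eq_add_idealDepth_of_isCohenMacaulayModule p.asIdeal p.2.ne_top M hM
  have h3 := idealDepth_le_depth_localization p.asIdeal M p.asIdeal le_rfl
  have h4 := depth_le_supportDim (R := Localization.AtPrime p.asIdeal)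
    (LocalizedModule p.asIdeal.primeCompl M)
  obtain ⟨na, ha⟩ := SemiLocalDim.exists_nat_eq_supportDim (Localization.AtPrime p.asIdeal)
    (LocalizedModule p.asIdeal.primeCompl M)
  obtain ⟨nc, hc⟩ := SemiLocalDim.exists_nat_eq_supportDim A M
  obtain ⟨ng, hg⟩ := exists_nat_eq_idealDepth (I := p.asIdeal) M hPM
  obtain ⟨nd, hd⟩ := exists_nat_depth (R := Localization.AtPrime p.asIdeal)
    (LocalizedModule p.asIdeal.primeCompl M)
  rcases supportDim_eq_bot_or_nat (R := A) (M ⧸ (p.asIdeal • (⊤ : Submodule A M))) with hb | ⟨nb, hb⟩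
  · rw [hb, WithBot.bot_add, hc] at h2
    exact absurd h2 (by simp)
  rw [ha, hb, hc] at h1
  rw [hb, hc, hg] at h2
  rw [hg, hd] at h3
  rw [hd, ha] at h4
  have e1 : na + nb ≤ nc := by exact_mod_cast h1
  have e2 : nc = nb + ng := by exact_mod_cast h2
  have e3 : ng ≤ nd := by exact_mod_cast h3
  have e4 : nd ≤ na := by exact_mod_cast h4
  refine ⟨?_, ?_, ?_⟩
  · unfold IsCohenMacaulayModule
    rw [ha, hd]
    have : na = nd := by omega
    exact_mod_cast this
  · rw [ha, hb, hc]
    have : nc = nb + na := by omega
    exact_mod_cast this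
  · rw [hd, hg]
    have : nd = ng := by omega
    exact_mod_cast this

end CMLoc

end Groth.Agent.Lib.helper9.Depth
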