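import Groth.Agent.Lib.helper9.Depth20

/-!
# `depth_{I+(x)} M ≤ depth_I M + 1`, depth bounded by number of generators, and
`depth_{(xs)} M = |xs| ↔ xs` regular
-/

universe u

open CategoryTheory RingTheory.Sequence Pointwise

namespace Groth.Agent.Lib.helper9.Depth

open LocCoh

section

variable {R : Type u} [CommRing R] [IsLocalRing R] [IsNoetherianRing R]
  (M : Type u) [AddCommGroup M] [Module R M] [Module.Finite R M] [Nontrivial M]

lemma smul_top_ne_top_of_le_maximalIdeal {I : Ideal R} (hI : I ≤ IsLocalRing.maximalIdeal R) :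
    I • (⊤ : Submodule R M) ≠ ⊤ := fun h =>
  maximalIdeal_smul_top_ne_top (R := R) M
    (top_le_iff.mp (h.ge.trans (Submodule.smul_mono_left hI)))

/-- `depth_{I + (x)} M ≤ depth_I M + 1`. -/
theorem idealDepth_sup_span_singleton_le (I : Ideal R) (hI : I ≤ IsLocalRing.maximalIdeal R)
    {x : R} (hx : x ∈ IsLocalRing.maximalIdeal R) :
    idealDepth (I ⊔ Ideal.span {x}) M ≤ idealDepth I M + 1 := by
  have hIM := smul_top_ne_top_of_le_maximalIdeal M hI
  obtain ⟨p, hIp, hp⟩ := exists_prime_depth_localization_eq I M hIM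
  have hJm : p.asIdeal ⊔ Ideal.span {x} ≤ IsLocalRing.maximalIdeal R :=
    sup_le (IsLocalRing.le_maximalIdeal p.isPrime.ne_top)
      ((Ideal.span_singleton_le_iff_mem _).mpr hx)
  obtain ⟨q, hq, -⟩ := Ideal.exists_minimalPrimes_le hJm
  have hqprime : q.IsPrime := hq.1.1
  have hpq : p.asIdeal ≤ q := le_sup_left.trans hq.1.2
  have hht : (q.map (Ideal.Quotient.mk p.asIdeal)).height ≤ 1 :=
    Ideal.map_height_le_one_of_mem_minimalPrimes hq
  have h1 : idealDepth (I ⊔ Ideal.span {x}) M ≤
      depth (Localization.AtPrime q) (LocalizedModule q.primeCompl M) :=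
    idealDepth_le_depth_localization _ M q
      (sup_le (hIp.trans hpq) (le_sup_right.trans hq.1.2))
  have h2 := depth_localization_le_depth_add_height q p.asIdeal hpq M
  rw [hp] at h2
  exact h1.trans (h2.trans (by gcongr))

omit [IsLocalRing R] [IsNoetherianRing R] [Module.Finite R M] in
lemma idealDepth_bot : idealDepth (⊥ : Ideal R) M = 0 := by
  have hIM : (⊥ : Ideal R) • (⊤ : Submodule R M) ≠ ⊤ := by
    rw [Submodule.bot_smul]
    exact bot_ne_top
  by_contra hne
  have h1 : ((1 : ℕ) : ℕ∞) ≤ idealDepth (⊥ : Ideal R) M := by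
    have := Order.one_le_iff_ne_zero.mpr hne
    exact_mod_cast this
  obtain ⟨rs, hlen, hreg, hmem⟩ := (le_idealDepth_iff hIM 1).mp h1
  match rs, hlen with
  | [r], _ =>
    have hr : r = 0 := by simpa using hmem r (by simp)
    rw [isWeaklyRegular_singleton_iff, hr] at hreg
    obtain ⟨m, hm⟩ := exists_ne (0 : M)
    exact hm (hreg (by simp))

/-- `depth_{(xs)} M ≤ |xs|`. -/
theorem idealDepth_ofList_le : ∀ (xs : List R), (∀ x ∈ xs, x ∈ IsLocalRing.maximalIdeal R) →
    idealDepth (Ideal.ofList xs) M ≤ xs.length := by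
  intro xs
  induction xs with
  | nil =>
    intro _
    rw [Ideal.ofList_nil, idealDepth_bot]
    exact zero_le
  | cons x xs ih =>
    intro hmem
    have hxs : ∀ y ∈ xs, y ∈ IsLocalRing.maximalIdeal R := fun y hy =>
      hmem y (List.mem_cons_of_mem _ hy)
    have hx : x ∈ IsLocalRing.maximalIdeal R := hmem x List.mem_cons_self
    rw [Ideal.ofList_cons, sup_comm]
    refine (idealDepth_sup_span_singleton_le M _ (Ideal.span_le.mpr hxs) hx).trans ?_
    rw [List.length_cons]
    push_cast
    gcongr
    exact ih hxs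

/-- `depth_{(xs)} M = |xs|` iff `xs` is an `M`-regular sequence (`xs` in the maximal ideal). -/
theorem idealDepth_ofList_eq_length_iff : ∀ (xs : List R) (M : Type u) [AddCommGroup M]
    [Module R M] [Module.Finite R M] [Nontrivial M],
    (∀ x ∈ xs, x ∈ IsLocalRing.maximalIdeal R) →
    (idealDepth (Ideal.ofList xs) M = xs.length ↔ IsWeaklyRegular M xs) := by
  intro xs
  induction xs using List.reverseRecOn with
  | nil =>
    intro M _ _ _ _ _
    rw [Ideal.ofList_nil, idealDepth_bot]
    simp
  | append_singleton ys x ih =>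
    intro M _ _ _ _ hmem
    have hys : ∀ y ∈ ys, y ∈ IsLocalRing.maximalIdeal R := fun y hy =>
      hmem y (List.mem_append_left _ hy)
    have hx : x ∈ IsLocalRing.maximalIdeal R := hmem x (by simp)
    constructor
    · intro hd
      have hofl : Ideal.ofList (ys ++ [x]) = Ideal.ofList ys ⊔ Ideal.span {x} := by
        rw [Ideal.ofList_append, Ideal.ofList_singleton]
      have hIm : Ideal.ofList (ys ++ [x]) ≤ IsLocalRing.maximalIdeal R := Ideal.span_le.mpr hmem
      have hIM := smul_top_ne_top_of_le_maximalIdeal M hIm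
      have h1 := idealDepth_sup_span_singleton_le M (Ideal.ofList ys) (Ideal.span_le.mpr hys) hx
      rw [← hofl, hd] at h1
      have h2 := idealDepth_ofList_le M ys hys
      have h3 : idealDepth (Ideal.ofList ys) M = ys.length := by
        apply le_antisymm h2
        rw [List.length_append, List.length_singleton] at h1
        push_cast at h1
        exact ENat.le_of_add_one_le_add_one (by exact_mod_cast h1)
      have hysreg : IsWeaklyRegular M ys := (ih M hys).mp h3
      rw [isWeaklyRegular_append_iff]
      refine ⟨hysreg, ?_⟩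
      rw [isWeaklyRegular_singleton_iff]
      have hnt := nontrivial_quot_ofList M ys hys
      have h4 := idealDepth_quot_ofList_add_length (I := Ideal.ofList (ys ++ [x])) ys M hIM hysreg
        (fun y hy => Ideal.subset_span (List.mem_append_left _ hy))
      rw [hd, List.length_append, List.length_singleton] at h4
      have h5 : ((1 : ℕ) : ℕ∞) ≤ idealDepth (Ideal.ofList (ys ++ [x]))
          (M ⧸ (Ideal.ofList ys • (⊤ : Submodule R M))) := by
        have hIM' := smul_top_ne_top_of_le_maximalIdeal
          (M ⧸ (Ideal.ofList ys • (⊤ : Submodule R M))) hIm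
        obtain ⟨k, hk⟩ := exists_nat_eq_idealDepth (I := Ideal.ofList (ys ++ [x]))
          (M ⧸ (Ideal.ofList ys • (⊤ : Submodule R M))) hIM'
        rw [hk] at h4 ⊢
        have : k + ys.length = ys.length + 1 := by exact_mod_cast h4
        have : 1 ≤ k := by omega
        exact_mod_cast this
      obtain ⟨rs, hlen, hreg, hrs⟩ := (le_idealDepth_iff (smul_top_ne_top_of_le_maximalIdeal
          (M ⧸ (Ideal.ofList ys • (⊤ : Submodule R M))) hIm) 1).mp h5
      match rs, hlen with
      | [z], _ =>
        rw [isWeaklyRegular_singleton_iff] at hreg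
        have hz : z ∈ Ideal.ofList ys ⊔ Ideal.span {x} := hofl ▸ hrs z (by simp)
        obtain ⟨z', hz', w, hw, rfl⟩ := Submodule.mem_sup.mp hz
        obtain ⟨c, rfl⟩ := Ideal.mem_span_singleton'.mp hw
        have hkill : ∀ u : M ⧸ (Ideal.ofList ys • (⊤ : Submodule R M)), z' • u = 0 := by
          intro u
          obtain ⟨m, rfl⟩ := Submodule.Quotient.mk_surjective _ u
          rw [← Submodule.Quotient.mk_smul, Submodule.Quotient.mk_eq_zero]
          exact Submodule.smul_mem_smul hz' trivial
        intro u v huv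
        apply hreg
        change (z' + c * x) • u = (z' + c * x) • v
        rw [add_smul, add_smul, hkill u, hkill v, mul_smul, mul_smul]
        exact congrArg (fun t => (0 : M ⧸ _) + c • t) huv
    · intro hreg
      apply le_antisymm (idealDepth_ofList_le M _ hmem)
      exact length_le_idealDepth hreg (fun y hy => Ideal.subset_span hy)

end

end Groth.Agent.Lib.helper9.Depth
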