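import Groth.Agent.Lib.helper9.Depth12

/-!
# `depth M ≤ depth_I M + dim A/I`, and the codepth of a localization
-/

universe u

open CategoryTheory RingTheory.Sequence Pointwise

namespace Groth.Agent.Lib.helper9.Depth

open LocCoh

section

variable {R : Type u} [CommRing R] [IsLocalRing R] [IsNoetherianRing R]

lemma nontrivial_quotSMulTop {M : Type u} [AddCommGroup M] [Module R M] [Module.Finite R M]
    [Nontrivial M] {x : R} (hx : x ∈ IsLocalRing.maximalIdeal R) : Nontrivial (QuotSMulTop x M) := by
  by_contra h
  rw [not_nontrivial_iff_subsingleton] at h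
  exact smul_top_quotSMulTop_ne_top hx (maximalIdeal_smul_top_ne_top (R := R) M)
    (Subsingleton.elim _ _)

theorem depth_le_idealDepth_add_dim_aux (I : Ideal R) (hI : I ≠ ⊤) : ∀ (n : ℕ) (M : Type u)
    [AddCommGroup M] [Module R M] [Module.Finite R M] [Nontrivial M],
    idealDepth I M = n →
    ((depth R M : ℕ∞) : WithBot ℕ∞) ≤ (n : WithBot ℕ∞) + ringKrullDim (R ⧸ I) := by
  have hIm : I ≤ IsLocalRing.maximalIdeal R := IsLocalRing.le_maximalIdeal hI
  intro n
  induction n with
  | zero =>
    intro M _ _ _ _ hn
    obtain ⟨p, hp, hIp⟩ := exists_associatedPrime_ge_of_no_regular I M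
      (no_regular_of_idealDepth_eq_zero (by exact_mod_cast hn))
    rw [Nat.cast_zero, zero_add]
    refine (depth_le_ringKrullDim_quotient_of_mem_associatedPrimes M p hp).trans ?_
    exact ringKrullDim_le_of_surjective (Ideal.Quotient.factor hIp)
      (Ideal.Quotient.factor_surjective hIp)
  | succ n ih =>
    intro M _ _ _ _ hn
    have hmM := maximalIdeal_smul_top_ne_top (R := R) M
    have hIM : I • (⊤ : Submodule R M) ≠ ⊤ := fun h =>
      hmM (top_le_iff.mp (h.ge.trans (Submodule.smul_mono_left hIm)))
    obtain ⟨rs, hlen, hreg, hmem⟩ := (le_idealDepth_iff hIM (n + 1)).mp hn.ge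
    match rs, hlen with
    | x :: rs', hlen =>
      rw [isWeaklyRegular_cons_iff] at hreg
      have hx : x ∈ I := hmem x List.mem_cons_self
      have := nontrivial_quotSMulTop (M := M) (hIm hx)
      have hd : idealDepth I (QuotSMulTop x M) = n := by
        have h1 := idealDepth_quotSMulTop_add_one hIM hx hreg.1
        rw [hn] at h1
        obtain ⟨k, hk⟩ := exists_nat_eq_idealDepth (I := I) (QuotSMulTop x M)
          (smul_top_quotSMulTop_ne_top hx hIM)
        rw [hk] at h1 ⊢
        have : k + 1 = n + 1 := by exact_mod_cast h1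
        have : k = n := by omega
        exact_mod_cast this
      have h2 := ih (QuotSMulTop x M) hd
      have h3 : depth R (QuotSMulTop x M) + 1 = depth R M :=
        idealDepth_quotSMulTop_add_one hmM (hIm hx) hreg.1
      rw [← h3]
      push_cast
      calc ((depth R (QuotSMulTop x M) : ℕ∞) : WithBot ℕ∞) + 1
          ≤ ((n : WithBot ℕ∞) + ringKrullDim (R ⧸ I)) + 1 := add_le_add_left h2 1
        _ = (n : WithBot ℕ∞) + 1 + ringKrullDim (R ⧸ I) := by
            rw [add_assoc, add_comm (ringKrullDim (R ⧸ I)) 1, ← add_assoc]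

/-- `depth M ≤ depth_I M + dim R/I`. -/
theorem depth_le_idealDepth_add_dim (I : Ideal R) (hI : I ≠ ⊤) (M : Type u)
    [AddCommGroup M] [Module R M] [Module.Finite R M] [Nontrivial M] :
    ((depth R M : ℕ∞) : WithBot ℕ∞) ≤
      ((idealDepth I M : ℕ∞) : WithBot ℕ∞) + ringKrullDim (R ⧸ I) := by
  have hIm : I ≤ IsLocalRing.maximalIdeal R := IsLocalRing.le_maximalIdeal hI
  have hIM : I • (⊤ : Submodule R M) ≠ ⊤ := fun h =>
    maximalIdeal_smul_top_ne_top (R := R) M
      (top_le_iff.mp (h.ge.trans (Submodule.smul_mono_left hIm)))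
  obtain ⟨n, hn⟩ := exists_nat_eq_idealDepth (I := I) M hIM
  rw [hn]
  exact depth_le_idealDepth_add_dim_aux I hI n M hn

/-- `depth M ≤ depth M_p + dim R/p`. -/
theorem depth_le_depth_localization_add_dim (p : Ideal R) [p.IsPrime] (M : Type u)
    [AddCommGroup M] [Module R M] [Module.Finite R M] [Nontrivial M] :
    ((depth R M : ℕ∞) : WithBot ℕ∞) ≤
      ((depth (Localization.AtPrime p) (LocalizedModule p.primeCompl M) : ℕ∞) : WithBot ℕ∞) +
        ringKrullDim (R ⧸ p) := by
  refine (depth_le_idealDepth_add_dim p (Ideal.IsPrime.ne_top inferInstance) M).trans ?_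
  have h := idealDepth_le_depth_localization p M p le_rfl
  have h' : ((idealDepth p M : ℕ∞) : WithBot ℕ∞) ≤
      ((depth (Localization.AtPrime p) (LocalizedModule p.primeCompl M) : ℕ∞) : WithBot ℕ∞) := by
    exact_mod_cast h
  exact add_le_add_left h' _

/-- codepth of a localization is at most the codepth. -/
theorem codepth_localization_le (p : Ideal R) [p.IsPrime] (M : Type u)
    [AddCommGroup M] [Module R M] [Module.Finite R M]
    [Nontrivial (LocalizedModule p.primeCompl M)] :
    Module.supportDim (Localization.AtPrime p) (LocalizedModule p.primeCompl M) +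
        ((depth R M : ℕ∞) : WithBot ℕ∞) ≤
      Module.supportDim R M +
        ((depth (Localization.AtPrime p) (LocalizedModule p.primeCompl M) : ℕ∞) : WithBot ℕ∞) := by
  have hp : (⟨p, inferInstance⟩ : PrimeSpectrum R) ∈ Module.support R M :=
    Module.mem_support_iff.mpr inferInstance
  have : Nontrivial M := by
    by_contra h
    rw [not_nontrivial_iff_subsingleton] at h
    rw [Module.support_eq_empty] at hp
    exact hp
  have h1 := depth_le_depth_localization_add_dim p M
  have h2 := Groth.Agent.S5765.result R M p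
  have hmem : (⟨p, inferInstance⟩ : PrimeSpectrum R) ∈
      Module.support R (M ⧸ (p • (⊤ : Submodule R M))) := by
    rw [Module.support_quotient]
    exact ⟨hp, (PrimeSpectrum.mem_zeroLocus _ _).mpr le_rfl⟩
  have h3 : ringKrullDim (R ⧸ p) ≤ Module.supportDim R (M ⧸ (p • (⊤ : Submodule R M))) :=
    ringKrullDim_quotient_le_supportDim (p := ⟨p, inferInstance⟩) hmem
  calc Module.supportDim (Localization.AtPrime p) (LocalizedModule p.primeCompl M) +
        ((depth R M : ℕ∞) : WithBot ℕ∞)
      ≤ Module.supportDim (Localization.AtPrime p) (LocalizedModule p.primeCompl M) +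
        (((depth (Localization.AtPrime p) (LocalizedModule p.primeCompl M) : ℕ∞) : WithBot ℕ∞) +
          ringKrullDim (R ⧸ p)) := add_le_add_right h1 _
    _ = (Module.supportDim (Localization.AtPrime p) (LocalizedModule p.primeCompl M) +
          ringKrullDim (R ⧸ p)) +
        ((depth (Localization.AtPrime p) (LocalizedModule p.primeCompl M) : ℕ∞) : WithBot ℕ∞) := by
          rw [add_assoc, add_comm (ringKrullDim (R ⧸ p))]
    _ ≤ (Module.supportDim (Localization.AtPrime p) (LocalizedModule p.primeCompl M) +
          Module.supportDim R (M ⧸ (p • (⊤ : Submodule R M)))) +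
        ((depth (Localization.AtPrime p) (LocalizedModule p.primeCompl M) : ℕ∞) : WithBot ℕ∞) :=
          add_le_add_left (add_le_add_right h3 _) _
    _ ≤ _ := add_le_add_left h2 _

end

end Groth.Agent.Lib.helper9.Depth
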