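import Groth.Agent.Lib.helper9.FlatDepth3
import Groth.Agent.Lib.helper9.LocalAlg
import Groth.Agent.Lib.helper9.Depth13
import Groth.Agent.Lib.helper21.Mat225
import Groth.Agent.Lib.helper10.Pure

/-!
# The depth formula for flat local homomorphisms

`depth_S (N ⊗_R M) = depth_R M + depth_S (N ⊗_R k)` for a local homomorphism `R → S` of Noetherian
local rings, `M` a finite `R`-module and `N` a finite `S`-module flat over `R`.
-/

universe u

open RingTheory.Sequence Pointwise TensorProduct

namespace Groth.Agent.Lib.helper9.FlatDepth4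

open LocCoh Groth.Agent.Lib.helper9.Depth

section General

variable {S : Type u} [CommRing S]

/-- the quotient by `s` is the target of any surjection with kernel `s • ⊤`. -/
noncomputable def quotSMulTopEquivOfSurjective {P P' : Type u} [AddCommGroup P] [Module S P]
    [AddCommGroup P'] [Module S P'] (s : S) (π : P →ₗ[S] P') (hπ : Function.Surjective π)
    (hker : LinearMap.ker π = s • (⊤ : Submodule S P)) : QuotSMulTop s P ≃ₗ[S] P' :=
  (Submodule.quotEquivOfEq _ _ hker.symm).trans (π.quotKerEquivOfSurjective hπ)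

variable [IsLocalRing S] [IsNoetherianRing S]

/-- depth drops by one along a surjection with kernel `s • ⊤`, `s` regular in the maximal ideal. -/
theorem depth_eq_add_one_of_surjective {P P' : Type u} [AddCommGroup P] [Module S P]
    [Module.Finite S P] [Nontrivial P]
    [AddCommGroup P'] [Module S P'] {s : S} (hs : s ∈ IsLocalRing.maximalIdeal S)
    (hreg : IsSMulRegular P s) (π : P →ₗ[S] P') (hπ : Function.Surjective π)
    (hker : LinearMap.ker π = s • (⊤ : Submodule S P)) :
    depth S P = depth S P' + 1 := by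
  have h := idealDepth_quotSMulTop_add_one (I := IsLocalRing.maximalIdeal S) (M := P)
    (maximalIdeal_smul_top_ne_top P) hs hreg
  unfold depth
  rw [← h, idealDepth_congr _ (quotSMulTopEquivOfSurjective s π hπ hker)]

end General

section Flat

variable {R S : Type u} [CommRing R] [CommRing S] [Algebra R S]
variable (N : Type u) [AddCommGroup N] [Module S N] [Module R N] [IsScalarTower R S N]
variable (M : Type u) [AddCommGroup M] [Module R M]

omit [Module S N] [IsScalarTower R S N] in
lemma lTensor_lsmul_apply (x : R) (w : N ⊗[R] M) :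
    LinearMap.lTensor N (LinearMap.lsmul R M x) w = x • w := by
  induction w using TensorProduct.induction_on with
  | zero => simp
  | add a b ha hb => rw [map_add, ha, hb, smul_add]
  | tmul n m =>
    rw [LinearMap.lTensor_tmul, LinearMap.lsmul_apply, TensorProduct.tmul_smul]

lemma rTensor_lsmul_apply (y : S) (w : N ⊗[R] M) :
    LinearMap.rTensor M ((LinearMap.lsmul S N y).restrictScalars R) w = y • w := by
  induction w using TensorProduct.induction_on with
  | zero => simp
  | add a b ha hb => rw [map_add, ha, hb, smul_add]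
  | tmul n m =>
    rw [LinearMap.rTensor_tmul, LinearMap.coe_restrictScalars, LinearMap.lsmul_apply,
      TensorProduct.smul_tmul']

/-- the `S`-linear projection `N ⊗ M → N ⊗ M/xM`. -/
noncomputable def piX (x : R) : N ⊗[R] M →ₗ[S] N ⊗[R] QuotSMulTop x M :=
  AlgebraTensorModule.lTensor S N (Submodule.mkQ (x • (⊤ : Submodule R M)))

lemma piX_surjective (x : R) : Function.Surjective (piX (S := S) N M x) := by
  have h : Function.Surjective (LinearMap.lTensor N
      (Submodule.mkQ (x • (⊤ : Submodule R M)))) :=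
    LinearMap.lTensor_surjective N (Submodule.mkQ_surjective _)
  exact h

lemma ker_piX (x : R) : LinearMap.ker (piX (S := S) N M x) =
    algebraMap R S x • (⊤ : Submodule S (N ⊗[R] M)) := by
  ext z
  have hex : Function.Exact (LinearMap.lsmul R M x)
      (Submodule.mkQ (x • (⊤ : Submodule R M))) := by
    intro m
    rw [Submodule.mkQ_apply, Submodule.Quotient.mk_eq_zero,
      Submodule.mem_smul_pointwise_iff_exists]
    constructor
    · rintro ⟨w, -, rfl⟩; exact ⟨w, rfl⟩
    · rintro ⟨w, rfl⟩; exact ⟨w, trivial, rfl⟩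
  have h := lTensor_exact N hex (Submodule.mkQ_surjective _)
  rw [LinearMap.mem_ker]
  change (LinearMap.lTensor N (Submodule.mkQ (x • (⊤ : Submodule R M)))) z = 0 ↔ _
  rw [h z, Submodule.mem_smul_pointwise_iff_exists]
  constructor
  · rintro ⟨w, rfl⟩
    refine ⟨w, trivial, ?_⟩
    rw [algebraMap_smul, lTensor_lsmul_apply]
  · rintro ⟨w, -, rfl⟩
    refine ⟨w, ?_⟩
    rw [algebraMap_smul, lTensor_lsmul_apply]

/-- the `S`-linear projection `N ⊗ M → N/yN ⊗ M`. -/
noncomputable def piY (y : S) : N ⊗[R] M →ₗ[S] QuotSMulTop y N ⊗[R] M :=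
  AlgebraTensorModule.rTensor R M (Submodule.mkQ (y • (⊤ : Submodule S N)))

lemma piY_surjective (y : S) : Function.Surjective (piY (R := R) N M y) := by
  have h : Function.Surjective (LinearMap.rTensor M
      ((Submodule.mkQ (y • (⊤ : Submodule S N))).restrictScalars R)) :=
    LinearMap.rTensor_surjective M (Submodule.mkQ_surjective _)
  exact h

lemma exact_lsmul_mkQ (y : S) : Function.Exact ((LinearMap.lsmul S N y).restrictScalars R)
    ((Submodule.mkQ (y • (⊤ : Submodule S N))).restrictScalars R) := by
  intro m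
  rw [LinearMap.coe_restrictScalars, Submodule.mkQ_apply, Submodule.Quotient.mk_eq_zero,
    Submodule.mem_smul_pointwise_iff_exists]
  constructor
  · rintro ⟨w, -, rfl⟩; exact ⟨w, rfl⟩
  · rintro ⟨w, rfl⟩; exact ⟨w, trivial, rfl⟩

lemma ker_piY (y : S) : LinearMap.ker (piY (R := R) N M y) =
    y • (⊤ : Submodule S (N ⊗[R] M)) := by
  ext z
  have h := rTensor_exact M (exact_lsmul_mkQ (R := R) N y)
    (Submodule.mkQ_surjective (y • (⊤ : Submodule S N)))
  rw [LinearMap.mem_ker]
  change (LinearMap.rTensor M
    ((Submodule.mkQ (y • (⊤ : Submodule S N))).restrictScalars R)) z = 0 ↔ _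
  rw [h z, Submodule.mem_smul_pointwise_iff_exists]
  constructor
  · rintro ⟨w, rfl⟩
    exact ⟨w, trivial, (rTensor_lsmul_apply N M y w).symm⟩
  · rintro ⟨w, -, rfl⟩
    exact ⟨w, rTensor_lsmul_apply N M y w⟩

variable {M} in
lemma isSMulRegular_tensor_of_flat [Module.Flat R N] {x : R} (hx : IsSMulRegular M x) :
    IsSMulRegular (N ⊗[R] M) (algebraMap R S x) := by
  have h1 : Function.Injective (LinearMap.lTensor N (LinearMap.lsmul R M x)) :=
    Module.Flat.lTensor_preserves_injective_linearMap _ hx
  intro a b hab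
  apply h1
  simp only [lTensor_lsmul_apply]
  simpa only [algebraMap_smul] using hab

end Flat

section Local

variable {R S : Type u} [CommRing R] [CommRing S] [IsLocalRing R] [IsLocalRing S]
  [IsNoetherianRing S] [Algebra R S] [IsLocalHom (algebraMap R S)]
variable (N : Type u) [AddCommGroup N] [Module S N] [Module R N] [IsScalarTower R S N]
  [Module.Finite S N] [Module.Flat R N]

/-- local criterion of flatness: if `y` is regular on the closed fibre `N ⊗ k` then `y` is regular
on `N` and `N/yN` is flat over `R`. -/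
theorem flat_quotSMulTop_of_regular_fibre {y : S}
    (hy : IsSMulRegular (N ⊗[R] (R ⧸ IsLocalRing.maximalIdeal R)) y) :
    Function.Injective ((LinearMap.lsmul S N y).restrictScalars R) ∧
      Module.Flat R (QuotSMulTop y N) := by
  set u : N →ₗ[R] N := (LinearMap.lsmul S N y).restrictScalars R with hu
  have h : Function.Injective (u.lTensor (R ⧸ IsLocalRing.maximalIdeal R)) := by
    rw [LinearMap.lTensor_inj_iff_rTensor_inj]
    intro a b hab
    rw [hu, rTensor_lsmul_apply, rTensor_lsmul_apply] at hab
    exact hy hab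
  refine ⟨Groth.Agent.H21.mat225_injective (S := S) u h, ?_⟩
  have hflat := Groth.Agent.H21.mat225_flat (S := S) u h
  have hrange : LinearMap.range u = (y • (⊤ : Submodule S N)).restrictScalars R := by
    ext n
    rw [LinearMap.mem_range, Submodule.restrictScalars_mem, Submodule.mem_smul_pointwise_iff_exists]
    constructor
    · rintro ⟨w, rfl⟩; exact ⟨w, trivial, rfl⟩
    · rintro ⟨w, -, rfl⟩; exact ⟨w, rfl⟩
  exact Module.Flat.of_linearEquiv ((Submodule.quotEquivOfEq _ _ hrange).trans
    (Submodule.Quotient.restrictScalarsEquiv R _)).symm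

/-- if `y` is regular on the closed fibre `N ⊗ k` then it is regular on every `N ⊗ M`. -/
theorem isSMulRegular_tensor_of_regular_fibre (M : Type u) [AddCommGroup M] [Module R M] {y : S}
    (hy : IsSMulRegular (N ⊗[R] (R ⧸ IsLocalRing.maximalIdeal R)) y) :
    IsSMulRegular (N ⊗[R] M) y := by
  obtain ⟨hinj, hflat⟩ := flat_quotSMulTop_of_regular_fibre N hy
  have h := Groth.Agent.Lib.helper10.rTensor_injective_of_flat_quotient
    ((LinearMap.lsmul S N y).restrictScalars R)
    ((Submodule.mkQ (y • (⊤ : Submodule S N))).restrictScalars R) hinj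
    (exact_lsmul_mkQ (R := R) N y) (Submodule.mkQ_surjective (y • (⊤ : Submodule S N))) M
  intro a b hab
  apply h
  rw [rTensor_lsmul_apply, rTensor_lsmul_apply]
  exact hab

end Local

section Aux

variable {A : Type u} [CommRing A] [IsLocalRing A] [IsNoetherianRing A]

/-- a module of depth `n + 1` has a regular element in the maximal ideal, and the quotient has
depth `n`. -/
lemma exists_regular_of_depth_eq_succ (M : Type u) [AddCommGroup M] [Module A M]
    [Module.Finite A M] [Nontrivial M] {n : ℕ} (h : depth A M = ((n + 1 : ℕ) : ℕ∞)) :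
    ∃ x ∈ IsLocalRing.maximalIdeal A, IsSMulRegular M x ∧ depth A (QuotSMulTop x M) = n := by
  have hIM := maximalIdeal_smul_top_ne_top (R := A) M
  have h1 : ((1 : ℕ) : ℕ∞) ≤ idealDepth (IsLocalRing.maximalIdeal A) M := by
    change _ ≤ depth A M
    rw [h]
    exact_mod_cast Nat.le_add_left 1 n
  obtain ⟨rs, hlen, hreg, hmem⟩ := (le_idealDepth_iff hIM 1).mp h1
  match rs, hlen with
  | [x], _ =>
    have hx : x ∈ IsLocalRing.maximalIdeal A := hmem x List.mem_cons_self
    have hxreg : IsSMulRegular M x := (isWeaklyRegular_singleton_iff M x).mp hreg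
    refine ⟨x, hx, hxreg, ?_⟩
    have h2 := idealDepth_quotSMulTop_add_one hIM hx hxreg
    change depth A (QuotSMulTop x M) + 1 = depth A M at h2
    rw [h] at h2
    push_cast at h2
    exact ENat.add_left_injective_of_ne_top (by simp : (1 : ℕ∞) ≠ ⊤) h2

end Aux

section Main

variable {R S : Type u} [CommRing R] [CommRing S] [IsLocalRing R] [IsLocalRing S]
  [IsNoetherianRing R] [IsNoetherianRing S] [Algebra R S] [IsLocalHom (algebraMap R S)]

/-- a nonzero finite `S`-module which is flat over `R` is faithfully flat over `R`. -/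
lemma faithfullyFlat_of_flat (N : Type u) [AddCommGroup N] [Module S N] [Module R N]
    [IsScalarTower R S N] [Module.Finite S N] [Nontrivial N] [Module.Flat R N] :
    Module.FaithfullyFlat R N := by
  refine ⟨?_⟩
  intro m' hm' htop
  have hmm : m' = IsLocalRing.maximalIdeal R := IsLocalRing.eq_maximalIdeal hm'
  rw [hmm] at htop
  have h1 : (IsLocalRing.maximalIdeal S) • (⊤ : Submodule S N) = ⊤ := by
    rw [eq_top_iff]
    intro n _
    have hn : n ∈ (IsLocalRing.maximalIdeal R) • (⊤ : Submodule R N) := by rw [htop]; trivial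
    have := Groth.Agent.H21.mem_map_smul_of_mem_smul (S := S) (IsLocalRing.maximalIdeal R) hn
    exact Submodule.smul_mono (IsLocalRing.map_maximalIdeal_le (algebraMap R S)) le_rfl this
  exact maximalIdeal_smul_top_ne_top (R := S) N h1

lemma nontrivial_tensor (N : Type u) [AddCommGroup N] [Module S N] [Module R N]
    [IsScalarTower R S N] [Module.Finite S N] [Nontrivial N] [Module.Flat R N]
    (M : Type u) [AddCommGroup M] [Module R M] [Nontrivial M] :
    Nontrivial (N ⊗[R] M) := by
  haveI := faithfullyFlat_of_flat (R := R) (S := S) N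
  infer_instance

/-- `N ⊗ M` is a finite `S`-module. -/
lemma finite_tensor (N : Type u) [AddCommGroup N] [Module S N] [Module R N]
    [IsScalarTower R S N] [Module.Finite S N]
    (M : Type u) [AddCommGroup M] [Module R M] [Module.Finite R M] :
    Module.Finite S (N ⊗[R] M) :=
  Module.Finite.equiv (AlgebraTensorModule.cancelBaseChange R S S N M)


/-- depth zero: if `depth M = 0` and `depth (N ⊗ k) = 0` then `depth (N ⊗ M) = 0`. -/
theorem depth_tensor_eq_zero (N : Type u) [AddCommGroup N] [Module S N] [Module R N]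
    [IsScalarTower R S N] [Module.Finite S N] [Module.Flat R N]
    (M : Type u) [AddCommGroup M] [Module R M] [Module.Finite R M]
    (hM : depth R M = 0)
    (hN : depth S (N ⊗[R] (R ⧸ IsLocalRing.maximalIdeal R)) = 0) :
    depth S (N ⊗[R] M) = 0 := by
  haveI := finite_tensor (R := R) (S := S) N M
  haveI := finite_tensor (R := R) (S := S) N (R ⧸ IsLocalRing.maximalIdeal R)
  obtain ⟨v, hv0, hv⟩ := LocalAlg.exists_ne_zero_killed_of_mem_ass R M
    ((LocalAlg.depth_eq_zero_iff R M).mp hM)
  obtain ⟨w, hw0, hw⟩ := LocalAlg.exists_ne_zero_killed_of_mem_ass S _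
    ((LocalAlg.depth_eq_zero_iff S (N ⊗[R] (R ⧸ IsLocalRing.maximalIdeal R))).mp hN)
  let ι : (R ⧸ IsLocalRing.maximalIdeal R) →ₗ[R] M :=
    Submodule.liftQ _ (LinearMap.toSpanSingleton R M v) (by
      intro a ha
      rw [LinearMap.mem_ker, LinearMap.toSpanSingleton_apply]
      exact hv a ha)
  have hι : Function.Injective ι := by
    rw [← LinearMap.ker_eq_bot, eq_bot_iff]
    intro a ha
    obtain ⟨a, rfl⟩ := Submodule.Quotient.mk_surjective _ a
    rw [LinearMap.mem_ker] at ha
    have ha' : a • v = 0 := ha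
    rw [Submodule.mem_bot, Submodule.Quotient.mk_eq_zero]
    by_contra hnot
    have hu : IsUnit a := by
      by_contra hnu
      exact hnot ((IsLocalRing.mem_maximalIdeal a).mpr hnu)
    apply hv0
    have := congrArg (fun z => (hu.unit⁻¹ : Rˣ) • z) ha'
    simpa [Units.smul_def, smul_smul] using this
  have hinj : Function.Injective (LinearMap.lTensor N ι) :=
    Module.Flat.lTensor_preserves_injective_linearMap _ hι
  unfold depth
  refine FlatDepth.idealDepth_eq_zero_of_killed (IsLocalRing.maximalIdeal S) (N ⊗[R] M)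
    (AlgebraTensorModule.lTensor S N ι w) ?_ ?_
  · intro h0
    apply hw0
    apply hinj
    rw [map_zero]
    exact h0
  · intro j hj
    rw [← map_smul, hw j hj, map_zero]

/-- the depth formula, inductive form. -/
theorem depth_tensor_aux : ∀ (r s : ℕ) (M : Type u) [AddCommGroup M] [Module R M]
    [Module.Finite R M] [Nontrivial M] (N : Type u) [AddCommGroup N] [Module S N] [Module R N]
    [IsScalarTower R S N] [Module.Finite S N] [Module.Flat R N] [Nontrivial N],
    depth R M = r → depth S (N ⊗[R] (R ⧸ IsLocalRing.maximalIdeal R)) = s →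
    depth S (N ⊗[R] M) = ((r + s : ℕ) : ℕ∞) := by
  intro r
  induction r with
  | zero =>
    intro s
    induction s with
    | zero =>
      intro M _ _ _ _ N _ _ _ _ _ _ _ hM hN
      rw [depth_tensor_eq_zero N M (by simpa using hM) (by simpa using hN)]
      simp
    | succ s ih =>
      intro M _ _ _ _ N _ _ _ _ _ _ _ hM hN
      haveI := finite_tensor (R := R) (S := S) N M
      haveI := finite_tensor (R := R) (S := S) N (R ⧸ IsLocalRing.maximalIdeal R)
      haveI := nontrivial_tensor (R := R) (S := S) N M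
      haveI := nontrivial_tensor (R := R) (S := S) N (R ⧸ IsLocalRing.maximalIdeal R)
      obtain ⟨y, hy, hyreg, -⟩ := exists_regular_of_depth_eq_succ
        (N ⊗[R] (R ⧸ IsLocalRing.maximalIdeal R)) hN
      obtain ⟨-, hflat⟩ := flat_quotSMulTop_of_regular_fibre N hyreg
      haveI := hflat
      haveI : Nontrivial (QuotSMulTop y N) := nontrivial_quotSMulTop hy
      have hk := depth_eq_add_one_of_surjective hy hyreg
        (piY (R := R) N (R ⧸ IsLocalRing.maximalIdeal R) y) (piY_surjective N _ y)
        (ker_piY N _ y)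
      rw [hN] at hk
      have hk' : depth S (QuotSMulTop y N ⊗[R] (R ⧸ IsLocalRing.maximalIdeal R)) = s := by
        push_cast at hk
        exact (ENat.add_left_injective_of_ne_top (by simp : (1 : ℕ∞) ≠ ⊤) hk).symm
      have h1 := ih M (QuotSMulTop y N) hM hk'
      have h2 := depth_eq_add_one_of_surjective hy
        (isSMulRegular_tensor_of_regular_fibre N M hyreg)
        (piY (R := R) N M y) (piY_surjective N M y) (ker_piY N M y)
      rw [h2, h1]
      push_cast
      ring
  | succ r ih =>
    intro s M _ _ _ _ N _ _ _ _ _ _ _ hM hN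
    haveI := finite_tensor (R := R) (S := S) N M
    haveI := nontrivial_tensor (R := R) (S := S) N M
    obtain ⟨x, hx, hxreg, hxd⟩ := exists_regular_of_depth_eq_succ M hM
    haveI : Nontrivial (QuotSMulTop x M) := nontrivial_quotSMulTop hx
    have h1 := ih s (QuotSMulTop x M) N hxd hN
    have hxS : algebraMap R S x ∈ IsLocalRing.maximalIdeal S :=
      IsLocalRing.map_maximalIdeal_le (algebraMap R S) (Ideal.mem_map_of_mem _ hx)
    have h2 := depth_eq_add_one_of_surjective hxS
      (isSMulRegular_tensor_of_flat (S := S) N hxreg)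
      (piX (S := S) N M x) (piX_surjective N M x) (ker_piX N M x)
    rw [h2, h1]
    push_cast
    ring


/-- the depth formula `depth_S (N ⊗ M) = depth_R M + depth_S (N ⊗ k)`. -/
theorem depth_tensor (N : Type u) [AddCommGroup N] [Module S N] [Module R N]
    [IsScalarTower R S N] [Module.Finite S N] [Module.Flat R N]
    (M : Type u) [AddCommGroup M] [Module R M] [Module.Finite R M] :
    depth S (N ⊗[R] M) =
      depth R M + depth S (N ⊗[R] (R ⧸ IsLocalRing.maximalIdeal R)) := by
  rcases subsingleton_or_nontrivial M with hM | hM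
  · have h1 : depth R M = ⊤ := idealDepth_eq_top _ _ (Subsingleton.elim _ _)
    have h2 : depth S (N ⊗[R] M) = ⊤ := idealDepth_eq_top _ _ (Subsingleton.elim _ _)
    rw [h1, h2, top_add]
  rcases subsingleton_or_nontrivial N with hN | hN
  · have h1 : depth S (N ⊗[R] (R ⧸ IsLocalRing.maximalIdeal R)) = ⊤ :=
      idealDepth_eq_top _ _ (Subsingleton.elim _ _)
    have h2 : depth S (N ⊗[R] M) = ⊤ := idealDepth_eq_top _ _ (Subsingleton.elim _ _)
    rw [h1, h2, add_top]
  haveI := finite_tensor (R := R) (S := S) N (R ⧸ IsLocalRing.maximalIdeal R)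
  haveI := nontrivial_tensor (R := R) (S := S) N (R ⧸ IsLocalRing.maximalIdeal R)
  obtain ⟨r, hr⟩ := exists_nat_depth (R := R) M
  obtain ⟨s, hs⟩ := exists_nat_depth (R := S) (N ⊗[R] (R ⧸ IsLocalRing.maximalIdeal R))
  rw [depth_tensor_aux r s M N hr hs, hr, hs]
  push_cast
  rfl

/-- the closed fibre `N ⊗ k` is `N / mN`. -/
theorem depth_fibre_eq (N : Type u) [AddCommGroup N] [Module S N] [Module R N]
    [IsScalarTower R S N] :
    depth S (N ⊗[R] (R ⧸ IsLocalRing.maximalIdeal R)) =
      depth S (N ⧸ (IsLocalRing.maximalIdeal R).map (algebraMap R S) • (⊤ : Submodule S N)) := by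
  let f : N →ₗ[S] N ⊗[R] (R ⧸ IsLocalRing.maximalIdeal R) :=
    { toFun := fun n => n ⊗ₜ[R] (1 : R ⧸ IsLocalRing.maximalIdeal R)
      map_add' := fun a b => TensorProduct.add_tmul a b 1
      map_smul' := fun s n => (TensorProduct.smul_tmul' s n 1) }
  have hf : Function.Surjective f := by
    intro z
    induction z using TensorProduct.induction_on with
    | zero => exact ⟨0, map_zero f⟩
    | add a b ha hb =>
      obtain ⟨a', rfl⟩ := ha
      obtain ⟨b', rfl⟩ := hb
      exact ⟨a' + b', map_add f a' b'⟩
    | tmul n c =>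
      obtain ⟨c, rfl⟩ := Ideal.Quotient.mk_surjective c
      refine ⟨c • n, ?_⟩
      change (c • n) ⊗ₜ[R] (1 : R ⧸ IsLocalRing.maximalIdeal R) = _
      rw [TensorProduct.smul_tmul, Algebra.smul_def, mul_one]
      rfl
  have hker : LinearMap.ker f =
      (IsLocalRing.maximalIdeal R).map (algebraMap R S) • (⊤ : Submodule S N) := by
    ext n
    rw [LinearMap.mem_ker]
    constructor
    · intro h0
      have h1 : n ⊗ₜ[R] (1 : R ⧸ IsLocalRing.maximalIdeal R) = 0 := h0
      have h2 := congrArg (TensorProduct.tensorQuotEquivQuotSMul N (IsLocalRing.maximalIdeal R)) h1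
      rw [map_zero] at h2
      change (TensorProduct.tensorQuotEquivQuotSMul N (IsLocalRing.maximalIdeal R))
        (n ⊗ₜ[R] (Ideal.Quotient.mk _ 1)) = 0 at h2
      rw [TensorProduct.tensorQuotEquivQuotSMul_tmul_mk, one_smul,
        Submodule.Quotient.mk_eq_zero] at h2
      exact Groth.Agent.H21.mem_map_smul_of_mem_smul (S := S) _ h2
    · intro hn
      have hn' := Groth.Agent.H21.mem_smul_of_mem_map_smul (S := S) _ hn
      change n ⊗ₜ[R] (1 : R ⧸ IsLocalRing.maximalIdeal R) = 0
      refine Submodule.smul_induction_on hn' ?_ ?_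
      · intro a ha n' _
        rw [TensorProduct.smul_tmul, Algebra.smul_def, mul_one, Ideal.Quotient.algebraMap_eq,
          Ideal.Quotient.eq_zero_iff_mem.mpr ha, TensorProduct.tmul_zero]
      · intro a b ha hb
        rw [TensorProduct.add_tmul, ha, hb, add_zero]
  unfold depth
  exact (idealDepth_congr _ ((Submodule.quotEquivOfEq _ _ hker.symm).trans
    (f.quotKerEquivOfSurjective hf))).symm

end Main

section Fibre

variable {R S : Type u} [CommRing R] [CommRing S] [IsLocalRing R] [IsLocalRing S]
  [IsNoetherianRing S] [Algebra R S] [IsLocalHom (algebraMap R S)]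

/-- a sequence which is weakly regular on the closed fibre `N ⊗ k` is weakly regular on `N`. -/
theorem isWeaklyRegular_of_fibre : ∀ (ys : List S) (N : Type u) [AddCommGroup N] [Module S N]
    [Module R N] [IsScalarTower R S N] [Module.Finite S N] [Module.Flat R N],
    IsWeaklyRegular (N ⊗[R] (R ⧸ IsLocalRing.maximalIdeal R)) ys → IsWeaklyRegular N ys := by
  intro ys
  induction ys with
  | nil => intro N _ _ _ _ _ _ _; exact IsWeaklyRegular.nil S N
  | cons y ys ih =>
    intro N _ _ _ _ _ _ h
    rw [isWeaklyRegular_cons_iff] at h ⊢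
    obtain ⟨hinj, hflat⟩ := flat_quotSMulTop_of_regular_fibre N h.1
    haveI := hflat
    refine ⟨?_, ?_⟩
    · intro a b hab
      exact hinj hab
    · apply ih (QuotSMulTop y N)
      exact ((quotSMulTopEquivOfSurjective y
        (piY (R := R) N (R ⧸ IsLocalRing.maximalIdeal R) y) (piY_surjective N _ y)
        (ker_piY N _ y)).isWeaklyRegular_congr ys).mp h.2

/-- `depth_I (N ⊗ k) ≤ depth_I N`. -/
theorem idealDepth_fibre_le [IsNoetherianRing R] (I : Ideal S) (hI : I ≠ ⊤) (N : Type u) [AddCommGroup N] [Module S N]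
    [Module R N] [IsScalarTower R S N] [Module.Finite S N] [Module.Flat R N] [Nontrivial N] :
    idealDepth I (N ⊗[R] (R ⧸ IsLocalRing.maximalIdeal R)) ≤ idealDepth I N := by
  haveI := finite_tensor (R := R) (S := S) N (R ⧸ IsLocalRing.maximalIdeal R)
  haveI := nontrivial_tensor (R := R) (S := S) N (R ⧸ IsLocalRing.maximalIdeal R)
  have hIm : I ≤ IsLocalRing.maximalIdeal S := IsLocalRing.le_maximalIdeal hI
  have h1 : I • (⊤ : Submodule S (N ⊗[R] (R ⧸ IsLocalRing.maximalIdeal R))) ≠ ⊤ := fun h =>
    maximalIdeal_smul_top_ne_top (R := S) _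
      (top_le_iff.mp (h.ge.trans (Submodule.smul_mono_left hIm)))
  rw [idealDepth_eq_iSup I _ h1]
  refine iSup₂_le fun ys hys => ?_
  exact length_le_idealDepth (isWeaklyRegular_of_fibre ys N hys.1) hys.2

/-- the closed fibre `N / mN` is `N ⊗ k`, `S`-linearly. -/
theorem nonempty_fibreEquiv (N : Type u) [AddCommGroup N] [Module S N] [Module R N]
    [IsScalarTower R S N] :
    Nonempty ((N ⧸ (IsLocalRing.maximalIdeal R).map (algebraMap R S) • (⊤ : Submodule S N))
      ≃ₗ[S] N ⊗[R] (R ⧸ IsLocalRing.maximalIdeal R)) := by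
  let f : N →ₗ[S] N ⊗[R] (R ⧸ IsLocalRing.maximalIdeal R) :=
    { toFun := fun n => n ⊗ₜ[R] (1 : R ⧸ IsLocalRing.maximalIdeal R)
      map_add' := fun a b => TensorProduct.add_tmul a b 1
      map_smul' := fun s n => (TensorProduct.smul_tmul' s n 1) }
  have hf : Function.Surjective f := by
    intro z
    induction z using TensorProduct.induction_on with
    | zero => exact ⟨0, map_zero f⟩
    | add a b ha hb =>
      obtain ⟨a', rfl⟩ := ha
      obtain ⟨b', rfl⟩ := hb
      exact ⟨a' + b', map_add f a' b'⟩
    | tmul n c =>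
      obtain ⟨c, rfl⟩ := Ideal.Quotient.mk_surjective c
      refine ⟨c • n, ?_⟩
      change (c • n) ⊗ₜ[R] (1 : R ⧸ IsLocalRing.maximalIdeal R) = _
      rw [TensorProduct.smul_tmul, Algebra.smul_def, mul_one]
      rfl
  have hker : LinearMap.ker f =
      (IsLocalRing.maximalIdeal R).map (algebraMap R S) • (⊤ : Submodule S N) := by
    ext n
    rw [LinearMap.mem_ker]
    constructor
    · intro h0
      have h1 : n ⊗ₜ[R] (1 : R ⧸ IsLocalRing.maximalIdeal R) = 0 := h0
      have h2 := congrArg (TensorProduct.tensorQuotEquivQuotSMul N (IsLocalRing.maximalIdeal R)) h1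
      rw [map_zero] at h2
      change (TensorProduct.tensorQuotEquivQuotSMul N (IsLocalRing.maximalIdeal R))
        (n ⊗ₜ[R] (Ideal.Quotient.mk _ 1)) = 0 at h2
      rw [TensorProduct.tensorQuotEquivQuotSMul_tmul_mk, one_smul,
        Submodule.Quotient.mk_eq_zero] at h2
      exact Groth.Agent.H21.mem_map_smul_of_mem_smul (S := S) _ h2
    · intro hn
      have hn' := Groth.Agent.H21.mem_smul_of_mem_map_smul (S := S) _ hn
      change n ⊗ₜ[R] (1 : R ⧸ IsLocalRing.maximalIdeal R) = 0
      refine Submodule.smul_induction_on hn' ?_ ?_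
      · intro a ha n' _
        rw [TensorProduct.smul_tmul, Algebra.smul_def, mul_one, Ideal.Quotient.algebraMap_eq,
          Ideal.Quotient.eq_zero_iff_mem.mpr ha, TensorProduct.tmul_zero]
      · intro a b ha hb
        rw [TensorProduct.add_tmul, ha, hb, add_zero]
  exact ⟨(Submodule.quotEquivOfEq _ _ hker.symm).trans (f.quotKerEquivOfSurjective hf)⟩

end Fibre

end Groth.Agent.Lib.helper9.FlatDepth4
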