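import Groth.Agent.Lib.helper9.Depth9

/-!
# Depth zero / dimension zero of localizations, Serre's condition `S_1`
-/

universe u

open CategoryTheory RingTheory.Sequence Pointwise

namespace Groth.Agent.Lib.helper9.Depth

open LocCoh

variable {A : Type u} [CommRing A] [IsNoetherianRing A] (p : Ideal A) [p.IsPrime]
  (M : Type u) [AddCommGroup M] [Module A M] [Module.Finite A M]

/-- `depth M_p = 0 ↔ p ∈ Ass M`. -/
theorem depth_localization_eq_zero_iff :
    depth (Localization.AtPrime p) (LocalizedModule p.primeCompl M) = 0 ↔
      p ∈ associatedPrimes A M := by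
  rw [LocalAlg.depth_eq_zero_iff]
  rw [← Module.associatedPrimes.preimage_comap_associatedPrimes_eq_associatedPrimes_of_isLocalizedModule
    p.primeCompl (Localization.AtPrime p) (LocalizedModule.mkLinearMap p.primeCompl M)]
  rw [Set.mem_preimage]
  have : Ideal.comap (algebraMap A (Localization.AtPrime p))
      (IsLocalRing.maximalIdeal (Localization.AtPrime p)) = p :=
    Localization.AtPrime.under_maximalIdeal
  rw [this]

/-- for `p ∈ Supp M`: `dim M_p ≤ 0 ↔ p` minimal over `ann M`. -/
theorem supportDim_localization_le_zero_iff (hp : Module.annihilator A M ≤ p) :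
    Module.supportDim (Localization.AtPrime p) (LocalizedModule p.primeCompl M) ≤ 0 ↔
      p ∈ (Module.annihilator A M).minimalPrimes := by
  have hmax : Ideal.comap (algebraMap A (Localization.AtPrime p))
      (IsLocalRing.maximalIdeal (Localization.AtPrime p)) = p :=
    Localization.AtPrime.under_maximalIdeal
  constructor
  · intro hdim
    refine ⟨⟨inferInstance, hp⟩, ?_⟩
    rintro q ⟨hq, hannq⟩ hqp
    -- the prime `Q = q A_p`
    have hdisj : Disjoint (p.primeCompl : Set A) (q : Set A) := by
      rw [Set.disjoint_left]
      intro x hx hxq
      exact hx (hqp hxq)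
    have hQprime : (Ideal.map (algebraMap A (Localization.AtPrime p)) q).IsPrime :=
      IsLocalization.isPrime_of_isPrime_disjoint p.primeCompl _ q hq hdisj
    have hQcomap : Ideal.comap (algebraMap A (Localization.AtPrime p))
        (Ideal.map (algebraMap A (Localization.AtPrime p)) q) = q :=
      IsLocalization.under_map_of_isPrime_disjoint p.primeCompl _ hq hdisj
    let Q : PrimeSpectrum (Localization.AtPrime p) := ⟨_, hQprime⟩
    let P : PrimeSpectrum (Localization.AtPrime p) :=
      ⟨IsLocalRing.maximalIdeal (Localization.AtPrime p), inferInstance⟩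
    have hQsupp : Q ∈ Module.support (Localization.AtPrime p)
        (LocalizedModule p.primeCompl M) := by
      apply mem_support_of_comap_mem_support
      rw [Module.mem_support_iff_of_finite]
      change Module.annihilator A M ≤ Ideal.comap _ _
      rw [hQcomap]
      exact hannq
    have hPsupp : P ∈ Module.support (Localization.AtPrime p)
        (LocalizedModule p.primeCompl M) := by
      apply mem_support_of_comap_mem_support
      rw [Module.mem_support_iff_of_finite]
      change Module.annihilator A M ≤ Ideal.comap _ _
      rw [hmax]
      exact hp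
    have hQP : Q ≤ P := IsLocalRing.le_maximalIdeal hQprime.ne_top
    have hmaxQ := (Order.krullDim_nonpos_iff_forall_isMax.mp hdim)
      (⟨Q, hQsupp⟩ : Module.support (Localization.AtPrime p) (LocalizedModule p.primeCompl M))
    have hPQ : P ≤ Q := @hmaxQ ⟨P, hPsupp⟩ hQP
    have hPQ' : Ideal.comap (algebraMap A (Localization.AtPrime p)) P.asIdeal ≤
        Ideal.comap (algebraMap A (Localization.AtPrime p)) Q.asIdeal := Ideal.comap_mono hPQ
    change Ideal.comap _ (IsLocalRing.maximalIdeal (Localization.AtPrime p)) ≤
      Ideal.comap _ (Ideal.map (algebraMap A (Localization.AtPrime p)) q) at hPQ'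
    rw [hmax, hQcomap] at hPQ'
    exact hPQ'
  · intro hmin
    have hsub : Subsingleton (Module.support (Localization.AtPrime p)
        (LocalizedModule p.primeCompl M)) := by
      have key : ∀ Q : PrimeSpectrum (Localization.AtPrime p),
          Q ∈ Module.support (Localization.AtPrime p) (LocalizedModule p.primeCompl M) →
          Q.asIdeal = IsLocalRing.maximalIdeal (Localization.AtPrime p) := by
        intro Q hQ
        have h1 := comap_mem_support_of_mem_support p M Q hQ
        rw [Module.mem_support_iff_of_finite] at h1
        have h1' : Module.annihilator A M ≤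
            Ideal.comap (algebraMap A (Localization.AtPrime p)) Q.asIdeal := h1
        have h2 : Ideal.comap (algebraMap A (Localization.AtPrime p)) Q.asIdeal ≤ p :=
          (Ideal.comap_mono (IsLocalRing.le_maximalIdeal Q.isPrime.ne_top)).trans hmax.le
        have h3 : p ≤ Ideal.comap (algebraMap A (Localization.AtPrime p)) Q.asIdeal :=
          hmin.2 ⟨Ideal.IsPrime.comap _, h1'⟩ h2
        have h4 : Ideal.comap (algebraMap A (Localization.AtPrime p)) Q.asIdeal =
            Ideal.comap (algebraMap A (Localization.AtPrime p))
              (IsLocalRing.maximalIdeal (Localization.AtPrime p)) := by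
          rw [hmax]; exact le_antisymm h2 h3
        have := PrimeSpectrum.localization_comap_injective (Localization.AtPrime p) p.primeCompl
          (a₁ := Q) (a₂ := ⟨IsLocalRing.maximalIdeal (Localization.AtPrime p), inferInstance⟩)
          (PrimeSpectrum.ext h4)
        rw [this]
      constructor
      rintro ⟨Q₁, h₁⟩ ⟨Q₂, h₂⟩
      apply Subtype.ext
      apply PrimeSpectrum.ext
      rw [key Q₁ h₁, key Q₂ h₂]
    exact Order.krullDim_nonpos_of_subsingleton

/-- no embedded primes iff `S_1`. -/
theorem noEmbedded_iff_hasSk_one :
    (∀ p ∈ associatedPrimes A M, p ∈ (Module.annihilator A M).minimalPrimes) ↔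
      LocCoh.HasSk 1 A M := by
  constructor
  · intro h p _
    by_cases hd : depth (Localization.AtPrime p) (LocalizedModule p.primeCompl M) = 0
    · have hpass := (depth_localization_eq_zero_iff p M).mp hd
      have hmin := h p hpass
      have hdim := (supportDim_localization_le_zero_iff p M hmin.1.2).mpr hmin
      rw [hd]
      exact (min_le_right _ _).trans hdim
    · have h1 : (1 : ℕ∞) ≤ depth (Localization.AtPrime p) (LocalizedModule p.primeCompl M) :=
        Order.one_le_iff_ne_zero.mpr hd
      refine (min_le_left _ _).trans ?_
      exact_mod_cast h1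
  · intro h p hp
    have hprime : p.IsPrime := IsAssociatedPrime.isPrime hp
    have hd := (depth_localization_eq_zero_iff p M).mpr hp
    have hS := h p
    rw [hd] at hS
    have hann : Module.annihilator A M ≤ p := by
      have := IsAssociatedPrime.annihilator_le hp
      rwa [Submodule.annihilator_top] at this
    rw [← supportDim_localization_le_zero_iff p M hann]
    rcases min_le_iff.mp hS with h1 | h1
    · exfalso
      have : ((1 : ℕ) : WithBot ℕ∞) ≤ ((0 : ℕ∞) : WithBot ℕ∞) := h1
      have h2 : (1 : ℕ∞) ≤ 0 := by exact_mod_cast this
      simp at h2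
    · exact h1

end Groth.Agent.Lib.helper9.Depth
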