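import Groth.Agent.Lib.helper9.Depth3
import Mathlib.RingTheory.Ideal.AssociatedPrime.Basic
import Mathlib.RingTheory.KrullDimension.NonZeroDivisors
import Mathlib.RingTheory.KrullDimension.Regular
import Mathlib.RingTheory.Nakayama

/-!
# depth ≤ dim R/p for associated primes
-/

universe u

open CategoryTheory RingTheory.Sequence Pointwise

namespace Groth.Agent.Lib.helper9.Depth

open LocCoh

section Coheight

variable {R : Type*} [CommRing R]

lemma ringKrullDim_quotient_eq_coheight (P : PrimeSpectrum R) :
    ringKrullDim (R ⧸ P.asIdeal) = (Order.coheight P : WithBot ℕ∞) := by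
  rw [ringKrullDim_quotient, Order.coheight_eq_krullDim_Ici]
  have : PrimeSpectrum.zeroLocus (P.asIdeal : Set R) = Set.Ici P := by
    ext x
    rw [PrimeSpectrum.mem_zeroLocus, Set.mem_Ici]
    rfl
  rw [this]

lemma ringKrullDim_quotient_add_one_le_of_lt {p q : Ideal R} [hp : p.IsPrime] [hq : q.IsPrime]
    (h : p < q) : ringKrullDim (R ⧸ q) + 1 ≤ ringKrullDim (R ⧸ p) := by
  have h1 := ringKrullDim_quotient_eq_coheight (⟨p, hp⟩ : PrimeSpectrum R)
  have h2 := ringKrullDim_quotient_eq_coheight (⟨q, hq⟩ : PrimeSpectrum R)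
  rw [h1, h2]
  have hlt : (⟨p, hp⟩ : PrimeSpectrum R) < ⟨q, hq⟩ := h
  have := Order.coheight_add_one_le hlt
  exact_mod_cast this

end Coheight

section Ass

variable {R : Type u} [CommRing R] [IsNoetherianRing R] {M : Type u} [AddCommGroup M] [Module R M]
  [Module.Finite R M]

/-- Lifting associated primes along a regular element in the Jacobson radical. -/
theorem exists_associatedPrime_quotSMulTop_gt {x : R} (hx : x ∈ Ideal.jacobson (⊥ : Ideal R))
    (hreg : IsSMulRegular M x) {p : Ideal R} (hp : p ∈ associatedPrimes R M) :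
    ∃ q ∈ associatedPrimes R (QuotSMulTop x M), p < q := by
  obtain ⟨hpp, m0, hm0⟩ := isAssociatedPrime_iff.mp hp
  have hm0' : ∀ a : R, a ∈ p ↔ a • m0 = 0 := by
    intro a
    rw [hm0, Submodule.mem_colon_singleton, Submodule.mem_bot]
  have hm0ne : m0 ≠ 0 := by
    rintro rfl
    apply hpp.ne_top
    rw [Ideal.eq_top_iff_one, hm0']
    exact smul_zero _
  have hxp : x ∉ p := by
    intro hxp
    rw [hm0'] at hxp
    exact hm0ne (hreg (by
      change x • m0 = x • 0
      rw [hxp, smul_zero]))
  -- the submodule killed by `p`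
  let U : Submodule R M :=
    { carrier := {m | ∀ a ∈ p, a • m = 0}
      add_mem' := by
        intro a b ha hb r hr
        rw [smul_add, ha r hr, hb r hr, add_zero]
      zero_mem' := by
        intro r _
        exact smul_zero r
      smul_mem' := by
        intro c m hm r hr
        rw [smul_comm, hm r hr, smul_zero] }
  have hm0U : m0 ∈ U := fun a ha => (hm0' a).mp ha
  have hex : ∃ z ∈ U, z ∉ (x • (⊤ : Submodule R M)) := by
    by_contra hcon
    push Not at hcon
    have hle : U ≤ Ideal.span {x} • U := by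
      intro u hu
      obtain ⟨m', -, rfl⟩ := (Submodule.mem_smul_pointwise_iff_exists _ _ _).mp (hcon u hu)
      have hm'U : m' ∈ U := by
        intro a ha
        apply hreg
        change x • (a • m') = x • 0
        rw [smul_zero, smul_comm]
        exact hu a ha
      exact Submodule.smul_mem_smul (Ideal.mem_span_singleton_self x) hm'U
    have hbot : U = ⊥ := Submodule.eq_bot_of_le_smul_of_le_jacobson_bot (Ideal.span {x}) U
      (IsNoetherian.noetherian U) hle ((Ideal.span_singleton_le_iff_mem _).mpr hx)
    rw [hbot, Submodule.mem_bot] at hm0U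
    exact hm0ne hm0U
  obtain ⟨z, hzU, hzx⟩ := hex
  have hzne : (Submodule.Quotient.mk z : QuotSMulTop x M) ≠ 0 := by
    rw [Ne, Submodule.Quotient.mk_eq_zero]
    exact hzx
  obtain ⟨q, hq, hle⟩ := exists_le_isAssociatedPrime_of_isNoetherianRing R
    (Submodule.Quotient.mk z : QuotSMulTop x M) hzne
  refine ⟨q, hq, lt_of_le_of_ne ?_ ?_⟩
  · intro a ha
    apply hle
    rw [Submodule.mem_colon_singleton, Submodule.mem_bot, ← Submodule.Quotient.mk_smul, hzU a ha,
      Submodule.Quotient.mk_zero]
  · intro heq
    apply hxp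
    rw [heq]
    apply hle
    rw [Submodule.mem_colon_singleton, Submodule.mem_bot, ← Submodule.Quotient.mk_smul,
      Submodule.Quotient.mk_eq_zero]
    exact Submodule.smul_mem_pointwise_smul z x ⊤ Submodule.mem_top

end Ass

section Local

variable {R : Type u} [CommRing R] [IsLocalRing R] [IsNoetherianRing R]

lemma maximalIdeal_smul_top_ne_top (M : Type u) [AddCommGroup M] [Module R M] [Module.Finite R M]
    [Nontrivial M] : IsLocalRing.maximalIdeal R • (⊤ : Submodule R M) ≠ ⊤ := by
  intro h
  have := Submodule.eq_bot_of_le_smul_of_le_jacobson_bot (IsLocalRing.maximalIdeal R)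
    (⊤ : Submodule R M) Module.Finite.fg_top (by rw [h])
    (by rw [IsLocalRing.jacobson_eq_maximalIdeal ⊥ bot_ne_top])
  exact top_ne_bot this

/-- `n ≤ depth M → n ≤ dim R/p` for `p ∈ Ass M`. -/
theorem le_ringKrullDim_quotient_of_le_depth : ∀ (n : ℕ) (M : Type u) [AddCommGroup M] [Module R M]
    [Module.Finite R M] (p : Ideal R), p ∈ associatedPrimes R M → (n : ℕ∞) ≤ depth R M →
    (n : WithBot ℕ∞) ≤ ringKrullDim (R ⧸ p) := by
  intro n
  induction n with
  | zero =>
    intro M _ _ _ p hp _
    haveI := hp.isPrime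
    exact ringKrullDim_nonneg_of_nontrivial
  | succ n ih =>
    intro M _ _ _ p hp hn
    haveI := hp.isPrime
    haveI : Nontrivial M := by
      by_contra hM
      rw [not_nontrivial_iff_subsingleton] at hM
      exact not_isAssociatedPrime_of_subsingleton hp
    have hIM := maximalIdeal_smul_top_ne_top (R := R) M
    obtain ⟨rs, hlen, hreg, hmem⟩ := (le_idealDepth_iff hIM (n + 1)).mp hn
    match rs, hlen with
    | x :: rs', hlen =>
      rw [isWeaklyRegular_cons_iff] at hreg
      have hx : x ∈ IsLocalRing.maximalIdeal R := hmem x List.mem_cons_self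
      have hxj : x ∈ Ideal.jacobson (⊥ : Ideal R) := by
        rw [IsLocalRing.jacobson_eq_maximalIdeal ⊥ bot_ne_top]
        exact hx
      obtain ⟨q, hq, hpq⟩ := exists_associatedPrime_quotSMulTop_gt hxj hreg.1 hp
      haveI := hq.isPrime
      have hn' : (n : ℕ∞) ≤ depth R (QuotSMulTop x M) := by
        have : rs'.length = n := by simpa using hlen
        rw [← this]
        exact length_le_idealDepth hreg.2 (fun r hr => hmem r (List.mem_cons_of_mem _ hr))
      have h1 := ih (QuotSMulTop x M) q hq hn'
      have h2 := ringKrullDim_quotient_add_one_le_of_lt hpq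
      calc ((n + 1 : ℕ) : WithBot ℕ∞) = (n : WithBot ℕ∞) + 1 := by norm_cast
        _ ≤ ringKrullDim (R ⧸ q) + 1 := by gcongr
        _ ≤ _ := h2

theorem depth_le_ringKrullDim_quotient_of_mem_associatedPrimes (M : Type u) [AddCommGroup M]
    [Module R M] [Module.Finite R M] (p : Ideal R) (hp : p ∈ associatedPrimes R M) :
    ((depth R M : ℕ∞) : WithBot ℕ∞) ≤ ringKrullDim (R ⧸ p) := by
  haveI : Nontrivial M := by
    by_contra hM
    rw [not_nontrivial_iff_subsingleton] at hM
    exact not_isAssociatedPrime_of_subsingleton hp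
  obtain ⟨n, hn⟩ := exists_nat_eq_idealDepth (I := IsLocalRing.maximalIdeal R) M
    (maximalIdeal_smul_top_ne_top M)
  have hn' : depth R M = n := hn
  rw [hn']
  exact le_ringKrullDim_quotient_of_le_depth n M p hp hn'.ge

end Local

end Groth.Agent.Lib.helper9.Depth
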