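import Groth.Agent.Lib.helper9.Depth2

/-!
# `LocCoh.idealDepth` : maximal regular sequences, finiteness
-/

universe u

open CategoryTheory RingTheory.Sequence Pointwise

namespace Groth.Agent.Lib.helper9.Depth

open LocCoh

section Maximal

variable {R : Type u} [CommRing R] [IsNoetherianRing R] {I : Ideal R}

/-- A maximal weakly regular sequence in `I` has length `depth_I M`. -/
theorem length_eq_idealDepth_of_maximal : ∀ (rs : List R) (M : Type u) [AddCommGroup M] [Module R M]
    [Module.Finite R M], I • (⊤ : Submodule R M) ≠ ⊤ → IsWeaklyRegular M rs → (∀ r ∈ rs, r ∈ I) →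
    (∀ r ∈ I, ¬ IsWeaklyRegular M (rs ++ [r])) → (rs.length : ℕ∞) = idealDepth I M := by
  intro rs
  induction rs with
  | nil =>
    intro M _ _ _ hIM _ _ hmax
    symm
    rw [List.length_nil, Nat.cast_zero, ← nonpos_iff_eq_zero]
    by_contra hpos
    rw [not_le] at hpos
    have h1 : ((1 : ℕ) : ℕ∞) ≤ idealDepth I M := by
      have := Order.one_le_iff_pos.mpr hpos
      exact_mod_cast this
    obtain ⟨rs, hlen, hreg, hmem⟩ := (le_idealDepth_iff hIM 1).mp h1
    match rs, hlen with
    | [r], _ =>
      exact hmax r (hmem r (List.mem_singleton_self r)) (by simpa using hreg)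
  | cons x rs ih =>
    intro M _ _ _ hIM hreg hmem hmax
    rw [isWeaklyRegular_cons_iff] at hreg
    have hx : x ∈ I := hmem x List.mem_cons_self
    have hIM' : I • (⊤ : Submodule R (QuotSMulTop x M)) ≠ ⊤ := smul_top_quotSMulTop_ne_top hx hIM
    have hmax' : ∀ r ∈ I, ¬ IsWeaklyRegular (QuotSMulTop x M) (rs ++ [r]) := by
      intro r hr hcon
      apply hmax r hr
      rw [List.cons_append, isWeaklyRegular_cons_iff]
      exact ⟨hreg.1, hcon⟩
    have := ih (QuotSMulTop x M) hIM' hreg.2 (fun r hr => hmem r (List.mem_cons_of_mem _ hr)) hmax'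
    rw [← idealDepth_quotSMulTop_add_one hIM hx hreg.1, ← this, List.length_cons]
    push_cast
    rfl

/-- Every weakly regular sequence in `I` extends to a maximal one. -/
theorem exists_maximal_extension (M : Type u) [AddCommGroup M] [Module R M] [Module.Finite R M]
    (hIM : I • (⊤ : Submodule R M) ≠ ⊤) (rs : List R) (hreg : IsWeaklyRegular M rs)
    (hmem : ∀ r ∈ rs, r ∈ I) :
    ∃ rs' : List R, rs <+: rs' ∧ IsWeaklyRegular M rs' ∧ (∀ r ∈ rs', r ∈ I) ∧
      ∀ r ∈ I, ¬ IsWeaklyRegular M (rs' ++ [r]) := by
  induction h : Ideal.ofList rs using WellFoundedGT.induction generalizing rs with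
  | ind J ih =>
    by_cases hmax : ∀ r ∈ I, ¬ IsWeaklyRegular M (rs ++ [r])
    · exact ⟨rs, List.prefix_refl rs, hreg, hmem, hmax⟩
    · push Not at hmax
      obtain ⟨r, hrI, hr⟩ := hmax
      have hmem' : ∀ s ∈ rs ++ [r], s ∈ I := by
        intro s hs
        rcases List.mem_append.mp hs with hs | hs
        · exact hmem s hs
        · rw [List.mem_singleton] at hs
          exact hs ▸ hrI
      have hlt : J < Ideal.ofList (rs ++ [r]) := by
        rw [Ideal.ofList_append, Ideal.ofList_singleton, ← h]
        refine lt_of_le_of_ne le_sup_left ?_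
        intro heq
        have hrJ : r ∈ Ideal.ofList rs := by
          rw [heq]
          exact Ideal.mem_sup_right (Ideal.mem_span_singleton_self r)
        rw [isWeaklyRegular_append_iff, isWeaklyRegular_singleton_iff] at hr
        have hr2 := hr.2
        have hzero : ∀ y : M ⧸ (Ideal.ofList rs • (⊤ : Submodule R M)), r • y = 0 := by
          intro y
          obtain ⟨m, rfl⟩ := Submodule.Quotient.mk_surjective _ y
          rw [← Submodule.Quotient.mk_smul, Submodule.Quotient.mk_eq_zero]
          exact Submodule.smul_mem_smul hrJ Submodule.mem_top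
        have hsub : ∀ y : M ⧸ (Ideal.ofList rs • (⊤ : Submodule R M)), y = 0 := by
          intro y
          apply hr2
          change r • y = r • 0
          rw [hzero y, smul_zero]
        apply hIM
        rw [eq_top_iff]
        intro m _
        have hm : (Submodule.Quotient.mk m : M ⧸ (Ideal.ofList rs • (⊤ : Submodule R M))) = 0 :=
          hsub _
        rw [Submodule.Quotient.mk_eq_zero] at hm
        exact Submodule.smul_mono_left (Ideal.span_le.mpr hmem) hm
      obtain ⟨rs', hpre, h1, h2, h3⟩ := ih (Ideal.ofList (rs ++ [r])) hlt (rs ++ [r]) hr hmem' rfl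
      exact ⟨rs', (List.prefix_append rs [r]).trans hpre, h1, h2, h3⟩

theorem idealDepth_ne_top (M : Type u) [AddCommGroup M] [Module R M] [Module.Finite R M]
    (hIM : I • (⊤ : Submodule R M) ≠ ⊤) : idealDepth I M ≠ ⊤ := by
  obtain ⟨rs, -, h1, h2, h3⟩ := exists_maximal_extension M hIM [] (IsWeaklyRegular.nil R M)
    (by simp)
  rw [← length_eq_idealDepth_of_maximal rs M hIM h1 h2 h3]
  exact ENat.natCast_ne_top _

theorem exists_nat_eq_idealDepth (M : Type u) [AddCommGroup M] [Module R M] [Module.Finite R M]
    (hIM : I • (⊤ : Submodule R M) ≠ ⊤) : ∃ n : ℕ, idealDepth I M = n := by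
  have := idealDepth_ne_top M hIM
  exact ⟨(idealDepth I M).toNat, (ENat.natCast_toNat this).symm⟩

end Maximal

end Groth.Agent.Lib.helper9.Depth
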