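import Groth.Agent.Lib.helper9.Depth5

/-!
# Cohen–Macaulay modules: regular sequences = parts of systems of parameters
-/

universe u

open CategoryTheory RingTheory.Sequence Pointwise

namespace Groth.Agent.Lib.helper9.Depth

open LocCoh

section CM

variable {R : Type u} [CommRing R] [IsLocalRing R] [IsNoetherianRing R]

lemma nontrivial_quot_ofList (M : Type u) [AddCommGroup M] [Module R M] [Module.Finite R M]
    [Nontrivial M] (xs : List R) (hxs : ∀ x ∈ xs, x ∈ IsLocalRing.maximalIdeal R) :
    Nontrivial (M ⧸ (Ideal.ofList xs • (⊤ : Submodule R M))) := by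
  rw [Submodule.Quotient.nontrivial_iff]
  intro h
  have h1 : IsLocalRing.maximalIdeal R • (⊤ : Submodule R M) = ⊤ :=
    top_le_iff.mp (h.ge.trans (Submodule.smul_mono_left (Ideal.span_le.mpr hxs)))
  exact maximalIdeal_smul_top_ne_top M h1

theorem supportDim_quot_ofList_add_length {M : Type u} [AddCommGroup M] [Module R M]
    [Module.Finite R M] [Nontrivial M] (xs : List R)
    (hxs : ∀ x ∈ xs, x ∈ IsLocalRing.maximalIdeal R) (hreg : IsWeaklyRegular M xs) :
    Module.supportDim R (M ⧸ (Ideal.ofList xs • (⊤ : Submodule R M))) + xs.length =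
      Module.supportDim R M :=
  Module.supportDim_add_length_eq_supportDim_of_isRegular xs
    (isRegular_of_isWeaklyRegular (maximalIdeal_smul_top_ne_top M) hreg hxs)

theorem isCohenMacaulayModule_quot_ofList {M : Type u} [AddCommGroup M] [Module R M]
    [Module.Finite R M] (hM : IsCohenMacaulayModule R M) (xs : List R)
    (hxs : ∀ x ∈ xs, x ∈ IsLocalRing.maximalIdeal R) (hreg : IsWeaklyRegular M xs) :
    IsCohenMacaulayModule R (M ⧸ (Ideal.ofList xs • (⊤ : Submodule R M))) := by
  haveI := nontrivial_of_isCohenMacaulayModule hM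
  haveI := nontrivial_quot_ofList M xs hxs
  have h1 := supportDim_quot_ofList_add_length xs hxs hreg
  have h2 : depth R (M ⧸ (Ideal.ofList xs • (⊤ : Submodule R M))) + xs.length = depth R M :=
    idealDepth_quot_ofList_add_length xs M (maximalIdeal_smul_top_ne_top M) hreg hxs
  obtain ⟨d', hd'⟩ := SemiLocalDim.exists_nat_eq_supportDim R
    (M ⧸ (Ideal.ofList xs • (⊤ : Submodule R M)))
  obtain ⟨n', hn'⟩ := exists_nat_depth (R := R) (M ⧸ (Ideal.ofList xs • (⊤ : Submodule R M)))
  unfold IsCohenMacaulayModule at hM ⊢
  rw [hd', hn']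
  rw [hd', hM, ← h2, hn'] at h1
  have : d' + xs.length = n' + xs.length := by exact_mod_cast h1
  have : d' = n' := by omega
  exact_mod_cast this

/-- In a CM module, a sequence in `m` cutting the dimension down by its length is regular. -/
theorem isWeaklyRegular_of_supportDim_eq : ∀ (xs : List R) (M : Type u) [AddCommGroup M]
    [Module R M] [Module.Finite R M], IsCohenMacaulayModule R M →
    (∀ x ∈ xs, x ∈ IsLocalRing.maximalIdeal R) →
    Module.supportDim R (M ⧸ (Ideal.ofList xs • (⊤ : Submodule R M))) + xs.length =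
      Module.supportDim R M → IsWeaklyRegular M xs := by
  intro xs
  induction xs with
  | nil =>
    intro M _ _ _ _ _ _
    exact IsWeaklyRegular.nil R M
  | cons x xs ih =>
    intro M _ _ _ hM hxs h
    haveI := nontrivial_of_isCohenMacaulayModule hM
    have hx : x ∈ IsLocalRing.maximalIdeal R := hxs x List.mem_cons_self
    have hxs' : ∀ y ∈ xs, y ∈ IsLocalRing.maximalIdeal R :=
      fun y hy => hxs y (List.mem_cons_of_mem _ hy)
    have hc1 : Module.supportDim R M ≤ Module.supportDim R (QuotSMulTop x M) + 1 :=
      Module.supportDim_le_supportDim_quotSMulTop_succ hx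
    have hc2 : Module.supportDim R (QuotSMulTop x M) ≤
        Module.supportDim R ((QuotSMulTop x M) ⧸
          (Ideal.ofList xs • (⊤ : Submodule R (QuotSMulTop x M)))) + xs.length :=
      Groth.Agent.S5768.supportDim_le_quotient_ofList_add xs (QuotSMulTop x M)
        (fun y hy => mem_ringJacobson_of_mem_maximalIdeal (hxs' y hy))
    rw [Module.supportDim_eq_of_equiv
      (Submodule.quotOfListConsSMulTopEquivQuotSMulTopInner M x xs)] at h
    obtain ⟨c, hc⟩ := SemiLocalDim.exists_nat_eq_supportDim R M
    rcases supportDim_eq_bot_or_nat (R := R) (QuotSMulTop x M) with hb | ⟨b, hb⟩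
    · rw [hb, WithBot.bot_add, hc] at hc1
      exact absurd hc1 (by simp)
    rcases supportDim_eq_bot_or_nat (R := R) ((QuotSMulTop x M) ⧸
        (Ideal.ofList xs • (⊤ : Submodule R (QuotSMulTop x M)))) with ha | ⟨a, ha⟩
    · rw [ha, WithBot.bot_add, hc] at h
      exact absurd h (by simp)
    rw [hb, hc] at hc1
    rw [ha, hb] at hc2
    rw [ha, hc, List.length_cons] at h
    have e1 : c ≤ b + 1 := by exact_mod_cast hc1
    have e2 : b ≤ a + xs.length := by exact_mod_cast hc2
    have e3 : a + (xs.length + 1) = c := by exact_mod_cast h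
    have hdim : Module.supportDim R (QuotSMulTop x M) + 1 = Module.supportDim R M := by
      rw [hb, hc]
      have : b + 1 = c := by omega
      exact_mod_cast this
    have hreg : IsSMulRegular M x := isSMulRegular_of_supportDim_quotSMulTop_add_one_eq hM hx hdim
    have hQ : IsCohenMacaulayModule R (QuotSMulTop x M) :=
      isCohenMacaulayModule_quotSMulTop hM hx hreg
    have hdim' : Module.supportDim R ((QuotSMulTop x M) ⧸
        (Ideal.ofList xs • (⊤ : Submodule R (QuotSMulTop x M)))) + xs.length =
        Module.supportDim R (QuotSMulTop x M) := by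
      rw [ha, hb]
      have : a + xs.length = b := by omega
      exact_mod_cast this
    rw [isWeaklyRegular_cons_iff]
    exact ⟨hreg, ih (QuotSMulTop x M) hQ hxs' hdim'⟩

theorem isWeaklyRegular_iff_supportDim_eq {M : Type u} [AddCommGroup M] [Module R M]
    [Module.Finite R M] (hM : IsCohenMacaulayModule R M) (xs : List R)
    (hxs : ∀ x ∈ xs, x ∈ IsLocalRing.maximalIdeal R) :
    IsWeaklyRegular M xs ↔
      Module.supportDim R (M ⧸ (Ideal.ofList xs • (⊤ : Submodule R M))) + xs.length =
        Module.supportDim R M := by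
  haveI := nontrivial_of_isCohenMacaulayModule hM
  exact ⟨fun h => supportDim_quot_ofList_add_length xs hxs h,
    fun h => isWeaklyRegular_of_supportDim_eq xs M hM hxs h⟩

end CM

end Groth.Agent.Lib.helper9.Depth
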