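import Groth.Prelude.Def_Exal
import Groth.Prelude.Def_Exal2
import Mathlib.Tactic

set_option autoImplicit false
universe u v w

namespace Groth.Agent.Lib.helper9.ExalLib

attribute [local instance] Exal.opModule Exal.isCentralScalar_opModule

open Exal

section Basic

variable {A : Type u} {B L : Type v} [CommRing A] [CommRing B] [Algebra A B] [AddCommGroup L] [Module B L]

lemma proj_incl (X : Ext A B L) (z : L) : X.proj (X.incl z) = 0 :=
  (X.isExtension.exact _).2 ⟨z, rfl⟩

lemma incl_smul (X : Ext A B L) (x : X.E) (z : L) : X.incl (X.proj x • z) = x * X.incl z :=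
  (X.isExtension.mul_incl x z).symm

lemma incl_mul_incl (X : Ext A B L) (z z' : L) : X.incl z * X.incl z' = 0 := by
  rw [X.isExtension.mul_incl, proj_incl, zero_smul, map_zero]

lemma incl_eq_zero_iff (X : Ext A B L) (z : L) : X.incl z = 0 ↔ z = 0 := by
  constructor
  · intro h
    apply X.isExtension.incl_injective
    rw [h, map_zero]
  · rintro rfl; exact map_zero _

lemma exists_incl_eq (X : Ext A B L) (x : X.E) (hx : X.proj x = 0) : ∃ z, X.incl z = x :=
  (X.isExtension.exact x).1 hx

/-- An algebra hom between the middle rings compatible with projections and inclusions is an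
equivalence of extensions (five lemma). -/
noncomputable def equivOfAlgHom (X Y : Ext A B L) (φ : X.E →ₐ[A] Y.E)
    (hproj : ∀ x, Y.proj (φ x) = X.proj x) (hincl : ∀ z, φ (X.incl z) = Y.incl z) : X.Equiv Y where
  toAlgEquiv := AlgEquiv.ofBijective φ (by
    constructor
    · rw [injective_iff_map_eq_zero]
      intro x hx
      have h1 : X.proj x = 0 := by rw [← hproj, hx, map_zero]
      obtain ⟨z, rfl⟩ := exists_incl_eq X x h1
      rw [hincl, incl_eq_zero_iff] at hx
      rw [hx, map_zero]
    · intro y
      obtain ⟨x, hx⟩ := X.isExtension.proj_surjective (Y.proj y)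
      have h1 : Y.proj (y - φ x) = 0 := by rw [map_sub, hproj, hx, sub_self]
      obtain ⟨z, hz⟩ := exists_incl_eq Y _ h1
      refine ⟨x + X.incl z, ?_⟩
      rw [map_add, hincl, hz]; ring)
  proj_apply := hproj
  apply_incl := hincl

@[simp] lemma equivOfAlgHom_apply (X Y : Ext A B L) (φ : X.E →ₐ[A] Y.E)
    (hproj : ∀ x, Y.proj (φ x) = X.proj x) (hincl : ∀ z, φ (X.incl z) = Y.incl z) (x : X.E) :
    (equivOfAlgHom X Y φ hproj hincl).toAlgEquiv x = φ x := rfl

end Basic

section Split

variable {A : Type u} {B L : Type v} [CommRing A] [CommRing B] [Algebra A B] [AddCommGroup L] [Module B L]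
variable (X : Ext A B L) (s : B →+* X.E) (hs : ∀ b, X.proj (s b) = b)

/-- The `L`-component of an element of the middle ring relative to a ring-hom section. -/
noncomputable def kap (x : X.E) : L :=
  X.kerLift (x - s (X.proj x)) (by rw [map_sub, hs, sub_self])

lemma incl_kap (x : X.E) : X.incl (kap X s hs x) = x - s (X.proj x) := X.incl_kerLift _ _

lemma kap_add (x y : X.E) : kap X s hs (x + y) = kap X s hs x + kap X s hs y := by
  apply X.isExtension.incl_injective
  rw [map_add, incl_kap, incl_kap, incl_kap, map_add, map_add]; ring

lemma kap_mul (x y : X.E) :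
    kap X s hs (x * y) = X.proj x • kap X s hs y + X.proj y • kap X s hs x := by
  apply X.isExtension.incl_injective
  have h1 : X.incl (X.proj y • kap X s hs x) = s (X.proj y) * X.incl (kap X s hs x) := by
    rw [X.isExtension.mul_incl, hs]
  rw [map_add, incl_smul, h1, incl_kap, incl_kap, incl_kap, map_mul, map_mul]; ring

lemma kap_incl (z : L) : kap X s hs (X.incl z) = z := by
  apply X.isExtension.incl_injective
  rw [incl_kap, proj_incl, map_zero, sub_zero]

lemma kap_section (b : B) : kap X s hs (s b) = 0 := by
  apply X.isExtension.incl_injective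
  rw [incl_kap, hs, sub_self, map_zero]

lemma kap_one : kap X s hs 1 = 0 := by
  have := kap_section X s hs 1
  rwa [map_one] at this

/-- The ring isomorphism (as a ring hom) of the middle ring with the trivial square-zero
extension determined by a ring-hom section. -/
noncomputable def toTriv : X.E →+* TrivSqZeroExt B L where
  toFun x := TrivSqZeroExt.inl (X.proj x) + TrivSqZeroExt.inr (kap X s hs x)
  map_one' := by
    rw [map_one, kap_one, TrivSqZeroExt.inr_zero, add_zero, TrivSqZeroExt.inl_one]
  map_mul' x y := by
    apply TrivSqZeroExt.ext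
    · simp
    · simp only [TrivSqZeroExt.snd_add, TrivSqZeroExt.snd_inl, TrivSqZeroExt.snd_inr, zero_add,
        TrivSqZeroExt.snd_mul, TrivSqZeroExt.fst_add, TrivSqZeroExt.fst_inl, TrivSqZeroExt.fst_inr,
        add_zero, op_smul_eq_smul]
      rw [kap_mul]
  map_zero' := by
    have : kap X s hs 0 = 0 := by
      have := kap_section X s hs 0
      rwa [map_zero] at this
    rw [map_zero, this, TrivSqZeroExt.inl_zero, TrivSqZeroExt.inr_zero, add_zero]
  map_add' x y := by
    rw [map_add, kap_add, TrivSqZeroExt.inl_add, TrivSqZeroExt.inr_add]
    abel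

lemma toTriv_apply (x : X.E) :
    toTriv X s hs x = TrivSqZeroExt.inl (X.proj x) + TrivSqZeroExt.inr (kap X s hs x) := rfl

@[simp] lemma fst_toTriv (x : X.E) : (toTriv X s hs x).fst = X.proj x := by
  rw [toTriv_apply]; simp

@[simp] lemma snd_toTriv (x : X.E) : (toTriv X s hs x).snd = kap X s hs x := by
  rw [toTriv_apply]; simp

lemma toTriv_incl (z : L) : toTriv X s hs (X.incl z) = TrivSqZeroExt.inr z := by
  rw [toTriv_apply, proj_incl, kap_incl, TrivSqZeroExt.inl_zero, zero_add]

lemma toTriv_section (b : B) : toTriv X s hs (s b) = TrivSqZeroExt.inl b := by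
  rw [toTriv_apply, hs, kap_section, TrivSqZeroExt.inr_zero, add_zero]

end Split

section SqZero

variable {A : Type u} {B E : Type v} [CommRing A] [CommRing B] [Algebra A B] [CommRing E] [Algebra A E]
variable (p : E →ₐ[A] B) (hp : Function.Surjective p)
  (hsq : ∀ x y : E, p x = 0 → p y = 0 → x * y = 0)

include hsq in
lemma smul_ker_congr {x y : E} (hxy : p x = p y) (k : RingHom.ker (p : E →+* B)) :
    x • k = y • k := by
  apply Subtype.ext
  have hk : p (k : E) = 0 := k.2
  have h1 : p (x - y) = 0 := by rw [map_sub, hxy, sub_self]
  have := hsq _ _ h1 hk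
  change x * (k : E) = y * (k : E)
  linear_combination this

/-- The `B`-module structure on the kernel of a surjection onto `B` with square-zero kernel. -/
@[instance_reducible]
noncomputable def kerModule : Module B (RingHom.ker (p : E →+* B)) where
  smul b k := Function.surjInv hp b • k
  one_smul k := by
    change Function.surjInv hp 1 • k = k
    rw [smul_ker_congr p hsq (y := 1) (by rw [Function.surjInv_eq hp, map_one]), one_smul]
  mul_smul b b' k := by
    change Function.surjInv hp (b * b') • k = Function.surjInv hp b • Function.surjInv hp b' • k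
    rw [smul_ker_congr p hsq (y := Function.surjInv hp b * Function.surjInv hp b')
      (by rw [map_mul, Function.surjInv_eq hp, Function.surjInv_eq hp, Function.surjInv_eq hp]),
      mul_smul]
  smul_zero b := by
    change Function.surjInv hp b • (0 : RingHom.ker (p : E →+* B)) = 0
    rw [smul_zero]
  smul_add b k k' := by
    change Function.surjInv hp b • (k + k') = Function.surjInv hp b • k + Function.surjInv hp b • k'
    rw [smul_add]
  add_smul b b' k := by
    change Function.surjInv hp (b + b') • k = Function.surjInv hp b • k + Function.surjInv hp b' • k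
    rw [smul_ker_congr p hsq (y := Function.surjInv hp b + Function.surjInv hp b')
      (by rw [map_add, Function.surjInv_eq hp, Function.surjInv_eq hp, Function.surjInv_eq hp]),
      add_smul]
  zero_smul k := by
    change Function.surjInv hp 0 • k = 0
    rw [smul_ker_congr p hsq (y := 0) (by rw [Function.surjInv_eq hp, map_zero]), zero_smul]

lemma kerModule_smul_def (b : B) (k : RingHom.ker (p : E →+* B)) :
    letI := kerModule p hp hsq
    b • k = Function.surjInv hp b • k := rfl

lemma kerModule_smul_eq (x : E) (k : RingHom.ker (p : E →+* B)) :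
    letI := kerModule p hp hsq
    (p x) • k = x • k := by
  letI := kerModule p hp hsq
  rw [kerModule_smul_def]
  exact smul_ker_congr p hsq (Function.surjInv_eq hp _) k

/-- The extension of `B` by the kernel, attached to a surjection with square-zero kernel. -/
noncomputable def ofSqZero :
    @Ext A B (RingHom.ker (p : E →+* B)) _ _ _ _ (kerModule p hp hsq) :=
  letI := kerModule p hp hsq
  { E := E
    proj := p
    incl := (RingHom.ker (p : E →+* B)).subtype.toAddMonoidHom
    isExtension :=
      { proj_surjective := hp
        incl_injective := Subtype.val_injective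
        exact := fun x => by
          constructor
          · intro hx
            exact ⟨⟨x, hx⟩, rfl⟩
          · rintro ⟨k, rfl⟩
            exact k.2
        mul_incl := fun x k => by
          change x * (k : E) = ((p x • k : RingHom.ker (p : E →+* B)) : E)
          rw [kerModule_smul_eq]
          rfl } }

end SqZero

end Groth.Agent.Lib.helper9.ExalLib
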