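import Groth.Agent.Lib.helper9.AffSect
import Mathlib.RingTheory.LocalProperties.FinitePresentation

/-!
# `M~` is of finite type / finite presentation iff `M` is
-/

universe u

open AlgebraicGeometry CategoryTheory Opposite TopologicalSpace Limits

namespace Groth.Agent.Lib.helper9.TildeFin

open Scheme.Modules Groth.Agent.Lib.helper9.CohB Groth.Agent.Lib.helper9.AffSect

set_option backward.isDefEq.respectTransparency false in
/-- a sheaf of modules of finite presentation has finite presentations on every sufficiently
small open. -/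
lemma exists_isOpenCover_presentation_finite {X : Scheme.{u}} (M : X.Modules)
    [SheafOfModules.IsFinitePresentation.{u} M] :
    ∃ (I : Type u) (W : I → X.Opens), IsOpenCover W ∧ ∀ (i : I) (U : X.Opens), U ≤ W i →
      ∃ P : (M.restrict U.ι).Presentation, P.IsFinite := by
  obtain ⟨⟨I, W, cov, pres⟩, hfin⟩ :=
    SheafOfModules.IsFinitePresentation.exists_quasicoherentData M
  refine ⟨I, W, ?_, ?_⟩
  · rw [Opens.coversTop_iff, IsOpenCover] at cov
    exact cov
  · intro i U hU
    let u := X.homOfLE hU
    have : PreservesColimitsOfSize.{u, u} (restrictFunctor u) := inferInstance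
    let F := (overEquiv (W i)).functor ⋙ restrictFunctor u
    let iso : SheafOfModules.overFunctor X.ringCatSheaf _ ⋙ F ≅ restrictFunctor
      (Scheme.Opens.ι U) := (Functor.associator _ _ _).symm ≪≫
        Functor.isoWhiskerRight (Scheme.Modules.overFunctorEquiv _) _ ≪≫
        (restrictFunctorComp _ _).symm ≪≫ (restrictFunctorCongr (by simp [u]))
    have hfi : (pres i).IsFinite := hfin.isFinite_presentation i
    haveI : Finite (pres i).generators.I := hfi.isFiniteType_generators.finite
    haveI : Finite (pres i).relations.I := hfi.isFiniteType_relations.finite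
    refine ⟨SheafOfModules.Presentation.ofIsIso.{u, u, u} (iso.app M).hom
      ((pres i).map F (Scheme.Modules.restrictUnitIso _).symm), ?_⟩
    exact ⟨⟨inferInstanceAs (Finite (pres i).generators.I)⟩,
      ⟨inferInstanceAs (Finite (pres i).relations.I)⟩⟩

set_option backward.isDefEq.respectTransparency false in
/-- transfer of a finite presentation from `U` to `Spec Γ(X, U)`. -/
lemma exists_fromSpec_presentation_finite {X : Scheme.{u}} (M : X.Modules) {U : X.Opens}
    (hU : IsAffineOpen U) (P : (M.restrict U.ι).Presentation) [hP : P.IsFinite] :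
    ∃ Q : (M.restrict hU.fromSpec).Presentation, Q.IsFinite := by
  haveI : Finite P.generators.I := hP.isFiniteType_generators.finite
  haveI : Finite P.relations.I := hP.isFiniteType_relations.finite
  refine ⟨SheafOfModules.Presentation.ofIsIso.{u, u, u} ((restrictFunctorComp _ _).app M).inv
    (presentationRestrict hU.isoSpec.inv P), ?_⟩
  exact ⟨⟨inferInstanceAs (Finite P.generators.I)⟩, ⟨inferInstanceAs (Finite P.relations.I)⟩⟩

variable {R : CommRingCat.{u}}

set_option backward.isDefEq.respectTransparency false in
/-- a module on `Spec R` with a finite global presentation has a finitely presented module of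
global sections. -/
theorem finitePresentation_Γmod_of_presentation (G : (Spec R).Modules) (P : G.Presentation)
    [hP : P.IsFinite] : Module.FinitePresentation R (Γmod G) := by
  haveI : Finite P.generators.I := hP.isFiniteType_generators.finite
  haveI : Finite P.relations.I := hP.isFiniteType_relations.finite
  let g := (tilde.functor R).preimage <| (tildeFinsupp _).hom ≫ P.relations.π ≫ kernel.ι _ ≫
    (tildeFinsupp _).inv
  let iso : cokernel ((tilde.functor R).map g) ≅ cokernel (P.relations.π ≫ kernel.ι _) := by
    refine cokernel.mapIso _ _ (tildeFinsupp _) (tildeFinsupp _) ?_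
    simp only [g, (tilde.functor R).map_preimage]
    simp
  let e1 : (tilde.functor R).obj (cokernel g) ≅ G :=
    PreservesCokernel.iso (tilde.functor R) g ≪≫ iso ≪≫
      IsColimit.coconePointUniqueUpToIso (colimit.isColimit _) P.isColimit
  let e2 : cokernel g ≅ Γmod G :=
    tilde.toTildeΓNatIso.app (cokernel g) ≪≫ moduleSpecΓFunctor.mapIso e1
  have h2 : Module.FinitePresentation R ((P.generators.I →₀ R) ⧸ LinearMap.range g.hom) := by
    apply Module.finitePresentation_of_free_of_surjective (LinearMap.range g.hom).mkQ
      (Submodule.mkQ_surjective _)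
    rw [Submodule.ker_mkQ, LinearMap.range_eq_map]
    exact Submodule.FG.map _ Module.Finite.fg_top
  have h1 : Module.FinitePresentation R ↑(cokernel g) :=
    Module.FinitePresentation.of_equiv (ModuleCat.cokernelIsoRangeQuotient g).toLinearEquiv.symm
  exact Module.FinitePresentation.of_equiv e2.toLinearEquiv

/-- the basic opens contained in a member of an open cover of `Spec R` generate the unit
ideal. -/
lemma span_basicOpen_eq_top {I : Type*} (Wc : I → (Spec R).Opens) (hcov : IsOpenCover Wc) :
    Ideal.span {g : R | ∃ i, PrimeSpectrum.basicOpen g ≤ Wc i} = ⊤ := by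
  by_contra hne
  obtain ⟨m, hm, hle⟩ := Ideal.exists_le_maximal _ hne
  let x : Spec R := (⟨m, hm.isPrime⟩ : PrimeSpectrum R)
  obtain ⟨i, hi⟩ : ∃ i, x ∈ Wc i := by
    have : x ∈ (⨆ i, Wc i : (Spec R).Opens) := by
      rw [IsOpenCover] at hcov
      rw [hcov]; trivial
    exact Opens.mem_iSup.mp this
  obtain ⟨_, ⟨_, ⟨g, rfl⟩, rfl⟩, hxg, hgW⟩ :=
    PrimeSpectrum.isBasis_basic_opens.exists_subset_of_mem_open hi (Wc i).2
  exact hxg (hle (Ideal.subset_span ⟨i, hgW⟩))

variable (M : ModuleCat.{u} R)

theorem finite_of_isFiniteType_tilde [SheafOfModules.IsFiniteType.{u} (tilde M)] :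
    Module.Finite R M := by
  obtain ⟨I, Wc, hcov, hW⟩ := exists_isOpenCover_generatingSections (tilde M)
  let φ : ∀ g : {g : R | ∃ i, PrimeSpectrum.basicOpen g ≤ Wc i},
      M →ₗ[R] Γ(tilde M, PrimeSpectrum.basicOpen g.1) := fun g =>
    (tilde.toOpen M (PrimeSpectrum.basicOpen g.1)).hom
  haveI hloc : ∀ g : {g : R | ∃ i, PrimeSpectrum.basicOpen g ≤ Wc i},
      IsLocalizedModule.Away g.1 (φ g) := fun g =>
    (inferInstance : IsLocalizedModule.Away g.1 (tilde.toOpen M (PrimeSpectrum.basicOpen g.1)).hom)
  refine Module.Finite.of_localizationSpan' _ (span_basicOpen_eq_top Wc hcov)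
    (Mₚ := fun g => Γ(tilde M, PrimeSpectrum.basicOpen g.1))
    (Rₚ := fun g => Γ(Spec R, PrimeSpectrum.basicOpen g.1)) φ (fun g => ?_)
  obtain ⟨g, i, hg⟩ := g
  obtain ⟨σ, hσ⟩ := hW i (PrimeSpectrum.basicOpen g) hg
  have hU : IsAffineOpen (X := Spec R) (PrimeSpectrum.basicOpen g) :=
    IsAffineOpen.Spec_basicOpen g
  obtain ⟨τ, hτ⟩ := exists_fromSpec_generatingSections (tilde M) hU σ
  haveI := finite_Γmod_of_generatingSections _ τ
  exact finite_sections (tilde M) hU

theorem finitePresentation_of_isFinitePresentation_tilde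
    [SheafOfModules.IsFinitePresentation.{u} (tilde M)] :
    Module.FinitePresentation R M := by
  obtain ⟨I, Wc, hcov, hW⟩ := exists_isOpenCover_presentation_finite (tilde M)
  let φ : ∀ g : {g : R | ∃ i, PrimeSpectrum.basicOpen g ≤ Wc i},
      M →ₗ[R] Γ(tilde M, PrimeSpectrum.basicOpen g.1) := fun g =>
    (tilde.toOpen M (PrimeSpectrum.basicOpen g.1)).hom
  haveI hloc : ∀ g : {g : R | ∃ i, PrimeSpectrum.basicOpen g ≤ Wc i},
      IsLocalizedModule (Submonoid.powers g.1) (φ g) := fun g =>
    (inferInstance : IsLocalizedModule.Away g.1 (tilde.toOpen M (PrimeSpectrum.basicOpen g.1)).hom)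
  refine Module.FinitePresentation.of_localizationSpan' _ (span_basicOpen_eq_top Wc hcov)
    (Mₚ := fun g => Γ(tilde M, PrimeSpectrum.basicOpen g.1))
    (Rₚ := fun g => Γ(Spec R, PrimeSpectrum.basicOpen g.1)) φ (fun g => ?_)
  obtain ⟨g, i, hg⟩ := g
  obtain ⟨P, hP⟩ := hW i (PrimeSpectrum.basicOpen g) hg
  have hU : IsAffineOpen (X := Spec R) (PrimeSpectrum.basicOpen g) :=
    IsAffineOpen.Spec_basicOpen g
  obtain ⟨Q, hQ⟩ := exists_fromSpec_presentation_finite (tilde M) hU P
  haveI := finitePresentation_Γmod_of_presentation _ Q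
  exact Module.FinitePresentation.of_equiv (sectEquiv (tilde M) hU)

theorem isFiniteType_tilde_of_finite [Module.Finite R M] :
    SheafOfModules.IsFiniteType.{u} (tilde M) := by
  obtain ⟨S, hS⟩ := (Module.Finite.fg_top : (⊤ : Submodule R M).FG)
  let P := presentationTilde.{u} M (S : Set M) hS _ (Submodule.span_eq _)
  haveI : Finite P.generators.I := (Finset.finite_toSet S).to_subtype
  constructor
  refine ⟨P.generators.localGeneratorsData, ?_⟩
  constructor
  intro i
  constructor
  exact inferInstanceAs (Finite P.generators.I)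

theorem isFinitePresentation_tilde_of_finitePresentation [hM : Module.FinitePresentation R M] :
    SheafOfModules.IsFinitePresentation.{u} (tilde M) := by
  obtain ⟨S, hS, T, hT⟩ := hM.out
  let P := presentationTilde.{u} M (S : Set M) hS (T : Set _) hT
  haveI : Finite P.generators.I := (Finset.finite_toSet S).to_subtype
  haveI : Finite P.relations.I := (Finset.finite_toSet T).to_subtype
  constructor
  refine ⟨P.quasicoherentData, ?_⟩
  constructor
  intro i
  constructor
  · constructor
    exact inferInstanceAs (Finite P.generators.I)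
  · constructor
    exact inferInstanceAs (Finite P.relations.I)

end Groth.Agent.Lib.helper9.TildeFin
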