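import Mathlib.Topology.Sheaves.SheafCondition.UniqueGluing
import Mathlib.Topology.Sheaves.SheafCondition.Sites

/-!
# Restriction to an open is bijective if it is so on a basis
-/

open TopCat TopCat.Presheaf CategoryTheory CategoryTheory.Limits
  TopologicalSpace TopologicalSpace.Opens Opposite

universe x

namespace Groth.Agent.Lib.helper9.Glue

variable {C : Type*} [Category* C] {FC : C → C → Type*} {CC : C → Type*}
variable [∀ X Y, FunLike (FC X Y) (CC X) (CC Y)] [ConcreteCategory C FC]
variable [HasLimitsOfSize.{x, x} C] [(CategoryTheory.forget C).ReflectsIsomorphisms]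
variable [PreservesLimitsOfSize.{x, x} (CategoryTheory.forget C)]
variable {X : TopCat.{x}} (F : Sheaf C X)

/-- restriction `F(V) → F(V ⊓ U)`. -/
abbrev resInf (U V : Opens X) : ToType (F.1.obj (op V)) → ToType (F.1.obj (op (V ⊓ U))) :=
  fun s => F.1.map (homOfLE (inf_le_left : V ⊓ U ≤ V)).op s

omit [HasLimitsOfSize.{x, x} C] [(CategoryTheory.forget C).ReflectsIsomorphisms]
  [PreservesLimitsOfSize.{x, x} (CategoryTheory.forget C)] in
lemma map_map_apply {V₁ V₂ V₃ : Opens X} (h₁ : V₂ ≤ V₁) (h₂ : V₃ ≤ V₂)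
    (s : ToType (F.1.obj (op V₁))) :
    F.1.map (homOfLE h₂).op (F.1.map (homOfLE h₁).op s) = F.1.map (homOfLE (h₂.trans h₁)).op s := by
  rw [← ConcreteCategory.comp_apply, ← F.1.map_comp]
  rfl

/-- if restriction to `W ⊓ U` is injective for all `W` in a basis, it is so for all opens. -/
theorem resInf_injective_of_basis (U : Opens X) (B : Set (Opens X)) (hB : Opens.IsBasis B)
    (h : ∀ W ∈ B, Function.Injective (resInf F U W)) (V : Opens X) :
    Function.Injective (resInf F U V) := by
  intro s t hst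
  obtain ⟨Us, hUs, hV⟩ := (Opens.isBasis_iff_cover.mp hB) V
  refine F.eq_of_locally_eq' (fun W : Us => (W : Opens X)) V
    (fun W => homOfLE (by rw [hV]; exact le_sSup W.2)) (by rw [hV, sSup_eq_iSup']) s t ?_
  intro W
  have hWV : (W : Opens X) ≤ V := by rw [hV]; exact le_sSup W.2
  apply h W (hUs W.2)
  change F.1.map (homOfLE _).op (F.1.map (homOfLE hWV).op s) =
    F.1.map (homOfLE _).op (F.1.map (homOfLE hWV).op t)
  rw [map_map_apply, map_map_apply]
  have h1 : (W : Opens X) ⊓ U ≤ V ⊓ U := inf_le_inf_right U hWV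
  have := congrArg (fun z => F.1.map (homOfLE h1).op z) hst
  simp only [resInf] at this
  rw [map_map_apply, map_map_apply] at this
  exact this

/-- if restriction to `W ⊓ U` is bijective for all `W` in a basis, it is so for all opens. -/
theorem resInf_bijective_of_basis (U : Opens X) (B : Set (Opens X)) (hB : Opens.IsBasis B)
    (h : ∀ W ∈ B, Function.Bijective (resInf F U W)) (V : Opens X) :
    Function.Bijective (resInf F U V) := by
  have hinj : ∀ V : Opens X, Function.Injective (resInf F U V) :=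
    resInf_injective_of_basis F U B hB (fun W hW => (h W hW).1)
  refine ⟨hinj V, ?_⟩
  intro t
  obtain ⟨Us, hUs, hV⟩ := (Opens.isBasis_iff_cover.mp hB) V
  have hWV : ∀ W : Us, (W : Opens X) ≤ V := fun W => by rw [hV]; exact le_sSup W.2
  have hWVU : ∀ W : Us, (W : Opens X) ⊓ U ≤ V ⊓ U := fun W => inf_le_inf_right U (hWV W)
  choose sf hsf using fun W : Us => (h W (hUs W.2)).2 (F.1.map (homOfLE (hWVU W)).op t)
  have hcompat : IsCompatible F.1 (fun W : Us => (W : Opens X)) sf := by
    intro W W'
    apply hinj ((W : Opens X) ⊓ (W' : Opens X))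
    change F.1.map (homOfLE _).op (F.1.map (homOfLE _).op (sf W)) =
      F.1.map (homOfLE _).op (F.1.map (homOfLE _).op (sf W'))
    rw [map_map_apply, map_map_apply]
    have e1 : F.1.map (homOfLE (show (W : Opens X) ⊓ (W' : Opens X) ⊓ U ≤ (W : Opens X) from
        inf_le_left.trans inf_le_left)).op (sf W) =
        F.1.map (homOfLE (show (W : Opens X) ⊓ (W' : Opens X) ⊓ U ≤ V ⊓ U from
          inf_le_inf_right U (inf_le_left.trans (hWV W)))).op t := by
      have h1 : (W : Opens X) ⊓ (W' : Opens X) ⊓ U ≤ (W : Opens X) ⊓ U :=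
        inf_le_inf_right U inf_le_left
      have := congrArg (fun z => F.1.map (homOfLE h1).op z) (hsf W)
      simp only [resInf] at this
      rw [map_map_apply, map_map_apply] at this
      exact this
    have e2 : F.1.map (homOfLE (show (W : Opens X) ⊓ (W' : Opens X) ⊓ U ≤ (W' : Opens X) from
        inf_le_left.trans inf_le_right)).op (sf W') =
        F.1.map (homOfLE (show (W : Opens X) ⊓ (W' : Opens X) ⊓ U ≤ V ⊓ U from
          inf_le_inf_right U (inf_le_left.trans (hWV W)))).op t := by
      have h1 : (W : Opens X) ⊓ (W' : Opens X) ⊓ U ≤ (W' : Opens X) ⊓ U :=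
        inf_le_inf_right U inf_le_right
      have := congrArg (fun z => F.1.map (homOfLE h1).op z) (hsf W')
      simp only [resInf] at this
      rw [map_map_apply, map_map_apply] at this
      exact this
    exact e1.trans e2.symm
  obtain ⟨s, hs, -⟩ := F.existsUnique_gluing' (fun W : Us => (W : Opens X)) V
    (fun W => homOfLE (hWV W)) (by rw [hV, sSup_eq_iSup']) sf hcompat
  refine ⟨s, ?_⟩
  -- check equality on the cover `W ⊓ U` of `V ⊓ U`
  refine F.eq_of_locally_eq' (fun W : Us => (W : Opens X) ⊓ U) (V ⊓ U)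
    (fun W => homOfLE (hWVU W)) ?_ _ _ ?_
  · rw [hV, sSup_eq_iSup']
    intro x hx
    obtain ⟨hx1, hx2⟩ := hx
    rw [Opens.coe_iSup, Set.mem_iUnion] at hx1
    obtain ⟨W, hW⟩ := hx1
    exact Opens.mem_iSup.mpr ⟨W, hW, hx2⟩
  · intro W
    change F.1.map (homOfLE (hWVU W)).op (F.1.map (homOfLE _).op s) = _
    rw [map_map_apply]
    have := congrArg (fun z => F.1.map (homOfLE (inf_le_left : (W : Opens X) ⊓ U ≤ W)).op z) (hs W)
    change F.1.map (homOfLE _).op (F.1.map (homOfLE (hWV W)).op s) = _ at this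
    rw [map_map_apply] at this
    rw [this]
    exact hsf W

end Groth.Agent.Lib.helper9.Glue
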