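import Groth.Agent.Lib.helper9.ZC2
import Groth.Agent.Lib.helper9.Glue1

/-!
# Isomorphisms of modules are detected on stalks; further germ-level lemmas
-/

universe u

open CategoryTheory CategoryTheory.Limits AlgebraicGeometry TopologicalSpace Opposite

namespace Groth.Agent.Lib.helper9.ZC

variable {X : Scheme.{u}}

/-- the underlying sheaf of abelian groups. -/
noncomputable abbrev shf (M : X.Modules) : TopCat.Sheaf Ab.{u} X.toTopCat :=
  ⟨M.presheaf, M.isSheaf⟩

lemma isIso_of_stalk_bijective {M N : X.Modules} (φ : M ⟶ N)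
    (h : ∀ x : X, Function.Bijective ((stalkF x).map φ)) : IsIso φ := by
  rw [Scheme.Modules.Hom.isIso_iff_isIso_app]
  intro U
  rw [ConcreteCategory.isIso_iff_bijective]
  let f : shf M ⟶ shf N := ⟨φ.mapPresheaf⟩
  exact TopCat.Presheaf.app_bijective_of_stalkFunctor_map_bijective f U (fun x _ => h x)

lemma stalk_bijective_of_isIso {M N : X.Modules} (φ : M ⟶ N) [IsIso φ] (x : X) :
    Function.Bijective ((stalkF x).map φ) :=
  ConcreteCategory.bijective_of_isIso ((stalkF x).map φ)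

/-- a section all of whose germs vanish is zero. -/
lemma eq_zero_of_germ_eq_zero (M : X.Modules) (U : X.Opens) (s : Γ(M, U))
    (h : ∀ (x : X) (hx : x ∈ U), M.presheaf.germ U x hx s = 0) : s = 0 := by
  refine TopCat.Presheaf.section_ext (shf M) U s 0 (fun x hx => ?_)
  rw [h x hx]
  exact (map_zero _).symm

/-- composition of restriction maps. -/
lemma map_map_op (M : X.Modules) {U V W : X.Opens} (i : V ⟶ U) (j : W ⟶ V) (k : W ⟶ U)
    (s : Γ(M, U)) : M.presheaf.map j.op (M.presheaf.map i.op s) = M.presheaf.map k.op s := by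
  have hk : k = j ≫ i := Subsingleton.elim _ _
  rw [hk, op_comp, Functor.map_comp]
  rfl

/-- restriction of sections. -/
noncomputable abbrev res (M : X.Modules) {U V : X.Opens} (h : V ≤ U) : Γ(M, U) ⟶ Γ(M, V) :=
  M.presheaf.map (homOfLE h).op

lemma res_res (M : X.Modules) {U V W : X.Opens} (h1 : V ≤ U) (h2 : W ≤ V) (s : Γ(M, U)) :
    res M h2 (res M h1 s) = res M (h2.trans h1) s :=
  map_map_op M _ _ _ s

lemma map_eq_res (M : X.Modules) {U V : X.Opens} (i : V ⟶ U) (s : Γ(M, U)) :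
    M.presheaf.map i.op s = res M i.le s := by
  have : i = homOfLE i.le := Subsingleton.elim _ _
  rw [this]

lemma germ_res (M : X.Modules) {U V : X.Opens} (h : V ≤ U) (x : X) (hx : x ∈ V) (s : Γ(M, U)) :
    M.presheaf.germ V x hx (res M h s) = M.presheaf.germ U x (h hx) s :=
  TopCat.Presheaf.germ_res_apply M.presheaf (homOfLE h) x hx s

lemma ip_mono (U : X.Opens) {V V' : X.Opens} (h : V' ≤ V) :
    U.ι ''ᵁ U.ι ⁻¹ᵁ V' ≤ U.ι ''ᵁ U.ι ⁻¹ᵁ V := by
  rw [ZClos.ι_image_preimage, ZClos.ι_image_preimage]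
  exact inf_le_inf_left U h

lemma ip_le (U V : X.Opens) : U.ι ''ᵁ U.ι ⁻¹ᵁ V ≤ V := U.ι.image_preimage_le V

variable (Z : Set X) (F : X.Modules) (x : X)

lemma rep_sub (T : ZClos.Cl Z) (V : X.Opens) (hx : x ∈ V)
    (s s' : Γ(F, T.U.ι ''ᵁ T.U.ι ⁻¹ᵁ V)) :
    rep Z F x T V hx (s - s') = rep Z F x T V hx s - rep Z F x T V hx s' := by
  unfold rep
  have h1 : ((ZClos.resPush T.U).obj F).presheaf.germ V x hx
      ((s - s' : Γ(F, T.U.ι ''ᵁ T.U.ι ⁻¹ᵁ V)) : Γ((ZClos.resPush T.U).obj F, V)) =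
      ((ZClos.resPush T.U).obj F).presheaf.germ V x hx (s : Γ((ZClos.resPush T.U).obj F, V)) -
      ((ZClos.resPush T.U).obj F).presheaf.germ V x hx (s' : Γ((ZClos.resPush T.U).obj F, V)) :=
    map_sub _ _ _
  exact (congrArg (ιStalk Z F x T) h1).trans (map_sub _ _ _)

lemma rhoStalk_eq_comp (T : ZClos.Cl Z) :
    ZClos.rhoStalk Z F x = (stalkF x).map (ZClos.toDiagram Z F T) ≫ ιStalk Z F x T := by
  have h1 : ZClos.rhoStalk Z F x =
      (stalkF x).map (ZClos.toDiagram Z F T) ≫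
        (stalkF x).map (colimit.ι ((ZClos.diagram Z).obj F) T) := by
    rw [← Functor.map_comp]
    exact congrArg (fun φ => (stalkF x).map φ) (ZClos.rhoApp_eq Z F T)
  exact h1

lemma rhoStalk_apply (T : ZClos.Cl Z) (a : F.presheaf.stalk x) :
    ZClos.rhoStalk Z F x a = ιStalk Z F x T ((stalkF x).map (ZClos.toDiagram Z F T) a) :=
  congrArg (fun φ => (ConcreteCategory.hom φ) a) (rhoStalk_eq_comp Z F x T)

/-- germs in `j_*(F|_U)` of a restricted section. -/
lemma toDiagram_germ (T : ZClos.Cl Z) (V : X.Opens) (hx : x ∈ V) (t : Γ(F, V)) :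
    (stalkF x).map (ZClos.toDiagram Z F T) (F.presheaf.germ V x hx t) =
      ((ZClos.resPush T.U).obj F).presheaf.germ V x hx
        (F.presheaf.map (homOfLE (T.U.ι.image_preimage_le V)).op t) :=
  TopCat.Presheaf.stalkFunctor_map_germ_apply V x hx (ZClos.toDiagram Z F T).mapPresheaf t

/-- germs in `j_*(F|_U)` and restriction. -/
lemma resPush_germ_res (T : ZClos.Cl Z) {V V' : X.Opens} (hV : V' ≤ V) (hx' : x ∈ V')
    (i : (T.U.ι ''ᵁ T.U.ι ⁻¹ᵁ V') ⟶ (T.U.ι ''ᵁ T.U.ι ⁻¹ᵁ V))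
    (s : Γ(F, T.U.ι ''ᵁ T.U.ι ⁻¹ᵁ V)) :
    ((ZClos.resPush T.U).obj F).presheaf.germ V x (hV hx') s =
      ((ZClos.resPush T.U).obj F).presheaf.germ V' x hx' (F.presheaf.map i.op s) := by
  have h2 := TopCat.Presheaf.germ_res_apply ((ZClos.resPush T.U).obj F).presheaf
    (homOfLE hV) x hx' s
  rw [← h2]
  congr 1

end Groth.Agent.Lib.helper9.ZC
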