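import Groth.Agent.Lib.helper9.FPLocal2
import Groth.Agent.Lib.helper9.ZC3

/-!
# A morphism of quasi-coherent modules which is bijective on sections over a cover by affine opens
is an isomorphism
-/

universe u

open AlgebraicGeometry CategoryTheory Opposite TopologicalSpace Limits

namespace Groth.Agent.Lib.helper9.QcohIso

open Scheme.Modules Groth.Agent.Lib.helper9.CohB Groth.Agent.Lib.helper9.AffSect

variable {X : Scheme.{u}}

set_option backward.isDefEq.respectTransparency false in
/-- On `Spec R`, a morphism of quasi-coherent modules inducing an isomorphism on global sections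
is an isomorphism. -/
lemma isIso_of_isIso_Γ {R : CommRingCat.{u}} {A B : (Spec R).Modules} (φ : A ⟶ B)
    [IsIso A.fromTildeΓ] [IsIso B.fromTildeΓ] (h : IsIso (moduleSpecΓFunctor.map φ)) :
    IsIso φ := by
  have nat := (fromTildeΓNatTrans (R := R)).naturality φ
  have h2 : IsIso ((tilde.functor R).map (moduleSpecΓFunctor.map φ)) := inferInstance
  have nat' : (tilde.functor R).map (moduleSpecΓFunctor.map φ) ≫ B.fromTildeΓ =
      A.fromTildeΓ ≫ φ := nat
  have : φ = inv A.fromTildeΓ ≫ (tilde.functor R).map (moduleSpecΓFunctor.map φ) ≫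
      B.fromTildeΓ := by
    rw [IsIso.eq_inv_comp]
    exact nat'.symm
  rw [this]
  infer_instance

set_option backward.isDefEq.respectTransparency false in
lemma stalk_bijective_of_restrict_isIso {Y : Scheme.{u}} (f : Y ⟶ X) [IsOpenImmersion f]
    {A B : X.Modules} (φ : A ⟶ B) [IsIso ((restrictFunctor f).map φ)] (y : Y) :
    Function.Bijective ((Groth.Agent.Lib.helper9.ZC.stalkF (f y)).map φ) := by
  have h1 : IsIso ((restrictFunctor f ⋙ toPresheaf _ ⋙
      TopCat.Presheaf.stalkFunctor _ y).map φ) := by
    rw [Functor.comp_map]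
    infer_instance
  have h2 : IsIso ((toPresheaf _ ⋙ TopCat.Presheaf.stalkFunctor _ (f y)).map φ) :=
    (NatIso.isIso_map_iff (restrictStalkNatIso f y) φ).mp h1
  exact ConcreteCategory.bijective_of_isIso _

set_option backward.isDefEq.respectTransparency false in
lemma toSect_natural {A B : X.Modules} (φ : A ⟶ B) {W : X.Opens} (hW : IsAffineOpen W)
    (n : Γmod (A.restrict hW.fromSpec)) :
    toSect B hW ((moduleSpecΓFunctor.map ((restrictFunctor hW.fromSpec).map φ)) n) =
      φ.app W (toSect A hW n) := by
  have hnat := φ.mapPresheaf.naturality (homOfLE (le_of_eq (image_top hW).symm)).op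
  exact (congr($hnat n)).symm

set_option backward.isDefEq.respectTransparency false in
/-- a morphism of quasi-coherent modules which is bijective on sections over a cover by affine
opens is an isomorphism. -/
theorem isIso_of_app_bijective {A B : X.Modules} [A.IsQuasicoherent] [B.IsQuasicoherent]
    (φ : A ⟶ B)
    (h : ∀ x : X, ∃ (W : X.Opens) (_ : IsAffineOpen W), x ∈ W ∧ Function.Bijective (φ.app W)) :
    IsIso φ := by
  apply Groth.Agent.Lib.helper9.ZC.isIso_of_stalk_bijective
  intro x
  obtain ⟨W, hW, hxW, hbij⟩ := h x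
  have hΓ : IsIso (moduleSpecΓFunctor.map ((restrictFunctor hW.fromSpec).map φ)) := by
    rw [ConcreteCategory.isIso_iff_bijective]
    constructor
    · intro n n' hnn
      have h1 := toSect_natural φ hW n
      have h2 := toSect_natural φ hW n'
      have h3 : φ.app W (toSect A hW n) = φ.app W (toSect A hW n') := by
        rw [← h1, ← h2]
        exact congrArg _ hnn
      exact (toSect_bijective A hW).1 (hbij.1 h3)
    · intro m
      obtain ⟨s, hs⟩ := hbij.2 (toSect B hW m)
      obtain ⟨n, hn⟩ := (toSect_bijective A hW).2 s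
      refine ⟨n, (toSect_bijective B hW).1 ?_⟩
      rw [toSect_natural φ hW n, hn, hs]
  haveI : IsIso (A.restrict hW.fromSpec).fromTildeΓ := inferInstance
  haveI : IsIso (B.restrict hW.fromSpec).fromTildeΓ := inferInstance
  haveI : IsIso ((restrictFunctor hW.fromSpec).map φ) := isIso_of_isIso_Γ _ hΓ
  obtain ⟨y, rfl⟩ : ∃ y, hW.fromSpec y = x := by
    have : x ∈ Set.range hW.fromSpec := by
      rw [hW.range_fromSpec]
      exact hxW
    exact this
  exact stalk_bijective_of_restrict_isIso hW.fromSpec φ y

end Groth.Agent.Lib.helper9.QcohIso
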