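import Groth.Agent.Lib.helper9.ZC4

/-!
# Monomorphisms of modules via sections and stalks; Z-pure modules
-/

universe u

open CategoryTheory CategoryTheory.Limits AlgebraicGeometry TopologicalSpace Opposite

namespace Groth.Agent.Lib.helper9.ZC

variable {X : Scheme.{u}}

lemma app_injective_of_mono {M N : X.Modules} (φ : M ⟶ N) [Mono φ] (U : X.Opens) :
    Function.Injective (φ.app U) := by
  have h1 : Mono ((Scheme.Modules.toPresheaf X).map φ) := inferInstance
  have h2 : Mono (((Scheme.Modules.toPresheaf X).map φ).app (op U)) := inferInstance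
  exact (AddCommGrpCat.mono_iff_injective _).mp h2

lemma mono_of_app_injective {M N : X.Modules} (φ : M ⟶ N)
    (h : ∀ U : X.Opens, Function.Injective (φ.app U)) : Mono φ := by
  have h1 : Mono ((Scheme.Modules.toPresheaf X).map φ) := by
    haveI : ∀ U, Mono (((Scheme.Modules.toPresheaf X).map φ).app U) := fun U =>
      (AddCommGrpCat.mono_iff_injective _).mpr (h U.unop)
    exact NatTrans.mono_of_mono_app _
  exact (Scheme.Modules.toPresheaf X).mono_of_mono_map h1

lemma stalk_injective_of_mono {M N : X.Modules} (φ : M ⟶ N) [Mono φ] (x : X) :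
    Function.Injective ((stalkF x).map φ) :=
  TopCat.Presheaf.stalkFunctor_map_injective_of_app_injective (f := φ.mapPresheaf)
    (fun U => app_injective_of_mono φ U) x

lemma mono_of_stalk_injective {M N : X.Modules} (φ : M ⟶ N)
    (h : ∀ x : X, Function.Injective ((stalkF x).map φ)) : Mono φ :=
  mono_of_app_injective φ (fun U =>
    TopCat.Presheaf.app_injective_of_stalkFunctor_map_injective (F := shf M) φ.mapPresheaf U
      (fun x _ => h x))

lemma res_injective_congr (M : X.Modules) {V A B : X.Opens} (hA : A ≤ V) (hB : B ≤ V)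
    (hAB : A ≤ B) (h : Function.Injective (res M hA)) : Function.Injective (res M hB) := by
  intro a b hab
  apply h
  have h1 : res M hAB (res M hB a) = res M hAB (res M hB b) :=
    congrArg (fun z => res M hAB z) hab
  rw [res_res, res_res] at h1
  exact h1

lemma inf_le_ip (U V : X.Opens) : V ⊓ U ≤ U.ι ''ᵁ U.ι ⁻¹ᵁ V := by
  rw [ZClos.ι_image_preimage]
  exact le_inf inf_le_right inf_le_left

lemma ip_le_inf (U V : X.Opens) : U.ι ''ᵁ U.ι ⁻¹ᵁ V ≤ V ⊓ U := by
  rw [ZClos.ι_image_preimage]
  exact le_inf inf_le_right inf_le_left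

variable (Z : Set X) (F : X.Modules)

/-- the kernel of the stalk map of `ρ`: germs of sections vanishing off some closed `T ⊆ Z`. -/
lemma rhoStalk_germ_eq_zero_iff (x : X) (V : X.Opens) (hx : x ∈ V) (t : Γ(F, V)) :
    ZClos.rhoStalk Z F x (F.presheaf.germ V x hx t) = 0 ↔
      ∃ (T : ZClos.Cl Z) (V' : X.Opens) (hV : V' ≤ V) (_ : x ∈ V'),
        res F ((ip_le T.U V').trans hV) t = 0 := by
  constructor
  · intro ha
    rw [rhoStalk_germ Z F x V hx t ⊥] at ha
    obtain ⟨T', -, V', hV, hx', i, hi⟩ := (rep_eq_zero_iff Z F x ⊥ V hx _).mp ha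
    rw [map_eq_res, map_eq_res, res_res] at hi
    exact ⟨T', V', hV, hx', hi⟩
  · rintro ⟨T, V', hV, hx', h0⟩
    rw [← germ_res F hV x hx' t, rhoStalk_germ Z F x V' hx' _ T]
    have h1 : F.presheaf.map (homOfLE (T.U.ι.image_preimage_le V')).op (res F hV t) = 0 := by
      rw [map_eq_res, res_res]
      exact h0
    rw [h1, rep_zero]

/-- if all restrictions `F(V) → F(U_T ∩ V)` are injective then `F` is `Z`-pure. -/
theorem isZPure_of_res_injective
    (hb : ∀ (T : ZClos.Cl Z) (V : X.Opens), Function.Injective (res F (ip_le T.U V))) :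
    ZClos.IsZPure Z F := by
  unfold ZClos.IsZPure
  refine mono_of_stalk_injective _ (fun x => ?_)
  change Function.Injective (ZClos.rhoStalk Z F x)
  have hinj0 : ∀ a : F.presheaf.stalk x, ZClos.rhoStalk Z F x a = 0 → a = 0 := by
    intro a ha
    obtain ⟨V, hx, t, rfl⟩ := F.presheaf.exists_germ_eq a
    obtain ⟨T, V', hV, hx', h0⟩ := (rhoStalk_germ_eq_zero_iff Z F x V hx t).mp ha
    have h2 : res F (ip_le T.U V') (res F hV t) = 0 := by
      rw [res_res]
      exact h0
    have h3 : res F hV t = 0 := by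
      apply hb T V'
      rw [h2]
      exact (map_zero _).symm
    rw [← germ_res F hV x hx' t, h3]
    exact map_zero _
  intro a b hab
  have h1 : ZClos.rhoStalk Z F x (a - b) = 0 := by
    rw [map_sub, hab, sub_self]
  exact sub_eq_zero.mp (hinj0 _ h1)

theorem mono_toDiagram_of_isZPure (h : ZClos.IsZPure Z F) (T : ZClos.Cl Z) :
    Mono (ZClos.toDiagram Z F T) := by
  have h1 : Mono (ZClos.toDiagram Z F T ≫ colimit.ι ((ZClos.diagram Z).obj F) T) := by
    rw [← ZClos.rhoApp_eq Z F T]
    exact h
  exact mono_of_mono _ (colimit.ι ((ZClos.diagram Z).obj F) T)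

theorem res_injective_of_isZPure (h : ZClos.IsZPure Z F) (T : ZClos.Cl Z) (V : X.Opens) :
    Function.Injective (res F (ip_le T.U V)) := by
  haveI := mono_toDiagram_of_isZPure Z F h T
  exact app_injective_of_mono (ZClos.toDiagram Z F T) V

end Groth.Agent.Lib.helper9.ZC
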