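import Groth.Agent.Lib.helper9.FPLocal2
import Groth.Agent.Lib.helper9.QcohIso
import Groth.Agent.S9496

/-!
# Quasi-coherence is local on affine opens; kernels and cokernels of quasi-coherent modules
-/

universe u

open AlgebraicGeometry CategoryTheory Opposite TopologicalSpace Limits

namespace Groth.Agent.Lib.helper9.QcohLocal

open Scheme.Modules Groth.Agent.Lib.helper9.CohB Groth.Agent.Lib.helper9.AffSect
  Groth.Agent.Lib.helper9.FPLocal

variable {X : Scheme.{u}}

section Restrict

variable {Y : Scheme.{u}} (f : Y ⟶ X) [IsOpenImmersion f]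

instance additive_restrictFunctor : (restrictFunctor f).Additive :=
  (restrictAdjunction f).left_adjoint_additive

instance preservesFiniteColimits_restrictFunctor : PreservesFiniteColimits (restrictFunctor f) :=
  inferInstance

set_option backward.isDefEq.respectTransparency false in
instance preservesFiniteLimits_restrictFunctor : PreservesFiniteLimits (restrictFunctor f) := by
  haveI hc : PreservesFiniteColimits (restrictFunctor f) := inferInstance
  rw [Functor.preservesFiniteLimits_iff_forall_exact_map_and_mono]
  intro S hS
  refine ⟨((Functor.preservesFiniteColimits_iff_forall_exact_map_and_epi _).mp hc S hS).1, ?_⟩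
  haveI := hS.mono_f
  exact Groth.Agent.Lib.helper9.ZC.mono_of_app_injective _
    (fun U => Groth.Agent.Lib.helper9.ZC.app_injective_of_mono S.f (f ''ᵁ U))

end Restrict

set_option backward.isDefEq.respectTransparency false in
/-- transfer of a presentation from `Spec Γ(X, U)` to `U`. -/
lemma nonempty_presentation_restrict_ι {M : X.Modules} {U : X.Opens} (hU : IsAffineOpen U)
    (Q : (M.restrict hU.fromSpec).Presentation) :
    Nonempty (M.restrict U.ι).Presentation := by
  let iso : (M.restrict hU.fromSpec).restrict hU.isoSpec.hom ≅ M.restrict U.ι :=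
    ((restrictFunctorComp hU.isoSpec.hom hU.fromSpec).app M).symm ≪≫
      (restrictFunctorCongr (show hU.isoSpec.hom ≫ hU.fromSpec = U.ι by
        rw [IsAffineOpen.fromSpec, Iso.hom_inv_id_assoc])).app M
  exact ⟨SheafOfModules.Presentation.ofIsIso.{u, u, u} iso.hom
    (presentationRestrict hU.isoSpec.hom Q)⟩

set_option backward.isDefEq.respectTransparency false in
/-- transfer of a presentation from the open subscheme `U` to the slice site. -/
lemma nonempty_presentation_over {M : X.Modules} (U : X.Opens)
    (P : (M.restrict U.ι).Presentation) :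
    Nonempty (M.over U).Presentation := by
  let E := overEquiv U
  let η₀ : E.functor.obj (SheafOfModules.unit (X.ringCatSheaf.over U)) ≅
      SheafOfModules.unit (U : Scheme.{u}).ringCatSheaf := Iso.refl _
  let η : SheafOfModules.unit (X.ringCatSheaf.over U) ≅
      E.inverse.obj (SheafOfModules.unit (U : Scheme.{u}).ringCatSheaf) :=
    E.unitIso.app _ ≪≫ E.inverse.mapIso η₀
  have : PreservesColimitsOfSize.{u, u} E.inverse := inferInstance
  let iso : E.inverse.obj (M.restrict U.ι) ≅ M.over U :=
    E.inverse.mapIso ((overFunctorEquiv U).app M).symm ≪≫ (E.unitIso.app (M.over U)).symm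
  exact ⟨SheafOfModules.Presentation.ofIsIso.{u, u, u} iso.hom (P.map E.inverse η)⟩

set_option backward.isDefEq.respectTransparency false in
/-- quasi-coherence can be checked on a cover by affine opens. -/
theorem isQuasicoherent_of_forall_exists (M : X.Modules)
    (h : ∀ x : X, ∃ (W : X.Opens) (hW : IsAffineOpen W), x ∈ W ∧
      (M.restrict hW.fromSpec).IsQuasicoherent) :
    M.IsQuasicoherent := by
  have key : ∀ x : X, ∃ W : X.Opens, x ∈ W ∧ Nonempty (M.over W).Presentation := by
    intro x
    obtain ⟨W, hW, hxW, hqc⟩ := h x
    haveI := hqc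
    haveI hiso : IsIso (M.restrict hW.fromSpec).fromTildeΓ := inferInstance
    let P₀ : (tilde (Γmod (M.restrict hW.fromSpec))).Presentation :=
      presentationTilde.{u} _ .univ (by simp) _ (Submodule.span_eq _)
    obtain ⟨P₂⟩ := nonempty_presentation_restrict_ι hW
      (SheafOfModules.Presentation.ofIsIso.{u, u, u} (M.restrict hW.fromSpec).fromTildeΓ P₀)
    exact ⟨W, hxW, nonempty_presentation_over W P₂⟩
  choose W hxW Q using key
  have cov : (Opens.grothendieckTopology X).CoversTop W := by
    rw [Opens.coversTop_iff, IsOpenCover]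
    exact eq_top_iff.mpr fun x _ => Opens.mem_iSup.mpr ⟨x, hxW x⟩
  let q : M.QuasicoherentData :=
    { I := X, X := W, coversTop := cov, presentation := fun i => (Q i).some }
  exact q.isQuasicoherent

set_option backward.isDefEq.respectTransparency false in
/-- kernels of morphisms of quasi-coherent modules are quasi-coherent. -/
theorem isQuasicoherent_kernel {F G : X.Modules} [F.IsQuasicoherent] [G.IsQuasicoherent]
    (φ : F ⟶ G) : (kernel φ).IsQuasicoherent := by
  apply isQuasicoherent_of_forall_exists
  intro x
  obtain ⟨W, hW, hxW, -⟩ := exists_isAffineOpen_mem_and_subset (show x ∈ (⊤ : X.Opens) from trivial)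
  refine ⟨W, hW, hxW, ?_⟩
  haveI : (F.restrict hW.fromSpec).IsQuasicoherent := inferInstance
  haveI : (G.restrict hW.fromSpec).IsQuasicoherent := inferInstance
  have h1 := (Groth.Agent.S9496.main Γ(X, W) ((restrictFunctor hW.fromSpec).map φ)).1
  exact (SheafOfModules.isQuasicoherent (Spec Γ(X, W)).ringCatSheaf).prop_of_iso
    (PreservesKernel.iso (restrictFunctor hW.fromSpec) φ).symm h1

set_option backward.isDefEq.respectTransparency false in
/-- cokernels of morphisms of quasi-coherent modules are quasi-coherent. -/
theorem isQuasicoherent_cokernel {F G : X.Modules} [F.IsQuasicoherent] [G.IsQuasicoherent]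
    (φ : F ⟶ G) : (cokernel φ).IsQuasicoherent := by
  apply isQuasicoherent_of_forall_exists
  intro x
  obtain ⟨W, hW, hxW, -⟩ := exists_isAffineOpen_mem_and_subset (show x ∈ (⊤ : X.Opens) from trivial)
  refine ⟨W, hW, hxW, ?_⟩
  haveI : (F.restrict hW.fromSpec).IsQuasicoherent := inferInstance
  haveI : (G.restrict hW.fromSpec).IsQuasicoherent := inferInstance
  have h1 := (Groth.Agent.S9496.main Γ(X, W) ((restrictFunctor hW.fromSpec).map φ)).2
  exact (SheafOfModules.isQuasicoherent (Spec Γ(X, W)).ringCatSheaf).prop_of_iso
    (PreservesCokernel.iso (restrictFunctor hW.fromSpec) φ).symm h1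

set_option backward.isDefEq.respectTransparency false in
/-- on an affine scheme, an epimorphism of quasi-coherent modules is surjective on global
sections. -/
lemma epi_Γ_of_epi {R : CommRingCat.{u}} {A B : (Spec R).Modules} [A.IsQuasicoherent]
    [B.IsQuasicoherent] (π : A ⟶ B) [Epi π] : Epi (moduleSpecΓFunctor.map π) := by
  have nat : (tilde.functor R).map (moduleSpecΓFunctor.map π) ≫ B.fromTildeΓ =
      A.fromTildeΓ ≫ π := (fromTildeΓNatTrans (R := R)).naturality π
  haveI : IsIso A.fromTildeΓ := inferInstance
  haveI : IsIso B.fromTildeΓ := inferInstance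
  have h1 : (tilde.functor R).map (moduleSpecΓFunctor.map π) =
      A.fromTildeΓ ≫ π ≫ inv B.fromTildeΓ := by
    rw [← Category.assoc, ← nat, Category.assoc, IsIso.hom_inv_id, Category.comp_id]
  haveI : Epi ((tilde.functor R).map (moduleSpecΓFunctor.map π)) := by
    rw [h1]
    infer_instance
  exact (tilde.functor R).epi_of_epi_map inferInstance

set_option backward.isDefEq.respectTransparency false in
/-- on a locally Noetherian scheme, a quasi-coherent quotient of a coherent module is of finite
presentation. -/
theorem isFinitePresentation_of_epi [IsLocallyNoetherian X] {G C : X.Modules} (π : G ⟶ C) [Epi π]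
    [G.IsQuasicoherent] [SheafOfModules.IsFiniteType.{u} G] [C.IsQuasicoherent] :
    SheafOfModules.IsFinitePresentation.{u} C := by
  apply isFinitePresentation_of_forall_exists
  intro x
  obtain ⟨W, hW, hxW, hNoeth, hfin⟩ := exists_good_affine G x
  haveI := hNoeth
  haveI := hfin
  haveI : (G.restrict hW.fromSpec).IsQuasicoherent := inferInstance
  haveI : (C.restrict hW.fromSpec).IsQuasicoherent := inferInstance
  haveI : Epi ((restrictFunctor hW.fromSpec).map π) := inferInstance
  haveI hepi := epi_Γ_of_epi ((restrictFunctor hW.fromSpec).map π)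
  have hsurj : Function.Surjective
      (moduleSpecΓFunctor.map ((restrictFunctor hW.fromSpec).map π)).hom :=
    (ModuleCat.epi_iff_surjective _).mp hepi
  let g : Γmod (G.restrict hW.fromSpec) →ₗ[Γ(X, W)] Γmod (C.restrict hW.fromSpec) :=
    (moduleSpecΓFunctor.map ((restrictFunctor hW.fromSpec).map π)).hom
  haveI : Module.Finite Γ(X, W) (Γmod (C.restrict hW.fromSpec)) :=
    Module.Finite.of_surjective g hsurj
  exact ⟨W, hW, hxW, Module.finitePresentation_of_finite _ _⟩

end Groth.Agent.Lib.helper9.QcohLocal
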