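import Groth.Agent.Lib.helper9.Depth7
import Groth.Agent.Lib.helper9.LocalAlg
import Mathlib.RingTheory.Regular.Flat
import Mathlib.RingTheory.Ideal.AssociatedPrime.Localization
import Mathlib.Algebra.Module.LocalizedModule.Submodule
import Mathlib.RingTheory.Localization.Finiteness

/-!
# Depth and localization
-/

universe u

open CategoryTheory RingTheory.Sequence Pointwise

namespace Groth.Agent.Lib.helper9.Depth

open LocCoh

section Support

variable {A : Type u} [CommRing A] (p : Ideal A) [p.IsPrime] (M : Type u) [AddCommGroup M]
  [Module A M]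

lemma comap_mem_support_of_mem_support [Module.Finite A M]
    (Q : PrimeSpectrum (Localization.AtPrime p))
    (hQ : Q ∈ Module.support (Localization.AtPrime p) (LocalizedModule p.primeCompl M)) :
    PrimeSpectrum.comap (algebraMap A (Localization.AtPrime p)) Q ∈ Module.support A M := by
  rw [Module.mem_support_iff_of_finite]
  intro r hr
  have hQ' := Module.annihilator_le_of_mem_support hQ
  change algebraMap A (Localization.AtPrime p) r ∈ Q.asIdeal
  apply hQ'
  rw [Module.mem_annihilator]
  intro x
  induction x using LocalizedModule.induction_on with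
  | h m s =>
    rw [algebraMap_smul, LocalizedModule.smul'_mk, Module.mem_annihilator.mp hr m,
      LocalizedModule.zero_mk]

lemma mk_eq_zero_iff' (m : M) (s : p.primeCompl) :
    (LocalizedModule.mk m s : LocalizedModule p.primeCompl M) = 0 ↔
      ∃ t : p.primeCompl, t • m = 0 := by
  rw [← LocalizedModule.zero_mk (1 : p.primeCompl), LocalizedModule.mk_eq]
  constructor
  · rintro ⟨u, hu⟩
    refine ⟨u, ?_⟩
    rw [one_smul, smul_zero, smul_zero] at hu
    exact hu
  · rintro ⟨t, ht⟩
    exact ⟨t, by rw [one_smul, ht, smul_zero, smul_zero]⟩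

lemma mem_support_of_comap_mem_support [Module.Finite A M]
    (Q : PrimeSpectrum (Localization.AtPrime p))
    (h : PrimeSpectrum.comap (algebraMap A (Localization.AtPrime p)) Q ∈ Module.support A M) :
    Q ∈ Module.support (Localization.AtPrime p) (LocalizedModule p.primeCompl M) := by
  classical
  rw [Module.mem_support_iff_of_finite] at h ⊢
  intro z hz
  induction z using Localization.induction_on with
  | H y =>
    obtain ⟨a, s⟩ := y
    obtain ⟨G, hG⟩ := (Module.Finite.fg_top : (⊤ : Submodule A M).FG)
    have hex : ∀ g : M, ∃ t : p.primeCompl, t • a • g = 0 := by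
      intro g
      have h0 := Module.mem_annihilator.mp hz (LocalizedModule.mk g (1 : p.primeCompl))
      rw [LocalizedModule.mk_smul_mk, mul_one, mk_eq_zero_iff'] at h0
      exact h0
    choose t ht using hex
    let T : p.primeCompl := ∏ g ∈ G, t g
    have hTa : (T : A) * a ∈ Module.annihilator A M := by
      rw [← Submodule.annihilator_top, ← hG, Submodule.mem_annihilator_span]
      rintro ⟨g, hg⟩
      obtain ⟨c, hc⟩ := Finset.dvd_prod_of_mem t hg
      change ((T : A) * a) • g = 0
      have hT : (T : A) = (c : A) * (t g : A) := by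
        change ((∏ g ∈ G, t g : p.primeCompl) : A) = _
        rw [hc, Submonoid.coe_mul, mul_comm]
      rw [hT, mul_assoc, mul_smul]
      have := ht g
      rw [Submonoid.smul_def, smul_smul] at this
      rw [this, smul_zero]
    have h1 : algebraMap A (Localization.AtPrime p) ((T : A) * a) ∈ Q.asIdeal := h hTa
    rw [map_mul] at h1
    have hunit : IsUnit (algebraMap A (Localization.AtPrime p) (T : A)) :=
      IsLocalization.map_units (Localization.AtPrime p) T
    have h2 : algebraMap A (Localization.AtPrime p) a ∈ Q.asIdeal := by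
      rcases Q.2.mem_or_mem h1 with h | h
      · exact absurd (Ideal.eq_top_of_isUnit_mem _ h hunit) Q.2.ne_top
      · exact h
    have h3 : Localization.mk a s =
        algebraMap A (Localization.AtPrime p) a * Localization.mk 1 s := by
      rw [← Localization.mk_one_eq_algebraMap, Localization.mk_mul, mul_one, one_mul]
    rw [h3]
    exact Ideal.mul_mem_right _ _ h2

end Support


section DepthLoc

variable {A : Type u} [CommRing A] [IsNoetherianRing A] (I : Ideal A) (M : Type u) [AddCommGroup M]
  [Module A M] [Module.Finite A M] (p : Ideal A) [p.IsPrime]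

instance : IsNoetherianRing (Localization.AtPrime p) :=
  IsLocalization.isNoetherianRing p.primeCompl _ inferInstance

omit [IsNoetherianRing A] [Module.Finite A M] in
lemma localized'_smul_top (J : Ideal A) :
    (J • (⊤ : Submodule A M)).localized' (Localization.AtPrime p) p.primeCompl
      (LocalizedModule.mkLinearMap p.primeCompl M) =
    (J.map (algebraMap A (Localization.AtPrime p))) •
      (⊤ : Submodule (Localization.AtPrime p) (LocalizedModule p.primeCompl M)) := by
  rw [Submodule.localized'_smul, Submodule.localized'_top]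
  congr 1
  rw [Submodule.localized'_eq_span]
  rfl

omit [IsNoetherianRing A] [Module.Finite A M] in
lemma map_le_maximalIdeal_of_le {J : Ideal A} (hJ : J ≤ p) :
    J.map (algebraMap A (Localization.AtPrime p)) ≤
      IsLocalRing.maximalIdeal (Localization.AtPrime p) := by
  rw [Ideal.map_le_iff_le_comap]
  intro a ha
  exact (IsLocalization.AtPrime.to_map_mem_maximal_iff (Localization.AtPrime p) p a).mpr (hJ ha)

/-- `depth_I M ≤ depth M_p` for `p ⊇ I`. -/
theorem idealDepth_le_depth_localization (hIp : I ≤ p) :
    idealDepth I M ≤ depth (Localization.AtPrime p) (LocalizedModule p.primeCompl M) := by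
  rw [← ENat.forall_natCast_le_iff_le]
  intro n hn
  by_cases hMp : IsLocalRing.maximalIdeal (Localization.AtPrime p) •
      (⊤ : Submodule (Localization.AtPrime p) (LocalizedModule p.primeCompl M)) = ⊤
  · unfold depth
    rw [idealDepth_eq_top _ _ hMp]
    exact le_top
  have hIM : I • (⊤ : Submodule A M) ≠ ⊤ := by
    intro h
    apply hMp
    have h1 := localized'_smul_top M p I
    rw [h, Submodule.localized'_top] at h1
    exact top_le_iff.mp (h1.le.trans (Submodule.smul_mono_left (map_le_maximalIdeal_of_le p hIp)))
  obtain ⟨rs, hlen, hreg, hmem⟩ := (le_idealDepth_iff hIM n).mp hn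
  have hreg' : IsWeaklyRegular (LocalizedModule p.primeCompl M)
      (rs.map (algebraMap A (Localization.AtPrime p))) :=
    hreg.of_isLocalizedModule (Localization.AtPrime p) p.primeCompl
      (LocalizedModule.mkLinearMap p.primeCompl M)
  have hmem' : ∀ r ∈ rs.map (algebraMap A (Localization.AtPrime p)),
      r ∈ IsLocalRing.maximalIdeal (Localization.AtPrime p) := by
    intro r hr
    obtain ⟨a, ha, rfl⟩ := List.mem_map.mp hr
    exact (IsLocalization.AtPrime.to_map_mem_maximal_iff (Localization.AtPrime p) p a).mpr
      (hIp (hmem a ha))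
  have := length_le_idealDepth hreg' hmem'
  rw [List.length_map, hlen] at this
  exact this

/-- There is a prime `p ⊇ I` with `depth M_p = depth_I M`. -/
theorem exists_prime_depth_localization_eq (hIM : I • (⊤ : Submodule A M) ≠ ⊤) :
    ∃ p : PrimeSpectrum A, I ≤ p.asIdeal ∧
      depth (Localization.AtPrime p.asIdeal) (LocalizedModule p.asIdeal.primeCompl M) =
        idealDepth I M := by
  obtain ⟨rs, -, hreg, hmem, hmax⟩ := exists_maximal_extension M hIM [] (IsWeaklyRegular.nil A M)
    (by simp)
  have hlen := length_eq_idealDepth_of_maximal rs M hIM hreg hmem hmax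
  let K : Submodule A M := Ideal.ofList rs • ⊤
  have hKne : K ≠ ⊤ := fun h =>
    hIM (top_le_iff.mp (h.ge.trans (Submodule.smul_mono_left (Ideal.span_le.mpr hmem))))
  haveI : Nontrivial (M ⧸ K) := Submodule.Quotient.nontrivial_iff.mpr hKne
  have hno : ∀ x ∈ I, ¬ IsSMulRegular (M ⧸ K) x := by
    intro x hx hx'
    apply hmax x hx
    rw [isWeaklyRegular_append_iff, isWeaklyRegular_singleton_iff]
    exact ⟨hreg, hx'⟩
  obtain ⟨q, hq, hIq⟩ := exists_associatedPrime_ge_of_no_regular I (M ⧸ K) hno
  haveI := hq.isPrime
  let S := Localization.AtPrime q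
  let f := LocalizedModule.mkLinearMap q.primeCompl M
  have hass : IsLocalRing.maximalIdeal S ∈ associatedPrimes S
      (LocalizedModule q.primeCompl M ⧸ K.localized' S q.primeCompl f) := by
    apply Module.associatedPrimes.mem_associatedPrimes_of_comap_mem_associatedPrimes_of_isLocalizedModule
      q.primeCompl (K.toLocalizedQuotient' S q.primeCompl f)
    have hcomap : Ideal.comap (algebraMap A S) (IsLocalRing.maximalIdeal S) = q :=
      Localization.AtPrime.under_maximalIdeal
    rw [hcomap]
    exact hq
  have hK : K.localized' S q.primeCompl f =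
      Ideal.ofList (rs.map (algebraMap A S)) • (⊤ : Submodule S (LocalizedModule q.primeCompl M)) := by
    rw [← Ideal.map_ofList]
    exact localized'_smul_top M q (Ideal.ofList rs)
  rw [hK] at hass
  have hreg' : IsWeaklyRegular (LocalizedModule q.primeCompl M) (rs.map (algebraMap A S)) :=
    hreg.of_isLocalizedModule S q.primeCompl f
  have hmem' : ∀ r ∈ rs.map (algebraMap A S), r ∈ IsLocalRing.maximalIdeal S := by
    intro r hr
    obtain ⟨a, ha, rfl⟩ := List.mem_map.mp hr
    exact (IsLocalization.AtPrime.to_map_mem_maximal_iff S q a).mpr (hIq (hmem a ha))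
  have hmax' : ∀ r ∈ IsLocalRing.maximalIdeal S,
      ¬ IsWeaklyRegular (LocalizedModule q.primeCompl M) (rs.map (algebraMap A S) ++ [r]) := by
    intro r hr h
    rw [isWeaklyRegular_append_iff, isWeaklyRegular_singleton_iff] at h
    exact Groth.Agent.Lib.helper9.LocalAlg.not_regular_of_mem_ass S _ hass r hr h.2
  haveI : Nontrivial (LocalizedModule q.primeCompl M) := by
    by_contra hn
    rw [not_nontrivial_iff_subsingleton] at hn
    exact not_isAssociatedPrime_of_subsingleton hass
  have h2 := length_eq_idealDepth_of_maximal (rs.map (algebraMap A S))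
    (LocalizedModule q.primeCompl M) (maximalIdeal_smul_top_ne_top _) hreg' hmem' hmax'
  refine ⟨⟨q, inferInstance⟩, hIq, ?_⟩
  change idealDepth (IsLocalRing.maximalIdeal S) (LocalizedModule q.primeCompl M) = _
  rw [← h2, List.length_map, hlen]

/-- `depth_I M = inf_{p ⊇ I} depth M_p`. -/
theorem idealDepth_eq_iInf_depth_localization :
    idealDepth I M = ⨅ (p : PrimeSpectrum A) (_ : I ≤ p.asIdeal),
      depth (Localization.AtPrime p.asIdeal) (LocalizedModule p.asIdeal.primeCompl M) := by
  apply le_antisymm
  · exact le_iInf₂ fun p hp => idealDepth_le_depth_localization I M p.asIdeal hp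
  · by_cases hIM : I • (⊤ : Submodule A M) = ⊤
    · rw [idealDepth_eq_top I M hIM]
      exact le_top
    · obtain ⟨p, hp, heq⟩ := exists_prime_depth_localization_eq I M hIM
      exact iInf₂_le_of_le p hp heq.le

end DepthLoc

end Groth.Agent.Lib.helper9.Depth
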