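import Groth.Agent.Lib.helper9.Sect1

/-!
# Converse: bijectivity of restriction forces depth ≥ 2 outside `U`
-/

universe u

open AlgebraicGeometry CategoryTheory Opposite TopologicalSpace RingTheory.Sequence Pointwise

namespace Groth.Agent.Lib.helper9.Sect

open LocCoh Groth.Agent.Lib.helper9.Depth

variable {A : Type u} [CommRing A] {M : Type u} [AddCommGroup M] [Module A M]

/-- if `p ∉ U` (`U` open) and `x ∈ U` then some element of `p` lies outside `x`. -/
lemma exists_mem_notMem_of_notMem_opens (U : Opens (PrimeSpectrum.Top A)) {p : PrimeSpectrum A}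
    (hp : p ∉ U) (x : U) : ∃ f ∈ p.asIdeal, f ∉ x.1.asIdeal := by
  by_contra hcon
  push Not at hcon
  have hle : p ≤ x.1 := hcon
  have hspec : p ⤳ x.1 := (PrimeSpectrum.le_iff_specializes p x.1).mp hle
  exact hp (hspec.mem_open U.2 x.2)

variable [IsNoetherianRing A]

/-- injectivity of `Γ(Spec A, M~) → Γ(U, M~)` forces the associated primes of `M` into `U`. -/
theorem ass_subset_of_res_injective (U : Opens (PrimeSpectrum.Top A))
    (hinj : Function.Injective (res (M := M) (le_top : U ≤ ⊤)))
    (p : PrimeSpectrum A) (hp : p.asIdeal ∈ associatedPrimes A M) : p ∈ U := by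
  by_contra hpU
  obtain ⟨hprime, m, hm⟩ := isAssociatedPrime_iff.mp hp
  have hzero : res (M := M) (le_top : U ≤ ⊤) (StructureSheaf.toOpenₗ A M ⊤ m) =
      res (le_top : U ≤ ⊤) (StructureSheaf.toOpenₗ A M ⊤ 0) := by
    apply Subtype.ext
    funext x
    change (LocalizedModule.mk m 1 : LocalizedModule x.1.asIdeal.primeCompl M) =
      LocalizedModule.mk 0 1
    obtain ⟨f, hfp, hfx⟩ := exists_mem_notMem_of_notMem_opens U hpU x
    rw [LocalizedModule.zero_mk, mk_eq_zero_iff']
    refine ⟨⟨f, hfx⟩, ?_⟩
    change f • m = 0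
    rw [hm, Submodule.mem_colon_singleton, Submodule.mem_bot] at hfp
    exact hfp
  have h0 : m = 0 := StructureSheaf.toOpenₗ_top_bijective.1 (hinj hzero)
  apply hprime.ne_top
  rw [hm, h0]
  rw [eq_top_iff]
  intro r _
  rw [Submodule.mem_colon_singleton, smul_zero]
  exact Submodule.zero_mem _

variable [Module.Finite A M]

/-- bijectivity of `Γ(Spec A, M~) → Γ(U, M~)` forces `depth M_p ≥ 2` for `p ∉ U`. -/
theorem two_le_depth_of_res_bijective (U : Opens (PrimeSpectrum.Top A))
    (hbij : Function.Bijective (res (M := M) (le_top : U ≤ ⊤)))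
    (p : PrimeSpectrum A) (hp : p ∉ U) :
    2 ≤ depth (Localization.AtPrime p.asIdeal) (LocalizedModule p.asIdeal.primeCompl M) := by
  classical
  have hass := ass_subset_of_res_injective U hbij.1
  have hone : ∀ q : PrimeSpectrum A, q ∉ U →
      1 ≤ depth (Localization.AtPrime q.asIdeal) (LocalizedModule q.asIdeal.primeCompl M) := by
    intro q hq
    rw [Order.one_le_iff_ne_zero, Ne, depth_localization_eq_zero_iff]
    exact fun h => hq (hass q h)
  by_contra hlt
  have hdp : depth (Localization.AtPrime p.asIdeal) (LocalizedModule p.asIdeal.primeCompl M) = 1 := by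
    apply le_antisymm _ (hone p hp)
    rw [not_le] at hlt
    exact Order.le_of_lt_add_one (by
      have e : (2 : ℕ∞) = 1 + 1 := by norm_num
      rwa [e] at hlt)
  -- the ideal of the closed complement
  set J := PrimeSpectrum.vanishingIdeal ((U.1 : Set (PrimeSpectrum A))ᶜ) with hJ
  have hV : ∀ q : PrimeSpectrum A, J ≤ q.asIdeal ↔ q ∉ U := by
    intro q
    have h1 : PrimeSpectrum.zeroLocus (J : Set A) = (U.1 : Set (PrimeSpectrum A))ᶜ := by
      rw [hJ, PrimeSpectrum.zeroLocus_vanishingIdeal_eq_closure]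
      exact (U.2.isClosed_compl).closure_eq
    have h2 : q ∈ PrimeSpectrum.zeroLocus (J : Set A) ↔ q ∈ (U.1 : Set (PrimeSpectrum A))ᶜ := by
      rw [h1]; exact Iff.rfl
    rw [PrimeSpectrum.mem_zeroLocus] at h2
    exact h2
  have hJdepth : idealDepth J M = 1 := by
    apply le_antisymm
    · rw [← hdp]
      exact idealDepth_le_depth_localization J M p.asIdeal ((hV p).mpr hp)
    · rw [idealDepth_eq_iInf_depth_localization]
      exact le_iInf₂ fun q hq => hone q ((hV q).mp hq)
  have hJM : J • (⊤ : Submodule A M) ≠ ⊤ := by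
    intro h
    rw [idealDepth_eq_top J M h] at hJdepth
    exact absurd hJdepth (by decide)
  obtain ⟨rs, hlen, hreg, hmem⟩ := DepthHom.exists_of_le_idealDepth (I := J) (M := M) 1
    (by rw [hJdepth]; rfl)
  match rs, hlen with
  | [u], _ =>
    rw [isWeaklyRegular_singleton_iff] at hreg
    have huJ : u ∈ J := hmem u (by simp)
    have hq0 : idealDepth J (QuotSMulTop u M) = 0 := by
      have h1 := idealDepth_quotSMulTop_add_one hJM huJ hreg
      rw [hJdepth] at h1
      have : idealDepth J (QuotSMulTop u M) + 1 = 0 + 1 := by rw [zero_add]; exact h1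
      exact WithTop.add_right_cancel (by decide) this
    haveI : Nontrivial (QuotSMulTop u M) := by
      by_contra hcon
      rw [not_nontrivial_iff_subsingleton] at hcon
      rw [idealDepth_eq_top J _ (Subsingleton.elim _ _)] at hq0
      exact absurd hq0 (by decide)
    obtain ⟨P, hP, hJP⟩ := exists_associatedPrime_ge_of_no_regular J (QuotSMulTop u M)
      (no_regular_of_idealDepth_eq_zero hq0)
    obtain ⟨hPprime, mbar, hmbar⟩ := isAssociatedPrime_iff.mp hP
    obtain ⟨m, rfl⟩ := Submodule.Quotient.mk_surjective _ mbar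
    have hmu : m ∉ (u • (⊤ : Submodule A M) : Submodule A M) := by
      intro hmem'
      apply hPprime.ne_top
      rw [hmbar, eq_top_iff]
      intro r _
      rw [Submodule.mem_colon_singleton, (Submodule.Quotient.mk_eq_zero _).mpr hmem', smul_zero]
      exact Submodule.zero_mem _
    have hJm : ∀ f ∈ J, ∃ n : M, u • n = f • m := by
      intro f hf
      have h1 : f ∈ P := hJP hf
      rw [hmbar, Submodule.mem_colon_singleton, Submodule.mem_bot, ← Submodule.Quotient.mk_smul,
        Submodule.Quotient.mk_eq_zero, Submodule.mem_smul_pointwise_iff_exists] at h1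
      obtain ⟨n, -, hn⟩ := h1
      exact ⟨n, hn⟩
    -- choose denominators
    have hex : ∀ x : U, ∃ f ∈ J, f ∉ x.1.asIdeal := by
      intro x
      have : ¬ J ≤ x.1.asIdeal := fun h => (hV x.1).mp h x.2
      exact SetLike.not_le_iff_exists.mp this
    choose f hfJ hfx using hex
    choose n hn using fun x : U => hJm (f x) (hfJ x)
    have hsm : ∀ (y : PrimeSpectrum A) (g : A) (hg : g ∉ y.asIdeal) (k : M), u • k = g • m →
        u • (LocalizedModule.mk k ⟨g, hg⟩ : LocalizedModule y.asIdeal.primeCompl M) =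
          LocalizedModule.mk m 1 := by
      intro y g hg k hk
      rw [LocalizedModule.smul'_mk, hk]
      exact LocalizedModule.mk_cancel (⟨g, hg⟩ : y.asIdeal.primeCompl) m
    let s : Sec A M U := ⟨fun x => LocalizedModule.mk (n x) ⟨f x, hfx x⟩, by
      intro x
      have hle : PrimeSpectrum.basicOpen (f x) ≤ U := by
        intro y hy
        by_contra hyU
        exact hy ((hV y).mpr hyU (hfJ x))
      refine ⟨PrimeSpectrum.basicOpen (f x), hfx x, homOfLE hle, n x, f x, fun y => ⟨y.2, ?_⟩⟩
      apply (isSMulRegular_localizedModule y.1.asIdeal hreg)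
      change u • (LocalizedModule.mk (n ⟨y.1, hle y.2⟩) ⟨f ⟨y.1, hle y.2⟩, hfx ⟨y.1, hle y.2⟩⟩ :
          LocalizedModule y.1.asIdeal.primeCompl M) =
        u • LocalizedModule.mk (n x) ⟨f x, y.2⟩
      rw [hsm y.1 _ _ _ (hn ⟨y.1, hle y.2⟩), hsm y.1 _ y.2 _ (hn x)]⟩
    obtain ⟨s₀, hs₀⟩ := hbij.2 s
    obtain ⟨m₀, rfl⟩ := exists_toOpen_eq s₀
    apply hmu
    have : u • m₀ - m = 0 := by
      apply eq_zero_of_ass_subset U hass
      intro x
      have h1 := congrArg (fun z : Sec A M U => z.1 x) hs₀
      change (LocalizedModule.mk m₀ 1 : LocalizedModule x.1.asIdeal.primeCompl M) =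
        LocalizedModule.mk (n x) ⟨f x, hfx x⟩ at h1
      have h2 : u • (LocalizedModule.mk m₀ 1 : LocalizedModule x.1.asIdeal.primeCompl M) =
          LocalizedModule.mk m 1 := by
        rw [h1]
        exact hsm x.1 _ _ _ (hn x)
      rw [LocalizedModule.smul'_mk] at h2
      rw [← mk_sub_mk_one, h2, sub_self]
    rw [← sub_eq_zero.mp this]
    exact Submodule.smul_mem_pointwise_smul m₀ u ⊤ Submodule.mem_top

end Groth.Agent.Lib.helper9.Sect
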