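import Groth.Agent.Lib.helper9.Glue1
import Groth.Agent.Lib.helper9.Sect2
import Groth.Agent.Lib.helper9.Depth11
import Mathlib.AlgebraicGeometry.Noetherian

/-!
# Sections of the structure sheaf extend across closed subsets of depth `≥ 2`
-/

universe u

open AlgebraicGeometry CategoryTheory Opposite TopologicalSpace

namespace Groth.Agent.Lib.helper9.Glue

open LocCoh Groth.Agent.Lib.helper9.Depth Groth.Agent.Lib.helper9.Sect

/-- bijectivity of a restriction map only depends on the opens. -/
lemma bijective_map_congr {C : Type*} [Category C] {FC : C → C → Type*} {CC : C → Type*}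
    [∀ X Y, FunLike (FC X Y) (CC X) (CC Y)] [ConcreteCategory C FC]
    {X : TopCat} (P : TopCat.Presheaf C X) {V₁ V₁' V₂ V₂' : Opens X}
    (h₁ : V₁ = V₁') (h₂ : V₂ = V₂') (le : V₂ ≤ V₁) (le' : V₂' ≤ V₁') :
    Function.Bijective (P.map (homOfLE le).op) ↔ Function.Bijective (P.map (homOfLE le').op) := by
  subst h₁ h₂
  rfl

/-- depth of the local ring of a scheme at a point of an affine open, computed in the affine
coordinate ring. -/
lemma depth_stalk_eq {X : Scheme.{u}} {W : X.Opens} (hW : IsAffineOpen W)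
    (q : PrimeSpectrum Γ(X, W)) :
    depth (Localization.AtPrime q.asIdeal) (LocalizedModule q.asIdeal.primeCompl Γ(X, W)) =
      depth (X.presheaf.stalk (hW.fromSpec q)) (X.presheaf.stalk (hW.fromSpec q)) := by
  have hq : hW.fromSpec q ∈ W := by
    have : hW.fromSpec q ∈ hW.fromSpec.opensRange := ⟨q, rfl⟩
    rwa [hW.opensRange_fromSpec] at this
  letI : Algebra Γ(X, W) (X.presheaf.stalk (hW.fromSpec q)) :=
    TopCat.Presheaf.algebra_section_stalk X.presheaf ⟨hW.fromSpec q, hq⟩
  haveI : IsLocalization.AtPrime (X.presheaf.stalk (hW.fromSpec q)) q.asIdeal :=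
    hW.isLocalization_stalk' q hq
  haveI : IsLocalizedModule q.asIdeal.primeCompl
      (Algebra.linearMap Γ(X, W) (X.presheaf.stalk (hW.fromSpec q))) :=
    (isLocalizedModule_iff_isLocalization).mpr inferInstance
  exact depth_eq_of_isLocalizedModule q.asIdeal (X.presheaf.stalk (hW.fromSpec q))
    (Algebra.linearMap Γ(X, W) (X.presheaf.stalk (hW.fromSpec q)))

/-- affine case. -/
theorem structureSheaf_res_bijective_of_isAffineOpen {X : Scheme.{u}} {W : X.Opens}
    (hW : IsAffineOpen W) [IsNoetherianRing Γ(X, W)] (U : X.Opens)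
    (hdepth : ∀ x : X, x ∉ U →
      2 ≤ depth (X.presheaf.stalk x) (X.presheaf.stalk x)) :
    Function.Bijective (X.presheaf.map (homOfLE (inf_le_left : W ⊓ U ≤ W)).op) := by
  set f := hW.fromSpec with hf
  set U' : (Spec Γ(X, W)).Opens := f ⁻¹ᵁ U with hU'
  have h1 : f ''ᵁ (⊤ : (Spec Γ(X, W)).Opens) = W := by
    rw [Scheme.Hom.image_top_eq_opensRange, hW.opensRange_fromSpec]
  have h2 : f ''ᵁ U' = W ⊓ U := by
    rw [hU', Scheme.Hom.image_preimage_eq_opensRange_inf, hW.opensRange_fromSpec]
  have hle : f ''ᵁ U' ≤ f ''ᵁ (⊤ : (Spec Γ(X, W)).Opens) := f.image_mono le_top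
  rw [← bijective_map_congr X.presheaf h1 h2 hle inf_le_left]
  -- the affine statement
  have hdepth' : ∀ q : PrimeSpectrum Γ(X, W), q ∉ U' →
      2 ≤ depth (Localization.AtPrime q.asIdeal)
        (LocalizedModule q.asIdeal.primeCompl Γ(X, W)) := by
    intro q hq
    rw [depth_stalk_eq hW q]
    exact hdepth _ hq
  have hass : ∀ q : PrimeSpectrum Γ(X, W), q.asIdeal ∈ associatedPrimes Γ(X, W) Γ(X, W) →
      q ∈ U' := by
    intro q hq
    by_contra hqU
    have h2 := hdepth' q hqU
    rw [(depth_localization_eq_zero_iff q.asIdeal Γ(X, W)).mpr hq] at h2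
    exact absurd h2 (by decide)
  have hbij : Function.Bijective (Sect.res (M := Γ(X, W)) (le_top : U' ≤ ⊤)) :=
    ⟨res_injective_of_ass _ hass, res_surjective_of_depth _ hdepth'⟩
  have hbij' : Function.Bijective
      ((Spec Γ(X, W)).presheaf.map (homOfLE (le_top : U' ≤ ⊤)).op) := hbij
  have hnat := f.appIso_hom_naturality (homOfLE (le_top : U' ≤ ⊤)).op
  have hcomp : X.presheaf.map (homOfLE hle).op =
      (f.appIso ⊤).hom ≫ (Spec Γ(X, W)).presheaf.map (homOfLE (le_top : U' ≤ ⊤)).op ≫
        (f.appIso U').inv := by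
    rw [← Category.assoc, ← hnat, Category.assoc, Iso.hom_inv_id, Category.comp_id]
    rfl
  rw [hcomp]
  have b1 : Function.Bijective (f.appIso ⊤).hom :=
    ConcreteCategory.bijective_of_isIso _
  have b2 : Function.Bijective (f.appIso U').inv :=
    ConcreteCategory.bijective_of_isIso _
  simp only [CommRingCat.hom_comp, RingHom.coe_comp]
  exact (b2.comp hbij').comp b1

/-- On a locally Noetherian scheme, if `depth 𝒪_{X,x} ≥ 2` at all points outside the open `U`,
then `Γ(V, 𝒪_X) → Γ(V ∩ U, 𝒪_X)` is bijective for all opens `V`. -/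
theorem structureSheaf_res_bijective {X : Scheme.{u}} [IsLocallyNoetherian X] (U : X.Opens)
    (hdepth : ∀ x : X, x ∉ U →
      2 ≤ depth (X.presheaf.stalk x) (X.presheaf.stalk x)) (V : X.Opens) :
    Function.Bijective (X.presheaf.map (homOfLE (inf_le_left : V ⊓ U ≤ V)).op) := by
  refine resInf_bijective_of_basis X.sheaf U X.affineOpens X.isBasis_affineOpens ?_ V
  intro W hW
  haveI : IsNoetherianRing Γ(X, W) := IsLocallyNoetherian.component_noetherian ⟨W, hW⟩
  exact structureSheaf_res_bijective_of_isAffineOpen hW U hdepth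

end Groth.Agent.Lib.helper9.Glue
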