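import Mathlib
import Groth.Prelude.Def_SGA4c
import Groth.Prelude.Def_ToposFin2

set_option autoImplicit false
open CategoryTheory CategoryTheory.Limits Opposite
universe u

namespace Groth.Agent.Lib.helper9.TF

open ToposFin

variable {C : Type u} [SmallCategory C] {J : GrothendieckTopology C}

lemma sigma_desc_comp {ι : Type u} {F : ι → Sh J} {X X' : Sh J} (π : ∀ i, F i ⟶ X) (e : X ⟶ X') :
    Sigma.desc (fun i => π i ≫ e) = Sigma.desc π ≫ e := by
  apply Sigma.hom_ext
  intro i
  simp

lemma isQC_of_iso {X X' : Sh J} (e : X ≅ X') (h : IsQC X) : IsQC X' := by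
  intro ι F π hπ
  have h1 : Epi (Sigma.desc (fun i => π i ≫ e.inv)) := by
    rw [sigma_desc_comp]
    infer_instance
  obtain ⟨s, hs⟩ := h ι F (fun i => π i ≫ e.inv) h1
  refine ⟨s, ?_⟩
  have h2 : Sigma.desc (fun i : s => π i) =
      Sigma.desc (fun i : s => π i ≫ e.inv) ≫ e.hom := by
    apply Sigma.hom_ext
    intro i
    simp
  rw [h2]
  infer_instance

lemma isQCHom_of_isIso {X Y : Sh J} (f : X ⟶ Y) [IsIso f] : IsQCHom f := by
  intro Y' g hY'
  exact isQC_of_iso (asIso (pullback.snd f g)).symm hY'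

/-- `IsQCHom` as a morphism property -/
def qcHom : MorphismProperty (Sh J) := fun _ _ f => IsQCHom f

lemma isQCHom_of_isPullback {X Y X' Y' : Sh J} {f : X ⟶ Y} {f' : X' ⟶ Y'} {g' : X' ⟶ X}
    {g : Y' ⟶ Y} (h : IsPullback g' f' f g) (hf : IsQCHom f) : IsQCHom f' := by
  intro Z k hZ
  -- pullback f' k ≅ pullback f (k ≫ g)
  have h1 : IsPullback (pullback.fst f' k) (pullback.snd f' k) f' k := IsPullback.of_hasPullback f' k
  have h2 : IsPullback (pullback.fst f' k ≫ g') (pullback.snd f' k) f (k ≫ g) :=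
    h1.paste_horiz h
  exact isQC_of_iso h2.isoPullback.symm (hf Z (k ≫ g) hZ)

lemma isQCHom_comp {X Y Z : Sh J} {f : X ⟶ Y} {g : Y ⟶ Z} (hf : IsQCHom f) (hg : IsQCHom g) :
    IsQCHom (f ≫ g) := by
  intro W k hW
  -- pullback (f ≫ g) k ≅ pullback f (pullback.fst g k)
  have h1 : IsPullback (pullback.fst g k) (pullback.snd g k) g k := IsPullback.of_hasPullback g k
  have h2 : IsPullback (pullback.fst f (pullback.fst g k)) (pullback.snd f (pullback.fst g k)) f
      (pullback.fst g k) := IsPullback.of_hasPullback _ _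
  have h3 : IsPullback (pullback.fst f (pullback.fst g k))
      (pullback.snd f (pullback.fst g k) ≫ pullback.snd g k) (f ≫ g) k := h2.paste_vert h1
  have hq : IsQC (pullback g k) := hg W k hW
  have hq2 : IsQC (pullback f (pullback.fst g k)) := hf _ _ hq
  exact isQC_of_iso h3.isoPullback hq2

instance : (qcHom (J := J)).RespectsIso := by
  apply MorphismProperty.RespectsIso.mk
  · intro X Y Z e f hf
    exact isQCHom_comp (isQCHom_of_isIso e.hom) hf
  · intro X Y Z e f hf
    exact isQCHom_comp hf (isQCHom_of_isIso e.hom)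

instance : (qcHom (J := J)).IsStableUnderBaseChange := by
  apply MorphismProperty.IsStableUnderBaseChange.mk
  intro X Y Y' S f g f' g' h hg
  exact isQCHom_of_isPullback h hg

instance : (qcHom (J := J)).IsStableUnderComposition where
  comp_mem _ _ hf hg := isQCHom_comp hf hg

lemma isQSHom_iff_diagonal {X Y : Sh J} (f : X ⟶ Y) :
    IsQSHom f ↔ (qcHom (J := J)).diagonal f := Iff.rfl

end Groth.Agent.Lib.helper9.TF
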