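import Groth.Agent.Lib.helper9.CohB7
import Groth.Agent.Lib.helper9.Depth10
import Groth.Agent.Lib.helper9.LocalAlg

/-!
# Dictionary between coherent modules on schemes and finite modules on affine opens
-/

universe u

open AlgebraicGeometry CategoryTheory Opposite TopologicalSpace Limits

namespace Groth.Agent.Lib.helper9.CohB

open Scheme.Modules LocCoh Groth.Agent.Lib.helper9.Depth

variable {X : Scheme.{u}}

section Affine

variable (M : X.Modules) [M.IsQuasicoherent] {W : X.Opens} (hW : IsAffineOpen W)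
  (q : PrimeSpectrum Γ(X, W))

lemma depth_stalk_eq' :
    depth (X.presheaf.stalk (hW.fromSpec q)) (M.presheaf.stalk (hW.fromSpec q)) =
      depth (Localization.AtPrime q.asIdeal)
        (LocalizedModule q.asIdeal.primeCompl (Γmod (M.restrict hW.fromSpec))) :=
  (stalkSemiEquiv M hW q).depth_eq.symm

lemma finite_stalk_of_finite [Module.Finite Γ(X, W) (Γmod (M.restrict hW.fromSpec))] :
    Module.Finite (X.presheaf.stalk (hW.fromSpec q)) (M.presheaf.stalk (hW.fromSpec q)) :=
  (stalkSemiEquiv M hW q).finite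

lemma supportDim_stalk_eq [Module.Finite Γ(X, W) (Γmod (M.restrict hW.fromSpec))] :
    Module.supportDim (X.presheaf.stalk (hW.fromSpec q)) (M.presheaf.stalk (hW.fromSpec q)) =
      Module.supportDim (Localization.AtPrime q.asIdeal)
        (LocalizedModule q.asIdeal.primeCompl (Γmod (M.restrict hW.fromSpec))) :=
  (stalkSemiEquiv M hW q).supportDim_eq.symm

lemma nontrivial_stalk_iff :
    Nontrivial (M.presheaf.stalk (hW.fromSpec q)) ↔
      Nontrivial (LocalizedModule q.asIdeal.primeCompl (Γmod (M.restrict hW.fromSpec))) :=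
  (stalkSemiEquiv M hW q).nontrivial_iff.symm

/-- associated points correspond to associated primes. -/
lemma isAssociatedPrime_maximalIdeal_stalk_iff [IsNoetherianRing Γ(X, W)]
    [Module.Finite Γ(X, W) (Γmod (M.restrict hW.fromSpec))] :
    IsAssociatedPrime (IsLocalRing.maximalIdeal (X.presheaf.stalk (hW.fromSpec q)))
        (M.presheaf.stalk (hW.fromSpec q)) ↔
      q.asIdeal ∈ associatedPrimes Γ(X, W) (Γmod (M.restrict hW.fromSpec)) := by
  haveI := finite_stalk_of_finite M hW q
  haveI : IsNoetherianRing (X.presheaf.stalk (hW.fromSpec q)) := by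
    have hq : hW.fromSpec q ∈ W := by
      have : hW.fromSpec q ∈ hW.fromSpec.opensRange := ⟨q, rfl⟩
      rwa [hW.opensRange_fromSpec] at this
    letI : Algebra Γ(X, W) (X.presheaf.stalk (hW.fromSpec q)) :=
      TopCat.Presheaf.algebra_section_stalk X.presheaf ⟨hW.fromSpec q, hq⟩
    haveI : IsLocalization.AtPrime (X.presheaf.stalk (hW.fromSpec q)) q.asIdeal :=
      hW.isLocalization_stalk' q hq
    exact IsLocalization.isNoetherianRing q.asIdeal.primeCompl _ inferInstance
  rw [← depth_localization_eq_zero_iff q.asIdeal (Γmod (M.restrict hW.fromSpec)),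
    ← depth_stalk_eq' M hW q]
  exact (LocalAlg.depth_eq_zero_iff _ _).symm

end Affine

/-- specialization in an affine open is inclusion of primes. -/
lemma fromSpec_specializes_iff {W : X.Opens} (hW : IsAffineOpen W)
    (q q' : PrimeSpectrum Γ(X, W)) :
    hW.fromSpec q ⤳ hW.fromSpec q' ↔ q.asIdeal ≤ q'.asIdeal := by
  have h1 : hW.fromSpec q ⤳ hW.fromSpec q' ↔ q ⤳ q' :=
    hW.fromSpec.isOpenEmbedding.isInducing.specializes_iff
  rw [h1, ← PrimeSpectrum.le_iff_specializes]
  rfl

/-- surjectivity of `fromSpec` onto the affine open. -/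
lemma exists_fromSpec_eq {W : X.Opens} (hW : IsAffineOpen W) {x : X} (hx : x ∈ W) :
    ∃ q : PrimeSpectrum Γ(X, W), hW.fromSpec q = x :=
  ⟨hW.primeIdealOf ⟨x, hx⟩, hW.fromSpec_primeIdealOf ⟨x, hx⟩⟩

/-- around any point, a coherent module on a locally Noetherian scheme is given by a finite
module over a Noetherian ring. -/
lemma exists_good_affine [IsLocallyNoetherian X] (M : X.Modules) [M.IsQuasicoherent]
    [SheafOfModules.IsFiniteType.{u} M] (x : X) :
    ∃ (W : X.Opens) (hW : IsAffineOpen W), x ∈ W ∧ IsNoetherianRing Γ(X, W) ∧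
      Module.Finite Γ(X, W) (Γmod (M.restrict hW.fromSpec)) := by
  obtain ⟨W, ⟨hW, hfin⟩, hxW, -⟩ := (Opens.isBasis_iff_nbhd.mp (isBasis_goodAffine M))
    (show x ∈ (⊤ : X.Opens) from trivial)
  exact ⟨W, hW, hxW, IsLocallyNoetherian.component_noetherian ⟨W, hW⟩, hfin⟩

end Groth.Agent.Lib.helper9.CohB
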