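import Groth.Agent.Lib.helper9.TildeFin
import Groth.Agent.Lib.helper9.CohB8

/-!
# Coherent modules on locally Noetherian schemes are of finite presentation
-/

universe u

open AlgebraicGeometry CategoryTheory Opposite TopologicalSpace Limits

namespace Groth.Agent.Lib.helper9.FPLocal

open Scheme.Modules Groth.Agent.Lib.helper9.CohB Groth.Agent.Lib.helper9.AffSect
  Groth.Agent.Lib.helper9.TildeFin

variable {X : Scheme.{u}}

/-- the sheaf of a finitely presented module has a finite global presentation. -/
lemma exists_presentation_tilde_finite {R : CommRingCat.{u}} (N : ModuleCat.{u} R)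
    [hN : Module.FinitePresentation R N] :
    ∃ P : (tilde N).Presentation, P.IsFinite := by
  obtain ⟨S, hS, T, hT⟩ := hN.out
  let P := presentationTilde.{u} N (S : Set N) hS (T : Set _) hT
  haveI : Finite P.generators.I := (Finset.finite_toSet S).to_subtype
  haveI : Finite P.relations.I := (Finset.finite_toSet T).to_subtype
  exact ⟨P, ⟨⟨inferInstanceAs (Finite P.generators.I)⟩,
    ⟨inferInstanceAs (Finite P.relations.I)⟩⟩⟩

set_option backward.isDefEq.respectTransparency false in
/-- transfer of a finite presentation from `Spec Γ(X, U)` to `U`. -/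
lemma exists_presentation_restrict_ι {M : X.Modules} {U : X.Opens} (hU : IsAffineOpen U)
    (Q : (M.restrict hU.fromSpec).Presentation) [hQ : Q.IsFinite] :
    ∃ P : (M.restrict U.ι).Presentation, P.IsFinite := by
  haveI : Finite Q.generators.I := hQ.isFiniteType_generators.finite
  haveI : Finite Q.relations.I := hQ.isFiniteType_relations.finite
  let iso : (M.restrict hU.fromSpec).restrict hU.isoSpec.hom ≅ M.restrict U.ι :=
    ((restrictFunctorComp hU.isoSpec.hom hU.fromSpec).app M).symm ≪≫
      (restrictFunctorCongr (show hU.isoSpec.hom ≫ hU.fromSpec = U.ι by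
        rw [IsAffineOpen.fromSpec, Iso.hom_inv_id_assoc])).app M
  refine ⟨SheafOfModules.Presentation.ofIsIso.{u, u, u} iso.hom
    (presentationRestrict hU.isoSpec.hom Q), ?_⟩
  exact ⟨⟨inferInstanceAs (Finite Q.generators.I)⟩, ⟨inferInstanceAs (Finite Q.relations.I)⟩⟩

set_option backward.isDefEq.respectTransparency false in
/-- transfer of a finite presentation from the open subscheme `U` to the slice site. -/
lemma exists_presentation_over {M : X.Modules} (U : X.Opens)
    (P : (M.restrict U.ι).Presentation) [hP : P.IsFinite] :
    ∃ Q : (M.over U).Presentation, Q.IsFinite := by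
  haveI : Finite P.generators.I := hP.isFiniteType_generators.finite
  haveI : Finite P.relations.I := hP.isFiniteType_relations.finite
  let E := overEquiv U
  let η₀ : E.functor.obj (SheafOfModules.unit (X.ringCatSheaf.over U)) ≅
      SheafOfModules.unit (U : Scheme.{u}).ringCatSheaf := Iso.refl _
  let η : SheafOfModules.unit (X.ringCatSheaf.over U) ≅
      E.inverse.obj (SheafOfModules.unit (U : Scheme.{u}).ringCatSheaf) :=
    E.unitIso.app _ ≪≫ E.inverse.mapIso η₀
  have : PreservesColimitsOfSize.{u, u} E.inverse := inferInstance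
  let iso : E.inverse.obj (M.restrict U.ι) ≅ M.over U :=
    E.inverse.mapIso ((overFunctorEquiv U).app M).symm ≪≫ (E.unitIso.app (M.over U)).symm
  refine ⟨SheafOfModules.Presentation.ofIsIso.{u, u, u} iso.hom (P.map E.inverse η), ?_⟩
  exact ⟨⟨inferInstanceAs (Finite P.generators.I)⟩, ⟨inferInstanceAs (Finite P.relations.I)⟩⟩

set_option backward.isDefEq.respectTransparency false in
/-- on a locally Noetherian scheme, quasi-coherent modules of finite type are of finite
presentation. -/
theorem isFinitePresentation_of_isCoh [IsLocallyNoetherian X] (M : X.Modules)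
    [M.IsQuasicoherent] [SheafOfModules.IsFiniteType.{u} M] :
    SheafOfModules.IsFinitePresentation.{u} M := by
  have key : ∀ x : X, ∃ W : X.Opens, x ∈ W ∧ ∃ Q : (M.over W).Presentation, Q.IsFinite := by
    intro x
    obtain ⟨W, hW, hxW, hNoeth, hfin⟩ := exists_good_affine M x
    haveI := hNoeth
    haveI := hfin
    haveI : Module.FinitePresentation Γ(X, W) (Γmod (M.restrict hW.fromSpec)) :=
      Module.finitePresentation_of_finite _ _
    obtain ⟨P₀, hP₀⟩ := exists_presentation_tilde_finite (Γmod (M.restrict hW.fromSpec))
    haveI hqc : (M.restrict hW.fromSpec).IsQuasicoherent := inferInstance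
    haveI hiso : IsIso (M.restrict hW.fromSpec).fromTildeΓ := inferInstance
    haveI : (SheafOfModules.Presentation.ofIsIso.{u, u, u}
      (M.restrict hW.fromSpec).fromTildeΓ P₀).IsFinite := inferInstance
    obtain ⟨P₂, hP₂⟩ := exists_presentation_restrict_ι hW
      (SheafOfModules.Presentation.ofIsIso.{u, u, u} (M.restrict hW.fromSpec).fromTildeΓ P₀)
    obtain ⟨P₃, hP₃⟩ := exists_presentation_over W P₂
    exact ⟨W, hxW, P₃, hP₃⟩
  choose W hxW Q hQ using key
  have cov : (Opens.grothendieckTopology X).CoversTop W := by
    rw [Opens.coversTop_iff, IsOpenCover]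
    exact eq_top_iff.mpr fun x _ => Opens.mem_iSup.mpr ⟨x, hxW x⟩
  let q : M.QuasicoherentData := { I := X, X := W, coversTop := cov, presentation := Q }
  constructor
  refine ⟨q, ?_⟩
  constructor
  intro i
  exact hQ i

end Groth.Agent.Lib.helper9.FPLocal
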