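import Groth.Agent.Lib.helper9.LocFree2
import Groth.Agent.Lib.helper9.FPLocal
import Mathlib.RingTheory.RegularLocalRing.Defs
import Mathlib.RingTheory.DiscreteValuationRing.TFAE
import Mathlib.LinearAlgebra.FreeModule.PID
import Mathlib.AlgebraicGeometry.Properties

/-!
# Local freeness, part 3: one-dimensional regular / normal local rings, torsion-free modules
-/

universe u

open AlgebraicGeometry CategoryTheory Opposite TopologicalSpace Limits IsLocalRing

namespace Groth.Agent.Lib.helper9.LocFree

open Scheme.Modules Groth.Agent.Lib.helper9.CohB Groth.Agent.Lib.helper9.AffSect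

variable {X Y : Scheme.{u}}

/-- the dimension of a local ring of a scheme is at most the dimension of the scheme. -/
lemma ringKrullDim_stalk_le_topologicalKrullDim (X : Scheme.{u}) (x : X) :
    ringKrullDim (X.presheaf.stalk x) ≤ topologicalKrullDim X := by
  rw [ringKrullDim_stalk_eq_coheight]
  have h1 : (Order.coheight x : WithBot ℕ∞) ≤ Order.krullDim X := Order.coheight_le_krullDim x
  have h2 : Order.krullDim X = topologicalKrullDim X :=
    (Order.krullDim_eq_of_orderIso (irreducibleSetEquivPoints (α := X))).symm
  exact h1.trans h2.le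

/-- a regular local domain of dimension at most one is a principal ideal ring. -/
lemma isPrincipalIdealRing_of_regular_dim_le_one (R : Type*) [CommRing R] [IsDomain R]
    [IsRegularLocalRing R] (h : ringKrullDim R ≤ 1) : IsPrincipalIdealRing R := by
  have h1 : (Module.finrank (ResidueField R) (CotangentSpace R) : WithBot ℕ∞) = ringKrullDim R :=
    (IsRegularLocalRing.iff_finrank_cotangentSpace R).mp inferInstance
  have h2 : Module.finrank (ResidueField R) (CotangentSpace R) ≤ 1 := by
    have : (Module.finrank (ResidueField R) (CotangentSpace R) : WithBot ℕ∞) ≤ 1 := h1 ▸ h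
    exact_mod_cast this
  exact ((tfae_of_isNoetherianRing_of_isLocalRing_of_isDomain (R := R)).out 5 0).mp h2

/-- a Noetherian normal local domain of dimension at most one is a principal ideal ring. -/
lemma isPrincipalIdealRing_of_normal_dim_le_one (R : Type*) [CommRing R] [IsLocalRing R]
    [IsNoetherianRing R] [IsDomain R] [IsIntegrallyClosed R] (h : ringKrullDim R ≤ 1) :
    IsPrincipalIdealRing R := by
  have h1 : Ring.KrullDimLE 1 R := by
    rw [Ring.krullDimLE_iff]
    exact_mod_cast h
  have h2 := Ring.krullDimLE_one_iff_of_noZeroDivisors.mp h1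
  have h3 : IsIntegrallyClosed R ∧ ∀ P : Ideal R, P ≠ ⊥ → P.IsPrime → P = maximalIdeal R :=
    ⟨inferInstance, fun P hP hP' => eq_maximalIdeal (h2 P hP hP')⟩
  exact ((tfae_of_isNoetherianRing_of_isLocalRing_of_isDomain (R := R)).out 3 0).mp h3

set_option backward.isDefEq.respectTransparency false in
/-- a finitely presented module whose stalk at `x` is torsion-free over a principal ideal domain
is free near `x`. -/
theorem exists_nhd_of_torsionFree_pid (F : X.Modules)
    [SheafOfModules.IsFinitePresentation.{u} F] (x : X) [IsDomain (X.presheaf.stalk x)]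
    [IsPrincipalIdealRing (X.presheaf.stalk x)]
    (htf : Module.IsTorsionFree (X.presheaf.stalk x) (F.presheaf.stalk x)) :
    ∃ (V : X.Opens) (n : ℕ), x ∈ V ∧ Nonempty (F.restrict V.ι ≅ FlatMod.freeMod V n) := by
  haveI := htf
  haveI := finite_stalk_of_fp F x
  have hfree : Module.Free (X.presheaf.stalk x) (F.presheaf.stalk x) :=
    Module.free_of_finite_type_torsion_free'
  exact exists_nhd_restrict_iso_freeMod_of_fp F x hfree

end Groth.Agent.Lib.helper9.LocFree
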