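import Groth.Prelude.Def_CAlg
import Mathlib.RingTheory.Depth.Rees
import Mathlib.RingTheory.Regular.Category
import Mathlib.Algebra.Category.ModuleCat.Ext.HasExt
import Mathlib.Algebra.Homology.DerivedCategory.Ext.ExactSequences
import Mathlib.Tactic

/-!
# The prelude's `LocCoh.idealDepth` : basics, Rees' criterion, quotient by a regular element

All modules live in the universe of the ring (as in the statements using `Ext`).
-/

universe u

open CategoryTheory RingTheory.Sequence Pointwise

namespace Groth.Agent.Lib.helper9.Depth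

open LocCoh

section ENat

lemma ENat.add_one_eq_of_forall {a b : ℕ∞} (h : ∀ n : ℕ, (n : ℕ∞) ≤ a ↔ ((n + 1 : ℕ) : ℕ∞) ≤ b)
    (hb : 1 ≤ b) : a + 1 = b := by
  apply le_antisymm
  · induction a with
    | top =>
      have : b = ⊤ := by
        rw [ENat.eq_top_iff_forall_ge]
        intro n
        exact le_trans (by exact_mod_cast Nat.le_succ n) ((h n).mp le_top)
      rw [this]
      exact le_top
    | coe n =>
      have := (h n).mp le_rfl
      exact_mod_cast this
  · induction b with
    | top =>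
      have : a = ⊤ := by
        rw [ENat.eq_top_iff_forall_ge]
        intro n
        exact (h n).mpr le_top
      rw [this]
      exact le_top
    | coe m =>
      cases m with
      | zero => exact zero_le
      | succ k =>
        have := (h k).mpr le_rfl
        have h2 : ((k : ℕ∞) + 1) ≤ a + 1 := by gcongr
        exact_mod_cast h2

end ENat

section Basic

variable {R : Type u} [CommRing R] (I : Ideal R) (M : Type u) [AddCommGroup M] [Module R M]

lemma idealDepth_eq_iSup (h : I • (⊤ : Submodule R M) ≠ ⊤) :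
    idealDepth I M = ⨆ (rs : List R) (_ : IsWeaklyRegular M rs ∧ ∀ r ∈ rs, r ∈ I),
      (rs.length : ℕ∞) := by
  unfold idealDepth
  rw [if_neg h]

lemma idealDepth_eq_top (h : I • (⊤ : Submodule R M) = ⊤) : idealDepth I M = ⊤ := by
  unfold idealDepth
  rw [if_pos h]

variable {I M}

lemma length_le_idealDepth {rs : List R} (hreg : IsWeaklyRegular M rs) (hmem : ∀ r ∈ rs, r ∈ I) :
    (rs.length : ℕ∞) ≤ idealDepth I M := by
  by_cases h : I • (⊤ : Submodule R M) = ⊤
  · rw [idealDepth_eq_top I M h]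
    exact le_top
  · rw [idealDepth_eq_iSup I M h]
    exact le_iSup₂ (f := fun (rs : List R) (_ : IsWeaklyRegular M rs ∧ ∀ r ∈ rs, r ∈ I) =>
      (rs.length : ℕ∞)) rs ⟨hreg, hmem⟩

lemma IsWeaklyRegular.take {rs : List R} (hreg : IsWeaklyRegular M rs) (n : ℕ) :
    IsWeaklyRegular M (rs.take n) := by
  have := hreg
  rw [← List.take_append_drop n rs, isWeaklyRegular_append_iff] at this
  exact this.1

lemma le_idealDepth_iff (h : I • (⊤ : Submodule R M) ≠ ⊤) (n : ℕ) :
    (n : ℕ∞) ≤ idealDepth I M ↔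
      ∃ rs : List R, rs.length = n ∧ IsWeaklyRegular M rs ∧ ∀ r ∈ rs, r ∈ I := by
  constructor
  · intro hn
    by_contra hno
    have hlt : ∀ rs : List R, IsWeaklyRegular M rs → (∀ r ∈ rs, r ∈ I) → rs.length < n := by
      intro rs hreg hmem
      by_contra hge
      rw [not_lt] at hge
      exact hno ⟨rs.take n, by simp [hge], IsWeaklyRegular.take hreg n,
        fun r hr => hmem r (List.mem_of_mem_take hr)⟩
    have hn0 : n ≠ 0 := by
      rintro rfl
      exact hno ⟨[], rfl, IsWeaklyRegular.nil R M, by simp⟩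
    rw [idealDepth_eq_iSup I M h] at hn
    have hle : (⨆ (rs : List R) (_ : IsWeaklyRegular M rs ∧ ∀ r ∈ rs, r ∈ I),
        (rs.length : ℕ∞)) ≤ ((n - 1 : ℕ) : ℕ∞) := by
      refine iSup₂_le fun rs hrs => ?_
      have := hlt rs hrs.1 hrs.2
      exact_mod_cast Nat.le_sub_one_of_lt this
    have := hn.trans hle
    have : n ≤ n - 1 := by exact_mod_cast this
    omega
  · rintro ⟨rs, rfl, hreg, hmem⟩
    exact length_le_idealDepth hreg hmem

/-- for `IM ≠ M` a weakly regular sequence in `I` is regular -/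
lemma isRegular_of_isWeaklyRegular (h : I • (⊤ : Submodule R M) ≠ ⊤) {rs : List R}
    (hreg : IsWeaklyRegular M rs) (hmem : ∀ r ∈ rs, r ∈ I) : IsRegular M rs := by
  rw [isRegular_iff]
  refine ⟨hreg, fun htop => h ?_⟩
  have hle : Ideal.ofList rs ≤ I := Ideal.span_le.mpr hmem
  exact top_le_iff.mp (htop.le.trans (Submodule.smul_mono_left hle))

lemma smul_top_quotSMulTop_ne_top {r : R} (hr : r ∈ I)
    (hI : I • (⊤ : Submodule R M) ≠ ⊤) :
    I • (⊤ : Submodule R (QuotSMulTop r M)) ≠ ⊤ := by
  by_contra eq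
  absurd congrArg (Submodule.comap (Submodule.mkQ _)) eq
  simpa [Submodule.comap_smul_top_of_surjective I _ (Submodule.mkQ_surjective _),
    Submodule.smul_mono_left ((Ideal.span_singleton_le_iff_mem I).mpr hr),
    ← Submodule.ideal_span_singleton_smul] using hI

end Basic


section Rees

variable {R : Type u} [CommRing R] [IsNoetherianRing R] (I : Ideal R) (M : Type u) [AddCommGroup M]
  [Module R M] [Module.Finite R M]

/-- **Rees**: `n ≤ depth_I M` iff `Ext^i(R/I, M) = 0` for `i < n`. -/
lemma le_idealDepth_iff_ext (h : I • (⊤ : Submodule R M) ≠ ⊤) (n : ℕ) :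
    (n : ℕ∞) ≤ idealDepth I M ↔
      ∀ i < n, Subsingleton (Abelian.Ext (ModuleCat.of R (R ⧸ I)) (ModuleCat.of R M) i) := by
  have hlt : I • (⊤ : Submodule R (ModuleCat.of R M)) < ⊤ := lt_top_iff_ne_top.mpr h
  have htfae := ModuleCat.exists_isRegular_tfae I n (ModuleCat.of R M) hlt
  have hIne : I ≠ ⊤ := by
    rintro rfl
    exact h (by simp)
  have ntrQ : Nontrivial (R ⧸ I) := Ideal.Quotient.nontrivial_iff.mpr hIne
  have suppQ : Module.support R (R ⧸ I) = PrimeSpectrum.zeroLocus I := by
    rw [Module.support_eq_zeroLocus, Ideal.annihilator_quotient]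
  rw [le_idealDepth_iff h]
  constructor
  · rintro ⟨rs, hlen, hreg, hmem⟩
    have h4 : ∃ rs : List R, rs.length = n ∧ (∀ r ∈ rs, r ∈ I) ∧
        IsRegular (ModuleCat.of R M) rs :=
      ⟨rs, hlen, hmem, isRegular_of_isWeaklyRegular h hreg hmem⟩
    have h1 := (htfae.out 3 0).mp h4
    exact h1 (ModuleCat.of R (R ⧸ I)) ntrQ inferInstance suppQ.subset
  · intro hext
    have h3 : ∃ N : ModuleCat R, Nontrivial N ∧ Module.Finite R N ∧
        Module.support R N = PrimeSpectrum.zeroLocus I ∧
        ∀ i < n, Subsingleton (Abelian.Ext N (ModuleCat.of R M) i) :=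
      ⟨ModuleCat.of R (R ⧸ I), ntrQ, inferInstanceAs (Module.Finite R (R ⧸ I)), suppQ, hext⟩
    obtain ⟨rs, hlen, hmem, hreg⟩ := (htfae.out 2 3).mp h3
    exact ⟨rs, hlen, hreg.toIsWeaklyRegular, hmem⟩

variable {I M}

/-- `depth_I (M/xM) + 1 = depth_I M` for `x ∈ I` regular on `M`. -/
theorem idealDepth_quotSMulTop_add_one (h : I • (⊤ : Submodule R M) ≠ ⊤) {x : R} (hx : x ∈ I)
    (hreg : IsSMulRegular M x) :
    idealDepth I (QuotSMulTop x M) + 1 = idealDepth I M := by
  have h' : I • (⊤ : Submodule R (QuotSMulTop x M)) ≠ ⊤ := smul_top_quotSMulTop_ne_top hx h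
  have h1 : (1 : ℕ∞) ≤ idealDepth I M := by
    have := length_le_idealDepth (I := I) (M := M) (rs := [x])
      ((isWeaklyRegular_singleton_iff M x).mpr hreg) (by simpa using hx)
    simpa using this
  refine ENat.add_one_eq_of_forall (fun n => ?_) h1
  constructor
  · rw [le_idealDepth_iff h', le_idealDepth_iff h]
    rintro ⟨rs, hlen, hrs, hmem⟩
    refine ⟨x :: rs, by simp [hlen], (isWeaklyRegular_cons_iff M x rs).mpr ⟨hreg, hrs⟩, ?_⟩
    intro r hr
    rcases List.mem_cons.mp hr with rfl | hr
    · exact hx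
    · exact hmem r hr
  · rw [le_idealDepth_iff_ext I M h, le_idealDepth_iff_ext I _ h']
    intro hext i hi
    have hS := hreg.smulShortComplex_shortExact (M := ModuleCat.of R M)
    have key : ∀ y : Abelian.Ext (ModuleCat.of R (R ⧸ I))
        (ModuleCat.of R (QuotSMulTop x M)) i, y = 0 := by
      intro y
      have hsub1 : Subsingleton (Abelian.Ext (ModuleCat.of R (R ⧸ I))
          (ModuleCat.smulShortComplex (ModuleCat.of R M) x).X₁ (i + 1)) :=
        hext (i + 1) (by omega)
      have hsub0 : Subsingleton (Abelian.Ext (ModuleCat.of R (R ⧸ I))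
          (ModuleCat.smulShortComplex (ModuleCat.of R M) x).X₂ i) :=
        hext i (by omega)
      obtain ⟨y₂, rfl⟩ := Abelian.Ext.covariant_sequence_exact₃ (ModuleCat.of R (R ⧸ I)) hS
        (y : Abelian.Ext _ (ModuleCat.smulShortComplex (ModuleCat.of R M) x).X₃ i)
        (rfl : i + 1 = i + 1) (Subsingleton.elim _ _)
      rw [Subsingleton.elim y₂ 0, Abelian.Ext.zero_comp]
      rfl
    exact ⟨fun a b => by rw [key a, key b]⟩

end Rees

end Groth.Agent.Lib.helper9.Depth
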