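import Groth.Agent.Lib.helper9.Depth7
import Mathlib.RingTheory.Regular.Flat
import Mathlib.RingTheory.Flat.FaithfullyFlat.Algebra

/-!
# `idealDepth` under flat / faithfully flat base change
-/

universe u

open CategoryTheory RingTheory.Sequence Pointwise TensorProduct

namespace Groth.Agent.Lib.helper9.FlatDepth

open LocCoh Groth.Agent.Lib.helper9.Depth

section

variable {A B : Type u} [CommRing A] [CommRing B] [Algebra A B]

/-- `I M = M` implies `IB (B ⊗ M) = B ⊗ M`. -/
lemma map_smul_top_eq_top (I : Ideal A) (M : Type u) [AddCommGroup M] [Module A M]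
    (h : I • (⊤ : Submodule A M) = ⊤) :
    I.map (algebraMap A B) • (⊤ : Submodule B (B ⊗[A] M)) = ⊤ := by
  rw [eq_top_iff]
  rintro z -
  induction z using TensorProduct.induction_on with
  | zero => exact Submodule.zero_mem _
  | add x y hx hy => exact Submodule.add_mem _ hx hy
  | tmul b m =>
    have hm : m ∈ I • (⊤ : Submodule A M) := by rw [h]; trivial
    refine Submodule.smul_induction_on hm ?_ ?_
    · intro a ha m' _
      have : b ⊗ₜ[A] (a • m') = algebraMap A B a • (b ⊗ₜ[A] m') := by
        rw [TensorProduct.tmul_smul, algebraMap_smul]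
      rw [this]
      exact Submodule.smul_mem_smul (Ideal.mem_map_of_mem _ ha) trivial
    · intro x y hx hy
      rw [TensorProduct.tmul_add]
      exact Submodule.add_mem _ hx hy

/-- flat base change does not decrease `idealDepth`. -/
theorem idealDepth_le_baseChange [Module.Flat A B] (I : Ideal A) (M : Type u) [AddCommGroup M]
    [Module A M] :
    idealDepth I M ≤ idealDepth (I.map (algebraMap A B)) (B ⊗[A] M) := by
  by_cases h : I • (⊤ : Submodule A M) = ⊤
  · rw [idealDepth_eq_top (I.map (algebraMap A B)) (B ⊗[A] M) (map_smul_top_eq_top I M h)]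
    exact le_top
  · rw [idealDepth_eq_iSup I M h]
    refine iSup₂_le fun rs hrs => ?_
    have h1 : IsWeaklyRegular (B ⊗[A] M) (rs.map (algebraMap A B)) :=
      hrs.1.of_flat_of_isBaseChange (S := B) (TensorProduct.isBaseChange A M B)
    have h2 := length_le_idealDepth (I := I.map (algebraMap A B)) h1 (by
      intro r hr
      obtain ⟨a, ha, rfl⟩ := List.mem_map.1 hr
      exact Ideal.mem_map_of_mem _ (hrs.2 a ha))
    simpa using h2

end

section FF

variable {A B : Type u} [CommRing A] [CommRing B] [Algebra A B] [IsNoetherianRing A]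
  [IsNoetherianRing B]

omit [IsNoetherianRing B] in
/-- an element killed by `J` forces `idealDepth J N = 0` (finite module). -/
lemma idealDepth_eq_zero_of_killed (J : Ideal B) (N : Type u) [AddCommGroup N] [Module B N]
    [Module.Finite B N] (n : N) (hn : n ≠ 0) (hk : ∀ j ∈ J, j • n = 0) : idealDepth J N = 0 := by
  have hne : J • (⊤ : Submodule B N) ≠ ⊤ := by
    intro htop
    obtain ⟨r, hr, hr0⟩ := Submodule.exists_sub_one_mem_and_smul_eq_zero_of_fg_of_le_smul J
      (⊤ : Submodule B N) Module.Finite.fg_top (by rw [htop])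
    have h1 : r • n = 0 := hr0 n trivial
    have h2 : (r - 1) • n = 0 := hk _ hr
    rw [sub_smul, h1, one_smul, zero_sub, neg_eq_zero] at h2
    exact hn h2
  rw [idealDepth_eq_iSup J N hne]
  rw [← nonpos_iff_eq_zero]
  refine iSup₂_le fun rs hrs => ?_
  match rs, hrs with
  | [], _ => simp
  | x :: xs, hrs =>
    exfalso
    have hreg := ((isWeaklyRegular_cons_iff N x xs).1 hrs.1).1
    have hx : x ∈ J := hrs.2 x List.mem_cons_self
    apply hn
    apply hreg
    simp only [smul_zero]
    exact hk x hx

variable [Module.FaithfullyFlat A B]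

/-- key induction. -/
theorem idealDepth_baseChange_of_maximal (I : Ideal A) : ∀ (rs : List A) (M : Type u)
    [AddCommGroup M] [Module A M] [Module.Finite A M], I • (⊤ : Submodule A M) ≠ ⊤ →
    IsWeaklyRegular M rs → (∀ r ∈ rs, r ∈ I) → (∀ r ∈ I, ¬ IsWeaklyRegular M (rs ++ [r])) →
    idealDepth (I.map (algebraMap A B)) (B ⊗[A] M) = rs.length := by
  intro rs
  induction rs with
  | nil =>
    intro M _ _ _ hIM _ _ hmax
    haveI : Nontrivial M := by
      by_contra hnt
      rw [not_nontrivial_iff_subsingleton] at hnt
      exact hIM (Subsingleton.elim _ _)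
    have hno : ∀ x ∈ I, ¬ IsSMulRegular M x := by
      intro x hx hreg
      exact hmax x hx (by simpa using (isWeaklyRegular_singleton_iff M x).mpr hreg)
    obtain ⟨p, hp, hIp⟩ := exists_associatedPrime_ge_of_no_regular I M hno
    have hp' : IsAssociatedPrime p M := hp
    have hprime := hp'.isPrime
    rw [isAssociatedPrime_iff] at hp'
    obtain ⟨-, m, hm⟩ := hp'
    have hm0 : m ≠ 0 := by
      intro h0
      have : (1 : A) ∈ p := by
        rw [hm, Submodule.mem_colon_singleton, h0]
        simp
      exact hprime.ne_top ((Ideal.eq_top_iff_one _).mpr this)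
    have hkill : ∀ a ∈ I, a • m = 0 := by
      intro a ha
      have := hIp ha
      rw [hm, Submodule.mem_colon_singleton] at this
      simpa using this
    rw [List.length_nil, Nat.cast_zero]
    refine idealDepth_eq_zero_of_killed _ _ ((1 : B) ⊗ₜ[A] m) ?_ ?_
    · intro h0
      apply hm0
      apply Module.FaithfullyFlat.tensorProduct_mk_injective (A := A) (B := B) M
      simpa using h0
    · intro j hj
      have hle : I.map (algebraMap A B) ≤
          (Module.annihilator B (Submodule.span B {(1 : B) ⊗ₜ[A] m})) := by
        rw [Ideal.map_le_iff_le_comap]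
        intro a ha
        rw [Ideal.mem_comap, Module.mem_annihilator]
        rintro ⟨z, hz⟩
        apply Subtype.ext
        change algebraMap A B a • z = 0
        obtain ⟨c, rfl⟩ := Submodule.mem_span_singleton.1 hz
        rw [smul_comm, algebraMap_smul, ← TensorProduct.tmul_smul, hkill a ha,
          TensorProduct.tmul_zero, smul_zero]
      have := Module.mem_annihilator.1 (hle hj) ⟨_, Submodule.mem_span_singleton_self _⟩
      exact congrArg Subtype.val this
  | cons x xs ih =>
    intro M _ _ _ hIM hreg hmem hmax
    rw [isWeaklyRegular_cons_iff] at hreg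
    have hx : x ∈ I := hmem x List.mem_cons_self
    have hIM' := smul_top_quotSMulTop_ne_top hx hIM
    have hmax' : ∀ r ∈ I, ¬ IsWeaklyRegular (QuotSMulTop x M) (xs ++ [r]) := by
      intro r hr hcon
      apply hmax r hr
      rw [List.cons_append, isWeaklyRegular_cons_iff]
      exact ⟨hreg.1, hcon⟩
    have h1 := ih (QuotSMulTop x M) hIM' hreg.2
      (fun r hr => hmem r (List.mem_cons_of_mem _ hr)) hmax'
    have hIB : I.map (algebraMap A B) • (⊤ : Submodule B (B ⊗[A] M)) ≠ ⊤ :=
      ((TensorProduct.isBaseChange A M B).map_smul_top_ne_top_iff_of_faithfullyFlat A M I).mpr hIM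
    have hxB : algebraMap A B x ∈ I.map (algebraMap A B) := Ideal.mem_map_of_mem _ hx
    have hregB : IsSMulRegular (B ⊗[A] M) (algebraMap A B x) := by
      have := (IsWeaklyRegular.of_flat_of_isBaseChange (S := B)
        (TensorProduct.isBaseChange A M B) ((isWeaklyRegular_singleton_iff M x).mpr hreg.1))
      simpa using this
    have h2 := idealDepth_quotSMulTop_add_one hIB hxB hregB
    rw [idealDepth_congr _ (QuotSMulTop.algebraMapTensorEquivTensorQuotSMulTop x M B), h1] at h2
    rw [← h2, List.length_cons]
    push_cast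
    rfl

/-- faithfully flat base change preserves `idealDepth`. -/
theorem idealDepth_baseChange_eq (I : Ideal A) (M : Type u) [AddCommGroup M]
    [Module A M] [Module.Finite A M] :
    idealDepth (I.map (algebraMap A B)) (B ⊗[A] M) = idealDepth I M := by
  by_cases h : I • (⊤ : Submodule A M) = ⊤
  · rw [idealDepth_eq_top (I.map (algebraMap A B)) (B ⊗[A] M) (map_smul_top_eq_top I M h),
      idealDepth_eq_top _ _ h]
  · obtain ⟨rs, -, hreg, hmem, hmax⟩ := exists_maximal_extension (I := I) M h []
      (IsWeaklyRegular.nil A M) (by simp)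
    rw [idealDepth_baseChange_of_maximal I rs M h hreg hmem hmax]
    exact length_eq_idealDepth_of_maximal rs M h hreg hmem hmax

end FF

end Groth.Agent.Lib.helper9.FlatDepth
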