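import Groth.Prelude.Def_CAlg
import Mathlib.RingTheory.Regular.RegularSequence
import Mathlib.RingTheory.Nakayama
import Mathlib.Tactic

/-!
# Universe-general basics for `LocCoh.idealDepth`, and the depth of `Hom(M, N)`
-/

universe u v w

open RingTheory.Sequence Pointwise

namespace Groth.Agent.Lib.helper9.DepthHom

open LocCoh

section Basic

variable {R : Type u} [CommRing R] {I : Ideal R} {M : Type v} [AddCommGroup M] [Module R M]

lemma length_le_idealDepth {rs : List R} (hreg : IsWeaklyRegular M rs) (hmem : ∀ r ∈ rs, r ∈ I) :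
    (rs.length : ℕ∞) ≤ idealDepth I M := by
  classical
  unfold idealDepth
  split_ifs with h
  · exact le_top
  · exact le_iSup₂ (f := fun (rs : List R) (_ : IsWeaklyRegular M rs ∧ ∀ r ∈ rs, r ∈ I) =>
      (rs.length : ℕ∞)) rs ⟨hreg, hmem⟩

lemma isWeaklyRegular_of_subsingleton [Subsingleton M] (rs : List R) : IsWeaklyRegular M rs :=
  ⟨fun _ _ => Function.injective_of_subsingleton _⟩

lemma IsWeaklyRegular.take {rs : List R} (hreg : IsWeaklyRegular M rs) (n : ℕ) :
    IsWeaklyRegular M (rs.take n) := by
  have := hreg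
  rw [← List.take_append_drop n rs, isWeaklyRegular_append_iff] at this
  exact this.1

/-- for a finite module, `n ≤ depth_I M` is witnessed by a weakly regular sequence of length `n`
in `I` (also when `IM = M`). -/
lemma exists_of_le_idealDepth [Module.Finite R M] (n : ℕ) (hn : (n : ℕ∞) ≤ idealDepth I M) :
    ∃ rs : List R, rs.length = n ∧ IsWeaklyRegular M rs ∧ ∀ r ∈ rs, r ∈ I := by
  classical
  by_cases h : I • (⊤ : Submodule R M) = ⊤
  · obtain ⟨r, hr1, hr2⟩ := Submodule.exists_sub_one_mem_and_smul_eq_zero_of_fg_of_le_smul I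
      (⊤ : Submodule R M) Module.Finite.fg_top h.ge
    have ha : 1 - r ∈ I := by
      have := I.neg_mem hr1
      rwa [neg_sub] at this
    have hid : ∀ m : M, (1 - r) • m = m := by
      intro m
      rw [sub_smul, one_smul, hr2 m trivial, sub_zero]
    refine ⟨List.replicate n (1 - r), by simp, ?_, ?_⟩
    · cases n with
      | zero => exact IsWeaklyRegular.nil R M
      | succ k =>
        rw [List.replicate_succ, isWeaklyRegular_cons_iff]
        refine ⟨?_, ?_⟩
        · intro x y hxy
          simpa [hid] using hxy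
        · have : Subsingleton (QuotSMulTop (1 - r) M) := by
            rw [Submodule.Quotient.subsingleton_iff]
            rw [eq_top_iff]
            intro m _
            rw [Submodule.mem_smul_pointwise_iff_exists]
            exact ⟨m, trivial, hid m⟩
          exact isWeaklyRegular_of_subsingleton _
    · intro x hx
      rw [List.eq_of_mem_replicate hx]
      exact ha
  · by_contra hno
    have hlt : ∀ rs : List R, IsWeaklyRegular M rs → (∀ r ∈ rs, r ∈ I) → rs.length < n := by
      intro rs hreg hmem
      by_contra hge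
      rw [not_lt] at hge
      exact hno ⟨rs.take n, by simp [hge], IsWeaklyRegular.take hreg n,
        fun r hr => hmem r (List.mem_of_mem_take hr)⟩
    have hn0 : n ≠ 0 := by
      rintro rfl
      exact hno ⟨[], rfl, IsWeaklyRegular.nil R M, by simp⟩
    unfold idealDepth at hn
    rw [if_neg h] at hn
    have hle : (⨆ (rs : List R) (_ : IsWeaklyRegular M rs ∧ ∀ r ∈ rs, r ∈ I),
        (rs.length : ℕ∞)) ≤ ((n - 1 : ℕ) : ℕ∞) := by
      refine iSup₂_le fun rs hrs => ?_
      have := hlt rs hrs.1 hrs.2
      exact_mod_cast Nat.le_sub_one_of_lt this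
    have := hn.trans hle
    have : n ≤ n - 1 := by exact_mod_cast this
    omega

end Basic

section Hom

variable {R : Type u} [CommRing R] {I : Ideal R} {M : Type v} [AddCommGroup M] [Module R M]
  {N : Type w} [AddCommGroup N] [Module R N]

lemma isSMulRegular_hom {x : R} (hx : IsSMulRegular N x) : IsSMulRegular (M →ₗ[R] N) x := by
  intro f g hfg
  ext m
  apply hx
  have := LinearMap.congr_fun hfg m
  simpa using this

lemma isSMulRegular_quotSMulTop_hom {x y : R} (hx : IsSMulRegular N x)
    (hy : IsSMulRegular (QuotSMulTop x N) y) :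
    IsSMulRegular (QuotSMulTop x (M →ₗ[R] N)) y := by
  rw [isSMulRegular_iff_right_eq_zero_of_smul]
  intro q hq
  obtain ⟨f, rfl⟩ := Submodule.Quotient.mk_surjective _ q
  rw [← Submodule.Quotient.mk_smul, Submodule.Quotient.mk_eq_zero] at hq
  rw [Submodule.Quotient.mk_eq_zero]
  rw [Submodule.mem_smul_pointwise_iff_exists] at hq ⊢
  obtain ⟨g, -, hg⟩ := hq
  have key : ∀ m, ∃ n : N, x • n = f m := by
    intro m
    have h1 : y • (Submodule.Quotient.mk (f m) : QuotSMulTop x N) = 0 := by
      rw [← Submodule.Quotient.mk_smul, Submodule.Quotient.mk_eq_zero,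
        Submodule.mem_smul_pointwise_iff_exists]
      refine ⟨g m, trivial, ?_⟩
      have := LinearMap.congr_fun hg m
      simpa using this
    have h2 := (isSMulRegular_iff_right_eq_zero_of_smul.mp hy) _ h1
    rw [Submodule.Quotient.mk_eq_zero, Submodule.mem_smul_pointwise_iff_exists] at h2
    obtain ⟨n, -, hn⟩ := h2
    exact ⟨n, hn⟩
  choose φ hφ using key
  refine ⟨{ toFun := φ, map_add' := ?_, map_smul' := ?_ }, trivial, ?_⟩
  · intro a b
    apply hx
    simp only [smul_add, hφ, map_add]
  · intro c a
    apply hx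
    simp only [hφ, map_smul, RingHom.id_apply]
    rw [smul_comm, hφ]
  · ext m
    simp [hφ]

theorem one_le_idealDepth_hom [Module.Finite R N] (h : 1 ≤ idealDepth I N) :
    1 ≤ idealDepth I (M →ₗ[R] N) := by
  obtain ⟨rs, hlen, hreg, hmem⟩ := exists_of_le_idealDepth (I := I) (M := N) 1 (by exact_mod_cast h)
  match rs, hlen with
  | [x], _ =>
    rw [isWeaklyRegular_singleton_iff] at hreg
    have h1 : IsWeaklyRegular (M →ₗ[R] N) [x] := by
      rw [isWeaklyRegular_singleton_iff]
      exact isSMulRegular_hom hreg
    have := length_le_idealDepth (I := I) h1 hmem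
    exact_mod_cast this

theorem two_le_idealDepth_hom [Module.Finite R N] (h : 2 ≤ idealDepth I N) :
    2 ≤ idealDepth I (M →ₗ[R] N) := by
  obtain ⟨rs, hlen, hreg, hmem⟩ := exists_of_le_idealDepth (I := I) (M := N) 2 (by exact_mod_cast h)
  match rs, hlen with
  | [x, y], _ =>
    rw [isWeaklyRegular_cons_iff, isWeaklyRegular_singleton_iff] at hreg
    have h1 : IsWeaklyRegular (M →ₗ[R] N) [x, y] := by
      rw [isWeaklyRegular_cons_iff, isWeaklyRegular_singleton_iff]
      exact ⟨isSMulRegular_hom hreg.1, isSMulRegular_quotSMulTop_hom hreg.1 hreg.2⟩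
    have := length_le_idealDepth (I := I) h1 hmem
    exact_mod_cast this

end Hom

end Groth.Agent.Lib.helper9.DepthHom
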