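import Groth.Agent.Lib.helper9.Depth1
import Mathlib.Algebra.Category.ModuleCat.Ext.Basic
import Mathlib.RingTheory.Nakayama

/-!
# `LocCoh.idealDepth` : Ext criterion without `IM ≠ M`, depth lemma for short exact sequences
-/

universe u

open CategoryTheory RingTheory.Sequence Pointwise

namespace Groth.Agent.Lib.helper9.Depth

open LocCoh

section ExtSES

variable {C : Type*} [Category C] [Abelian C] [HasExt C] {S : ShortComplex C}
  (hS : S.ShortExact) (X : C)

include hS

lemma ext_subsingleton_X₂ (n : ℕ) (h1 : Subsingleton (Abelian.Ext X S.X₁ n))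
    (h3 : Subsingleton (Abelian.Ext X S.X₃ n)) : Subsingleton (Abelian.Ext X S.X₂ n) := by
  have key : ∀ x : Abelian.Ext X S.X₂ n, x = 0 := by
    intro x₂
    obtain ⟨x₁, rfl⟩ := Abelian.Ext.covariant_sequence_exact₂ X hS x₂ (Subsingleton.elim _ _)
    rw [Subsingleton.elim x₁ 0, Abelian.Ext.zero_comp]
  exact ⟨fun a b => by rw [key a, key b]⟩

lemma ext_subsingleton_X₃ (n : ℕ) (h2 : Subsingleton (Abelian.Ext X S.X₂ n))
    (h1 : Subsingleton (Abelian.Ext X S.X₁ (n + 1))) : Subsingleton (Abelian.Ext X S.X₃ n) := by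
  have key : ∀ x : Abelian.Ext X S.X₃ n, x = 0 := by
    intro x₃
    obtain ⟨x₂, rfl⟩ := Abelian.Ext.covariant_sequence_exact₃ X hS x₃ (rfl : n + 1 = n + 1)
      (Subsingleton.elim _ _)
    rw [Subsingleton.elim x₂ 0, Abelian.Ext.zero_comp]
  exact ⟨fun a b => by rw [key a, key b]⟩

lemma ext_subsingleton_X₁_zero (h2 : Subsingleton (Abelian.Ext X S.X₂ 0)) :
    Subsingleton (Abelian.Ext X S.X₁ 0) := by
  haveI := hS.mono_f
  exact (Abelian.Ext.postcomp_mk₀_injective_of_mono X S.f).subsingleton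

lemma ext_subsingleton_X₁_succ (n : ℕ) (h2 : Subsingleton (Abelian.Ext X S.X₂ (n + 1)))
    (h3 : Subsingleton (Abelian.Ext X S.X₃ n)) : Subsingleton (Abelian.Ext X S.X₁ (n + 1)) := by
  have key : ∀ x : Abelian.Ext X S.X₁ (n + 1), x = 0 := by
    intro x₁
    obtain ⟨x₃, rfl⟩ := Abelian.Ext.covariant_sequence_exact₁ X hS x₁ (Subsingleton.elim _ _)
      (rfl : n + 1 = n + 1)
    rw [Subsingleton.elim x₃ 0, Abelian.Ext.zero_comp]
  exact ⟨fun a b => by rw [key a, key b]⟩

end ExtSES

section Annihilator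

variable {R : Type u} [CommRing R] {N M : ModuleCat.{u} R}

lemma ext_smul_eq_zero_of_mem_annihilator_left {r : R} (hr : r ∈ Module.annihilator R N) {n : ℕ}
    (h : Abelian.Ext N M n) : r • h = 0 := by
  have h0 : r • 𝟙 N = 0 := by
    simp [← ModuleCat.lsmul_eq_smul_id, Module.mem_annihilator_iff_lsmul_eq_zero.mp hr]
  have smul_eq : r • h = (Abelian.Ext.mk₀ (r • 𝟙 N)).comp h (zero_add n) := by
    simp [Abelian.Ext.mk₀_smul]
  rw [smul_eq, h0, Abelian.Ext.mk₀_zero, Abelian.Ext.zero_comp]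

lemma ext_smul_eq_zero_of_mem_annihilator_right {r : R} (hr : r ∈ Module.annihilator R M) {n : ℕ}
    (h : Abelian.Ext N M n) : r • h = 0 := by
  have h0 : r • 𝟙 M = 0 := by
    simp [← ModuleCat.lsmul_eq_smul_id, Module.mem_annihilator_iff_lsmul_eq_zero.mp hr]
  have smul_eq : r • h = h.comp (Abelian.Ext.mk₀ (r • 𝟙 M)) (add_zero n) := by
    simp [Abelian.Ext.mk₀_smul]
  rw [smul_eq, h0, Abelian.Ext.mk₀_zero, Abelian.Ext.comp_zero]

end Annihilator


section ExtCrit

variable {R : Type u} [CommRing R] [IsNoetherianRing R] (I : Ideal R) (M : Type u) [AddCommGroup M]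
  [Module R M] [Module.Finite R M]

lemma subsingleton_ext_of_smul_top_eq_top (h : I • (⊤ : Submodule R M) = ⊤) (n : ℕ) :
    Subsingleton (Abelian.Ext (ModuleCat.of R (R ⧸ I)) (ModuleCat.of R M) n) := by
  obtain ⟨r, hr1, hr0⟩ := Submodule.exists_sub_one_mem_and_smul_eq_zero_of_fg_of_le_smul I
    (⊤ : Submodule R M) Module.Finite.fg_top (by rw [h])
  have hrM : r ∈ Module.annihilator R (ModuleCat.of R M) :=
    Module.mem_annihilator.mpr (fun m => hr0 m trivial)
  have hrQ : r - 1 ∈ Module.annihilator R (ModuleCat.of R (R ⧸ I)) := by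
    have : Module.annihilator R (ModuleCat.of R (R ⧸ I)) = I := Ideal.annihilator_quotient
    rw [this]
    exact hr1
  have key : ∀ x : Abelian.Ext (ModuleCat.of R (R ⧸ I)) (ModuleCat.of R M) n, x = 0 := by
    intro x
    have h1 := ext_smul_eq_zero_of_mem_annihilator_right hrM x
    have h2 := ext_smul_eq_zero_of_mem_annihilator_left hrQ x
    have : x = r • x - (r - 1) • x := by
      rw [sub_smul, one_smul]
      abel
    rw [this, h1, h2, sub_zero]
  exact ⟨fun a b => by rw [key a, key b]⟩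

/-- Ext criterion for depth, with no hypothesis on `IM`. -/
theorem le_idealDepth_iff_ext' (n : ℕ) :
    (n : ℕ∞) ≤ idealDepth I M ↔
      ∀ i < n, Subsingleton (Abelian.Ext (ModuleCat.of R (R ⧸ I)) (ModuleCat.of R M) i) := by
  by_cases h : I • (⊤ : Submodule R M) = ⊤
  · rw [idealDepth_eq_top I M h]
    simp only [le_top, true_iff]
    intro i _
    exact subsingleton_ext_of_smul_top_eq_top I M h i
  · exact le_idealDepth_iff_ext I M h n

end ExtCrit

section DepthLemma

lemma ENat.add_one_le_of_le_sub_one {n : ℕ} {a : ℕ∞} (hn : n ≠ 0) (h : (n : ℕ∞) ≤ a - 1) :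
    ((n + 1 : ℕ) : ℕ∞) ≤ a := by
  induction a with
  | top => exact le_top
  | coe m =>
    have h' : (n : ℕ∞) ≤ ((m - 1 : ℕ) : ℕ∞) := by
      rw [ENat.natCast_sub]
      exact_mod_cast h
    have : n ≤ m - 1 := by exact_mod_cast h'
    have : n + 1 ≤ m := by omega
    exact_mod_cast this

lemma ENat.le_of_add_one_le_add_one {n : ℕ} {a : ℕ∞} (h : ((n + 1 : ℕ) : ℕ∞) ≤ a + 1) :
    (n : ℕ∞) ≤ a := by
  induction a with
  | top => exact le_top
  | coe m =>
    have : n + 1 ≤ m + 1 := by exact_mod_cast h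
    have : n ≤ m := by omega
    exact_mod_cast this

variable {R : Type u} [CommRing R] [IsNoetherianRing R] (I : Ideal R)
  {N' N N'' : Type u} [AddCommGroup N'] [Module R N'] [Module.Finite R N']
  [AddCommGroup N] [Module R N] [Module.Finite R N]
  [AddCommGroup N''] [Module R N''] [Module.Finite R N'']

/-- The depth lemma. -/
theorem idealDepth_shortExact (f : N' →ₗ[R] N) (g : N →ₗ[R] N'')
    (hf : Function.Injective f) (hg : Function.Surjective g) (hfg : Function.Exact f g) :
    min (idealDepth I N') (idealDepth I N'') ≤ idealDepth I N ∧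
      min (idealDepth I N) (idealDepth I N' - 1) ≤ idealDepth I N'' ∧
      min (idealDepth I N) (idealDepth I N'' + 1) ≤ idealDepth I N' := by
  let S : ShortComplex (ModuleCat.{u} R) :=
    ModuleCat.shortComplexOfCompEqZero f g hfg.linearMap_comp_eq_zero
  have hS : S.ShortExact := ModuleCat.shortComplex_shortExact S hfg hf hg
  let X : ModuleCat.{u} R := ModuleCat.of R (R ⧸ I)
  refine ⟨?_, ?_, ?_⟩
  · rw [← ENat.forall_natCast_le_iff_le]
    intro n hn
    obtain ⟨h1, h2⟩ := le_min_iff.mp hn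
    rw [le_idealDepth_iff_ext'] at h1 h2 ⊢
    intro i hi
    exact ext_subsingleton_X₂ hS X i (h1 i hi) (h2 i hi)
  · rw [← ENat.forall_natCast_le_iff_le]
    intro n hn
    obtain ⟨h1, h2⟩ := le_min_iff.mp hn
    rcases Nat.eq_zero_or_pos n with rfl | hpos
    · exact zero_le
    have h2' := ENat.add_one_le_of_le_sub_one (Nat.pos_iff_ne_zero.mp hpos) h2
    rw [le_idealDepth_iff_ext'] at h1 h2' ⊢
    intro i hi
    exact ext_subsingleton_X₃ hS X i (h1 i hi) (h2' (i + 1) (by omega))
  · rw [← ENat.forall_natCast_le_iff_le]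
    intro n hn
    obtain ⟨h1, h2⟩ := le_min_iff.mp hn
    rw [le_idealDepth_iff_ext'] at h1 ⊢
    intro i hi
    cases i with
    | zero => exact ext_subsingleton_X₁_zero hS X (h1 0 hi)
    | succ j =>
      have hj : ((j + 1 : ℕ) : ℕ∞) ≤ idealDepth I N'' := by
        apply ENat.le_of_add_one_le_add_one
        refine le_trans ?_ h2
        exact_mod_cast hi
      rw [le_idealDepth_iff_ext'] at hj
      exact ext_subsingleton_X₁_succ hS X j (h1 (j + 1) hi) (hj j (Nat.lt_succ_self j))

end DepthLemma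

end Groth.Agent.Lib.helper9.Depth
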