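import Groth.Agent.Lib.helper9.Depth15

/-!
# Hartshorne's connectedness: depth `≥ 2` and the punctured spectrum
-/

universe u

open CategoryTheory RingTheory.Sequence Pointwise

namespace Groth.Agent.Lib.helper9.Depth

open LocCoh

section

variable {R : Type u} [CommRing R] [IsLocalRing R] [IsNoetherianRing R]

/-- an ideal containing a power of the maximal ideal contains a regular element when the depth
is positive. -/
lemma exists_regular_mem_of_pow_le (N : Type u) [AddCommGroup N] [Module R N] [Module.Finite R N]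
    [Nontrivial N] (hN : 1 ≤ depth R N) (a : Ideal R) (k : ℕ)
    (hk : IsLocalRing.maximalIdeal R ^ k ≤ a) : ∃ x ∈ a, IsSMulRegular N x := by
  by_contra hno
  push Not at hno
  obtain ⟨p, hp, hap⟩ := exists_associatedPrime_ge_of_no_regular a N hno
  have hprime : p.IsPrime := IsAssociatedPrime.isPrime hp
  have hmp : IsLocalRing.maximalIdeal R ≤ p := hprime.le_of_pow_le (hk.trans hap)
  have hpm : p = IsLocalRing.maximalIdeal R :=
    le_antisymm (IsLocalRing.le_maximalIdeal hprime.ne_top) hmp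
  rw [hpm] at hp
  have h0 := (LocalAlg.depth_eq_zero_iff R N).mpr hp
  rw [h0] at hN
  simp at hN

/-- a proper ideal containing a power of the maximal ideal contains a regular pair when `depth ≥ 2`. -/
lemma exists_regular_pair_mem_of_pow_le (h : 2 ≤ depth R R) (a : Ideal R) (ha : a ≠ ⊤) (k : ℕ)
    (hk : IsLocalRing.maximalIdeal R ^ k ≤ a) :
    ∃ x ∈ a, ∃ y ∈ a, IsSMulRegular R x ∧ IsSMulRegular (QuotSMulTop x R) y := by
  have ham : a ≤ IsLocalRing.maximalIdeal R := IsLocalRing.le_maximalIdeal ha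
  have h1 : 1 ≤ depth R R := le_trans (by norm_num) h
  obtain ⟨x, hx, hxreg⟩ := exists_regular_mem_of_pow_le R h1 a k hk
  have hnt := nontrivial_quotSMulTop (M := R) (ham hx)
  have h3 : depth R (QuotSMulTop x R) + 1 = depth R R :=
    idealDepth_quotSMulTop_add_one (maximalIdeal_smul_top_ne_top (R := R) R) (ham hx) hxreg
  have h4 : 1 ≤ depth R (QuotSMulTop x R) := by
    rw [← h3] at h
    have : (1 : ℕ∞) + 1 ≤ depth R (QuotSMulTop x R) + 1 := by
      rw [one_add_one_eq_two]; exact h
    exact ENat.le_of_add_one_le_add_one this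
  obtain ⟨y, hy, hyreg⟩ := exists_regular_mem_of_pow_le (QuotSMulTop x R) h4 a k hk
  exact ⟨x, hx, y, hy, hxreg, hyreg⟩

omit [IsNoetherianRing R] in
/-- if `I J = 0` and `I + J` contains a regular pair then `I = 0` or `J = 0`. -/
lemma eq_bot_or_eq_bot_of_regular_pair (I J : Ideal R) (hIJ : I * J = ⊥) {x y : R}
    (hx : x ∈ I ⊔ J) (hy : y ∈ I ⊔ J) (hxreg : IsSMulRegular R x)
    (hyreg : IsSMulRegular (QuotSMulTop x R) y) : I = ⊥ ∨ J = ⊥ := by
  obtain ⟨i, hi, j, hj, rfl⟩ := Submodule.mem_sup.mp hx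
  obtain ⟨i', hi', j', hj', rfl⟩ := Submodule.mem_sup.mp hy
  have hzero : ∀ u ∈ I, ∀ v ∈ J, u * v = 0 := by
    intro u hu v hv
    have : u * v ∈ I * J := Ideal.mul_mem_mul hu hv
    rw [hIJ] at this
    simpa using this
  have h1 : (i' + j') * i = (i + j) * i' := by
    have e1 : i * j' = 0 := hzero i hi j' hj'
    have e2 : i' * j = 0 := hzero i' hi' j hj
    linear_combination e1 - e2
  have h2 : (i' + j') • (Submodule.Quotient.mk i : QuotSMulTop (i + j) R) = 0 := by
    rw [← Submodule.Quotient.mk_smul, Submodule.Quotient.mk_eq_zero,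
      Submodule.mem_smul_pointwise_iff_exists]
    exact ⟨i', trivial, by rw [smul_eq_mul, smul_eq_mul, h1]⟩
  have h3 := (isSMulRegular_iff_right_eq_zero_of_smul.mp hyreg) _ h2
  rw [Submodule.Quotient.mk_eq_zero, Submodule.mem_smul_pointwise_iff_exists] at h3
  obtain ⟨e, -, he⟩ := h3
  rw [smul_eq_mul] at he
  -- e (1 - e) = 0
  have h4 : e * (1 - e) = 0 := by
    apply hxreg
    apply hxreg
    simp only [smul_eq_mul, mul_zero]
    have : i * j = 0 := hzero i hi j hj
    have hj' : j = (i + j) * (1 - e) := by rw [mul_sub, mul_one, he]; ring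
    calc (i + j) * ((i + j) * (e * (1 - e))) = ((i + j) * e) * ((i + j) * (1 - e)) := by ring
      _ = i * j := by rw [he, ← hj']
      _ = 0 := this
  rcases IsLocalRing.isUnit_or_isUnit_one_sub_self e with hu | hu
  · -- `1 - e = 0`, so `x = i ∈ I` and `J = 0`
    right
    have h5 : 1 - e = 0 := hu.mul_right_eq_zero.mp h4
    have h6 : i + j = i := by
      have : e = 1 := by rw [sub_eq_zero] at h5; exact h5.symm
      rw [this, mul_one] at he
      exact he
    rw [eq_bot_iff]
    intro r hr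
    have : (i + j) • r = (i + j) • (0 : R) := by
      rw [smul_zero, h6, smul_eq_mul]
      exact hzero i hi r hr
    simpa using hxreg this
  · left
    have h5 : e = 0 := hu.mul_left_eq_zero.mp h4
    have h6 : i = 0 := by rw [← he, h5, mul_zero]
    rw [eq_bot_iff]
    intro r hr
    have : (i + j) • r = (i + j) • (0 : R) := by
      rw [smul_zero, h6, zero_add, smul_eq_mul, mul_comm]
      exact hzero r hr j hj
    simpa using hxreg this

/-- **Hartshorne**: the punctured spectrum of a Noetherian local ring of depth `≥ 2` is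
connected. -/
theorem isConnected_punctured_of_two_le_depth (h : 2 ≤ depth R R) :
    _root_.IsConnected {x : PrimeSpectrum R | x.asIdeal ≠ IsLocalRing.maximalIdeal R} := by
  have h1 : 1 ≤ depth R R := le_trans (by norm_num) h
  refine ⟨?_, ?_⟩
  · -- nonempty
    obtain ⟨p, hp⟩ := associatedPrimes.nonempty R R
    refine ⟨⟨p, IsAssociatedPrime.isPrime hp⟩, ?_⟩
    intro hpm
    change p = IsLocalRing.maximalIdeal R at hpm
    rw [hpm] at hp
    have h0 := (LocalAlg.depth_eq_zero_iff R R).mpr hp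
    rw [h0] at h1
    simp at h1
  · rw [isPreconnected_closed_iff]
    intro t t' ht ht' hsub hne hne'
    obtain ⟨I, rfl⟩ := (PrimeSpectrum.isClosed_iff_zeroLocus_ideal t).mp ht
    obtain ⟨J, rfl⟩ := (PrimeSpectrum.isClosed_iff_zeroLocus_ideal t').mp ht'
    by_contra hempty
    rw [Set.not_nonempty_iff_eq_empty] at hempty
    obtain ⟨P, hPU, hPI⟩ := hne
    obtain ⟨Q, hQU, hQJ⟩ := hne'
    rw [PrimeSpectrum.mem_zeroLocus] at hPI hQJ
    have hIm : I ≤ IsLocalRing.maximalIdeal R :=
      (show I ≤ P.asIdeal from hPI).trans (IsLocalRing.le_maximalIdeal P.isPrime.ne_top)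
    have hJm : J ≤ IsLocalRing.maximalIdeal R :=
      (show J ≤ Q.asIdeal from hQJ).trans (IsLocalRing.le_maximalIdeal Q.isPrime.ne_top)
    -- `I J` is nilpotent
    have hnil : I * J ≤ nilradical R := by
      rw [nilradical_eq_sInf, le_sInf_iff]
      intro P' hP'
      have hP'prime : P'.IsPrime := hP'
      by_cases hP'm : P' = IsLocalRing.maximalIdeal R
      · rw [hP'm]
        exact Ideal.mul_le_right.trans hJm
      · have := hsub (show (⟨P', hP'prime⟩ : PrimeSpectrum R) ∈ _ from hP'm)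
        rcases this with h2 | h2
        · rw [PrimeSpectrum.mem_zeroLocus] at h2
          exact Ideal.mul_le_left.trans (show I ≤ P' from h2)
        · rw [PrimeSpectrum.mem_zeroLocus] at h2
          exact Ideal.mul_le_right.trans (show J ≤ P' from h2)
    obtain ⟨n, hn⟩ := IsNoetherianRing.isNilpotent_nilradical R
    have hIJn : I ^ (n + 1) * J ^ (n + 1) = ⊥ := by
      rw [← mul_pow, eq_bot_iff]
      calc (I * J) ^ (n + 1) ≤ nilradical R ^ (n + 1) := Ideal.pow_right_mono hnil _
        _ = ⊥ := by rw [pow_succ, hn, Ideal.zero_eq_bot, Ideal.bot_mul]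
    -- `I^(n+1) + J^(n+1)` contains a power of the maximal ideal
    have hrad : IsLocalRing.maximalIdeal R ≤ (I ^ (n + 1) ⊔ J ^ (n + 1)).radical := by
      rw [Ideal.radical_eq_sInf, le_sInf_iff]
      rintro P' ⟨hP'le, hP'prime⟩
      have hIP' : I ≤ P' := hP'prime.le_of_pow_le (le_sup_left.trans hP'le)
      have hJP' : J ≤ P' := hP'prime.le_of_pow_le (le_sup_right.trans hP'le)
      by_contra hcon
      have hP'm : P' ≠ IsLocalRing.maximalIdeal R := fun h' => hcon h'.ge
      have hmem : (⟨P', hP'prime⟩ : PrimeSpectrum R) ∈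
          {x : PrimeSpectrum R | x.asIdeal ≠ IsLocalRing.maximalIdeal R} ∩
            (PrimeSpectrum.zeroLocus (I : Set R) ∩ PrimeSpectrum.zeroLocus (J : Set R)) :=
        ⟨hP'm, (PrimeSpectrum.mem_zeroLocus _ _).mpr hIP', (PrimeSpectrum.mem_zeroLocus _ _).mpr hJP'⟩
      rw [hempty] at hmem
      exact hmem
    obtain ⟨k, hk⟩ := Ideal.exists_pow_le_of_le_radical_of_fg hrad
      ((isNoetherianRing_iff_ideal_fg R).mp inferInstance _)
    have hatop : I ^ (n + 1) ⊔ J ^ (n + 1) ≠ ⊤ := by
      intro htop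
      have : I ^ (n + 1) ⊔ J ^ (n + 1) ≤ IsLocalRing.maximalIdeal R :=
        sup_le ((Ideal.pow_le_self (Nat.succ_ne_zero n)).trans hIm)
          ((Ideal.pow_le_self (Nat.succ_ne_zero n)).trans hJm)
      rw [htop] at this
      exact (IsLocalRing.maximalIdeal.isMaximal R).ne_top (top_le_iff.mp this)
    obtain ⟨x, hx, y, hy, hxreg, hyreg⟩ := exists_regular_pair_mem_of_pow_le h _ hatop k hk
    have key := eq_bot_or_eq_bot_of_regular_pair _ _ hIJn hx hy hxreg hyreg
    -- conclude
    have hbot : ∀ (K : Ideal R) (P' : PrimeSpectrum R), K ^ (n + 1) = ⊥ → K ≤ P'.asIdeal := by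
      intro K P' hK
      apply P'.isPrime.le_of_pow_le (n := n + 1)
      rw [hK]
      exact bot_le
    rcases key with hI0 | hJ0
    · have hmem : Q ∈ {x : PrimeSpectrum R | x.asIdeal ≠ IsLocalRing.maximalIdeal R} ∩
            (PrimeSpectrum.zeroLocus (I : Set R) ∩ PrimeSpectrum.zeroLocus (J : Set R)) :=
        ⟨hQU, (PrimeSpectrum.mem_zeroLocus _ _).mpr (hbot I Q hI0),
          (PrimeSpectrum.mem_zeroLocus _ _).mpr hQJ⟩
      rw [hempty] at hmem
      exact hmem
    · have hmem : P ∈ {x : PrimeSpectrum R | x.asIdeal ≠ IsLocalRing.maximalIdeal R} ∩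
            (PrimeSpectrum.zeroLocus (I : Set R) ∩ PrimeSpectrum.zeroLocus (J : Set R)) :=
        ⟨hPU, (PrimeSpectrum.mem_zeroLocus _ _).mpr hPI,
          (PrimeSpectrum.mem_zeroLocus _ _).mpr (hbot J P hJ0)⟩
      rw [hempty] at hmem
      exact hmem

end

end Groth.Agent.Lib.helper9.Depth
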