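import Groth.Agent.Lib.helper9.Depth25

/-!
# `(S_k)` lifts from `M/tM` to `M` (local ring, `t` regular in the maximal ideal)
-/

universe u

open RingTheory.Sequence Pointwise

namespace Groth.Agent.Lib.helper9.Depth

open LocCoh

section Lift

variable {A : Type u} [CommRing A] [IsNoetherianRing A]
  {M : Type u} [AddCommGroup M] [Module A M] [Module.Finite A M]

/-- at primes containing the regular element `t`, `(S_k)` for `M/tM` gives `(S_{k+1})` for `M`. -/
lemma succ_min_le_depth_of_hasSk_quotSMulTop {k : ℕ} {t : A} (hreg : IsSMulRegular M t)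
    (hS : HasSk k A (QuotSMulTop t M)) (q : Ideal A) [q.IsPrime] (htq : t ∈ q)
    [Nontrivial (LocalizedModule q.primeCompl M)] :
    min ((k + 1 : ℕ) : WithBot ℕ∞)
        (Module.supportDim (Localization.AtPrime q) (LocalizedModule q.primeCompl M)) ≤
      ((depth (Localization.AtPrime q) (LocalizedModule q.primeCompl M) : ℕ∞) : WithBot ℕ∞) := by
  obtain ⟨h1, h2⟩ := supportDim_depth_localization_quotSMulTop q M hreg htq
  have h3 := hS q
  obtain ⟨nd, hd⟩ := SemiLocalDim.exists_nat_eq_supportDim (Localization.AtPrime q)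
    (LocalizedModule q.primeCompl M)
  obtain ⟨ne, he⟩ := exists_nat_depth (R := Localization.AtPrime q)
    (LocalizedModule q.primeCompl M)
  rw [hd] at h1 ⊢
  rw [he] at h2 ⊢
  rcases supportDim_eq_bot_or_nat (R := Localization.AtPrime q)
    (LocalizedModule q.primeCompl (QuotSMulTop t M)) with hb | ⟨nd', hd'⟩
  · rw [hb] at h1
    simp at h1
  · rw [hd'] at h1 h3
    have hne' : ∃ ne' : ℕ, depth (Localization.AtPrime q)
        (LocalizedModule q.primeCompl (QuotSMulTop t M)) = ne' := by
      cases hdd : depth (Localization.AtPrime q)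
        (LocalizedModule q.primeCompl (QuotSMulTop t M)) with
      | top => rw [hdd] at h2; simp at h2
      | coe n => exact ⟨n, rfl⟩
    obtain ⟨ne', he'⟩ := hne'
    rw [he'] at h2 h3
    have e1 : nd' + 1 = nd := by exact_mod_cast h1
    have e2 : ne' + 1 = ne := by exact_mod_cast h2
    have e3 : min k nd' ≤ ne' := (natCast_min_le_iff k nd' ne').mp h3
    have e4 : min (k + 1) nd ≤ ne := by omega
    exact (natCast_min_le_iff (k + 1) nd ne).mpr e4

variable [IsLocalRing A]

/-- `(S_k)` lifts from `M/tM` to `M`. -/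
theorem hasSk_of_hasSk_quotSMulTop {k : ℕ} {t : A} (ht : t ∈ IsLocalRing.maximalIdeal A)
    (hreg : IsSMulRegular M t) (hS : HasSk k A (QuotSMulTop t M)) : HasSk k A M := by
  intro p _
  by_cases hMp : Subsingleton (LocalizedModule p.primeCompl M)
  · rw [Module.supportDim_eq_bot_of_subsingleton, min_eq_right bot_le]
    exact bot_le
  rw [not_subsingleton_iff_nontrivial] at hMp
  have hpsupp : (⟨p, inferInstance⟩ : PrimeSpectrum A) ∈ Module.support A M :=
    Module.mem_support_iff.mpr hMp
  by_cases htp : t ∈ p
  · refine le_trans (min_le_min_right _ ?_) (succ_min_le_depth_of_hasSk_quotSMulTop hreg hS p htp)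
    exact_mod_cast Nat.le_succ k
  · -- a prime `q` minimal over `p + (t)`
    have hJm : p ⊔ Ideal.span {t} ≤ IsLocalRing.maximalIdeal A :=
      sup_le (IsLocalRing.le_maximalIdeal (inferInstance : p.IsPrime).ne_top)
        ((Ideal.span_singleton_le_iff_mem _).mpr ht)
    obtain ⟨q, hq, -⟩ := Ideal.exists_minimalPrimes_le hJm
    haveI hqprime : q.IsPrime := hq.1.1
    have hpq : p ≤ q := le_sup_left.trans hq.1.2
    have htq : t ∈ q := hq.1.2 (Ideal.mem_sup_right (Ideal.mem_span_singleton_self t))
    have hlt : p < q := lt_of_le_of_ne hpq (fun h => htp (h ▸ htq))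
    have hht : (q.map (Ideal.Quotient.mk p)).height ≤ 1 :=
      Ideal.map_height_le_one_of_mem_minimalPrimes hq
    have hqsupp : (⟨q, inferInstance⟩ : PrimeSpectrum A) ∈ Module.support A M :=
      Module.mem_support_mono (show (⟨p, inferInstance⟩ : PrimeSpectrum A) ≤ ⟨q, inferInstance⟩
        from hpq) hpsupp
    haveI hMq : Nontrivial (LocalizedModule q.primeCompl M) := Module.mem_support_iff.mp hqsupp
    have hC := succ_min_le_depth_of_hasSk_quotSMulTop hreg hS q htq
    have hdep := depth_localization_le_depth_add_height q p hpq M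
    have hdim := supportDim_localization_add_one_le p M q hlt hpsupp
    obtain ⟨nd, hd⟩ := SemiLocalDim.exists_nat_eq_supportDim (Localization.AtPrime p)
      (LocalizedModule p.primeCompl M)
    obtain ⟨ne, he⟩ := exists_nat_depth (R := Localization.AtPrime p)
      (LocalizedModule p.primeCompl M)
    obtain ⟨ndq, hdq⟩ := SemiLocalDim.exists_nat_eq_supportDim (Localization.AtPrime q)
      (LocalizedModule q.primeCompl M)
    obtain ⟨neq, heq⟩ := exists_nat_depth (R := Localization.AtPrime q)
      (LocalizedModule q.primeCompl M)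
    rw [hd, hdq] at hdim
    rw [hdq, heq] at hC
    rw [hd, he]
    have e1 : nd + 1 ≤ ndq := by exact_mod_cast hdim
    have e2 : min (k + 1) ndq ≤ neq := (natCast_min_le_iff (k + 1) ndq neq).mp hC
    have e3 : neq ≤ ne + 1 := by
      have : (neq : ℕ∞) ≤ (ne : ℕ∞) + 1 := by
        rw [← heq, ← he]
        exact hdep.trans (add_le_add_right hht _)
      exact_mod_cast this
    have e4 : min k nd ≤ ne := by omega
    exact (natCast_min_le_iff k nd ne).mpr e4

end Lift

end Groth.Agent.Lib.helper9.Depth
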