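import Groth.Agent.Lib.helper9.Depth24

/-!
# `dim M_p` as the height of `p` in `Supp M`
-/

universe u

open RingTheory.Sequence Pointwise

namespace Groth.Agent.Lib.helper9.Depth

open LocCoh

section Height

variable {A : Type u} [CommRing A] (p : Ideal A) [p.IsPrime] (M : Type u) [AddCommGroup M]
  [Module A M] [Module.Finite A M]

/-- `dim_{A_p} M_p` is the height of `p` in the poset `Supp M`. -/
theorem supportDim_localization_eq_height
    (hp : (⟨p, inferInstance⟩ : PrimeSpectrum A) ∈ Module.support A M) :
    Module.supportDim (Localization.AtPrime p) (LocalizedModule p.primeCompl M) =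
      ((Order.height (⟨⟨p, inferInstance⟩, hp⟩ : Module.support A M) : ℕ∞) : WithBot ℕ∞) := by
  rw [Order.height_eq_krullDim_Iic]
  unfold Module.supportDim
  have hmax : Ideal.comap (algebraMap A (Localization.AtPrime p))
      (IsLocalRing.maximalIdeal (Localization.AtPrime p)) = p :=
    Localization.AtPrime.under_maximalIdeal
  apply le_antisymm
  · -- contraction of primes
    let f : Module.support (Localization.AtPrime p) (LocalizedModule p.primeCompl M) →
        Set.Iic (⟨⟨p, inferInstance⟩, hp⟩ : Module.support A M) := fun Q =>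
      ⟨⟨PrimeSpectrum.comap (algebraMap A (Localization.AtPrime p)) Q.1,
        comap_mem_support_of_mem_support p M Q.1 Q.2⟩, by
          change Ideal.comap _ Q.1.asIdeal ≤ p
          exact (Ideal.comap_mono (IsLocalRing.le_maximalIdeal Q.1.2.ne_top)).trans hmax.le⟩
    refine Order.krullDim_le_of_strictMono f ?_
    intro Q Q' hQ
    have hle : Q.1.asIdeal ≤ Q'.1.asIdeal := hQ.le
    have hne : Q ≠ Q' := hQ.ne
    refine lt_of_le_of_ne (Ideal.comap_mono hle) ?_
    intro heq
    apply hne
    apply Subtype.ext
    apply PrimeSpectrum.localization_comap_injective (Localization.AtPrime p) p.primeCompl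
    exact congrArg (fun z : Set.Iic (⟨⟨p, inferInstance⟩, hp⟩ : Module.support A M) => z.1.1) heq
  · -- extension of primes
    have hdisj : ∀ q : Set.Iic (⟨⟨p, inferInstance⟩, hp⟩ : Module.support A M),
        Disjoint (p.primeCompl : Set A) (q.1.1.asIdeal : Set A) := by
      intro q
      rw [Set.disjoint_left]
      intro x hx hxq
      exact hx (q.2 hxq)
    have hprime : ∀ q : Set.Iic (⟨⟨p, inferInstance⟩, hp⟩ : Module.support A M),
        (q.1.1.asIdeal.map (algebraMap A (Localization.AtPrime p))).IsPrime := fun q =>
      IsLocalization.isPrime_of_isPrime_disjoint p.primeCompl _ _ q.1.1.2 (hdisj q)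
    have hcomap : ∀ q : Set.Iic (⟨⟨p, inferInstance⟩, hp⟩ : Module.support A M),
        (q.1.1.asIdeal.map (algebraMap A (Localization.AtPrime p))).comap
          (algebraMap A (Localization.AtPrime p)) = q.1.1.asIdeal := fun q =>
      IsLocalization.under_map_of_isPrime_disjoint p.primeCompl _ q.1.1.2 (hdisj q)
    let g : Set.Iic (⟨⟨p, inferInstance⟩, hp⟩ : Module.support A M) →
        Module.support (Localization.AtPrime p) (LocalizedModule p.primeCompl M) := fun q =>
      ⟨⟨q.1.1.asIdeal.map (algebraMap A (Localization.AtPrime p)), hprime q⟩, by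
        apply mem_support_of_comap_mem_support
        have : PrimeSpectrum.comap (algebraMap A (Localization.AtPrime p))
            ⟨q.1.1.asIdeal.map (algebraMap A (Localization.AtPrime p)), hprime q⟩ = q.1.1 :=
          PrimeSpectrum.ext (hcomap q)
        rw [this]
        exact q.1.2⟩
    refine Order.krullDim_le_of_strictMono g ?_
    intro q q' hq
    have hle : q.1.1.asIdeal ≤ q'.1.1.asIdeal := hq.le
    refine lt_of_le_of_ne (Ideal.map_mono hle) ?_
    intro heq
    apply hq.ne
    apply Subtype.ext
    apply Subtype.ext
    apply PrimeSpectrum.ext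
    have h1 : (g q).1.asIdeal = (g q').1.asIdeal := congrArg (fun z => z.1.asIdeal) heq
    rw [← hcomap q, ← hcomap q']
    exact congrArg _ h1

/-- for primes `p < q` of `Supp M`: `dim M_p + 1 ≤ dim M_q`. -/
theorem supportDim_localization_add_one_le (q : Ideal A) [q.IsPrime] (hpq : p < q)
    (hp : (⟨p, inferInstance⟩ : PrimeSpectrum A) ∈ Module.support A M) :
    Module.supportDim (Localization.AtPrime p) (LocalizedModule p.primeCompl M) + 1 ≤
      Module.supportDim (Localization.AtPrime q) (LocalizedModule q.primeCompl M) := by
  have hq : (⟨q, inferInstance⟩ : PrimeSpectrum A) ∈ Module.support A M :=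
    Module.mem_support_mono (show (⟨p, inferInstance⟩ : PrimeSpectrum A) ≤ ⟨q, inferInstance⟩ from
      hpq.le) hp
  rw [supportDim_localization_eq_height p M hp, supportDim_localization_eq_height q M hq]
  have hlt : (⟨⟨p, inferInstance⟩, hp⟩ : Module.support A M) < ⟨⟨q, inferInstance⟩, hq⟩ := hpq
  have := Order.height_add_one_le hlt
  exact_mod_cast this

end Height

end Groth.Agent.Lib.helper9.Depth
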