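import Groth.Agent.Lib.helper9.FlatDepth
import Groth.Agent.Lib.helper9.Depth11
import Mathlib.RingTheory.Ideal.GoingDown
import Mathlib.RingTheory.Flat.Localization

/-!
# Flat maps: depth and height at a prime minimal over the extension of its contraction
-/

universe u

open CategoryTheory RingTheory.Sequence Pointwise TensorProduct

namespace Groth.Agent.Lib.helper9.FlatDepth

open LocCoh Groth.Agent.Lib.helper9.Depth

section Radical

variable {A : Type u} [CommRing A] [IsNoetherianRing A]

/-- `idealDepth` only depends on the set of primes containing the ideal. -/
theorem idealDepth_eq_of_forall_prime (I J : Ideal A) (M : Type u) [AddCommGroup M] [Module A M]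
    [Module.Finite A M] (h : ∀ P : Ideal A, P.IsPrime → (I ≤ P ↔ J ≤ P)) :
    idealDepth I M = idealDepth J M := by
  rw [idealDepth_eq_iInf_depth_localization, idealDepth_eq_iInf_depth_localization]
  refine iInf_congr fun P => ?_
  exact iInf_congr_Prop (h P.asIdeal P.isPrime) (fun _ => rfl)

end Radical

section Flat

variable {R S : Type u} [CommRing R] [CommRing S] [Algebra R S] [Module.Flat R S]
  [IsNoetherianRing R] [IsNoetherianRing S]

/-- height equality at a prime minimal over the extension of its contraction. -/
theorem height_eq_of_flat_minimal (q : Ideal S) [q.IsPrime]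
    (hq : q ∈ ((q.under R).map (algebraMap R S)).minimalPrimes) :
    q.height = (q.under R).height := by
  have h1 := Ideal.height_eq_height_add_of_liesOver_of_hasGoingDown (q.under R) q
  have h2 : (q.map (Ideal.Quotient.mk ((q.under R).map (algebraMap R S)))).height = 0 := by
    rw [Ideal.minimalPrimes_eq_comap] at hq
    obtain ⟨Q, hQ, hQq⟩ := hq
    have hmap : q.map (Ideal.Quotient.mk ((q.under R).map (algebraMap R S))) = Q := by
      have := Ideal.map_comap_of_surjective
        (Ideal.Quotient.mk ((q.under R).map (algebraMap R S))) Ideal.Quotient.mk_surjective Q
      rwa [hQq] at this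
    rw [hmap]
    haveI := hQ.1.1
    exact Ideal.height_eq_zero_iff.2 hQ
  rw [h1, h2, add_zero]

/-- depth equality at a prime minimal over the extension of its contraction. -/
theorem depth_eq_of_flat_minimal (q : Ideal S) [q.IsPrime]
    (hq : q ∈ ((q.under R).map (algebraMap R S)).minimalPrimes) :
    depth (Localization.AtPrime q) (Localization.AtPrime q) =
      depth (Localization.AtPrime (q.under R)) (Localization.AtPrime (q.under R)) := by
  letI := Localization.AtPrime.algebraOfLiesOver (q.under R) q
  haveI : IsLocalHom (algebraMap (Localization.AtPrime <| q.under R) (Localization.AtPrime q)) := by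
    rw [RingHom.algebraMap_toAlgebra]
    exact Localization.isLocalHom_localRingHom (q.under R) q (algebraMap R S) Ideal.LiesOver.over
  haveI : Module.FaithfullyFlat (Localization.AtPrime (q.under R)) (Localization.AtPrime q) :=
    Module.FaithfullyFlat.of_flat_of_isLocalHom
  have h1 := idealDepth_baseChange_eq (A := Localization.AtPrime (q.under R))
    (B := Localization.AtPrime q) (IsLocalRing.maximalIdeal (Localization.AtPrime (q.under R)))
    (Localization.AtPrime (q.under R))
  rw [idealDepth_congr _ (TensorProduct.AlgebraTensorModule.rid (Localization.AtPrime (q.under R))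
    (Localization.AtPrime q) (Localization.AtPrime q))] at h1
  unfold depth
  rw [← h1]
  symm
  apply idealDepth_eq_of_forall_prime
  intro P hP
  constructor
  · intro hIP
    -- P contains the image of `p`, so its contraction to `S` is `q`
    have hPq : P.comap (algebraMap S (Localization.AtPrime q)) ≤ q := by
      have := Ideal.comap_mono (f := algebraMap S (Localization.AtPrime q))
        (IsLocalRing.le_maximalIdeal hP.ne_top)
      have h2 : (IsLocalRing.maximalIdeal (Localization.AtPrime q)).comap
          (algebraMap S (Localization.AtPrime q)) = q :=
        IsLocalization.AtPrime.under_maximalIdeal (Localization.AtPrime q) q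
      rwa [h2] at this
    have hpP : (q.under R).map (algebraMap R S) ≤
        P.comap (algebraMap S (Localization.AtPrime q)) := by
      rw [Ideal.map_le_iff_le_comap]
      intro a ha
      rw [Ideal.mem_comap, Ideal.mem_comap]
      apply hIP
      have : algebraMap S (Localization.AtPrime q) (algebraMap R S a) =
          algebraMap (Localization.AtPrime (q.under R)) (Localization.AtPrime q)
            (algebraMap R (Localization.AtPrime (q.under R)) a) := by
        rw [← IsScalarTower.algebraMap_apply, ← IsScalarTower.algebraMap_apply]
      rw [this]
      apply Ideal.mem_map_of_mem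
      rw [← Localization.AtPrime.map_eq_maximalIdeal]
      exact Ideal.mem_map_of_mem _ ha
    have hqP : q ≤ P.comap (algebraMap S (Localization.AtPrime q)) :=
      hq.2 ⟨inferInstance, hpP⟩ hPq
    have : P = IsLocalRing.maximalIdeal (Localization.AtPrime q) := by
      have hPeq : P.comap (algebraMap S (Localization.AtPrime q)) = q := le_antisymm hPq hqP
      have h3 := IsLocalization.map_under q.primeCompl (Localization.AtPrime q) P
      rw [← Localization.AtPrime.map_eq_maximalIdeal, ← h3]
      exact congrArg (Ideal.map (algebraMap S (Localization.AtPrime q))) hPeq
    rw [this]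
  · intro hmP
    refine le_trans ?_ hmP
    exact ((IsLocalRing.local_hom_TFAE (algebraMap (Localization.AtPrime (q.under R))
      (Localization.AtPrime q))).out 0 2).1 ‹_›

end Flat

end Groth.Agent.Lib.helper9.FlatDepth
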