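import Groth.Agent.Lib.helper9.Depth19
import Mathlib.Algebra.Module.FinitePresentation
import Mathlib.LinearAlgebra.Dual.Defs

/-!
# Depth of localizations of reflexive modules
-/

universe u

open CategoryTheory RingTheory.Sequence Pointwise

namespace Groth.Agent.Lib.helper9.Depth

open LocCoh

section

variable {R : Type u} [CommRing R] (p : Ideal R) [p.IsPrime]

/-- `Hom_R(N, M')_p ≃ Hom_{R_p}(N_p, M'_p)` for finitely presented `N`. -/
noncomputable def localizedHomEquiv (N M' : Type u) [AddCommGroup N] [Module R N]
    [AddCommGroup M'] [Module R M'] [Module.FinitePresentation R N] :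
    LocalizedModule p.primeCompl (N →ₗ[R] M') ≃ₗ[Localization.AtPrime p]
      (LocalizedModule p.primeCompl N →ₗ[Localization.AtPrime p] LocalizedModule p.primeCompl M') :=
  (Module.FinitePresentation.linearEquivMapExtendScalars
    p.primeCompl).extendScalarsOfIsLocalization p.primeCompl (Localization.AtPrime p)

variable [IsNoetherianRing R] (M : Type u) [AddCommGroup M] [Module R M] [Module.Finite R M]

/-- the localization of the double dual as a `Hom` module over `R_p`. -/
noncomputable def localizedDualDualEquiv :
    LocalizedModule p.primeCompl (Module.Dual R (Module.Dual R M)) ≃ₗ[Localization.AtPrime p]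
      (LocalizedModule p.primeCompl (Module.Dual R M) →ₗ[Localization.AtPrime p]
        LocalizedModule p.primeCompl R) :=
  haveI : Module.Finite R (Module.Dual R M) :=
    Module.IsNoetherian.finite R (Module.Dual R M)
  haveI : Module.FinitePresentation R (Module.Dual R M) := Module.finitePresentation_of_finite R _
  localizedHomEquiv p (Module.Dual R M) R

/-- for a reflexive module, `depth M_p ≥ min(2, depth R_p)`. -/
theorem le_depth_localization_of_isReflexive [Module.IsReflexive R M] :
    (1 ≤ depth (Localization.AtPrime p) (Localization.AtPrime p) →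
      1 ≤ depth (Localization.AtPrime p) (LocalizedModule p.primeCompl M)) ∧
    (2 ≤ depth (Localization.AtPrime p) (Localization.AtPrime p) →
      2 ≤ depth (Localization.AtPrime p) (LocalizedModule p.primeCompl M)) := by
  have e1 : LocalizedModule p.primeCompl M ≃ₗ[Localization.AtPrime p]
      LocalizedModule p.primeCompl (Module.Dual R (Module.Dual R M)) :=
    IsLocalizedModule.mapEquiv p.primeCompl (LocalizedModule.mkLinearMap p.primeCompl M)
      (LocalizedModule.mkLinearMap p.primeCompl _) (Localization.AtPrime p) (Module.evalEquiv R M)
  have e := e1.trans (localizedDualDualEquiv p M)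
  have hd : depth (Localization.AtPrime p) (LocalizedModule p.primeCompl M) =
      depth (Localization.AtPrime p)
        (LocalizedModule p.primeCompl (Module.Dual R M) →ₗ[Localization.AtPrime p]
          LocalizedModule p.primeCompl R) := idealDepth_congr _ e
  rw [hd, ← depth_localizedModule_self]
  unfold depth
  exact ⟨fun h => DepthHom.one_le_idealDepth_hom (R := Localization.AtPrime p)
      (M := LocalizedModule p.primeCompl (Module.Dual R M))
      (N := LocalizedModule p.primeCompl R) h,
    fun h => DepthHom.two_le_idealDepth_hom (R := Localization.AtPrime p)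
      (M := LocalizedModule p.primeCompl (Module.Dual R M))
      (N := LocalizedModule p.primeCompl R) h⟩

/-- a reflexive module over a ring with `(S_2)` has `(S_2)`. -/
theorem hasSk_two_of_isReflexive [Module.IsReflexive R M] (hR : HasSk 2 R R) : HasSk 2 R M := by
  intro p _
  obtain ⟨h1, h2⟩ := le_depth_localization_of_isReflexive p M
  by_cases hMp : Subsingleton (LocalizedModule p.primeCompl M)
  · rw [Module.supportDim_eq_bot_of_subsingleton, min_eq_right bot_le]
    exact bot_le
  rw [not_subsingleton_iff_nontrivial] at hMp
  have hS := hR p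
  rw [Module.supportDim_eq_of_equiv (localizedModuleSelfEquiv p), depth_localizedModule_self] at hS
  have hdim : Module.supportDim (Localization.AtPrime p) (LocalizedModule p.primeCompl M) ≤
      Module.supportDim (Localization.AtPrime p) (Localization.AtPrime p) :=
    (Module.supportDim_le_ringKrullDim _ _).trans_eq (Module.supportDim_self_eq_ringKrullDim _).symm
  obtain ⟨nM, hnM⟩ := SemiLocalDim.exists_nat_eq_supportDim (Localization.AtPrime p)
    (LocalizedModule p.primeCompl M)
  obtain ⟨nR, hnR⟩ := SemiLocalDim.exists_nat_eq_supportDim (Localization.AtPrime p)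
    (Localization.AtPrime p)
  obtain ⟨dM, hdM⟩ := exists_nat_depth (R := Localization.AtPrime p)
    (LocalizedModule p.primeCompl M)
  obtain ⟨dR, hdR⟩ := exists_nat_depth (R := Localization.AtPrime p) (Localization.AtPrime p)
  rw [hnM, hnR] at hdim
  rw [hnR, hdR] at hS
  rw [hdR, hdM] at h1 h2
  rw [hnM, hdM]
  have e1 : nM ≤ nR := by exact_mod_cast hdim
  have e2 : min 2 nR ≤ dR := (natCast_min_le_iff 2 nR dR).mp hS
  have e3 : 1 ≤ dR → 1 ≤ dM := fun h => by
    have := h1 (by exact_mod_cast h)
    exact_mod_cast this
  have e4 : 2 ≤ dR → 2 ≤ dM := fun h => by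
    have := h2 (by exact_mod_cast h)
    exact_mod_cast this
  apply (natCast_min_le_iff 2 nM dM).mpr
  rcases Nat.lt_or_ge dR 1 with h | h
  · omega
  · have := e3 h
    rcases Nat.lt_or_ge dR 2 with h' | h'
    · omega
    · have := e4 h'
      omega

end

end Groth.Agent.Lib.helper9.Depth
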