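import Groth.Agent.Lib.helper9.Depth27

/-!
# Localization at a general multiplicative set: quotients, spreading out regular sequences to `M_g`
-/

universe u

open RingTheory.Sequence Pointwise

namespace Groth.Agent.Lib.helper9.Depth

open LocCoh

section QuotLocS

variable {A : Type u} [CommRing A] (S : Submonoid A) (M : Type u) [AddCommGroup M] [Module A M]

lemma localized'_smul_top_submonoid (J : Ideal A) :
    (J • (⊤ : Submodule A M)).localized' (Localization S) S
      (LocalizedModule.mkLinearMap S M) =
    (J.map (algebraMap A (Localization S))) •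
      (⊤ : Submodule (Localization S) (LocalizedModule S M)) := by
  rw [Submodule.localized'_smul, Submodule.localized'_top]
  congr 1
  rw [Submodule.localized'_eq_span]
  rfl

/-- `S⁻¹(M/JM) ≃ S⁻¹M / J S⁻¹M`. -/
noncomputable def quotLocEquivS (J : Ideal A) :
    LocalizedModule S (M ⧸ J • (⊤ : Submodule A M)) ≃ₗ[Localization S]
      (LocalizedModule S M ⧸ (J.map (algebraMap A (Localization S))) •
        (⊤ : Submodule (Localization S) (LocalizedModule S M))) :=
  (localizedQuotientEquiv S (J • (⊤ : Submodule A M))).symm.trans
    (Submodule.quotEquivOfEq _ _ (localized'_smul_top_submonoid S M J))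

/-- `S⁻¹(M/xM) ≃ S⁻¹M / x S⁻¹M`. -/
noncomputable def quotSMulTopLocEquivS (x : A) :
    LocalizedModule S (QuotSMulTop x M) ≃ₗ[Localization S]
      QuotSMulTop (algebraMap A (Localization S) x) (LocalizedModule S M) :=
  (IsLocalizedModule.mapEquiv S
      (LocalizedModule.mkLinearMap S (QuotSMulTop x M))
      (LocalizedModule.mkLinearMap S (M ⧸ Ideal.span {x} • (⊤ : Submodule A M)))
      (Localization S)
      (Submodule.quotEquivOfEq _ _ (Submodule.ideal_span_singleton_smul x ⊤).symm)).trans <|
    (quotLocEquivS S M (Ideal.span {x})).trans <|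
      Submodule.quotEquivOfEq _ _ (by
        rw [Ideal.map_span, Set.image_singleton, Submodule.ideal_span_singleton_smul])

end QuotLocS

section SpreadAway

variable {A : Type u} [CommRing A]

/-- `x` is regular on `M_g` as soon as some divisor `f` of `g` kills the `x`-torsion of `M`. -/
lemma isSMulRegular_away_of_kills (M : Type u) [AddCommGroup M]
    [Module A M] {x f g : A} (hfg : f ∣ g) (hkill : ∀ m : M, x • m = 0 → f • m = 0) :
    IsSMulRegular (LocalizedModule (Submonoid.powers g) M)
      (algebraMap A (Localization.Away g) x) := by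
  rw [isSMulRegular_iff_right_eq_zero_of_smul]
  intro n hn
  induction n using LocalizedModule.induction_on with
  | h m s =>
    rw [algebraMap_smul, LocalizedModule.smul'_mk, ← LocalizedModule.zero_mk (1 : Submonoid.powers g),
      LocalizedModule.mk_eq] at hn
    obtain ⟨t, ht⟩ := hn
    rw [one_smul, smul_zero, smul_zero] at ht
    have h1 : x • ((t : A) • m) = 0 := by
      rw [smul_comm]; exact ht
    have h2 := hkill _ h1
    obtain ⟨c, rfl⟩ := hfg
    rw [← LocalizedModule.zero_mk (1 : Submonoid.powers (f * c)), LocalizedModule.mk_eq]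
    refine ⟨⟨f * c, Submonoid.mem_powers _⟩ * t, ?_⟩
    rw [one_smul, smul_zero, smul_zero]
    change ((f * c) * (t : A)) • m = 0
    have e : (f * c) * (t : A) = c * (f * (t : A)) := by ring
    rw [e, mul_smul, mul_smul, h2, smul_zero]

variable [IsNoetherianRing A]

/-- spreading out a regular sequence to a basic open set: if (the image of) `rs` is weakly regular
on `M_p`, there is `f ∉ p` such that `rs` is weakly regular on `M_g` for every multiple `g` of
`f`. -/
theorem exists_notMem_isWeaklyRegular_away (p : Ideal A) [p.IsPrime] :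
    ∀ (rs : List A) (M : Type u) [AddCommGroup M] [Module A M] [Module.Finite A M],
      IsWeaklyRegular (LocalizedModule p.primeCompl M)
        (rs.map (algebraMap A (Localization.AtPrime p))) →
      ∃ f : A, f ∉ p ∧ ∀ g : A, f ∣ g →
        IsWeaklyRegular (LocalizedModule (Submonoid.powers g) M)
          (rs.map (algebraMap A (Localization.Away g))) := by
  intro rs
  induction rs with
  | nil =>
    intro M _ _ _ _
    exact ⟨1, fun h => (inferInstance : p.IsPrime).ne_top ((Ideal.eq_top_iff_one p).mpr h),
      fun g _ => by simp⟩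
  | cons x rs ih =>
    intro M _ _ _ h
    rw [List.map_cons, isWeaklyRegular_cons_iff] at h
    obtain ⟨f₁, hf₁, hkill⟩ := exists_kills_of_isSMulRegular_localization p M h.1
    have h2 : IsWeaklyRegular (LocalizedModule p.primeCompl (QuotSMulTop x M))
        (rs.map (algebraMap A (Localization.AtPrime p))) :=
      ((quotSMulTopLocEquiv p M x).isWeaklyRegular_congr _).mpr h.2
    obtain ⟨f₂, hf₂, hreg⟩ := ih (QuotSMulTop x M) h2
    refine ⟨f₁ * f₂, fun hmem => ?_, fun g hg => ?_⟩
    · rcases (inferInstance : p.IsPrime).mem_or_mem hmem with h' | h'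
      · exact hf₁ h'
      · exact hf₂ h'
    · have hg₁ : f₁ ∣ g := (Dvd.intro _ rfl).trans hg
      have hg₂ : f₂ ∣ g := (Dvd.intro_left _ rfl).trans hg
      rw [List.map_cons, isWeaklyRegular_cons_iff]
      exact ⟨isSMulRegular_away_of_kills M hg₁ hkill,
        ((quotSMulTopLocEquivS (Submonoid.powers g) M x).isWeaklyRegular_congr _).mp (hreg g hg₂)⟩

end SpreadAway

end Groth.Agent.Lib.helper9.Depth
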