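import Groth.Agent.Lib.helper9.Depth24

/-!
# Semilinear equivalences of modules over different rings, and invariants they preserve
-/

universe u u' v v'

namespace Groth.Agent.Lib.helper9

open LocCoh Groth.Agent.Lib.helper9.Depth

/-- an additive equivalence `M ≃+ N` semilinear over a ring isomorphism `R ≃+* S`. -/
structure SemiEquiv (R : Type u) (S : Type u') (M : Type v) (N : Type v') [CommRing R] [CommRing S]
    [AddCommGroup M] [AddCommGroup N] [Module R M] [Module S N] where
  /-- the ring isomorphism -/
  σ : R ≃+* S
  /-- the additive equivalence -/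
  e : M ≃+ N
  map_smul : ∀ (r : R) (m : M), e (r • m) = σ r • e m

namespace SemiEquiv

variable {R : Type u} {S : Type u'} {M : Type v} {N : Type v'} [CommRing R] [CommRing S]
  [AddCommGroup M] [AddCommGroup N] [Module R M] [Module S N]

/-- inverse. -/
def symm (E : SemiEquiv R S M N) : SemiEquiv S R N M where
  σ := E.σ.symm
  e := E.e.symm
  map_smul s y := by
    apply E.e.injective
    rw [E.map_smul, AddEquiv.apply_symm_apply, AddEquiv.apply_symm_apply,
      RingEquiv.apply_symm_apply]

/-- composition. -/
def trans {T : Type*} {P : Type*} [CommRing T] [AddCommGroup P] [Module T P]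
    (E : SemiEquiv R S M N) (E' : SemiEquiv S T N P) : SemiEquiv R T M P where
  σ := E.σ.trans E'.σ
  e := E.e.trans E'.e
  map_smul r m := by
    change E'.e (E.e (r • m)) = E'.σ (E.σ r) • E'.e (E.e m)
    rw [E.map_smul, E'.map_smul]

/-- from a linear equivalence. -/
def ofLinearEquiv {M' : Type*} [AddCommGroup M'] [Module R M'] (e : M ≃ₗ[R] M') :
    SemiEquiv R R M M' where
  σ := RingEquiv.refl R
  e := e.toAddEquiv
  map_smul r m := e.map_smul r m

/-- the comparison of two models of a localized module. -/
noncomputable def ofIsLocalizedModule {A : Type u} [CommRing A] (p : Ideal A) [p.IsPrime]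
    (R' : Type u') [CommRing R'] [Algebra A R'] [IsLocalization.AtPrime R' p]
    {M₀ : Type v} {N₀ : Type v'} [AddCommGroup M₀] [Module A M₀] [AddCommGroup N₀] [Module A N₀]
    [Module R' N₀] [IsScalarTower A R' N₀] (f : M₀ →ₗ[A] N₀) [IsLocalizedModule p.primeCompl f] :
    SemiEquiv (Localization.AtPrime p) R' (LocalizedModule p.primeCompl M₀) N₀ where
  σ := (IsLocalization.algEquiv p.primeCompl (Localization.AtPrime p) R').toRingEquiv
  e := (IsLocalizedModule.iso p.primeCompl f).toAddEquiv
  map_smul := iso_smul p R' f

lemma depth_eq (E : SemiEquiv R S M N) [IsLocalRing R] [IsLocalRing S] :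
    depth R M = depth S N :=
  depth_eq_of_addEquiv E.σ E.e E.map_smul

/-- the semilinear map underlying a semilinear equivalence. -/
def toSemilinearMap (E : SemiEquiv R S M N) :
    letI : RingHomInvPair (E.σ : R →+* S) (E.σ.symm : S →+* R) :=
      RingHomInvPair.of_ringEquiv E.σ
    M →ₛₗ[(E.σ : R →+* S)] N where
  toFun := E.e
  map_add' := E.e.map_add
  map_smul' := E.map_smul

lemma finite (E : SemiEquiv R S M N) [Module.Finite R M] : Module.Finite S N :=
  Module.Finite.of_surjective E.toSemilinearMap E.e.surjective

lemma finite_iff (E : SemiEquiv R S M N) : Module.Finite R M ↔ Module.Finite S N :=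
  ⟨fun _ => E.finite, fun _ => E.symm.finite⟩

lemma supportDim_eq (E : SemiEquiv R S M N) [Module.Finite R M] :
    Module.supportDim R M = Module.supportDim S N :=
  haveI := E.finite
  supportDim_eq_of_addEquiv E.σ E.e E.map_smul

lemma subsingleton_iff (E : SemiEquiv R S M N) : Subsingleton M ↔ Subsingleton N :=
  E.e.toEquiv.subsingleton_congr

lemma nontrivial_iff (E : SemiEquiv R S M N) : Nontrivial M ↔ Nontrivial N :=
  E.e.toEquiv.nontrivial_congr

end SemiEquiv

end Groth.Agent.Lib.helper9
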