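import Mathlib.RingTheory.Regular.RegularSequence
import Mathlib.Tactic

/-!
# `Hom(a, M) = M` when `a` contains an `M`-regular sequence of length two
-/

universe u v

open Pointwise

namespace Groth.Agent.Lib.helper9.HomIdeal

variable {R : Type u} [CommRing R] {M : Type v} [AddCommGroup M] [Module R M]

/-- If `x, y ∈ a` with `x` regular on `M` and `y` regular on `M/xM`, then every linear map
`a → M` is multiplication by an element of `M`. -/
theorem exists_eq_smul_of_regular (a : Ideal R) {x y : R} (hx : x ∈ a) (hy : y ∈ a)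
    (hxreg : IsSMulRegular M x) (hyreg : IsSMulRegular (QuotSMulTop x M) y) (φ : a →ₗ[R] M) :
    ∃ m : M, ∀ z : a, φ z = (z : R) • m := by
  have h1 : y • φ ⟨x, hx⟩ = x • φ ⟨y, hy⟩ := by
    rw [← map_smul, ← map_smul]
    congr 1
    apply Subtype.ext
    simp [mul_comm]
  have h2 : y • (Submodule.Quotient.mk (φ ⟨x, hx⟩) : QuotSMulTop x M) = 0 := by
    rw [← Submodule.Quotient.mk_smul, Submodule.Quotient.mk_eq_zero, h1,
      Submodule.mem_smul_pointwise_iff_exists]
    exact ⟨_, trivial, rfl⟩
  have h3 := (isSMulRegular_iff_right_eq_zero_of_smul.mp hyreg) _ h2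
  rw [Submodule.Quotient.mk_eq_zero, Submodule.mem_smul_pointwise_iff_exists] at h3
  obtain ⟨m, -, hm⟩ := h3
  refine ⟨m, fun z => ?_⟩
  apply hxreg
  change x • φ z = x • ((z : R) • m)
  rw [smul_comm x (z : R) m, hm, ← map_smul, ← map_smul]
  congr 1
  apply Subtype.ext
  simp [mul_comm]

end Groth.Agent.Lib.helper9.HomIdeal
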