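import Groth.Agent.Lib.helper9.Depth14
import Groth.Agent.Lib.helper9.HomIdeal

/-!
# Depth two: regular pairs in `p` on `M_p`, extension of maps from ideals
-/

universe u

open CategoryTheory RingTheory.Sequence Pointwise

namespace Groth.Agent.Lib.helper9.Depth

open LocCoh

section

variable {R : Type u} [CommRing R] [IsNoetherianRing R] (p : Ideal R) [p.IsPrime]
  (M : Type u) [AddCommGroup M] [Module R M] [Module.Finite R M]

/-- From `n ≤ depth M_p` get a sequence in `p` of length `n`, weakly regular on the `R`-module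
`M_p`. -/
lemma exists_isWeaklyRegular_of_le_depth_localization (n : ℕ)
    (h : (n : ℕ∞) ≤ depth (Localization.AtPrime p) (LocalizedModule p.primeCompl M)) :
    ∃ xs : List R, xs.length = n ∧ (∀ x ∈ xs, x ∈ p) ∧
      IsWeaklyRegular (LocalizedModule p.primeCompl M) xs := by
  obtain ⟨ys, hlen, hreg, hmem⟩ := DepthHom.exists_of_le_idealDepth n h
  have hmem' : ∀ y ∈ ys, y ∈ p.map (algebraMap R (Localization.AtPrime p)) := by
    intro y hy
    rw [Localization.AtPrime.map_eq_maximalIdeal]
    exact hmem y hy
  obtain ⟨xs, hlen', hxs, hxsreg⟩ := exists_lift_isWeaklyRegular p p le_rfl ys _ hreg hmem'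
  exact ⟨xs, hlen'.trans hlen, hxs,
    (isWeaklyRegular_map_algebraMap_iff (Localization.AtPrime p) _ xs).mp hxsreg⟩

lemma exists_regular_pair_of_two_le_depth_localization
    (h : 2 ≤ depth (Localization.AtPrime p) (LocalizedModule p.primeCompl M)) :
    ∃ x y : R, x ∈ p ∧ y ∈ p ∧ IsSMulRegular (LocalizedModule p.primeCompl M) x ∧
      IsSMulRegular (QuotSMulTop x (LocalizedModule p.primeCompl M)) y := by
  obtain ⟨xs, hlen, hxs, hreg⟩ := exists_isWeaklyRegular_of_le_depth_localization p M 2
    (by exact_mod_cast h)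
  match xs, hlen with
  | [x, y], _ =>
    rw [isWeaklyRegular_cons_iff, isWeaklyRegular_singleton_iff] at hreg
    exact ⟨x, y, hxs x (by simp), hxs y (by simp), hreg.1, hreg.2⟩

/-- If `depth M_p ≥ 2` every `R`-linear map `p → M_p` is multiplication by an element. -/
theorem exists_eq_smul_of_two_le_depth_localization
    (h : 2 ≤ depth (Localization.AtPrime p) (LocalizedModule p.primeCompl M))
    (φ : p →ₗ[R] LocalizedModule p.primeCompl M) :
    ∃ m : LocalizedModule p.primeCompl M, ∀ z : p, φ z = (z : R) • m := by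
  obtain ⟨x, y, hx, hy, hxreg, hyreg⟩ := exists_regular_pair_of_two_le_depth_localization p M h
  exact HomIdeal.exists_eq_smul_of_regular p hx hy hxreg hyreg φ

end

end Groth.Agent.Lib.helper9.Depth
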