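import Groth.Agent.Lib.helper9.CohB4

/-!
# Converse: bijective restriction maps force depth `≥ 2`
-/

universe u

open AlgebraicGeometry CategoryTheory Opposite TopologicalSpace Limits

namespace Groth.Agent.Lib.helper9.CohB

open Scheme.Modules LocCoh Groth.Agent.Lib.helper9.Depth Groth.Agent.Lib.helper9.Sect
  Groth.Agent.Lib.helper9.Glue

variable {X : Scheme.{u}}

/-- affine case of the converse. -/
theorem two_le_depth_of_res_bijective_of_isAffineOpen (M : X.Modules) [M.IsQuasicoherent]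
    {W : X.Opens} (hW : IsAffineOpen W) [IsNoetherianRing Γ(X, W)]
    [Module.Finite Γ(X, W) (Γmod (M.restrict hW.fromSpec))] (U : X.Opens)
    (hbij : Function.Bijective (M.presheaf.map (homOfLE (inf_le_left : W ⊓ U ≤ W)).op))
    (q : PrimeSpectrum Γ(X, W)) (hq : hW.fromSpec q ∉ U) :
    2 ≤ depth (X.presheaf.stalk (hW.fromSpec q)) (M.presheaf.stalk (hW.fromSpec q)) := by
  set f := hW.fromSpec with hf
  set U' : (Spec Γ(X, W)).Opens := f ⁻¹ᵁ U with hU'
  set G := M.restrict f with hG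
  set N := Γmod G with hN
  have h1 : f ''ᵁ (⊤ : (Spec Γ(X, W)).Opens) = W := by
    rw [Scheme.Hom.image_top_eq_opensRange, hW.opensRange_fromSpec]
  have h2 : f ''ᵁ U' = W ⊓ U := by
    rw [hU', Scheme.Hom.image_preimage_eq_opensRange_inf, hW.opensRange_fromSpec]
  have hle : f ''ᵁ U' ≤ f ''ᵁ (⊤ : (Spec Γ(X, W)).Opens) := f.image_mono le_top
  rw [← bijective_map_congr M.presheaf h1 h2 hle inf_le_left] at hbij
  change Function.Bijective (G.presheaf.map (homOfLE (le_top : U' ≤ ⊤)).op) at hbij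
  have hnat := (G.fromTildeΓ).mapPresheaf.naturality (homOfLE (le_top : U' ≤ ⊤)).op
  have hcomp : (tilde N).presheaf.map (homOfLE (le_top : U' ≤ ⊤)).op =
      (G.fromTildeΓ).app ⊤ ≫ G.presheaf.map (homOfLE (le_top : U' ≤ ⊤)).op ≫
        inv ((G.fromTildeΓ).app U') := by
    rw [← Category.assoc, IsIso.eq_comp_inv]
    exact hnat
  have b1 : Function.Bijective ((G.fromTildeΓ).app ⊤) :=
    ConcreteCategory.bijective_of_isIso _
  have b2 : Function.Bijective (inv ((G.fromTildeΓ).app U')) :=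
    ConcreteCategory.bijective_of_isIso _
  have hbij' : Function.Bijective
      ((tilde N).presheaf.map (homOfLE (le_top : U' ≤ ⊤)).op) := by
    rw [hcomp]
    simp only [AddCommGrpCat.hom_comp, AddMonoidHom.coe_comp]
    exact (b2.comp hbij).comp b1
  have hbij'' : Function.Bijective (Sect.res (M := N) (le_top : U' ≤ ⊤)) := hbij'
  have := two_le_depth_of_res_bijective U' hbij'' q hq
  rwa [hN, hG, depth_localization_Γmod M hW q] at this

/-- On a locally Noetherian scheme, if `Γ(V, M) → Γ(V ∩ U, M)` is bijective for all opens `V`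
(`M` coherent) then `depth M_x ≥ 2` at all points outside `U`. -/
theorem two_le_depth_of_res_bijective' [IsLocallyNoetherian X] (M : X.Modules) [M.IsQuasicoherent]
    [SheafOfModules.IsFiniteType.{u} M] (U : X.Opens)
    (hbij : ∀ V : X.Opens,
      Function.Bijective (M.presheaf.map (homOfLE (inf_le_left : V ⊓ U ≤ V)).op))
    (x : X) (hx : x ∉ U) :
    2 ≤ depth (X.presheaf.stalk x) (M.presheaf.stalk x) := by
  obtain ⟨W, ⟨hW, hfin⟩, hxW, -⟩ := (Opens.isBasis_iff_nbhd.mp (isBasis_goodAffine M))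
    (show x ∈ (⊤ : X.Opens) from trivial)
  haveI : IsNoetherianRing Γ(X, W) := IsLocallyNoetherian.component_noetherian ⟨W, hW⟩
  obtain ⟨q, rfl⟩ : ∃ q, hW.fromSpec q = x :=
    ⟨hW.primeIdealOf ⟨x, hxW⟩, hW.fromSpec_primeIdealOf ⟨x, hxW⟩⟩
  exact two_le_depth_of_res_bijective_of_isAffineOpen M hW U (hbij W) q hx

end Groth.Agent.Lib.helper9.CohB
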