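import Groth.Agent.Lib.helper9.CohB2
import Groth.Agent.Lib.helper9.Depth24
import Groth.Prelude.Def_FlatMod2

/-!
# Stalks of modules on schemes: linearity of induced maps, depth transfer
-/

universe u

open AlgebraicGeometry CategoryTheory Opposite TopologicalSpace Limits

namespace Groth.Agent.Lib.helper9.CohB

open Scheme.Modules LocCoh Groth.Agent.Lib.helper9.Depth

variable {X : Scheme.{u}}

/-- compatibility of germs with scalar multiplication, for modules on schemes. -/
lemma germ_smul (M : X.Modules) (x : X) (V : X.Opens) (hx : x ∈ V) (a : Γ(X, V)) (t : Γ(M, V)) :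
    M.presheaf.germ V x hx (a • t) = X.presheaf.germ V x hx a • M.presheaf.germ V x hx t :=
  PresheafOfModules.germ_smul (R := X.presheaf)
    (show PresheafOfModules (X.presheaf ⋙ forget₂ CommRingCat RingCat) from M.val) x V hx a t

/-- a ring germ and a module germ can be represented on a common open. -/
lemma exists_germs (M : X.Modules) (x : X) (r : X.presheaf.stalk x) (m : M.presheaf.stalk x) :
    ∃ (V : X.Opens) (hx : x ∈ V) (a : Γ(X, V)) (t : Γ(M, V)),
      X.presheaf.germ V x hx a = r ∧ M.presheaf.germ V x hx t = m := by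
  obtain ⟨V₁, h₁, a, rfl⟩ := X.presheaf.exists_germ_eq r
  obtain ⟨V₂, h₂, t, rfl⟩ := M.presheaf.exists_germ_eq m
  refine ⟨V₁ ⊓ V₂, ⟨h₁, h₂⟩, X.presheaf.map (homOfLE inf_le_left).op a,
    M.presheaf.map (homOfLE inf_le_right).op t, ?_, ?_⟩
  · exact TopCat.Presheaf.germ_res_apply _ _ _ _ _
  · exact TopCat.Presheaf.germ_res_apply _ _ _ _ _

/-- the map induced on stalks by a morphism of modules. -/
noncomputable abbrev stalkMap {M₁ M₂ : X.Modules} (φ : M₁ ⟶ M₂) (x : X) :
    M₁.presheaf.stalk x ⟶ M₂.presheaf.stalk x :=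
  (TopCat.Presheaf.stalkFunctor Ab x).map φ.mapPresheaf

lemma stalkMap_smul {M₁ M₂ : X.Modules} (φ : M₁ ⟶ M₂) (x : X) (r : X.presheaf.stalk x)
    (m : M₁.presheaf.stalk x) : stalkMap φ x (r • m) = r • stalkMap φ x m := by
  obtain ⟨V, hx, a, t, rfl, rfl⟩ := exists_germs M₁ x r m
  rw [← germ_smul]
  erw [TopCat.Presheaf.stalkFunctor_map_germ_apply, TopCat.Presheaf.stalkFunctor_map_germ_apply]
  rw [← germ_smul]
  congr 1
  exact φ.app_smul a t

end Groth.Agent.Lib.helper9.CohB

namespace Groth.Agent.Lib.helper9.CohB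

open Scheme.Modules LocCoh Groth.Agent.Lib.helper9.Depth

variable {X : Scheme.{u}}

/-- isomorphic modules have stalks of the same depth. -/
lemma depth_stalk_eq_of_iso {M₁ M₂ : X.Modules} (e : M₁ ≅ M₂) (x : X) :
    depth (X.presheaf.stalk x) (M₁.presheaf.stalk x) =
      depth (X.presheaf.stalk x) (M₂.presheaf.stalk x) := by
  let ε : M₁.presheaf.stalk x ≅ M₂.presheaf.stalk x :=
    (TopCat.Presheaf.stalkFunctor Ab x).mapIso ((Scheme.Modules.toPresheaf X).mapIso e)
  refine depth_eq_of_addEquiv (RingEquiv.refl _) ε.addCommGroupIsoToAddEquiv ?_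
  intro r m
  exact stalkMap_smul e.hom x r m

end Groth.Agent.Lib.helper9.CohB

namespace Groth.Agent.Lib.helper9.CohB

open Scheme.Modules LocCoh Groth.Agent.Lib.helper9.Depth

/-- the stalk of `N~` at `q` has the depth of `N_q`. -/
lemma depth_stalk_tilde {R : CommRingCat.{u}} (N : ModuleCat.{u} R) (q : PrimeSpectrum R) :
    depth (Localization.AtPrime q.asIdeal) (LocalizedModule q.asIdeal.primeCompl N) =
      depth ((Spec R).presheaf.stalk q) ((tilde N).presheaf.stalk q) :=
  haveI : IsLocalRing ↑((structurePresheafInCommRingCat ↑R).stalk q) :=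
    inferInstanceAs (IsLocalRing ((Spec R).presheaf.stalk q))
  depth_eq_of_isLocalizedModule q.asIdeal
    ((structurePresheafInCommRingCat R).stalk q)
    (StructureSheaf.toStalkₗ R N q)

end Groth.Agent.Lib.helper9.CohB

namespace Groth.Agent.Lib.helper9.CohB

open Scheme.Modules LocCoh Groth.Agent.Lib.helper9.Depth

/-- germs on the image of an open immersion. -/
lemma stalkMap_germ_image {X Y : Scheme.{u}} (f : Y ⟶ X) [IsOpenImmersion f] (y : Y)
    (V' : Y.Opens) (hy : y ∈ V') (a : Γ(Y, V')) :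
    f.stalkMap y (X.presheaf.germ (f ''ᵁ V') (f y) ⟨y, hy, rfl⟩ ((f.appIso V').inv a)) =
      Y.presheaf.germ V' y hy a := by
  rw [Scheme.Hom.germ_stalkMap_apply]
  have h1 : (f.appIso V').hom ((f.appIso V').inv a) = a := by
    rw [← ConcreteCategory.comp_apply, Iso.inv_hom_id]; rfl
  conv_rhs => rw [← h1, Scheme.Hom.appIso_hom]
  rw [ConcreteCategory.comp_apply]
  exact (TopCat.Presheaf.germ_res_apply _ _ _ _ _).symm

end Groth.Agent.Lib.helper9.CohB

namespace Groth.Agent.Lib.helper9.CohB

open Scheme.Modules LocCoh Groth.Agent.Lib.helper9.Depth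

/-- restriction along an open immersion does not change the depth of stalks. -/
lemma depth_stalk_restrict {X Y : Scheme.{u}} (f : Y ⟶ X) [IsOpenImmersion f] (M : X.Modules)
    (y : Y) :
    depth (Y.presheaf.stalk y) ((M.restrict f).presheaf.stalk y) =
      depth (X.presheaf.stalk (f y)) (M.presheaf.stalk (f y)) := by
  let σ : Y.presheaf.stalk y ≃+* X.presheaf.stalk (f y) :=
    (asIso (f.stalkMap y)).symm.commRingCatIsoToRingEquiv
  let ε : (M.restrict f).presheaf.stalk y ≅ M.presheaf.stalk (f y) :=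
    (restrictStalkNatIso f y).app M
  refine depth_eq_of_addEquiv σ ε.addCommGroupIsoToAddEquiv ?_
  intro r m
  obtain ⟨V', hy, a, t, rfl, rfl⟩ := exists_germs (M.restrict f) y r m
  rw [← germ_smul]
  have hε : ∀ s : Γ(M.restrict f, V'),
      ε.addCommGroupIsoToAddEquiv ((M.restrict f).presheaf.germ V' y hy s) =
        M.presheaf.germ (f ''ᵁ V') (f y) ⟨y, hy, rfl⟩ s := by
    intro s
    have := germ_restrictStalkNatIso_hom_app f y M hy
    exact congrArg (fun g => (ConcreteCategory.hom g) s) this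
  rw [hε, hε]
  refine (germ_smul M (f y) (f ''ᵁ V') ⟨y, hy, rfl⟩ ((f.appIso V').inv a) t).trans ?_
  congr 1
  change _ = (asIso (f.stalkMap y)).inv _
  rw [← stalkMap_germ_image f y V' hy a]
  have hz : ∀ z, (inv (f.stalkMap y)) ((f.stalkMap y) z) = z := fun z => by
    rw [← ConcreteCategory.comp_apply, IsIso.hom_inv_id]; rfl
  exact (hz _).symm

end Groth.Agent.Lib.helper9.CohB
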