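import Groth.Agent.Lib.helper9.ZC7
import Groth.Agent.Lib.helper9.CohB3

/-!
# Finite type modules: stalks generated by germs of generating sections; support is closed
-/

universe u

open CategoryTheory CategoryTheory.Limits AlgebraicGeometry TopologicalSpace Opposite

namespace Groth.Agent.Lib.helper9.FT

open Groth.Agent.Lib.helper9.ZC Groth.Agent.Lib.helper9

variable {Y : Scheme.{u}}

instance preservesColimitsOfSize_stalkF (y : Y) : PreservesColimitsOfSize.{u, u} (stalkF y) :=
  ⟨fun {_} _ => inferInstance⟩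

instance preservesEpimorphisms_stalkF (y : Y) : (stalkF y).PreservesEpimorphisms := by
  have : PreservesColimitsOfSize.{0, 0} (stalkF y) := preservesColimitsOfSize_shrink.{0, u, 0, u} _
  infer_instance

lemma stalk_surjective_of_epi {M N : Y.Modules} (φ : M ⟶ N) [Epi φ] (y : Y) :
    Function.Surjective ((stalkF y).map φ) := by
  have : Epi ((stalkF y).map φ) := inferInstance
  exact (AddCommGrpCat.epi_iff_surjective _).mp this

lemma unit_app_eq_smul (N : Y.Modules) (u : SheafOfModules.unit Y.ringCatSheaf ⟶ N)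
    (V : Y.Opens) (a : Γ(Y, V)) :
    (u.val.app (op V)).hom a =
      (a • (u.val.app (op V)).hom (1 : Y.ringCatSheaf.obj.obj (op V)) : N.val.obj (op V)) := by
  have h := (u.val.app (op V)).hom.map_smul (a : (Y.ringCatSheaf.obj.obj (op V)))
    (1 : Y.ringCatSheaf.obj.obj (op V))
  refine Eq.trans ?_ h
  exact congrArg (u.val.app (op V)).hom (mul_one (a : (Y.ringCatSheaf.obj.obj (op V)))).symm

/-- the sections of `N` corresponding to `u : 𝒪 ⟶ N` (images of `1`). -/
noncomputable def unitSec (N : Y.Modules) (u : SheafOfModules.unit Y.ringCatSheaf ⟶ N)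
    (V : Y.Opens) : Γ(N, V) :=
  (u.val.app (op V)).hom (1 : Y.ringCatSheaf.obj.obj (op V))

lemma unitSec_res (N : Y.Modules) (u : SheafOfModules.unit Y.ringCatSheaf ⟶ N) {V V' : Y.Opens}
    (h : V' ≤ V) : res N h (unitSec N u V) = unitSec N u V' :=
  PresheafOfModules.sections_property (N.unitHomEquiv u) (homOfLE h).op

lemma app_eq_smul_unitSec (N : Y.Modules) (u : SheafOfModules.unit Y.ringCatSheaf ⟶ N)
    (V : Y.Opens) (a : Γ(Y, V)) (a' : Γ((SheafOfModules.unit Y.ringCatSheaf : Y.Modules), V))
    (haa' : a' = a) :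
    Scheme.Modules.Hom.app (M := (SheafOfModules.unit Y.ringCatSheaf : Y.Modules)) u V a' =
      a • unitSec N u V := by
  subst haa'
  exact unit_app_eq_smul N u V a'

/-- if the germ at `y` of the section corresponding to `u : 𝒪 ⟶ N` vanishes, then the map induced
by `u` on stalks at `y` vanishes. -/
lemma stalk_map_unit_eq_zero (N : Y.Modules) (u : SheafOfModules.unit Y.ringCatSheaf ⟶ N) (y : Y)
    (h : N.presheaf.germ ⊤ y trivial (unitSec N u ⊤) = 0) :
    (stalkF y).map u = 0 := by
  ext a
  obtain ⟨V, hy, a', rfl⟩ := TopCat.Presheaf.exists_germ_eq _ a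
  refine (stalk_map_germ (M := (SheafOfModules.unit Y.ringCatSheaf : Y.Modules)) u V y hy a').trans ?_
  rw [app_eq_smul_unitSec N u V a' a' rfl, CohB.germ_smul, ← unitSec_res N u (le_top : V ≤ ⊤),
    germ_res, h, smul_zero]
  rfl

/-- if the germs at `y` of a family of generating sections vanish then the stalk at `y` is zero. -/
lemma subsingleton_stalk_of_generatingSections (N : Y.Modules) (σ : N.GeneratingSections) (y : Y)
    (h : ∀ k : σ.I,
      N.presheaf.germ ⊤ y trivial (unitSec N (SheafOfModules.ιFree k ≫ σ.π) ⊤) = 0) :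
    Subsingleton (N.presheaf.stalk y) := by
  have hzero : (stalkF y).map σ.π = 0 := by
    refine (isColimitOfPreserves (stalkF y) (SheafOfModules.isColimitFreeCofan σ.I)).hom_ext
      (fun ⟨k⟩ => ?_)
    refine Eq.trans ?_ comp_zero.symm
    change (stalkF y).map (SheafOfModules.ιFree k) ≫ (stalkF y).map σ.π = 0
    rw [← Functor.map_comp]
    exact stalk_map_unit_eq_zero N _ y (h k)
  have hsurj := @stalk_surjective_of_epi Y _ N σ.π σ.epi y
  refine ⟨fun a b => ?_⟩
  obtain ⟨a', rfl⟩ := hsurj a
  obtain ⟨b', rfl⟩ := hsurj b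
  rw [hzero]
  rfl

/-- the set of points where the stalk of a module with finitely many generating sections vanishes
is open. -/
lemma isOpen_subsingleton_stalk (N : Y.Modules) (σ : N.GeneratingSections) [Finite σ.I] :
    ∃ S : Set Y, IsOpen S ∧ (∀ y ∈ S, Subsingleton (N.presheaf.stalk y)) ∧
      ∀ y : Y, Subsingleton (N.presheaf.stalk y) → y ∈ S := by
  refine ⟨⋂ k : σ.I, {y | ∃ hy : y ∈ (⊤ : Y.Opens),
    N.presheaf.germ ⊤ y hy (unitSec N (SheafOfModules.ιFree k ≫ σ.π) ⊤) = 0}, ?_, ?_, ?_⟩
  · exact isOpen_iInter_of_finite (fun k => isOpen_germ_eq_zero N ⊤ _)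
  · intro y hy
    exact subsingleton_stalk_of_generatingSections N σ y
      (fun k => (Set.mem_iInter.mp hy k).2)
  · intro y hy
    exact Set.mem_iInter.mpr (fun k => ⟨trivial, Subsingleton.elim _ _⟩)

end Groth.Agent.Lib.helper9.FT
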