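import Groth.Agent.Lib.helper9.CohB5

/-!
# `E → j_* j^* E` is an isomorphism when `E` has depth `≥ 2` off the open
-/

universe u

open AlgebraicGeometry CategoryTheory Opposite TopologicalSpace Limits

namespace Groth.Agent.Lib.helper9.CohB

open Scheme.Modules LocCoh Groth.Agent.Lib.helper9.Depth Groth.Agent.Lib.helper9.Sect
  Groth.Agent.Lib.helper9.Glue

variable {X : Scheme.{u}}

/-- the unit `E → j_* j^* E` is an isomorphism iff all restriction maps
`Γ(V, E) → Γ(V ∩ U, E)` are bijective. -/
lemma isIso_unit_iff (E : X.Modules) (U : X.Opens) :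
    IsIso ((restrictAdjunction U.ι).unit.app E) ↔ ∀ V : X.Opens,
      Function.Bijective (E.presheaf.map (homOfLE (inf_le_left : V ⊓ U ≤ V)).op) := by
  rw [Hom.isIso_iff_isIso_app]
  refine forall_congr' fun V => ?_
  rw [restrictAdjunction_unit_app_app, ConcreteCategory.isIso_iff_bijective]
  have h2 : V ⊓ U = U.ι ''ᵁ U.ι ⁻¹ᵁ V := by
    rw [Scheme.Hom.image_preimage_eq_opensRange_inf, Scheme.Opens.opensRange_ι, inf_comm]
  exact (bijective_map_congr E.presheaf rfl h2 inf_le_left (U.ι.image_preimage_le V)).symm

/-- `E → j_* j^* E` is an isomorphism when the coherent module `E` has depth `≥ 2` off `U`. -/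
theorem isIso_unit_of_depth [IsLocallyNoetherian X] (E : X.Modules) [E.IsQuasicoherent]
    [SheafOfModules.IsFiniteType.{u} E] (U : X.Opens)
    (hdepth : ∀ x : X, x ∉ U →
      2 ≤ depth (X.presheaf.stalk x) (E.presheaf.stalk x)) :
    IsIso ((restrictAdjunction U.ι).unit.app E) :=
  (isIso_unit_iff E U).mpr (res_bijective E U hdepth)

/-- restriction of morphisms to an open `U` is bijective on `Hom(F, E)` if `E → j_* j^* E` is an
isomorphism. -/
theorem restrict_hom_bijective_of_isIso_unit (E F : X.Modules) (U : X.Opens)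
    [IsIso ((restrictAdjunction U.ι).unit.app E)] :
    Function.Bijective (fun φ : F ⟶ E => (Scheme.Modules.restrictFunctor U.ι).map φ) := by
  set adj := restrictAdjunction U.ι with hadj
  have key : ∀ φ : F ⟶ E, adj.homEquiv F _ ((restrictFunctor U.ι).map φ) =
      φ ≫ adj.unit.app E := by
    intro φ
    rw [Adjunction.homEquiv_unit]
    exact (adj.unit.naturality φ).symm
  constructor
  · intro φ φ' h
    have h' : (restrictFunctor U.ι).map φ = (restrictFunctor U.ι).map φ' := h
    have := congrArg (adj.homEquiv F _) h'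
    rw [key, key] at this
    exact (cancel_mono _).mp this
  · intro ψ
    refine ⟨adj.homEquiv F _ ψ ≫ inv (adj.unit.app E), ?_⟩
    apply (adj.homEquiv F _).injective
    change adj.homEquiv F _ ((restrictFunctor U.ι).map _) = _
    rw [key, Category.assoc, IsIso.inv_hom_id, Category.comp_id]

end Groth.Agent.Lib.helper9.CohB
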