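import Groth.Agent.Lib.helper9.Depth15

/-!
# Spreading out regular sequences from `M_p` to a neighbourhood of `p`
-/

universe u

open CategoryTheory RingTheory.Sequence Pointwise

namespace Groth.Agent.Lib.helper9.Depth

open LocCoh

section Lift

variable {R : Type u} [CommRing R] (s : Ideal R) [s.IsPrime]

/-- A weakly regular sequence over `R_s` contained in `I R_s` (`I` any ideal) can be replaced by
(the image of) a sequence of elements of `I`. -/
lemma exists_lift_isWeaklyRegular_ideal (I : Ideal R) :
    ∀ (ys : List (Localization.AtPrime s)) (N : Type u) [AddCommGroup N]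
      [Module (Localization.AtPrime s) N],
      IsWeaklyRegular N ys →
      (∀ y ∈ ys, y ∈ I.map (algebraMap R (Localization.AtPrime s))) →
      ∃ xs : List R, xs.length = ys.length ∧ (∀ x ∈ xs, x ∈ I) ∧
        IsWeaklyRegular N (xs.map (algebraMap R (Localization.AtPrime s))) := by
  intro ys
  induction ys with
  | nil =>
    intro N _ _ _ _
    exact ⟨[], rfl, by simp, by simp⟩
  | cons y ys ih =>
    intro N _ _ hreg hmem
    rw [isWeaklyRegular_cons_iff] at hreg
    obtain ⟨xs, hlen, hxs, hxsreg⟩ := ih (QuotSMulTop y N) hreg.2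
      (fun z hz => hmem z (List.mem_cons_of_mem _ hz))
    have hy : y ∈ I.map (algebraMap R (Localization.AtPrime s)) := hmem y List.mem_cons_self
    obtain ⟨⟨x, t⟩, hxt⟩ := (IsLocalization.mem_map_algebraMap_iff s.primeCompl
      (Localization.AtPrime s)).mp hy
    have hux : algebraMap R (Localization.AtPrime s) (x : R) =
        algebraMap R (Localization.AtPrime s) t * y := by
      rw [← hxt, mul_comm]
    have hu : IsUnit (algebraMap R (Localization.AtPrime s) (t : R)) :=
      IsLocalization.map_units _ t
    refine ⟨(x : R) :: xs, by simp [hlen], ?_, ?_⟩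
    · intro z hz
      rcases List.mem_cons.mp hz with rfl | hz
      · exact x.2
      · exact hxs z hz
    · rw [List.map_cons, isWeaklyRegular_cons_iff, hux]
      refine ⟨isSMulRegular_unit_mul hu hreg.1, ?_⟩
      have e : QuotSMulTop y N ≃ₗ[Localization.AtPrime s]
          QuotSMulTop (algebraMap R (Localization.AtPrime s) t * y) N :=
        Submodule.quotEquivOfEq _ _ (unit_mul_smul_top y hu).symm
      exact (e.isWeaklyRegular_congr _).mp hxsreg

end Lift

section Spread

variable {A : Type u} [CommRing A]

/-- `x` is regular on `M_q` as soon as some `f ∉ q` kills the `x`-torsion of `M`. -/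
lemma isSMulRegular_localization_of_kills (q : Ideal A) [q.IsPrime] (M : Type u) [AddCommGroup M]
    [Module A M] {x f : A} (hf : f ∉ q) (hkill : ∀ m : M, x • m = 0 → f • m = 0) :
    IsSMulRegular (LocalizedModule q.primeCompl M) (algebraMap A (Localization.AtPrime q) x) := by
  rw [isSMulRegular_iff_right_eq_zero_of_smul]
  intro n hn
  induction n using LocalizedModule.induction_on with
  | h m s =>
    rw [algebraMap_smul, LocalizedModule.smul'_mk, mk_eq_zero_iff'] at hn
    obtain ⟨t, ht⟩ := hn
    rw [mk_eq_zero_iff']
    have h1 : x • ((t : A) • m) = 0 := by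
      rw [smul_comm]; exact ht
    have h2 := hkill _ h1
    refine ⟨⟨f, hf⟩ * t, ?_⟩
    change (f * (t : A)) • m = 0
    rw [mul_smul]; exact h2

variable [IsNoetherianRing A]

/-- if `x` is regular on `M_p`, some `f ∉ p` kills the `x`-torsion of `M`. -/
lemma exists_kills_of_isSMulRegular_localization (p : Ideal A) [p.IsPrime] (M : Type u)
    [AddCommGroup M] [Module A M] [Module.Finite A M] {x : A}
    (hx : IsSMulRegular (LocalizedModule p.primeCompl M) (algebraMap A (Localization.AtPrime p) x)) :
    ∃ f : A, f ∉ p ∧ ∀ m : M, x • m = 0 → f • m = 0 := by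
  let K : Submodule A M := Submodule.torsionBy A M x
  have hKp : (⟨p, inferInstance⟩ : PrimeSpectrum A) ∉ Module.support A K := by
    rw [Module.notMem_support_iff]
    constructor
    intro a b
    suffices h : ∀ c : LocalizedModule p.primeCompl K, c = 0 by rw [h a, h b]
    intro c
    induction c using LocalizedModule.induction_on with
    | h k s =>
      rw [mk_eq_zero_iff']
      have hk : x • (k : M) = 0 := (Submodule.mem_torsionBy_iff _ _).mp k.2
      have h0 : (LocalizedModule.mk (k : M) (1 : p.primeCompl) : LocalizedModule p.primeCompl M) = 0 := by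
        apply hx
        change algebraMap A (Localization.AtPrime p) x • LocalizedModule.mk (k : M) 1 =
          algebraMap A (Localization.AtPrime p) x • 0
        rw [smul_zero, algebraMap_smul, LocalizedModule.smul'_mk, hk, LocalizedModule.zero_mk]
      rw [mk_eq_zero_iff'] at h0
      obtain ⟨t, ht⟩ := h0
      refine ⟨t, ?_⟩
      ext
      exact ht
  rw [Module.mem_support_iff_of_finite, SetLike.not_le_iff_exists] at hKp
  obtain ⟨f, hfann, hfp⟩ := hKp
  refine ⟨f, hfp, fun m hm => ?_⟩
  have := Module.mem_annihilator.mp hfann ⟨m, (Submodule.mem_torsionBy_iff _ _).mpr hm⟩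
  exact congrArg Subtype.val this

/-- spreading out a regular sequence: if (the image of) `rs` is weakly regular on `M_p`, there is
`f ∉ p` such that `rs` is weakly regular on `M_q` for every prime `q` with `f ∉ q`. -/
theorem exists_notMem_isWeaklyRegular_localization (p : Ideal A) [p.IsPrime] :
    ∀ (rs : List A) (M : Type u) [AddCommGroup M] [Module A M] [Module.Finite A M],
      IsWeaklyRegular (LocalizedModule p.primeCompl M)
        (rs.map (algebraMap A (Localization.AtPrime p))) →
      ∃ f : A, f ∉ p ∧ ∀ (q : Ideal A) [q.IsPrime], f ∉ q →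
        IsWeaklyRegular (LocalizedModule q.primeCompl M)
          (rs.map (algebraMap A (Localization.AtPrime q))) := by
  intro rs
  induction rs with
  | nil =>
    intro M _ _ _ _
    exact ⟨1, fun h => (inferInstance : p.IsPrime).ne_top ((Ideal.eq_top_iff_one p).mpr h),
      fun q _ _ => by simp⟩
  | cons x rs ih =>
    intro M _ _ _ h
    rw [List.map_cons, isWeaklyRegular_cons_iff] at h
    obtain ⟨f₁, hf₁, hkill⟩ := exists_kills_of_isSMulRegular_localization p M h.1
    have h2 : IsWeaklyRegular (LocalizedModule p.primeCompl (QuotSMulTop x M))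
        (rs.map (algebraMap A (Localization.AtPrime p))) :=
      ((quotSMulTopLocEquiv p M x).isWeaklyRegular_congr _).mpr h.2
    obtain ⟨f₂, hf₂, hreg⟩ := ih (QuotSMulTop x M) h2
    refine ⟨f₁ * f₂, fun hmem => ?_, fun q _ hq => ?_⟩
    · rcases (inferInstance : p.IsPrime).mem_or_mem hmem with h' | h'
      · exact hf₁ h'
      · exact hf₂ h'
    · have hq₁ : f₁ ∉ q := fun h' => hq (Ideal.mul_mem_right _ _ h')
      have hq₂ : f₂ ∉ q := fun h' => hq (Ideal.mul_mem_left _ _ h')
      rw [List.map_cons, isWeaklyRegular_cons_iff]
      exact ⟨isSMulRegular_localization_of_kills q M hq₁ hkill,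
        ((quotSMulTopLocEquiv q M x).isWeaklyRegular_congr _).mp (hreg q hq₂)⟩

end Spread

end Groth.Agent.Lib.helper9.Depth
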