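import Groth.Agent.Lib.helper9.CohB8
import Groth.Agent.Lib.helper9.CohB6
import Groth.Agent.Lib.helper9.Depth23
import Groth.Agent.Lib.helper9.Depth27
import Groth.Agent.Lib.helper9.DepthHom

/-!
# Local versions: depth conditions spread to neighbourhoods; sections of `M` over an affine open
-/

universe u

open AlgebraicGeometry CategoryTheory Opposite TopologicalSpace Limits RingTheory.Sequence

namespace Groth.Agent.Lib.helper9.CohB

open Scheme.Modules LocCoh Groth.Agent.Lib.helper9.Depth Groth.Agent.Lib.helper9.Sect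
  Groth.Agent.Lib.helper9.Glue

section Alg

variable {A : Type u} [CommRing A] [IsNoetherianRing A] (M : Type u) [AddCommGroup M]
  [Module A M] [Module.Finite A M]

/-- if `depth M_q ≥ n` for all primes `q ⊆ p` containing `J`, the same holds for all primes
`q ⊇ J` in a neighbourhood `D(f)` of `p`. -/
theorem exists_notMem_forall_depth_ge (J : Ideal A) (p : Ideal A) [p.IsPrime] (n : ℕ)
    (h : ∀ (q : Ideal A) [q.IsPrime], J ≤ q → q ≤ p →
      (n : ℕ∞) ≤ depth (Localization.AtPrime q) (LocalizedModule q.primeCompl M)) :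
    ∃ f : A, f ∉ p ∧ ∀ (q : Ideal A) [q.IsPrime], f ∉ q → J ≤ q →
      (n : ℕ∞) ≤ depth (Localization.AtPrime q) (LocalizedModule q.primeCompl M) := by
  have h1 : (n : ℕ∞) ≤ idealDepth (J.map (algebraMap A (Localization.AtPrime p)))
      (LocalizedModule p.primeCompl M) := by
    rw [idealDepth_eq_iInf_depth_localization]
    refine le_iInf₂ fun P hP => ?_
    rw [(depth_supportDim_localization_localization p.primeCompl M P.asIdeal).1]
    apply h
    · exact Ideal.map_le_iff_le_comap.mp hP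
    · intro a ha
      by_contra hap
      exact algebraMap_notMem_of_mem_submonoid p.primeCompl P.asIdeal hap ha
  obtain ⟨ys, hlen, hreg, hmem⟩ := DepthHom.exists_of_le_idealDepth n h1
  obtain ⟨xs, hxlen, hxmem, hxreg⟩ := exists_lift_isWeaklyRegular_ideal p J ys
    (LocalizedModule p.primeCompl M) hreg hmem
  obtain ⟨f, hfp, hf⟩ := exists_notMem_isWeaklyRegular_localization p xs M hxreg
  refine ⟨f, hfp, fun q _ hfq hJq => ?_⟩
  have hreg' := hf q hfq
  have hmem' : ∀ r ∈ xs.map (algebraMap A (Localization.AtPrime q)),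
      r ∈ IsLocalRing.maximalIdeal (Localization.AtPrime q) := by
    intro r hr
    obtain ⟨a, ha, rfl⟩ := List.mem_map.mp hr
    exact (IsLocalization.AtPrime.to_map_mem_maximal_iff (Localization.AtPrime q) q a).mpr
      (hJq (hxmem a ha))
  have := Groth.Agent.Lib.helper9.Depth.length_le_idealDepth hreg' hmem'
  rw [List.length_map, hxlen, hlen] at this
  exact this

end Alg

section Dict

variable {R : CommRingCat.{u}}

/-- the counit `(Γ G)~ → G` on the section defined by a global section. -/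
lemma fromTildeΓ_app_toOpen (G : (Spec R).Modules) (U' : (Spec R).Opens) (m : Γmod G) :
    (G.fromTildeΓ).app U' (StructureSheaf.toOpenₗ R (Γmod G) U' m) =
      G.presheaf.map (homOfLE (le_top : U' ≤ ⊤)).op m := by
  have := congrArg (fun ψ => ψ.hom m) (Scheme.Modules.toOpen_fromTildeΓ_app G U')
  exact this

/-- a global section `m` of a quasi-coherent module on `Spec R` vanishes on the open `U'` iff
`m/1 = 0` in the localization at every point of `U'`. -/
lemma map_top_eq_zero_iff (G : (Spec R).Modules) [G.IsQuasicoherent] (U' : (Spec R).Opens)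
    (m : Γmod G) :
    G.presheaf.map (homOfLE (le_top : U' ≤ ⊤)).op m = 0 ↔
      ∀ (y : PrimeSpectrum R) (_ : y ∈ U'),
        (LocalizedModule.mk m 1 : LocalizedModule y.asIdeal.primeCompl (Γmod G)) = 0 := by
  rw [← fromTildeΓ_app_toOpen]
  have b : Function.Bijective ((G.fromTildeΓ).app U') := ConcreteCategory.bijective_of_isIso _
  constructor
  · intro h y hy
    have h1 : StructureSheaf.toOpenₗ R (Γmod G) U' m = 0 := b.1 (h.trans (map_zero _).symm)
    have := congrArg (fun z : Sec R (Γmod G) U' => z.1 ⟨y, hy⟩) h1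
    exact this
  · intro h
    have h1 : StructureSheaf.toOpenₗ R (Γmod G) U' m = 0 := by
      apply Subtype.ext
      funext y
      exact h y.1 y.2
    rw [h1]
    exact map_zero _

end Dict

variable {X : Scheme.{u}}

lemma injective_map_congr {C : Type*} [Category C] {FC : C → C → Type*} {CC : C → Type*}
    [∀ X Y, FunLike (FC X Y) (CC X) (CC Y)] [ConcreteCategory C FC]
    {X : TopCat} (P : TopCat.Presheaf C X) {V₁ V₁' V₂ V₂' : Opens X}
    (h₁ : V₁ = V₁') (h₂ : V₂ = V₂') (le : V₂ ≤ V₁) (le' : V₂' ≤ V₁') :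
    Function.Injective (P.map (homOfLE le).op) ↔ Function.Injective (P.map (homOfLE le').op) := by
  subst h₁ h₂
  rfl

lemma fromSpec_mem {W : X.Opens} (hW : IsAffineOpen W) (q : PrimeSpectrum Γ(X, W)) :
    hW.fromSpec q ∈ W := by
  have : hW.fromSpec q ∈ hW.fromSpec.opensRange := ⟨q, rfl⟩
  rwa [hW.opensRange_fromSpec] at this

/-- local form of the injectivity half: the restriction `Γ(W, M) → Γ(W ∩ U, M)` is injective if
`depth M_x ≥ 1` at all points of `W` outside `U`. -/
theorem res_injective_of_isAffineOpen' (M : X.Modules) [M.IsQuasicoherent] {W : X.Opens}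
    (hW : IsAffineOpen W) [IsNoetherianRing Γ(X, W)]
    [Module.Finite Γ(X, W) (Γmod (M.restrict hW.fromSpec))] (U : X.Opens)
    (hdepth : ∀ x : X, x ∈ W → x ∉ U →
      1 ≤ depth (X.presheaf.stalk x) (M.presheaf.stalk x)) :
    Function.Injective (M.presheaf.map (homOfLE (inf_le_left : W ⊓ U ≤ W)).op) := by
  set f := hW.fromSpec with hf
  set U' : (Spec Γ(X, W)).Opens := f ⁻¹ᵁ U with hU'
  set G := M.restrict f with hG
  set N := Γmod G with hN
  have h1 : f ''ᵁ (⊤ : (Spec Γ(X, W)).Opens) = W := by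
    rw [Scheme.Hom.image_top_eq_opensRange, hW.opensRange_fromSpec]
  have h2 : f ''ᵁ U' = W ⊓ U := by
    rw [hU', Scheme.Hom.image_preimage_eq_opensRange_inf, hW.opensRange_fromSpec]
  have hle : f ''ᵁ U' ≤ f ''ᵁ (⊤ : (Spec Γ(X, W)).Opens) := f.image_mono le_top
  rw [← injective_map_congr M.presheaf h1 h2 hle inf_le_left]
  change Function.Injective (G.presheaf.map (homOfLE (le_top : U' ≤ ⊤)).op)
  have hass : ∀ q : PrimeSpectrum Γ(X, W), q.asIdeal ∈ associatedPrimes Γ(X, W) N →
      q ∈ U' := by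
    intro q hq
    by_contra hqU
    have h2 : 1 ≤ depth (Localization.AtPrime q.asIdeal)
        (LocalizedModule q.asIdeal.primeCompl N) := by
      rw [hN, hG, depth_localization_Γmod M hW q]
      exact hdepth _ (fromSpec_mem hW q) hqU
    rw [(depth_localization_eq_zero_iff q.asIdeal N).mpr hq] at h2
    exact absurd h2 (by decide)
  have hinj : Function.Injective (Sect.res (M := N) (le_top : U' ≤ ⊤)) :=
    res_injective_of_ass _ hass
  have hinj' : Function.Injective
      ((tilde N).presheaf.map (homOfLE (le_top : U' ≤ ⊤)).op) := hinj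
  have hnat := (G.fromTildeΓ).mapPresheaf.naturality (homOfLE (le_top : U' ≤ ⊤)).op
  have hcomp : G.presheaf.map (homOfLE (le_top : U' ≤ ⊤)).op =
      inv ((G.fromTildeΓ).app ⊤) ≫ (tilde N).presheaf.map (homOfLE (le_top : U' ≤ ⊤)).op ≫
        (G.fromTildeΓ).app U' := by
    rw [IsIso.eq_inv_comp]
    exact hnat.symm
  rw [hcomp]
  have b1 : Function.Bijective (inv ((G.fromTildeΓ).app ⊤)) :=
    ConcreteCategory.bijective_of_isIso _
  have b2 : Function.Bijective ((G.fromTildeΓ).app U') :=
    ConcreteCategory.bijective_of_isIso _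
  simp only [AddCommGrpCat.hom_comp, AddMonoidHom.coe_comp]
  exact (b2.1.comp hinj').comp b1.1

/-- local form of the bijectivity statement. -/
theorem res_bijective_of_isAffineOpen' (M : X.Modules) [M.IsQuasicoherent] {W : X.Opens}
    (hW : IsAffineOpen W) [IsNoetherianRing Γ(X, W)]
    [Module.Finite Γ(X, W) (Γmod (M.restrict hW.fromSpec))] (U : X.Opens)
    (hdepth : ∀ x : X, x ∈ W → x ∉ U →
      2 ≤ depth (X.presheaf.stalk x) (M.presheaf.stalk x)) :
    Function.Bijective (M.presheaf.map (homOfLE (inf_le_left : W ⊓ U ≤ W)).op) := by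
  set f := hW.fromSpec with hf
  set U' : (Spec Γ(X, W)).Opens := f ⁻¹ᵁ U with hU'
  set G := M.restrict f with hG
  set N := Γmod G with hN
  have h1 : f ''ᵁ (⊤ : (Spec Γ(X, W)).Opens) = W := by
    rw [Scheme.Hom.image_top_eq_opensRange, hW.opensRange_fromSpec]
  have h2 : f ''ᵁ U' = W ⊓ U := by
    rw [hU', Scheme.Hom.image_preimage_eq_opensRange_inf, hW.opensRange_fromSpec]
  have hle : f ''ᵁ U' ≤ f ''ᵁ (⊤ : (Spec Γ(X, W)).Opens) := f.image_mono le_top
  rw [← bijective_map_congr M.presheaf h1 h2 hle inf_le_left]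
  change Function.Bijective (G.presheaf.map (homOfLE (le_top : U' ≤ ⊤)).op)
  have hdepth' : ∀ q : PrimeSpectrum Γ(X, W), q ∉ U' →
      2 ≤ depth (Localization.AtPrime q.asIdeal)
        (LocalizedModule q.asIdeal.primeCompl N) := by
    intro q hq
    rw [hN, hG, depth_localization_Γmod M hW q]
    exact hdepth _ (fromSpec_mem hW q) hq
  have hass : ∀ q : PrimeSpectrum Γ(X, W), q.asIdeal ∈ associatedPrimes Γ(X, W) N →
      q ∈ U' := by
    intro q hq
    by_contra hqU
    have h2 := hdepth' q hqU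
    rw [(depth_localization_eq_zero_iff q.asIdeal N).mpr hq] at h2
    exact absurd h2 (by decide)
  have hbij : Function.Bijective (Sect.res (M := N) (le_top : U' ≤ ⊤)) :=
    ⟨res_injective_of_ass _ hass, res_surjective_of_depth _ hdepth'⟩
  have hbij' : Function.Bijective
      ((tilde N).presheaf.map (homOfLE (le_top : U' ≤ ⊤)).op) := hbij
  have hnat := (G.fromTildeΓ).mapPresheaf.naturality (homOfLE (le_top : U' ≤ ⊤)).op
  have hcomp : G.presheaf.map (homOfLE (le_top : U' ≤ ⊤)).op =
      inv ((G.fromTildeΓ).app ⊤) ≫ (tilde N).presheaf.map (homOfLE (le_top : U' ≤ ⊤)).op ≫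
        (G.fromTildeΓ).app U' := by
    rw [IsIso.eq_inv_comp]
    exact hnat.symm
  rw [hcomp]
  have b1 : Function.Bijective (inv ((G.fromTildeΓ).app ⊤)) :=
    ConcreteCategory.bijective_of_isIso _
  have b2 : Function.Bijective ((G.fromTildeΓ).app U') :=
    ConcreteCategory.bijective_of_isIso _
  simp only [AddCommGrpCat.hom_comp, AddMonoidHom.coe_comp]
  exact (b2.comp hbij').comp b1

/-- **Key lemma**: if `depth M_{x'} ≥ n` at all generizations `x'` of `x` lying in the closed set
`T`, the same holds at all points of `T` in a neighbourhood of `x`. -/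
theorem exists_nhd_forall_depth_ge [IsLocallyNoetherian X] (M : X.Modules) [M.IsQuasicoherent]
    [SheafOfModules.IsFiniteType.{u} M] (T : Set X) (hT : IsClosed T) (x : X) (n : ℕ)
    (h : ∀ x' : X, x' ⤳ x → x' ∈ T →
      (n : ℕ∞) ≤ depth (X.presheaf.stalk x') (M.presheaf.stalk x')) :
    ∃ V : X.Opens, x ∈ V ∧ ∀ y ∈ V, y ∈ T →
      (n : ℕ∞) ≤ depth (X.presheaf.stalk y) (M.presheaf.stalk y) := by
  obtain ⟨W, hW, hxW, hNoeth, hfin⟩ := exists_good_affine M x
  obtain ⟨p, rfl⟩ := exists_fromSpec_eq hW hxW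
  have hcl : IsClosed {q : PrimeSpectrum Γ(X, W) | hW.fromSpec q ∈ T} :=
    hT.preimage hW.fromSpec.continuous
  have hzl : PrimeSpectrum.zeroLocus
      ((PrimeSpectrum.vanishingIdeal {q : PrimeSpectrum Γ(X, W) | hW.fromSpec q ∈ T} :
        Ideal Γ(X, W)) : Set Γ(X, W)) =
      {q : PrimeSpectrum Γ(X, W) | hW.fromSpec q ∈ T} := by
    rw [PrimeSpectrum.zeroLocus_vanishingIdeal_eq_closure]
    exact hcl.closure_eq
  have hmemT : ∀ q : PrimeSpectrum Γ(X, W), hW.fromSpec q ∈ T ↔
      PrimeSpectrum.vanishingIdeal {q : PrimeSpectrum Γ(X, W) | hW.fromSpec q ∈ T} ≤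
        q.asIdeal := by
    intro q
    have h1 : q ∈ {q : PrimeSpectrum Γ(X, W) | hW.fromSpec q ∈ T} ↔ q ∈ PrimeSpectrum.zeroLocus
      ((PrimeSpectrum.vanishingIdeal {q : PrimeSpectrum Γ(X, W) | hW.fromSpec q ∈ T} :
        Ideal Γ(X, W)) : Set Γ(X, W)) := by
      rw [hzl]
    rw [PrimeSpectrum.mem_zeroLocus] at h1
    exact h1
  obtain ⟨f, hfp, hf⟩ := exists_notMem_forall_depth_ge (Γmod (M.restrict hW.fromSpec))
    (PrimeSpectrum.vanishingIdeal {q : PrimeSpectrum Γ(X, W) | hW.fromSpec q ∈ T})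
    p.asIdeal n (by
      intro q _ hJq hqp
      have h1 := h (hW.fromSpec ⟨q, inferInstance⟩)
        ((fromSpec_specializes_iff hW ⟨q, inferInstance⟩ p).mpr hqp)
        ((hmemT ⟨q, inferInstance⟩).mpr hJq)
      rw [depth_stalk_eq' M hW ⟨q, inferInstance⟩] at h1
      exact h1)
  refine ⟨hW.fromSpec ''ᵁ (PrimeSpectrum.basicOpen f), ⟨p, hfp, rfl⟩, ?_⟩
  rintro y ⟨q, hq, rfl⟩ hyT
  have h2 := hf q.asIdeal hq ((hmemT q).mp hyT)
  rw [← depth_stalk_eq' M hW q] at h2
  exact h2

end Groth.Agent.Lib.helper9.CohB
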