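import Groth.Agent.Lib.helper9.Sect2
import Groth.Agent.Lib.helper9.Depth23
import Groth.Agent.Lib.helper9.Depth27
import Groth.Agent.Lib.helper9.DepthHom

/-!
# Local (pointwise) model: germ-level bijectivity of `ρ` at `p` forces depth `≥ 2` at the
generizations of `p` lying in `Z`
-/

universe u

open AlgebraicGeometry CategoryTheory Opposite TopologicalSpace RingTheory.Sequence Pointwise

namespace Groth.Agent.Lib.helper9.Sect

open LocCoh Groth.Agent.Lib.helper9.Depth

section Alg

variable {A : Type u} [CommRing A] [IsNoetherianRing A] (M : Type u) [AddCommGroup M]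
  [Module A M] [Module.Finite A M]

/-- if `depth M_q ≥ n` for all primes `q ⊆ p` containing `J`, there is a sequence of `n` elements
of `J` which is weakly regular on `M_p`. -/
theorem exists_list_isWeaklyRegular_localization (J : Ideal A) (p : Ideal A) [p.IsPrime] (n : ℕ)
    (h : ∀ (q : Ideal A) [q.IsPrime], J ≤ q → q ≤ p →
      (n : ℕ∞) ≤ depth (Localization.AtPrime q) (LocalizedModule q.primeCompl M)) :
    ∃ xs : List A, xs.length = n ∧ (∀ x ∈ xs, x ∈ J) ∧
      IsWeaklyRegular (LocalizedModule p.primeCompl M)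
        (xs.map (algebraMap A (Localization.AtPrime p))) := by
  have h1 : (n : ℕ∞) ≤ idealDepth (J.map (algebraMap A (Localization.AtPrime p)))
      (LocalizedModule p.primeCompl M) := by
    rw [idealDepth_eq_iInf_depth_localization]
    refine le_iInf₂ fun P hP => ?_
    rw [(depth_supportDim_localization_localization p.primeCompl M P.asIdeal).1]
    apply h
    · exact Ideal.map_le_iff_le_comap.mp hP
    · intro a ha
      by_contra hap
      exact algebraMap_notMem_of_mem_submonoid p.primeCompl P.asIdeal hap ha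
  obtain ⟨ys, hlen, hreg, hmem⟩ := DepthHom.exists_of_le_idealDepth n h1
  obtain ⟨xs, hxlen, hxmem, hxreg⟩ := exists_lift_isWeaklyRegular_ideal p J ys
    (LocalizedModule p.primeCompl M) hreg hmem
  exact ⟨xs, hxlen.trans hlen, hxmem, hxreg⟩

end Alg

variable {A : Type u} [CommRing A] {M : Type u} [AddCommGroup M] [Module A M]

variable (A M) in
/-- model form of "`ρ` is injective on stalks at `p`": a section near `p` vanishing off a closed
subset of `Z'` vanishes at `p`. -/
def ModelInj (Z' : Set (PrimeSpectrum A)) (p : PrimeSpectrum A) : Prop :=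
  ∀ (O : Opens (PrimeSpectrum.Top A)) (hp : p ∈ O) (Cc : Opens (PrimeSpectrum.Top A)),
    (∀ y : PrimeSpectrum A, y ∉ Cc → y ∈ Z') → ∀ ξ : Sec A M O,
    (∀ y : O, y.1 ∈ Cc → ξ.1 y = 0) → ξ.1 ⟨p, hp⟩ = 0

variable (A M) in
/-- model form of "`ρ` is surjective on stalks at `p`": a section defined near `p` off a closed
subset of `Z'` extends near `p`, after enlarging the closed subset. -/
def ModelSurj (Z' : Set (PrimeSpectrum A)) (p : PrimeSpectrum A) : Prop :=
  ∀ (O : Opens (PrimeSpectrum.Top A)) (_ : p ∈ O) (Cc : Opens (PrimeSpectrum.Top A)),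
    (∀ y : PrimeSpectrum A, y ∉ Cc → y ∈ Z') → ∀ σ : Sec A M (O ⊓ Cc),
    ∃ (O1 : Opens (PrimeSpectrum.Top A)) (hO1 : O1 ≤ O) (_ : p ∈ O1)
      (Cc1 : Opens (PrimeSpectrum.Top A)) (hCc1 : Cc1 ≤ Cc),
      (∀ y : PrimeSpectrum A, y ∉ Cc1 → y ∈ Z') ∧
      ∃ τ : Sec A M O1, ∀ (y : O1) (hy : y.1 ∈ Cc1), τ.1 y = σ.1 ⟨y.1, ⟨hO1 y.2, hCc1 hy⟩⟩

theorem two_le_depth_of_model [IsNoetherianRing A] [Module.Finite A M] (Z' : Set (PrimeSpectrum A))
    (hZ' : StableUnderSpecialization Z') (p : PrimeSpectrum A)
    (hinj : ModelInj A M Z' p) (hsurj : ModelSurj A M Z' p)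
    (hone : ∀ q' : PrimeSpectrum A, q' ≤ p → q' ∈ Z' →
      1 ≤ depth (Localization.AtPrime q'.asIdeal) (LocalizedModule q'.asIdeal.primeCompl M))
    (q : PrimeSpectrum A) (hqp : q ≤ p) (hqZ : q ∈ Z') :
    2 ≤ depth (Localization.AtPrime q.asIdeal) (LocalizedModule q.asIdeal.primeCompl M) := by
  classical
  by_contra hlt
  have hdq : depth (Localization.AtPrime q.asIdeal)
      (LocalizedModule q.asIdeal.primeCompl M) = 1 := by
    apply le_antisymm _ (hone q hqp hqZ)
    rw [not_le] at hlt
    exact Order.le_of_lt_add_one (by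
      have e : (2 : ℕ∞) = 1 + 1 := by norm_num
      rwa [e] at hlt)
  have hup : ∀ y : PrimeSpectrum A, q ≤ y → y ∈ Z' := fun y hy =>
    hZ' ((PrimeSpectrum.le_iff_specializes q y).mp hy) hqZ
  obtain ⟨xs, hlen, hxmem, hxreg⟩ :=
    exists_list_isWeaklyRegular_localization M q.asIdeal p.asIdeal 1
      (fun q' _ hqq' hq'p => by
        have := hone ⟨q', inferInstance⟩ hq'p (hup ⟨q', inferInstance⟩ hqq')
        exact_mod_cast this)
  match xs, hlen with
  | [a], _ =>
    have haq : a ∈ q.asIdeal := hxmem a (by simp)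
    rw [List.map_cons, List.map_nil, isWeaklyRegular_singleton_iff] at hxreg
    obtain ⟨f, hfp, hkill⟩ := exists_kills_of_isSMulRegular_localization p.asIdeal M hxreg
    have hfq : f ∉ q.asIdeal := fun h => hfp (hqp h)
    have hregq : IsSMulRegular (LocalizedModule q.asIdeal.primeCompl M)
        (algebraMap A (Localization.AtPrime q.asIdeal) a) :=
      isSMulRegular_localization_of_kills q.asIdeal M hfq hkill
    have hne : IsLocalRing.maximalIdeal (Localization.AtPrime q.asIdeal) •
        (⊤ : Submodule (Localization.AtPrime q.asIdeal)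
          (LocalizedModule q.asIdeal.primeCompl M)) ≠ ⊤ := by
      intro htop
      have h1 : depth (Localization.AtPrime q.asIdeal)
          (LocalizedModule q.asIdeal.primeCompl M) = ⊤ := idealDepth_eq_top _ _ htop
      rw [hdq] at h1
      exact absurd h1 (by decide)
    have hamem : algebraMap A (Localization.AtPrime q.asIdeal) a ∈
        IsLocalRing.maximalIdeal (Localization.AtPrime q.asIdeal) :=
      (IsLocalization.AtPrime.to_map_mem_maximal_iff (Localization.AtPrime q.asIdeal)
        q.asIdeal a).mpr haq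
    have hq0 : depth (Localization.AtPrime q.asIdeal)
        (LocalizedModule q.asIdeal.primeCompl (QuotSMulTop a M)) = 0 := by
      have h2 := idealDepth_quotSMulTop_add_one hne hamem hregq
      have h3 : idealDepth (IsLocalRing.maximalIdeal (Localization.AtPrime q.asIdeal))
          (LocalizedModule q.asIdeal.primeCompl (QuotSMulTop a M)) =
          idealDepth (IsLocalRing.maximalIdeal (Localization.AtPrime q.asIdeal))
            (QuotSMulTop (algebraMap A (Localization.AtPrime q.asIdeal) a)
              (LocalizedModule q.asIdeal.primeCompl M)) :=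
        idealDepth_congr _ (quotSMulTopLocEquiv q.asIdeal M a)
      have h4 : idealDepth (IsLocalRing.maximalIdeal (Localization.AtPrime q.asIdeal))
          (LocalizedModule q.asIdeal.primeCompl M) = 1 := hdq
      rw [← h3, h4] at h2
      have h5 : idealDepth (IsLocalRing.maximalIdeal (Localization.AtPrime q.asIdeal))
          (LocalizedModule q.asIdeal.primeCompl (QuotSMulTop a M)) + 1 = 0 + 1 := by
        rw [zero_add]; exact h2
      exact WithTop.add_right_cancel (by decide) h5
    have hass : q.asIdeal ∈ associatedPrimes A (QuotSMulTop a M) :=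
      (depth_localization_eq_zero_iff q.asIdeal (QuotSMulTop a M)).mp hq0
    obtain ⟨hprime, nbar, hnbar⟩ := isAssociatedPrime_iff.mp hass
    obtain ⟨n, rfl⟩ := Submodule.Quotient.mk_surjective _ nbar
    have hQ : ∀ b ∈ q.asIdeal, ∃ k : M, a • k = b • n := by
      intro b hb
      rw [hnbar, Submodule.mem_colon_singleton, Submodule.mem_bot, ← Submodule.Quotient.mk_smul,
        Submodule.Quotient.mk_eq_zero, Submodule.mem_smul_pointwise_iff_exists] at hb
      obtain ⟨k, -, hk⟩ := hb
      exact ⟨k, hk⟩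
    have hN : ∀ t : LocalizedModule p.asIdeal.primeCompl M,
        a • t ≠ LocalizedModule.mk n 1 := by
      intro t ht
      induction t using LocalizedModule.induction_on with
      | h m s =>
        rw [LocalizedModule.smul'_mk, LocalizedModule.mk_eq] at ht
        obtain ⟨u, hu⟩ := ht
        have hu' : (u : A) • (a • m) = (u : A) • ((s : A) • n) := by
          simpa [Submonoid.smul_def] using hu
        have h1 : ((u : A) * (s : A)) ∈ q.asIdeal := by
          rw [hnbar, Submodule.mem_colon_singleton, Submodule.mem_bot,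
            ← Submodule.Quotient.mk_smul, Submodule.Quotient.mk_eq_zero,
            Submodule.mem_smul_pointwise_iff_exists]
          refine ⟨(u : A) • m, Submodule.mem_top, ?_⟩
          rw [smul_comm, hu', mul_smul]
        exact (u * s).2 (hqp h1)
    -- the section `σ = n / a` off `V(q)`, near `p`
    set O : Opens (PrimeSpectrum.Top A) := PrimeSpectrum.basicOpen f with hO
    set Cc : Opens (PrimeSpectrum.Top A) :=
      ⟨(PrimeSpectrum.zeroLocus (q.asIdeal : Set A))ᶜ,
        (PrimeSpectrum.isClosed_zeroLocus _).isOpen_compl⟩ with hCcdef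
    have hpO : p ∈ O := hfp
    have hCcZ : ∀ y : PrimeSpectrum A, y ∉ Cc → y ∈ Z' := by
      intro y hy
      have hy' : y ∈ PrimeSpectrum.zeroLocus (q.asIdeal : Set A) := not_not.mp hy
      exact hup y ((PrimeSpectrum.mem_zeroLocus _ _).mp hy')
    have hex : ∀ y : ↥(O ⊓ Cc), ∃ b ∈ q.asIdeal, b ∉ y.1.asIdeal := by
      intro y
      have h1 : ¬ q.asIdeal ≤ y.1.asIdeal :=
        fun hle => y.2.2 ((PrimeSpectrum.mem_zeroLocus _ _).mpr hle)
      exact SetLike.not_le_iff_exists.mp h1
    choose b hbq hby using hex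
    choose k hk using fun y : ↥(O ⊓ Cc) => hQ (b y) (hbq y)
    have hsm : ∀ (y : PrimeSpectrum A) (g : A) (hg : g ∉ y.asIdeal) (k' : M), a • k' = g • n →
        a • (LocalizedModule.mk k' ⟨g, hg⟩ : LocalizedModule y.asIdeal.primeCompl M) =
          LocalizedModule.mk n 1 := by
      intro y g hg k' hk'
      rw [LocalizedModule.smul'_mk, hk']
      exact LocalizedModule.mk_cancel (⟨g, hg⟩ : y.asIdeal.primeCompl) n
    have hregy : ∀ y : PrimeSpectrum A, f ∉ y.asIdeal →
        IsSMulRegular (LocalizedModule y.asIdeal.primeCompl M) a := by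
      intro y hfy x x' hxx'
      apply isSMulRegular_localization_of_kills y.asIdeal M hfy hkill
      change algebraMap A (Localization.AtPrime y.asIdeal) a • x =
        algebraMap A (Localization.AtPrime y.asIdeal) a • x'
      rw [algebraMap_smul, algebraMap_smul]
      exact hxx'
    let σ : Sec A M (O ⊓ Cc) := ⟨fun y => LocalizedModule.mk (k y) ⟨b y, hby y⟩, by
      intro y
      have hle : PrimeSpectrum.basicOpen (b y) ⊓ O ≤ O ⊓ Cc := by
        intro z hz
        refine ⟨hz.2, ?_⟩
        intro hzq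
        exact hz.1 ((PrimeSpectrum.mem_zeroLocus _ _).mp hzq (hbq y))
      refine ⟨PrimeSpectrum.basicOpen (b y) ⊓ O, ⟨hby y, y.2.1⟩, homOfLE hle, k y, b y,
        fun z => ⟨z.2.1, ?_⟩⟩
      apply hregy z.1 z.2.2
      change a • (LocalizedModule.mk (k ⟨z.1, hle z.2⟩)
          ⟨b ⟨z.1, hle z.2⟩, hby ⟨z.1, hle z.2⟩⟩ :
          LocalizedModule z.1.asIdeal.primeCompl M) =
        a • LocalizedModule.mk (k y) ⟨b y, z.2.1⟩
      rw [hsm z.1 _ _ _ (hk ⟨z.1, hle z.2⟩), hsm z.1 _ z.2.1 _ (hk y)]⟩
    obtain ⟨O1, hO1, hp1, Cc1, hCc1, hZ1, τ, hτ⟩ := hsurj O hpO Cc hCcZ σ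
    let ξ : Sec A M O1 := a • τ - StructureSheaf.toOpenₗ A M O1 n
    have hξ : ∀ y : O1, y.1 ∈ Cc1 → ξ.1 y = 0 := by
      intro y hy
      change a • τ.1 y - LocalizedModule.mk n 1 = 0
      rw [hτ y hy, sub_eq_zero]
      exact hsm y.1 _ _ _ (hk ⟨y.1, ⟨hO1 y.2, hCc1 hy⟩⟩)
    have h0 := hinj O1 hp1 Cc1 hZ1 ξ hξ
    have h0' : a • τ.1 ⟨p, hp1⟩ -
        (LocalizedModule.mk n 1 : LocalizedModule p.asIdeal.primeCompl M) = 0 := h0
    exact hN _ (sub_eq_zero.mp h0')

end Groth.Agent.Lib.helper9.Sect
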