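import Groth.Agent.Lib.helper9.ZC8
import Groth.Agent.Lib.helper9.CohB9
import Groth.Agent.Lib.helper9.Sect3

/-!
# Dictionary between germ-level properties of `ρ_{X/Z}` at a point of an affine open and the
concrete model of sections of `M~`
-/

universe u

open CategoryTheory CategoryTheory.Limits AlgebraicGeometry TopologicalSpace Opposite

namespace Groth.Agent.Lib.helper9.ZC

open Groth.Agent.Lib.helper9.CohB Groth.Agent.Lib.helper9.Sect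

variable {X : Scheme.{u}}

section Extract

variable (Z : Set X) (F : X.Modules)

/-- if `ρ(germ t)` is the class of a section `s` of `F` over `U_T ∩ V`, then `t` and `s` agree on
`U_{T'} ∩ V'` for a larger `T'` and a smaller neighbourhood `V'`. -/
theorem exists_of_rhoStalk_eq_rep (x : X) (T : ZClos.Cl Z) (V : X.Opens) (hx : x ∈ V)
    (s : Γ(F, T.U.ι ''ᵁ T.U.ι ⁻¹ᵁ V)) (V1 : X.Opens) (hx1 : x ∈ V1) (t : Γ(F, V1))
    (h : ZClos.rhoStalk Z F x (F.presheaf.germ V1 x hx1 t) = rep Z F x T V hx s) :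
    ∃ (T' : ZClos.Cl Z) (hT : T ≤ T') (V' : X.Opens) (hV : V' ≤ V) (hV1 : V' ≤ V1) (_ : x ∈ V'),
      res F (ip_le2 Z hT hV) s = res F ((ip_le T'.U V').trans hV1) t := by
  have hx2 : x ∈ V ⊓ V1 := ⟨hx, hx1⟩
  set t2 : Γ(F, V ⊓ V1) := res F inf_le_right t with ht2
  set s2 : Γ(F, T.U.ι ''ᵁ T.U.ι ⁻¹ᵁ (V ⊓ V1)) := res F (ip_mono T.U inf_le_left) s with hs2
  set t3 : Γ(F, T.U.ι ''ᵁ T.U.ι ⁻¹ᵁ (V ⊓ V1)) := res F (ip_le T.U (V ⊓ V1)) t2 with ht3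
  have e1 : rep Z F x T V hx s = rep Z F x T (V ⊓ V1) hx2 s2 :=
    rep_res Z F x (le_refl T) (inf_le_left : V ⊓ V1 ≤ V) hx2
      (homOfLE (ip_mono T.U inf_le_left)) s
  have e2 : ZClos.rhoStalk Z F x (F.presheaf.germ V1 x hx1 t) =
      rep Z F x T (V ⊓ V1) hx2 t3 := by
    rw [← germ_res F (inf_le_right : V ⊓ V1 ≤ V1) x hx2 t]
    exact rhoStalk_germ Z F x (V ⊓ V1) hx2 t2 T
  have e3 : rep Z F x T (V ⊓ V1) hx2 (s2 - t3) = 0 := by
    rw [rep_sub, ← e1, ← e2, h, sub_self]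
  obtain ⟨T', hT, V', hV', hx', i, hi⟩ := (rep_eq_zero_iff Z F x T (V ⊓ V1) hx2 _).mp e3
  rw [map_eq_res, map_sub, sub_eq_zero] at hi
  refine ⟨T', hT, V', hV'.trans inf_le_left, hV'.trans inf_le_right, hx', ?_⟩
  rw [hs2, ht3, ht2, res_res, res_res, res_res] at hi
  exact hi

end Extract

/-- a closed subset of the source of an open immersion lying over `Z` is the trace of a closed
subset of `X` inside `Z`. -/
theorem exists_cl_of_isOpenImmersion [IsLocallyNoetherian X] {Z : Set X}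
    (hZ : StableUnderSpecialization Z) {Y : Scheme.{u}} (f : Y ⟶ X) [IsOpenImmersion f]
    (Cc : Y.Opens) (hCc : ∀ y : Y, y ∉ Cc → f.base y ∈ Z) :
    ∃ T : ZClos.Cl Z, ∀ y : Y, f.base y ∈ T.U ↔ y ∈ Cc := by
  obtain ⟨A0, hA0, hA0C⟩ :=
    f.isOpenEmbedding.isInducing.isClosed_iff.mp Cc.2.isClosed_compl
  have hmem : ∀ y : Y, f.base y ∈ A0 ↔ y ∉ Cc := fun y => Set.ext_iff.mp hA0C y
  have hsub : Set.range f.base ∩ A0 ⊆ Z := by
    rintro _ ⟨⟨y, rfl⟩, hy⟩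
    exact hCc y ((hmem y).mp hy)
  refine ⟨⟨⟨closure (Set.range f.base ∩ A0), isClosed_closure⟩,
    closure_subset_of_stableUnderSpecialization hZ f.isOpenEmbedding.isOpen_range hA0 hsub⟩, ?_⟩
  intro y
  constructor
  · intro hy
    by_contra hc
    exact hy (subset_closure ⟨⟨y, rfl⟩, (hmem y).mpr hc⟩)
  · intro hy hcl
    have h2 : f.base y ∈ A0 := (closure_minimal Set.inter_subset_right hA0) hcl
    exact (hmem y).mp h2 hy

section Dict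

variable {R : CommRingCat.{u}} (G : (Spec R).Modules) [G.IsQuasicoherent]

/-- dictionary: sections of `(Γ G)~` in the concrete model ↔ sections of `G`. -/
noncomputable def dictG (O : (Spec R).Opens) (ξ : Sec R (Γmod G) O) : Γ(G, O) :=
  (G.fromTildeΓ).app O ξ

lemma dictG_bijective (O : (Spec R).Opens) : Function.Bijective (dictG G O) :=
  ConcreteCategory.bijective_of_isIso ((G.fromTildeΓ).app O)

omit [G.IsQuasicoherent] in
lemma dictG_res {O O'' : (Spec R).Opens} (h : O'' ≤ O) (ξ : Sec R (Γmod G) O) :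
    dictG G O'' (Sect.res h ξ) = res G h (dictG G O ξ) :=
  app_res G.fromTildeΓ h ξ

lemma dictG_eq_zero_iff (O : (Spec R).Opens) (ξ : Sec R (Γmod G) O) :
    dictG G O ξ = 0 ↔ ∀ y : O, ξ.1 y = 0 := by
  have b := dictG_bijective G O
  constructor
  · intro h y
    have h1 : ξ = 0 := b.1 (h.trans (map_zero _).symm)
    have := congrArg (fun z : Sec R (Γmod G) O => z.1 y) h1
    exact this
  · intro h
    have h1 : ξ = 0 := by
      apply Subtype.ext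
      funext y
      exact h y
    subst h1
    exact map_zero _

end Dict

section DictF

variable {R : CommRingCat.{u}} (F : X.Modules) [F.IsQuasicoherent] (f : Spec R ⟶ X)
  [IsOpenImmersion f]

/-- dictionary for the restriction of `F` along an open immersion from an affine scheme. -/
noncomputable def dict (O : (Spec R).Opens) (ξ : Sec R (Γmod (F.restrict f)) O) :
    Γ(F, f ''ᵁ O) :=
  dictG (F.restrict f) O ξ

lemma dict_bijective (O : (Spec R).Opens) : Function.Bijective (dict F f O) :=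
  dictG_bijective (F.restrict f) O

lemma dict_res {O O'' : (Spec R).Opens} (h : O'' ≤ O) (ξ : Sec R (Γmod (F.restrict f)) O) :
    dict F f O'' (Sect.res h ξ) = res F (f.image_mono h) (dict F f O ξ) :=
  dictG_res (F.restrict f) h ξ

lemma dict_eq_zero_iff (O : (Spec R).Opens) (ξ : Sec R (Γmod (F.restrict f)) O) :
    dict F f O ξ = 0 ↔ ∀ y : O, ξ.1 y = 0 :=
  dictG_eq_zero_iff (F.restrict f) O ξ

variable [IsLocallyNoetherian X] {Z : Set X} (hZ : StableUnderSpecialization Z)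
include hZ

theorem modelInj_of_isZPureAt (p : PrimeSpectrum R) (h : ZClos.IsZPureAt Z F (f.base p)) :
    Sect.ModelInj R (Γmod (F.restrict f)) (f.base ⁻¹' Z) p := by
  intro O hp Cc hCc ξ hξ
  obtain ⟨T, hT⟩ := exists_cl_of_isOpenImmersion hZ f Cc (fun y hy => hCc y hy)
  have hxV : f.base p ∈ f ''ᵁ O := ⟨p, hp, rfl⟩
  have e1 : res F (f.image_mono (inf_le_left : O ⊓ Cc ≤ O)) (dict F f O ξ) = 0 :=
    (dict_res F f inf_le_left ξ).symm.trans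
      ((dict_eq_zero_iff F f _ _).mpr (fun y => hξ ⟨y.1, y.2.1⟩ y.2.2))
  have hle : T.U.ι ''ᵁ T.U.ι ⁻¹ᵁ (f ''ᵁ O) ≤ f ''ᵁ (O ⊓ Cc) := by
    rw [ZClos.ι_image_preimage]
    rintro _ ⟨hyT, ⟨y, hyO, rfl⟩⟩
    exact ⟨y, ⟨hyO, (hT y).mp hyT⟩, rfl⟩
  have h0 : res F (ip_le T.U (f ''ᵁ O)) (dict F f O ξ) = 0 := by
    have h2 : res F hle (res F (f.image_mono (inf_le_left : O ⊓ Cc ≤ O)) (dict F f O ξ)) =
        res F hle 0 := congrArg (fun z => res F hle z) e1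
    exact ((res_res F _ hle (dict F f O ξ)).symm.trans h2).trans (map_zero _)
  have h3 : ZClos.rhoStalk Z F (f.base p)
      (F.presheaf.germ (f ''ᵁ O) (f.base p) hxV (dict F f O ξ)) = 0 :=
    (rhoStalk_germ_eq_zero_iff Z F (f.base p) (f ''ᵁ O) hxV (dict F f O ξ)).mpr
      ⟨T, f ''ᵁ O, le_rfl, hxV, h0⟩
  have h4 : F.presheaf.germ (f ''ᵁ O) (f.base p) hxV (dict F f O ξ) = 0 :=
    h (h3.trans (map_zero _).symm)
  have h5 : F.presheaf.germ (f ''ᵁ O) (f.base p) hxV (dict F f O ξ) =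
      F.presheaf.germ (f ''ᵁ O) (f.base p) hxV 0 := h4.trans (map_zero _).symm
  obtain ⟨V2, hpV2, iU, iV, hV2⟩ :=
    TopCat.Presheaf.germ_eq _ (f.base p) hxV hxV _ _ h5
  have h6 : res F iU.le (dict F f O ξ) = 0 :=
    (map_eq_res F iU _).symm.trans (hV2.trans (map_zero _))
  have hp3 : p ∈ O ⊓ f ⁻¹ᵁ V2 := ⟨hp, hpV2⟩
  have hle3 : f ''ᵁ (O ⊓ f ⁻¹ᵁ V2) ≤ V2 := by
    rintro _ ⟨y, hy, rfl⟩
    exact hy.2
  have h7 : dict F f (O ⊓ f ⁻¹ᵁ V2) (Sect.res (inf_le_left : O ⊓ f ⁻¹ᵁ V2 ≤ O) ξ) = 0 := by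
    refine (dict_res F f inf_le_left ξ).trans ?_
    have h8 : res F hle3 (res F iU.le (dict F f O ξ)) = res F hle3 0 :=
      congrArg (fun z => res F hle3 z) h6
    exact ((res_res F iU.le hle3 (dict F f O ξ)).symm.trans h8).trans (map_zero _)
  exact (dict_eq_zero_iff F f _ _).mp h7 ⟨p, hp3⟩

theorem modelSurj_of_isZClosedAt (p : PrimeSpectrum R) (h : ZClos.IsZClosedAt Z F (f.base p)) :
    Sect.ModelSurj R (Γmod (F.restrict f)) (f.base ⁻¹' Z) p := by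
  intro O hp Cc hCc σ
  obtain ⟨T, hT⟩ := exists_cl_of_isOpenImmersion hZ f Cc (fun y hy => hCc y hy)
  have hxV : f.base p ∈ f ''ᵁ O := ⟨p, hp, rfl⟩
  have hle : T.U.ι ''ᵁ T.U.ι ⁻¹ᵁ (f ''ᵁ O) ≤ f ''ᵁ (O ⊓ Cc) := by
    rw [ZClos.ι_image_preimage]
    rintro _ ⟨hyT, ⟨y, hyO, rfl⟩⟩
    exact ⟨y, ⟨hyO, (hT y).mp hyT⟩, rfl⟩
  obtain ⟨a, ha⟩ := h.2 (rep Z F (f.base p) T (f ''ᵁ O) hxV
    (res F hle (dict F f (O ⊓ Cc) σ)))
  obtain ⟨V1, hx1, t, rfl⟩ := F.presheaf.exists_germ_eq a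
  obtain ⟨T', hTT', V', hV'V, hV'V1, hx', heq⟩ :=
    exists_of_rhoStalk_eq_rep Z F (f.base p) T (f ''ᵁ O) hxV _ V1 hx1 t ha
  have hCc1le : f ⁻¹ᵁ T'.U ≤ Cc := by
    intro y hy
    exact (hT y).mp (ZClos.Cl.U_anti hTT' hy)
  have hZ1 : ∀ y : PrimeSpectrum R, y ∉ f ⁻¹ᵁ T'.U → y ∈ f.base ⁻¹' Z := by
    intro y hy
    have h1 : f.base y ∈ (T'.1 : Set X) := not_not.mp hy
    exact T'.2 h1
  have hle1 : f ''ᵁ (O ⊓ f ⁻¹ᵁ V') ≤ V1 := by
    rintro _ ⟨y, hy, rfl⟩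
    exact hV'V1 hy.2
  obtain ⟨τ, hτ⟩ := (dict_bijective F f (O ⊓ f ⁻¹ᵁ V')).2 (res F hle1 t)
  refine ⟨O ⊓ f ⁻¹ᵁ V', inf_le_left, ⟨hp, hx'⟩, f ⁻¹ᵁ T'.U, hCc1le, hZ1, τ, ?_⟩
  intro y hy
  have h4a : (O ⊓ f ⁻¹ᵁ V') ⊓ f ⁻¹ᵁ T'.U ≤ O ⊓ f ⁻¹ᵁ V' := inf_le_left
  have h4b : (O ⊓ f ⁻¹ᵁ V') ⊓ f ⁻¹ᵁ T'.U ≤ O ⊓ Cc := inf_le_inf inf_le_left hCc1le
  have hle4 : f ''ᵁ ((O ⊓ f ⁻¹ᵁ V') ⊓ f ⁻¹ᵁ T'.U) ≤ T'.U.ι ''ᵁ T'.U.ι ⁻¹ᵁ V' := by
    rw [ZClos.ι_image_preimage]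
    rintro _ ⟨z, hz, rfl⟩
    exact ⟨hz.2, hz.1.2⟩
  have key : Sect.res h4a τ = Sect.res h4b σ := by
    apply (dict_bijective F f _).1
    refine (dict_res F f h4a τ).trans (Eq.trans ?_ (dict_res F f h4b σ).symm)
    have hL : res F (f.image_mono h4a) (dict F f _ τ) =
        res F ((f.image_mono h4a).trans hle1) t :=
      (congrArg (fun z => res F (f.image_mono h4a) z) hτ).trans
        (res_res F hle1 (f.image_mono h4a) t)
    have h5 : res F hle4 (res F (ip_le2 Z hTT' hV'V) (res F hle (dict F f (O ⊓ Cc) σ))) =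
        res F hle4 (res F ((ip_le T'.U V').trans hV'V1) t) :=
      congrArg (fun z => res F hle4 z) heq
    have hR1 : res F hle4 (res F (ip_le2 Z hTT' hV'V) (res F hle (dict F f (O ⊓ Cc) σ))) =
        res F (f.image_mono h4b) (dict F f (O ⊓ Cc) σ) :=
      (res_res F (ip_le2 Z hTT' hV'V) hle4 _).trans (res_res F hle _ _)
    have hR2 : res F hle4 (res F ((ip_le T'.U V').trans hV'V1) t) =
        res F ((f.image_mono h4a).trans hle1) t := res_res F _ hle4 t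
    exact hL.trans (hR2.symm.trans (h5.symm.trans hR1))
  have := congrArg
    (fun z : Sec R (Γmod (F.restrict f)) ((O ⊓ f ⁻¹ᵁ V') ⊓ f ⁻¹ᵁ T'.U) => z.1 ⟨y.1, ⟨y.2, hy⟩⟩) key
  exact this

end DictF

end Groth.Agent.Lib.helper9.ZC
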