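import Groth.Agent.Lib.helper9.ZC9
import Groth.Agent.Lib.helper9.FT1
import Groth.Agent.Lib.helper9.CohB5
import Groth.Agent.S5856

/-!
# Finite type Z-closure: surjectivity of `ρ` on stalks off a closed subset of `Z`; local depth
criteria for restrictions to opens
-/

universe u

open CategoryTheory CategoryTheory.Limits AlgebraicGeometry TopologicalSpace Opposite

namespace Groth.Agent.Lib.helper9.ZC

open Groth.Agent.Lib.helper9.CohB Groth.Agent.Lib.helper9.Sect Groth.Agent.Lib.helper9.FT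

variable {X : Scheme.{u}}

section Family

variable (Z : Set X) (F : X.Modules)

/-- **B1** for a finite family of sections. -/
theorem exists_ιSec_eq_family {I : Type*} [Finite I] (O : X.Opens)
    (hO : ∀ O' : X.Opens, O' ≤ O → IsCompact (O' : Set X))
    (g : I → Γ((ZClos.H0 Z).obj F, O)) :
    ∃ (T : ZClos.Cl Z) (s : I → Γ(F, T.U.ι ''ᵁ T.U.ι ⁻¹ᵁ O)), ∀ k, ιSec Z F T O (s k) = g k := by
  classical
  cases nonempty_fintype I
  choose T s hs using fun k => exists_ιSec_eq Z F O hO (g k)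
  refine ⟨Finset.univ.sup T,
    fun k => res F (ip_le2 Z (Finset.le_sup (Finset.mem_univ k)) (le_refl O)) (s k), fun k => ?_⟩
  rw [← ιSec_res Z F (Finset.le_sup (Finset.mem_univ k)) (le_refl O) (s k), res_self, hs k]

/-- on an open contained in `U_T ∩ O`, the class of a section `s` of `F` over `U_T ∩ O` is
`ρ(s)`. -/
lemma res_ιSec_eq_rhoApp (T : ZClos.Cl Z) (O O' : X.Opens)
    (hO' : O' ≤ T.U.ι ''ᵁ T.U.ι ⁻¹ᵁ O) (s : Γ(F, T.U.ι ''ᵁ T.U.ι ⁻¹ᵁ O)) :
    res ((ZClos.H0 Z).obj F) (hO'.trans (ip_le T.U O)) (ιSec Z F T O s) =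
      (ZClos.rhoApp Z F).app O' (res F hO' s) := by
  refine eq_of_germ_eq _ O' _ _ (fun z hz => ?_)
  refine (germ_res _ _ z hz _).trans ?_
  refine (germ_ιSec Z F T O z _ s).trans ?_
  refine Eq.trans ?_ (stalk_map_germ (ZClos.rhoApp Z F) O' z hz (res F hO' s))
  refine Eq.trans ?_ (rhoStalk_germ Z F z O' hz (res F hO' s) T).symm
  refine (rep_res Z F z (le_refl T) (hO'.trans (ip_le T.U O)) hz
    (homOfLE (ip_mono T.U (hO'.trans (ip_le T.U O)))) s).trans ?_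
  exact congrArg (rep Z F z T O' hz) (res_res F hO' (ip_le T.U O') s).symm

end Family

section Gen

variable {Y : Scheme.{u}}

/-- if `u(1)` is (locally at `y`) in the image of `φ`, then the image of `u` on stalks at `y` is
contained in the image of `φ`. -/
lemma stalk_map_unit_mem_range {N' N : Y.Modules} (φ : N' ⟶ N)
    (u : SheafOfModules.unit Y.ringCatSheaf ⟶ N) (y : Y) (V0 : Y.Opens) (hy0 : y ∈ V0)
    (s : Γ(N', V0)) (hs : φ.app V0 s = unitSec N u V0)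
    (a : (Scheme.Modules.presheaf (SheafOfModules.unit Y.ringCatSheaf : Y.Modules)).stalk y) :
    ∃ m, (stalkF y).map φ m = (stalkF y).map u a := by
  obtain ⟨V, hy, a', rfl⟩ := TopCat.Presheaf.exists_germ_eq _ a
  have hy2 : y ∈ V ⊓ V0 := ⟨hy, hy0⟩
  obtain ⟨a2, ha2⟩ : ∃ a2 : Γ((SheafOfModules.unit Y.ringCatSheaf : Y.Modules), V ⊓ V0),
      a2 = res (SheafOfModules.unit Y.ringCatSheaf : Y.Modules) (inf_le_left : V ⊓ V0 ≤ V) a' :=
    ⟨_, rfl⟩
  obtain ⟨b, hb⟩ : ∃ b : Γ(Y, V ⊓ V0), a2 = b := ⟨a2, rfl⟩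
  refine ⟨N'.presheaf.germ (V ⊓ V0) y hy2 (b • res N' (inf_le_right : V ⊓ V0 ≤ V0) s), ?_⟩
  have e0 : (Scheme.Modules.presheaf (SheafOfModules.unit Y.ringCatSheaf : Y.Modules)).germ V y hy
      a' = (Scheme.Modules.presheaf (SheafOfModules.unit Y.ringCatSheaf : Y.Modules)).germ
        (V ⊓ V0) y hy2 a2 := by
    rw [ha2]
    exact (germ_res _ (inf_le_left : V ⊓ V0 ≤ V) y hy2 a').symm
  have e1 : (stalkF y).map u ((Scheme.Modules.presheaf
      (SheafOfModules.unit Y.ringCatSheaf : Y.Modules)).germ (V ⊓ V0) y hy2 a2) =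
      N.presheaf.germ (V ⊓ V0) y hy2
        (Scheme.Modules.Hom.app (M := (SheafOfModules.unit Y.ringCatSheaf : Y.Modules)) u
          (V ⊓ V0) a2) :=
    stalk_map_germ (M := (SheafOfModules.unit Y.ringCatSheaf : Y.Modules)) u (V ⊓ V0) y hy2 a2
  have e2 : Scheme.Modules.Hom.app (M := (SheafOfModules.unit Y.ringCatSheaf : Y.Modules)) u
      (V ⊓ V0) a2 = b • unitSec N u (V ⊓ V0) :=
    app_eq_smul_unitSec N u (V ⊓ V0) b a2 hb
  have e3 : unitSec N u (V ⊓ V0) = φ.app (V ⊓ V0) (res N' (inf_le_right : V ⊓ V0 ≤ V0) s) := by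
    rw [app_res, hs, unitSec_res]
  have e4 : b • unitSec N u (V ⊓ V0) =
      φ.app (V ⊓ V0) (b • res N' (inf_le_right : V ⊓ V0 ≤ V0) s) := by
    rw [e3, Scheme.Modules.Hom.app_smul]
  have e5 := stalk_map_germ φ (V ⊓ V0) y hy2 (b • res N' (inf_le_right : V ⊓ V0 ≤ V0) s)
  refine e5.trans ?_
  refine (congrArg (N.presheaf.germ (V ⊓ V0) y hy2) (e4.symm.trans e2.symm)).trans ?_
  refine e1.symm.trans ?_
  exact congrArg ((stalkF y).map u) e0.symm

/-- a morphism `φ : N' ⟶ N` hitting (locally at `y`) a family of generating sections of `N` is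
surjective on stalks at `y`. -/
theorem stalk_surjective_of_generatingSections {N' N : Y.Modules} (φ : N' ⟶ N)
    (σ : N.GeneratingSections) (y : Y)
    (h : ∀ k : σ.I, ∃ (V0 : Y.Opens) (_ : y ∈ V0) (s : Γ(N', V0)),
      φ.app V0 s = unitSec N (SheafOfModules.ιFree k ≫ σ.π) V0) :
    Function.Surjective ((stalkF y).map φ) := by
  classical
  set P : AddSubgroup ((stalkF y).obj N) := ((stalkF y).map φ).hom.range with hP
  let qP : (stalkF y).obj N ⟶ AddCommGrpCat.of (((stalkF y).obj N) ⧸ P) :=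
    AddCommGrpCat.ofHom (QuotientAddGroup.mk' P)
  have hzero : (stalkF y).map σ.π ≫ qP = 0 := by
    refine (isColimitOfPreserves (stalkF y) (SheafOfModules.isColimitFreeCofan σ.I)).hom_ext
      (fun ⟨k⟩ => ?_)
    refine Eq.trans ?_ comp_zero.symm
    change (stalkF y).map (SheafOfModules.ιFree k) ≫ (stalkF y).map σ.π ≫ qP = 0
    rw [← Category.assoc, ← Functor.map_comp]
    ext a
    change QuotientAddGroup.mk' P ((stalkF y).map (SheafOfModules.ιFree k ≫ σ.π) a) = 0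
    rw [QuotientAddGroup.mk'_apply, QuotientAddGroup.eq_zero_iff]
    obtain ⟨V0, hy0, s, hs⟩ := h k
    exact stalk_map_unit_mem_range φ (SheafOfModules.ιFree k ≫ σ.π) y V0 hy0 s hs a
  intro n
  obtain ⟨m, rfl⟩ := @stalk_surjective_of_epi Y _ N σ.π σ.epi y n
  have h1 : QuotientAddGroup.mk' P ((stalkF y).map σ.π m) = 0 :=
    congrArg (fun ψ => (ConcreteCategory.hom ψ) m) hzero
  rw [QuotientAddGroup.mk'_apply, QuotientAddGroup.eq_zero_iff] at h1
  exact h1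

/-- surjectivity on stalks can be tested after restriction to an open subscheme. -/
lemma stalk_map_surjective_of_restrict {X : Scheme.{u}} (f : Y ⟶ X) [IsOpenImmersion f]
    {M' M : X.Modules} (φ : M' ⟶ M) (y : Y)
    (h : Function.Surjective ((stalkF y).map ((Scheme.Modules.restrictFunctor f).map φ))) :
    Function.Surjective ((stalkF (f.base y)).map φ) := by
  have hnat : (stalkF y).map ((Scheme.Modules.restrictFunctor f).map φ) ≫
      (Scheme.Modules.restrictStalkNatIso f y).hom.app M =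
      (Scheme.Modules.restrictStalkNatIso f y).hom.app M' ≫ (stalkF (f.base y)).map φ :=
    (Scheme.Modules.restrictStalkNatIso f y).hom.naturality φ
  have hepi1 : Epi ((stalkF y).map ((Scheme.Modules.restrictFunctor f).map φ)) :=
    (AddCommGrpCat.epi_iff_surjective _).mpr h
  have e : Epi ((stalkF y).map ((Scheme.Modules.restrictFunctor f).map φ) ≫
      (Scheme.Modules.restrictStalkNatIso f y).hom.app M) := epi_comp _ _
  rw [hnat] at e
  have e2 : Epi ((stalkF (f.base y)).map φ) :=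
    epi_of_epi ((Scheme.Modules.restrictStalkNatIso f y).hom.app M') _
  exact (AddCommGrpCat.epi_iff_surjective _).mp e2

lemma restrictFunctor_map_app {X : Scheme.{u}} (f : Y ⟶ X) [IsOpenImmersion f]
    {M' M : X.Modules} (φ : M' ⟶ M) (V : Y.Opens) (s : Γ(M', f ''ᵁ V)) :
    ((Scheme.Modules.restrictFunctor f).map φ).app V s = φ.app (f ''ᵁ V) s := rfl

end Gen

section Alg

/-- there is `f ∉ p` such that every associated prime of `M` not containing `f` is contained in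
`p`. -/
theorem exists_notMem_forall_ass_le {A : Type*} [CommRing A] [IsNoetherianRing A] (M : Type*)
    [AddCommGroup M] [Module A M] [Module.Finite A M] (p : Ideal A) [hp : p.IsPrime] :
    ∃ f : A, f ∉ p ∧ ∀ q ∈ associatedPrimes A M, f ∉ q → q ≤ p := by
  classical
  have hfin := associatedPrimes.finite A M
  have hch : ∀ q : Ideal A, ∃ g : A, g ∉ p ∧ (¬ q ≤ p → g ∈ q) := by
    intro q
    by_cases h : q ≤ p
    · exact ⟨1, (Ideal.ne_top_iff_one p).mp hp.ne_top, fun h' => absurd h h'⟩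
    · obtain ⟨g, hgq, hgp⟩ := SetLike.not_le_iff_exists.mp h
      exact ⟨g, hgp, fun _ => hgq⟩
  choose g hgp hgq using hch
  refine ⟨∏ q ∈ hfin.toFinset, g q, ?_, ?_⟩
  · intro hmem
    obtain ⟨q, -, hq⟩ := (Ideal.IsPrime.prod_mem_iff).mp hmem
    exact hgp q hq
  · intro q hq hf
    by_contra hle
    exact hf (Ideal.mem_of_dvd q (Finset.dvd_prod_of_mem g (hfin.mem_toFinset.mpr hq))
      (hgq q hle))

end Alg

section Local

open LocCoh

/-- if `depth F_{x'} ≥ 1` at all generizations `x'` of `x` lying in `Z`, the same holds at all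
points of `Z` in a neighbourhood of `x` (`Z` arbitrary). -/
theorem exists_nhd_forall_depth_ge_one [IsLocallyNoetherian X] (M : X.Modules) [M.IsQuasicoherent]
    [SheafOfModules.IsFiniteType.{u} M] (Z : Set X) (x : X)
    (h : ∀ x' : X, x' ⤳ x → x' ∈ Z →
      (1 : ℕ∞) ≤ depth (X.presheaf.stalk x') (M.presheaf.stalk x')) :
    ∃ V : X.Opens, x ∈ V ∧ ∀ y ∈ V, y ∈ Z →
      (1 : ℕ∞) ≤ depth (X.presheaf.stalk y) (M.presheaf.stalk y) := by
  obtain ⟨W, hW, hxW, hNoeth, hfin⟩ := exists_good_affine M x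
  obtain ⟨p, rfl⟩ := exists_fromSpec_eq hW hxW
  obtain ⟨f, hfp, hf⟩ := exists_notMem_forall_ass_le (Γmod (M.restrict hW.fromSpec)) p.asIdeal
  refine ⟨hW.fromSpec ''ᵁ (PrimeSpectrum.basicOpen f), ⟨p, hfp, rfl⟩, ?_⟩
  rintro y ⟨q, hq, rfl⟩ hyZ
  by_contra hlt
  have hd0 : depth (X.presheaf.stalk (hW.fromSpec q)) (M.presheaf.stalk (hW.fromSpec q)) = 0 := by
    rw [not_le] at hlt
    exact Order.lt_one_iff.mp hlt
  rw [depth_stalk_eq' M hW q] at hd0
  have hass := (Depth.depth_localization_eq_zero_iff q.asIdeal _).mp hd0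
  have hqp : q.asIdeal ≤ p.asIdeal := hf q.asIdeal hass hq
  exact hlt (h (hW.fromSpec q) ((fromSpec_specializes_iff hW q p).mpr hqp) hyZ)

/-- pulling a basis back to an open subscheme. -/
lemma isBasis_image_mem (W : X.Opens) (B : Set X.Opens) (hB : Opens.IsBasis B) :
    Opens.IsBasis {V'' : W.toScheme.Opens | W.ι ''ᵁ V'' ∈ B} := by
  rw [Opens.isBasis_iff_nbhd]
  intro U'' y hy
  have hx : W.ι.base y ∈ W.ι ''ᵁ U'' := ⟨y, hy, rfl⟩
  obtain ⟨O', hO'B, hxO', hO'le⟩ := (Opens.isBasis_iff_nbhd.mp hB) hx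
  have hle : W.ι ''ᵁ U'' ≤ W := by
    have h1 : W.ι ''ᵁ U'' ≤ W.ι ''ᵁ ⊤ := W.ι.image_mono le_top
    rwa [Scheme.Hom.image_top_eq_opensRange, Scheme.Opens.opensRange_ι] at h1
  have hO'W : O' ≤ W := hO'le.trans hle
  refine ⟨W.ι ⁻¹ᵁ O', ?_, hxO', ?_⟩
  · change W.ι ''ᵁ (W.ι ⁻¹ᵁ O') ∈ B
    rw [image_preimage_of_le hO'W]
    exact hO'B
  · intro z hz
    obtain ⟨z', hz', hzz'⟩ := hO'le hz
    have hzz : z' = z := W.ι.isOpenEmbedding.injective hzz'
    exact hzz ▸ hz'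

variable [IsLocallyNoetherian X] {Z : Set X} (hZ : StableUnderSpecialization Z)
include hZ

/-- if `depth F_y ≥ 2` at all points of `W ∩ Z` then `F|_W` is `(Z ∩ W)`-closed. -/
theorem isZClosed_restrict_of_depth (F : X.Modules) [F.IsQuasicoherent]
    [SheafOfModules.IsFiniteType.{u} F] (W : X.Opens)
    (h : ∀ y : X, y ∈ W → y ∈ Z →
      (2 : ℕ∞) ≤ depth (X.presheaf.stalk y) (F.presheaf.stalk y)) :
    ZClos.IsZClosed (X := W.toScheme) (W.ι.base ⁻¹' Z)
      ((Scheme.Modules.restrictFunctor W.ι).obj F) := by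
  refine Groth.Agent.S5843.isZClosed_of_forall_isIso _ _ (fun T' => ?_)
  change IsIso ((Scheme.Modules.restrictAdjunction T'.U.ι).unit.app _)
  rw [CohB.isIso_unit_iff]
  intro V'
  obtain ⟨T, hT⟩ := exists_cl_of_restrict hZ W T'
  refine Glue.resInf_bijective_of_basis (shf ((Scheme.Modules.restrictFunctor W.ι).obj F)) T'.U _
    (isBasis_image_mem W _ (CohB.isBasis_goodAffine F)) ?_ V'
  rintro V'' ⟨hW', hfin⟩
  have : IsNoetherianRing Γ(X, W.ι ''ᵁ V'') :=
    IsLocallyNoetherian.component_noetherian ⟨_, hW'⟩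
  have := hfin
  have hV''W : W.ι ''ᵁ V'' ≤ W := by
    have h1 : W.ι ''ᵁ V'' ≤ W.ι ''ᵁ ⊤ := W.ι.image_mono le_top
    rwa [Scheme.Hom.image_top_eq_opensRange, Scheme.Opens.opensRange_ι] at h1
  have h1 := CohB.res_bijective_of_isAffineOpen' F hW' T.U (fun y hyW' hyU => by
    have hyT : y ∈ (T.1 : Set X) := by
      by_contra hc
      exact hyU hc
    exact h y (hV''W hyW') (T.2 hyT))
  have h2 : Function.Bijective (res F (W.ι.image_mono (inf_le_left : V'' ⊓ T'.U ≤ V''))) :=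
    res_bijective_of_eq F _ (inf_le_left : W.ι ''ᵁ V'' ⊓ T.U ≤ W.ι ''ᵁ V'') rfl
      (image_inf_eq W T T' hT V'') h1
  exact h2

/-- if `F|_V` is `(Z ∩ V)`-closed then `depth F_{x'} ≥ 2` at all points of `V ∩ Z`. -/
theorem two_le_depth_of_isZClosed_restrict (F : X.Modules) [F.IsQuasicoherent]
    [SheafOfModules.IsFiniteType.{u} F] (V : X.Opens)
    (hV : ZClos.IsZClosed (X := V.toScheme) (V.ι.base ⁻¹' Z)
      ((Scheme.Modules.restrictFunctor V.ι).obj F))
    (x' : X) (hx'V : x' ∈ V) (hx'Z : x' ∈ Z) :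
    (2 : ℕ∞) ≤ depth (X.presheaf.stalk x') (F.presheaf.stalk x') := by
  obtain ⟨T, hT⟩ : ∃ T : ZClos.Cl Z, (T.1 : Set X) = closure {x'} :=
    ⟨⟨⟨closure {x'}, isClosed_closure⟩,
      fun y hy => hZ (specializes_iff_mem_closure.mpr hy) hx'Z⟩, rfl⟩
  obtain ⟨W', ⟨hW', hfin⟩, hxW', hW'V⟩ :=
    (Opens.isBasis_iff_nbhd.mp (CohB.isBasis_goodAffine F)) hx'V
  have : IsNoetherianRing Γ(X, W') := IsLocallyNoetherian.component_noetherian ⟨W', hW'⟩
  have := hfin
  have h0 : IsIso ((Scheme.Modules.restrictAdjunction (clPreimage V T).U.ι).unit.app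
      ((Scheme.Modules.restrictFunctor V.ι).obj F)) :=
    Groth.Agent.S5843.isIso_toDiagram_of_isZClosed _ _ hV (clPreimage V T)
  have h1 := (CohB.isIso_unit_iff _ _).mp h0 (V.ι ⁻¹ᵁ W')
  have h2 : Function.Bijective (res F (V.ι.image_mono
      (inf_le_left : V.ι ⁻¹ᵁ W' ⊓ (clPreimage V T).U ≤ V.ι ⁻¹ᵁ W'))) := h1
  have hbij : Function.Bijective (res F (inf_le_left : W' ⊓ T.U ≤ W')) := by
    refine res_bijective_of_eq F (inf_le_left : W' ⊓ T.U ≤ W') _
      (image_preimage_of_le hW'V).symm ?_ h2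
    rw [image_inf_eq V T (clPreimage V T) rfl, image_preimage_of_le hW'V]
  have hmem : x' ∈ (T.1 : Set X) := by
    rw [hT]
    exact subset_closure (Set.mem_singleton _)
  obtain ⟨q, hq⟩ := CohB.exists_fromSpec_eq hW' hxW'
  have h3 := CohB.two_le_depth_of_res_bijective_of_isAffineOpen F hW' T.U hbij q
    (fun hqU => hqU (by rw [hq]; exact hmem))
  rw [hq] at h3
  exact h3

/-- **openness of the Z-closedness locus** when the Z-closure is of finite type. -/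
theorem isOpen_depth_ge_two_locus (F : X.Modules) [F.IsQuasicoherent]
    [SheafOfModules.IsFiniteType.{u} F]
    [SheafOfModules.IsFiniteType.{u} ((ZClos.H0 Z).obj F)] :
    IsOpen {x : X | ∀ x' : X, x' ⤳ x → x' ∈ Z →
      (2 : ℕ∞) ≤ depth (X.presheaf.stalk x') (F.presheaf.stalk x')} := by
  rw [isOpen_iff_forall_mem_open]
  intro x hx
  obtain ⟨I, Wc, hcov, hWc⟩ :=
    CohB.exists_isOpenCover_generatingSections ((ZClos.H0 Z).obj F)
  obtain ⟨i, hi⟩ : ∃ i, x ∈ Wc i := by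
    have : x ∈ (⨆ i, Wc i : X.Opens) := by
      rw [IsOpenCover] at hcov
      rw [hcov]; trivial
    exact Opens.mem_iSup.mp this
  obtain ⟨W0, ⟨hW0, hfin⟩, hxW0, hW0le⟩ :
      ∃ W0 : X.Opens, W0 ∈ CohB.goodAffine F ∧ x ∈ W0 ∧ W0 ≤ Wc i :=
    (Opens.isBasis_iff_nbhd.mp (CohB.isBasis_goodAffine F)) hi
  obtain ⟨σ, hσ⟩ := hWc i W0 hW0le
  have : Finite σ.I := hσ.finite
  have hOW0 : W0.ι ''ᵁ (⊤ : W0.toScheme.Opens) ≤ W0 := by
    rw [Scheme.Hom.image_top_eq_opensRange, Scheme.Opens.opensRange_ι]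
  have hOc : ∀ O' : X.Opens, O' ≤ W0.ι ''ᵁ (⊤ : W0.toScheme.Opens) → IsCompact (O' : Set X) :=
    fun O' hO' => isCompact_of_le_isAffineOpen hW0 O' (hO'.trans hOW0)
  let g : σ.I → Γ((ZClos.H0 Z).obj F, W0.ι ''ᵁ (⊤ : W0.toScheme.Opens)) :=
    fun k => unitSec (((ZClos.H0 Z).obj F).restrict W0.ι) (SheafOfModules.ιFree k ≫ σ.π) ⊤
  obtain ⟨T, s, hs⟩ := exists_ιSec_eq_family Z F (W0.ι ''ᵁ (⊤ : W0.toScheme.Opens)) hOc g
  obtain ⟨W1, hxW1, hW1⟩ := CohB.exists_nhd_forall_depth_ge F (T.1 : Set X) T.1.isClosed x 2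
    (fun x' hx'x hx'T => by exact_mod_cast hx x' hx'x (T.2 hx'T))
  obtain ⟨W2, hxW2, hW2⟩ := exists_nhd_forall_depth_ge_one F Z x
    (fun x' hx'x hx'Z => le_trans (by norm_num) (hx x' hx'x hx'Z))
  refine ⟨((W0 ⊓ W1 ⊓ W2 : X.Opens) : Set X), ?_, (W0 ⊓ W1 ⊓ W2).2, ⟨⟨hxW0, hxW1⟩, hxW2⟩⟩
  intro y hy y' hy'y hy'Z
  have hy' : y' ∈ W0 ⊓ W1 ⊓ W2 := hy'y.mem_open (W0 ⊓ W1 ⊓ W2).2 hy
  by_cases hy'T : y' ∈ (T.1 : Set X)
  · exact_mod_cast hW1 y' hy'.1.2 hy'T
  · have hpure : ZClos.IsZPureAt Z F y' := Groth.Agent.S5855.isZPureAt_of_depth Z F y'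
      (fun x'' hx'' hZ'' => hW2 x'' (hx''.mem_open W2.2 hy'.2) hZ'')
    have hsurj : Function.Surjective (ZClos.rhoStalk Z F y') := by
      have hy'W0 : y' ∈ W0 := hy'.1.1
      have key : Function.Surjective ((stalkF (⟨y', hy'W0⟩ : W0.toScheme)).map
          ((Scheme.Modules.restrictFunctor W0.ι).map (ZClos.rhoApp Z F))) := by
        refine stalk_surjective_of_generatingSections _ σ _ (fun k => ?_)
        have hle : W0.ι ''ᵁ (W0.ι ⁻¹ᵁ T.U) ≤
            T.U.ι ''ᵁ T.U.ι ⁻¹ᵁ (W0.ι ''ᵁ (⊤ : W0.toScheme.Opens)) := by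
          rw [ZClos.ι_image_preimage, ZClos.ι_image_preimage]
          rintro z ⟨hzW, hzT⟩
          exact ⟨hzT, ⟨⟨z, hzW⟩, trivial, rfl⟩⟩
        refine ⟨W0.ι ⁻¹ᵁ T.U, hy'T, res F hle (s k), ?_⟩
        refine (restrictFunctor_map_app W0.ι (ZClos.rhoApp Z F) (W0.ι ⁻¹ᵁ T.U)
          (res F hle (s k))).trans ?_
        refine (res_ιSec_eq_rhoApp Z F T (W0.ι ''ᵁ (⊤ : W0.toScheme.Opens))
          (W0.ι ''ᵁ (W0.ι ⁻¹ᵁ T.U)) hle (s k)).symm.trans ?_
        refine (congrArg (fun z => res ((ZClos.H0 Z).obj F)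
          (hle.trans (ip_le T.U (W0.ι ''ᵁ (⊤ : W0.toScheme.Opens)))) z) (hs k)).trans ?_
        exact unitSec_res (((ZClos.H0 Z).obj F).restrict W0.ι) (SheafOfModules.ιFree k ≫ σ.π)
          (le_top : W0.ι ⁻¹ᵁ T.U ≤ ⊤)
      exact stalk_map_surjective_of_restrict W0.ι (ZClos.rhoApp Z F) ⟨y', hy'W0⟩ key
    exact Groth.Agent.S5856.depth_of_isZClosedAt Z hZ F y' ⟨hpure, hsurj⟩ y' specializes_rfl hy'Z

end Local

end Groth.Agent.Lib.helper9.ZC
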