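import Groth.Agent.Lib.helper9.CohB1

/-!
# Finite type sheaves of modules: finitely many generating sections on affine opens
-/

universe u

open AlgebraicGeometry CategoryTheory Opposite TopologicalSpace Limits

namespace Groth.Agent.Lib.helper9.CohB

open Scheme.Modules

set_option backward.isDefEq.respectTransparency false in
/-- restriction of generating sections along an open immersion. -/
noncomputable def generatingSectionsRestrict {X Y : Scheme.{u}} (f : Y ⟶ X)
    [IsOpenImmersion f] {M : X.Modules} (σ : M.GeneratingSections) :
    (M.restrict f).GeneratingSections :=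
  have : PreservesColimitsOfSize.{u, u} (Scheme.Modules.restrictFunctor f) :=
    inferInstance
  σ.map (Scheme.Modules.restrictFunctor.{u} f) (Scheme.Modules.restrictUnitIso _).symm

instance {X Y : Scheme.{u}} (f : Y ⟶ X)
    [IsOpenImmersion f] {M : X.Modules} (σ : M.GeneratingSections) [σ.IsFiniteType] :
    (generatingSectionsRestrict f σ).IsFiniteType where
  finite := inferInstanceAs (Finite σ.I)

set_option backward.isDefEq.respectTransparency false in
/-- a sheaf of modules of finite type is generated by finitely many sections on every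
sufficiently small open. -/
lemma exists_isOpenCover_generatingSections {X : Scheme.{u}} (M : X.Modules)
    [SheafOfModules.IsFiniteType.{u} M] :
    ∃ (I : Type u) (W : I → X.Opens), IsOpenCover W ∧ ∀ (i : I) (U : X.Opens), U ≤ W i →
      ∃ σ : (M.restrict U.ι).GeneratingSections, σ.IsFiniteType := by
  obtain ⟨⟨I, W, cov, gens⟩, hfin⟩ := SheafOfModules.IsFiniteType.exists_localGeneratorsData M
  refine ⟨I, W, ?_, ?_⟩
  · rw [Opens.coversTop_iff, IsOpenCover] at cov
    exact cov
  · intro i U hU
    let u := X.homOfLE hU
    have : PreservesColimitsOfSize.{u, u} (restrictFunctor u) := inferInstance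
    let F := (overEquiv (W i)).functor ⋙ restrictFunctor u
    let iso : SheafOfModules.overFunctor X.ringCatSheaf _ ⋙ F ≅ restrictFunctor
      (Scheme.Opens.ι U) := (Functor.associator _ _ _).symm ≪≫
        Functor.isoWhiskerRight (Scheme.Modules.overFunctorEquiv _) _ ≪≫
        (restrictFunctorComp _ _).symm ≪≫ (restrictFunctorCongr (by simp [u]))
    have : (gens i).IsFiniteType := hfin.isFiniteType i
    refine ⟨((gens i).map F (Scheme.Modules.restrictUnitIso _).symm).ofEpi (iso.app M).hom, ?_⟩
    exact ⟨inferInstanceAs (Finite (gens i).I)⟩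

set_option backward.isDefEq.respectTransparency false in
/-- transfer of finitely many generating sections from `U` to `Spec Γ(X, U)`. -/
lemma exists_fromSpec_generatingSections {X : Scheme.{u}} (M : X.Modules) {U : X.Opens}
    (hU : IsAffineOpen U) (σ : (M.restrict U.ι).GeneratingSections) [σ.IsFiniteType] :
    ∃ τ : (M.restrict hU.fromSpec).GeneratingSections, τ.IsFiniteType :=
  ⟨(generatingSectionsRestrict hU.isoSpec.inv σ).ofEpi ((restrictFunctorComp _ _).app M).inv,
    ⟨inferInstanceAs (Finite σ.I)⟩⟩

/-- the affine opens on which a module has finitely generated sections (computed on the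
spectrum of the coordinate ring). -/
def goodAffine {X : Scheme.{u}} (M : X.Modules) : Set X.Opens :=
  {U | ∃ hU : IsAffineOpen U, Module.Finite Γ(X, U) (Γmod (M.restrict hU.fromSpec))}

/-- On a scheme, for a quasi-coherent module of finite type the affine opens with finitely
generated module of sections form a basis. -/
lemma isBasis_goodAffine {X : Scheme.{u}} (M : X.Modules)
    [M.IsQuasicoherent] [SheafOfModules.IsFiniteType.{u} M] :
    Opens.IsBasis (goodAffine M) := by
  obtain ⟨I, W, hcov, hW⟩ := exists_isOpenCover_generatingSections M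
  rw [Opens.isBasis_iff_nbhd]
  intro V x hxV
  obtain ⟨i, hi⟩ : ∃ i, x ∈ W i := by
    have : x ∈ (⨆ i, W i : X.Opens) := by
      rw [IsOpenCover] at hcov
      rw [hcov]; trivial
    exact Opens.mem_iSup.mp this
  obtain ⟨U, hUaff, hxU, hUle⟩ := (Opens.isBasis_iff_nbhd.mp X.isBasis_affineOpens)
    (show x ∈ V ⊓ W i from ⟨hxV, hi⟩)
  refine ⟨U, ?_, hxU, hUle.trans inf_le_left⟩
  obtain ⟨σ, hσ⟩ := hW i U (hUle.trans inf_le_right)
  obtain ⟨τ, hτ⟩ := exists_fromSpec_generatingSections M hUaff σ
  exact ⟨hUaff, finite_Γmod_of_generatingSections _ τ⟩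

end Groth.Agent.Lib.helper9.CohB
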