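import Groth.Agent.Lib.helper9.ZC5
import Mathlib.AlgebraicGeometry.Noetherian
import Mathlib.Topology.Sober
import Mathlib.Topology.NoetherianSpace

/-!
# Closures of locally closed subsets of `Z`; sections vanishing off `Z`
-/

universe u

open CategoryTheory CategoryTheory.Limits AlgebraicGeometry TopologicalSpace Opposite

namespace Groth.Agent.Lib.helper9.ZC

section Top

variable {Y : Type*} [TopologicalSpace Y] [NoetherianSpace Y] [QuasiSober Y]

/-- in a Noetherian quasi-sober space, a point of the closure of an open set is a specialization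
of a point of that set. -/
lemma exists_specializes_of_mem_closure_of_isOpen {S : Set Y} (hS : IsOpen S) {y : Y}
    (hy : y ∈ closure S) : ∃ η ∈ S, η ⤳ y := by
  classical
  have hfin : {t ∈ irreducibleComponents Y | (t ∩ S).Nonempty}.Finite :=
    (NoetherianSpace.finite_irreducibleComponents).subset (Set.sep_subset _ _)
  have hcl : IsClosed (⋃₀ {t ∈ irreducibleComponents Y | (t ∩ S).Nonempty}) := by
    rw [Set.sUnion_eq_biUnion]
    exact hfin.isClosed_biUnion (fun t ht => isClosed_of_mem_irreducibleComponents t ht.1)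
  have hsub : S ⊆ ⋃₀ {t ∈ irreducibleComponents Y | (t ∩ S).Nonempty} := by
    intro z hz
    have h1 : z ∈ ⋃₀ irreducibleComponents Y := by
      rw [sUnion_irreducibleComponents]
      trivial
    obtain ⟨t, ht, hzt⟩ := h1
    exact ⟨t, ⟨ht, ⟨z, hzt, hz⟩⟩, hzt⟩
  obtain ⟨t, ⟨ht, hne⟩, hyt⟩ := (closure_minimal hsub hcl) hy
  obtain ⟨η, hη⟩ := QuasiSober.sober ht.1 (isClosed_of_mem_irreducibleComponents t ht)
  exact ⟨η, (hη.mem_open_set_iff hS).mpr hne, hη.specializes hyt⟩

/-- the same for a locally closed set. -/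
lemma exists_specializes_of_mem_closure_of_isLocallyClosed {G A : Set Y} (hG : IsOpen G)
    (hA : IsClosed A) {y : Y} (hy : y ∈ closure (G ∩ A)) : ∃ η ∈ G ∩ A, η ⤳ y := by
  have hyA : y ∈ A := (closure_minimal Set.inter_subset_right hA) hy
  haveI : QuasiSober A := hA.isClosedEmbedding_subtypeVal.quasiSober
  have hopen : IsOpen {z : A | (z : Y) ∈ G} := hG.preimage continuous_subtype_val
  have hy' : (⟨y, hyA⟩ : A) ∈ closure {z : A | (z : Y) ∈ G} := by
    rw [closure_subtype]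
    refine closure_mono ?_ hy
    rintro z ⟨hzG, hzA⟩
    exact ⟨⟨z, hzA⟩, hzG, rfl⟩
  obtain ⟨η, hηG, hηy⟩ := exists_specializes_of_mem_closure_of_isOpen hopen hy'
  exact ⟨η.1, ⟨hηG, η.2⟩, (subtype_specializes_iff η ⟨y, hyA⟩).mp hηy⟩

end Top

variable {X : Scheme.{u}}

/-- **Top1**: in a locally Noetherian scheme, the closure of a locally closed subset of a set `Z`
stable under specialization is contained in `Z`. -/
theorem closure_subset_of_stableUnderSpecialization [IsLocallyNoetherian X] {Z : Set X}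
    (hZ : StableUnderSpecialization Z) {G A : Set X} (hG : IsOpen G) (hA : IsClosed A)
    (h : G ∩ A ⊆ Z) : closure (G ∩ A) ⊆ Z := by
  intro y hy
  obtain ⟨W, hW, hyW, -⟩ := (Opens.isBasis_iff_nbhd.mp X.isBasis_affineOpens)
    (show y ∈ (⊤ : X.Opens) from trivial)
  haveI : IsNoetherianRing Γ(X, W) := IsLocallyNoetherian.component_noetherian ⟨W, hW⟩
  haveI : NoetherianSpace {z : X // z ∈ W} := noetherianSpace_of_isAffineOpen W hW
  haveI : QuasiSober {z : X // z ∈ W} := W.isOpenEmbedding'.quasiSober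
  have hG' : IsOpen {z : W | (z : X) ∈ G} := hG.preimage continuous_subtype_val
  have hA' : IsClosed {z : W | (z : X) ∈ A} := hA.preimage continuous_subtype_val
  have hy' : (⟨y, hyW⟩ : W) ∈ closure ({z : W | (z : X) ∈ G} ∩ {z : W | (z : X) ∈ A}) := by
    rw [closure_subtype]
    have h1 : (W : Set X) ∩ closure (G ∩ A) ⊆ closure ((W : Set X) ∩ (G ∩ A)) :=
      W.2.inter_closure
    refine closure_mono ?_ (h1 ⟨hyW, hy⟩)
    rintro z ⟨hzW, hzG, hzA⟩
    exact ⟨⟨z, hzW⟩, ⟨hzG, hzA⟩, rfl⟩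
  obtain ⟨η, ⟨hηG, hηA⟩, hηy⟩ :=
    exists_specializes_of_mem_closure_of_isLocallyClosed hG' hA' hy'
  exact hZ ((subtype_specializes_iff η ⟨y, hyW⟩).mp hηy) (h ⟨hηG, hηA⟩)

/-- the vanishing locus of the germs of a section is open. -/
lemma isOpen_germ_eq_zero (M : X.Modules) (G : X.Opens) (s : Γ(M, G)) :
    IsOpen {y : X | ∃ hy : y ∈ G, M.presheaf.germ G y hy s = 0} := by
  rw [isOpen_iff_forall_mem_open]
  rintro y ⟨hy, h0⟩
  have h1 : M.presheaf.germ G y hy s = M.presheaf.germ G y hy 0 := h0.trans (map_zero _).symm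
  obtain ⟨W, hyW, iU, iV, hW⟩ := TopCat.Presheaf.germ_eq _ y hy hy _ _ h1
  refine ⟨W, ?_, W.2, hyW⟩
  intro y' hy'
  refine ⟨iU.le hy', ?_⟩
  refine (germ_res M iU.le y' hy' s).symm.trans ?_
  have h2 : res M iU.le s = 0 := (map_eq_res M iU s).symm.trans (hW.trans (map_zero _))
  rw [h2]
  exact map_zero _

/-- a section over `G` whose germs vanish outside `Z` vanishes on `U_T ∩ G` for some closed
`T ⊆ Z`. -/
theorem exists_res_eq_zero_of_germ_eq_zero_off [IsLocallyNoetherian X] {Z : Set X}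
    (hZ : StableUnderSpecialization Z) (M : X.Modules) (G : X.Opens) (s : Γ(M, G))
    (h : ∀ (y : X) (hy : y ∈ G), y ∉ Z → M.presheaf.germ G y hy s = 0) :
    ∃ T : ZClos.Cl Z, ∀ (V : X.Opens) (hV : V ≤ G), V ≤ T.U → res M hV s = 0 := by
  have hopen := isOpen_germ_eq_zero M G s
  have hC : (G : Set X) ∩ {y : X | ∃ hy : y ∈ G, M.presheaf.germ G y hy s = 0}ᶜ ⊆ Z := by
    rintro y ⟨hyG, hyN⟩
    by_contra hyZ
    exact hyN ⟨hyG, h y hyG hyZ⟩
  have hcl := closure_subset_of_stableUnderSpecialization hZ G.2 hopen.isClosed_compl hC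
  refine ⟨⟨⟨closure ((G : Set X) ∩
    {y : X | ∃ hy : y ∈ G, M.presheaf.germ G y hy s = 0}ᶜ), isClosed_closure⟩, hcl⟩, ?_⟩
  intro V hV hVT
  refine eq_zero_of_germ_eq_zero M V _ (fun y hy => ?_)
  refine (germ_res M hV y hy s).trans ?_
  have hyT : y ∉ closure ((G : Set X) ∩
      {y : X | ∃ hy : y ∈ G, M.presheaf.germ G y hy s = 0}ᶜ) := hVT hy
  by_contra hne
  apply hyT
  apply subset_closure
  refine ⟨hV hy, ?_⟩
  rintro ⟨_, h0⟩
  exact hne h0

variable (Z : Set X)

/-- the action of `H⁰_{X/Z}(u)` on stalks, in terms of representatives. -/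
lemma H0map_rep {F F' : X.Modules} (u : F ⟶ F') (x : X) (T : ZClos.Cl Z) (V : X.Opens)
    (hx : x ∈ V) (s : Γ(F, T.U.ι ''ᵁ T.U.ι ⁻¹ᵁ V)) :
    (stalkF x).map ((ZClos.H0 Z).map u) (rep Z F x T V hx s) =
      rep Z F' x T V hx (u.app (T.U.ι ''ᵁ T.U.ι ⁻¹ᵁ V) s) := by
  have h1 : colimit.ι ((ZClos.diagram Z).obj F) T ≫ (ZClos.H0 Z).map u =
      (ZClos.resPush T.U).map u ≫ colimit.ι ((ZClos.diagram Z).obj F') T :=
    ι_colimMap ((ZClos.diagram Z).map u) T
  have h2 : (stalkF x).map (colimit.ι ((ZClos.diagram Z).obj F) T) ≫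
      (stalkF x).map ((ZClos.H0 Z).map u) =
      (stalkF x).map ((ZClos.resPush T.U).map u) ≫
        (stalkF x).map (colimit.ι ((ZClos.diagram Z).obj F') T) := by
    rw [← Functor.map_comp, ← Functor.map_comp]
    exact congrArg (fun φ => (stalkF x).map φ) h1
  have h3 := congrArg (fun φ => (ConcreteCategory.hom φ)
    (((ZClos.resPush T.U).obj F).presheaf.germ V x hx s)) h2
  refine h3.trans ?_
  unfold rep
  exact congrArg (ιStalk Z F' x T) (TopCat.Presheaf.stalkFunctor_map_germ_apply V x hx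
    ((ZClos.resPush T.U).map u).mapPresheaf s)

end Groth.Agent.Lib.helper9.ZC
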