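import Groth.Agent.Lib.helper9.Depth13
import Groth.Agent.Lib.helper9.DepthHom

/-!
# `depth M_s ≤ depth M_p + ht(s/p)`
-/

universe u

open CategoryTheory RingTheory.Sequence Pointwise

namespace Groth.Agent.Lib.helper9.Depth

open LocCoh

section Units

variable {S : Type u} [CommRing S]

lemma isSMulRegular_unit_mul {N : Type u} [AddCommGroup N] [Module S N] {u y : S} (hu : IsUnit u)
    (hy : IsSMulRegular N y) : IsSMulRegular N (u * y) := by
  intro a b hab
  apply hy
  obtain ⟨v, rfl⟩ := hu
  have h1 : (↑v⁻¹ : S) • ((↑v * y) • a) = (↑v⁻¹ : S) • ((↑v * y) • b) := congrArg _ hab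
  rwa [smul_smul, smul_smul, ← mul_assoc, Units.inv_mul, one_mul] at h1

lemma unit_mul_smul_top {N : Type u} [AddCommGroup N] [Module S N] {u : S} (y : S) (hu : IsUnit u) :
    (u * y) • (⊤ : Submodule S N) = y • (⊤ : Submodule S N) := by
  obtain ⟨v, rfl⟩ := hu
  apply le_antisymm
  · intro m hm
    rw [Submodule.mem_smul_pointwise_iff_exists] at hm ⊢
    obtain ⟨n, -, rfl⟩ := hm
    exact ⟨(↑v : S) • n, trivial, by rw [smul_smul, mul_comm]⟩
  · intro m hm
    rw [Submodule.mem_smul_pointwise_iff_exists] at hm ⊢
    obtain ⟨n, -, rfl⟩ := hm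
    refine ⟨(↑v⁻¹ : S) • n, trivial, ?_⟩
    rw [smul_smul, mul_comm (↑v : S) y, mul_assoc, Units.mul_inv, mul_one]

end Units

section Lift

variable {R : Type u} [CommRing R] (s : Ideal R) [s.IsPrime]

/-- A weakly regular sequence over `R_s` contained in `p R_s` can be replaced by (the image of) a
sequence of elements of `p`. -/
lemma exists_lift_isWeaklyRegular (p : Ideal R) [p.IsPrime] (hps : p ≤ s) :
    ∀ (ys : List (Localization.AtPrime s)) (N : Type u) [AddCommGroup N]
      [Module (Localization.AtPrime s) N],
      IsWeaklyRegular N ys →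
      (∀ y ∈ ys, y ∈ p.map (algebraMap R (Localization.AtPrime s))) →
      ∃ xs : List R, xs.length = ys.length ∧ (∀ x ∈ xs, x ∈ p) ∧
        IsWeaklyRegular N (xs.map (algebraMap R (Localization.AtPrime s))) := by
  intro ys
  induction ys with
  | nil =>
    intro N _ _ _ _
    exact ⟨[], rfl, by simp, by simp⟩
  | cons y ys ih =>
    intro N _ _ hreg hmem
    rw [isWeaklyRegular_cons_iff] at hreg
    obtain ⟨xs, hlen, hxs, hxsreg⟩ := ih (QuotSMulTop y N) hreg.2
      (fun z hz => hmem z (List.mem_cons_of_mem _ hz))
    obtain ⟨x, t, hxt⟩ := IsLocalization.exists_mk'_eq s.primeCompl y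
    have hy : y ∈ p.map (algebraMap R (Localization.AtPrime s)) := hmem y List.mem_cons_self
    have hux : algebraMap R (Localization.AtPrime s) x =
        algebraMap R (Localization.AtPrime s) t * y := by
      rw [← hxt, IsLocalization.mk'_spec']
    have hu : IsUnit (algebraMap R (Localization.AtPrime s) (t : R)) :=
      IsLocalization.map_units _ t
    have hxp : x ∈ p := by
      have h1 : algebraMap R (Localization.AtPrime s) x ∈
          p.map (algebraMap R (Localization.AtPrime s)) := by
        rw [hux]
        exact Ideal.mul_mem_left _ _ hy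
      have hdisj : Disjoint (s.primeCompl : Set R) (p : Set R) := by
        rw [Set.disjoint_left]
        intro z hz hzp
        exact hz (hps hzp)
      have h2 := IsLocalization.under_map_of_isPrime_disjoint s.primeCompl
        (Localization.AtPrime s) (I := p) inferInstance hdisj
      rw [← h2]
      exact h1
    refine ⟨x :: xs, by simp [hlen], ?_, ?_⟩
    · intro z hz
      rcases List.mem_cons.mp hz with rfl | hz
      · exact hxp
      · exact hxs z hz
    · rw [List.map_cons, isWeaklyRegular_cons_iff, hux]
      refine ⟨isSMulRegular_unit_mul hu hreg.1, ?_⟩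
      have e : QuotSMulTop y N ≃ₗ[Localization.AtPrime s]
          QuotSMulTop (algebraMap R (Localization.AtPrime s) t * y) N :=
        Submodule.quotEquivOfEq _ _ (unit_mul_smul_top y hu).symm
      exact (e.isWeaklyRegular_congr _).mp hxsreg

/-- `depth_{pR_s} M_s ≤ depth M_p` for `p ⊆ s`. -/
theorem idealDepth_map_le_depth_localization [IsNoetherianRing R] (p : Ideal R) [p.IsPrime]
    (hps : p ≤ s) (M : Type u) [AddCommGroup M] [Module R M] [Module.Finite R M] :
    idealDepth (p.map (algebraMap R (Localization.AtPrime s))) (LocalizedModule s.primeCompl M) ≤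
      depth (Localization.AtPrime p) (LocalizedModule p.primeCompl M) := by
  rw [← ENat.forall_natCast_le_iff_le]
  intro n hn
  obtain ⟨ys, hlen, hreg, hmem⟩ := DepthHom.exists_of_le_idealDepth n hn
  obtain ⟨xs, hlen', hxs, hxsreg⟩ := exists_lift_isWeaklyRegular s p hps ys _ hreg hmem
  have h1 : IsWeaklyRegular (LocalizedModule s.primeCompl M) xs :=
    (isWeaklyRegular_map_algebraMap_iff (Localization.AtPrime s) _ xs).mp hxsreg
  have hle : s.primeCompl ≤ p.primeCompl := fun z hz hzp => hz (hps hzp)
  have h2 : IsWeaklyRegular (LocalizedModule p.primeCompl M)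
      (xs.map (algebraMap R (Localization.AtPrime p))) :=
    h1.of_isLocalizedModule (Localization.AtPrime p) p.primeCompl
      (LocalizedModule.liftOfLE s.primeCompl p.primeCompl hle)
  have hmem' : ∀ r ∈ xs.map (algebraMap R (Localization.AtPrime p)),
      r ∈ IsLocalRing.maximalIdeal (Localization.AtPrime p) := by
    intro r hr
    obtain ⟨a, ha, rfl⟩ := List.mem_map.mp hr
    exact (IsLocalization.AtPrime.to_map_mem_maximal_iff (Localization.AtPrime p) p a).mpr
      (hxs a ha)
  have := length_le_idealDepth h2 hmem'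
  rw [List.length_map, hlen', hlen] at this
  exact this

/-- `dim R_s/pR_s ≤ ht(s/p)`. -/
theorem ringKrullDim_quotient_map_le_height (p : Ideal R) [p.IsPrime] (hps : p ≤ s) :
    ringKrullDim (Localization.AtPrime s ⧸ p.map (algebraMap R (Localization.AtPrime s))) ≤
      (((s.map (Ideal.Quotient.mk p)).height : ℕ∞) : WithBot ℕ∞) := by
  have hker : RingHom.ker (Ideal.Quotient.mk p) ≤ s := by rw [Ideal.mk_ker]; exact hps
  have hsprime : (s.map (Ideal.Quotient.mk p)).IsPrime :=
    Ideal.map_isPrime_of_surjective Ideal.Quotient.mk_surjective hker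
  let S' : PrimeSpectrum (R ⧸ p) := ⟨s.map (Ideal.Quotient.mk p), hsprime⟩
  have h1 : (s.map (Ideal.Quotient.mk p)).height = Order.height S' :=
    PrimeSpectrum.height_eq_orderHeight S'
  rw [ringKrullDim_quotient, h1, Order.height_eq_krullDim_Iic]
  have hmax : Ideal.comap (algebraMap R (Localization.AtPrime s))
      (IsLocalRing.maximalIdeal (Localization.AtPrime s)) = s :=
    Localization.AtPrime.under_maximalIdeal
  -- properties of the contraction of a prime containing `p R_s`
  have hQ : ∀ Q : PrimeSpectrum.zeroLocus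
      ((p.map (algebraMap R (Localization.AtPrime s)) : Ideal _) : Set (Localization.AtPrime s)),
      p ≤ Q.1.asIdeal.comap (algebraMap R (Localization.AtPrime s)) ∧
        Q.1.asIdeal.comap (algebraMap R (Localization.AtPrime s)) ≤ s := by
    intro Q
    constructor
    · rw [← Ideal.map_le_iff_le_comap]
      exact (PrimeSpectrum.mem_zeroLocus _ _).mp Q.2
    · exact (Ideal.comap_mono (IsLocalRing.le_maximalIdeal Q.1.isPrime.ne_top)).trans hmax.le
  have hprime : ∀ Q : PrimeSpectrum.zeroLocus
      ((p.map (algebraMap R (Localization.AtPrime s)) : Ideal _) : Set (Localization.AtPrime s)),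
      ((Q.1.asIdeal.comap (algebraMap R (Localization.AtPrime s))).map
        (Ideal.Quotient.mk p)).IsPrime := by
    intro Q
    exact Ideal.map_isPrime_of_surjective Ideal.Quotient.mk_surjective
      (by rw [Ideal.mk_ker]; exact (hQ Q).1)
  refine Order.krullDim_le_of_strictMono
    (fun Q => (⟨⟨_, hprime Q⟩, Ideal.map_mono (hQ Q).2⟩ : Set.Iic S')) ?_
  intro Q Q' hlt
  have hlt' : Q.1 < Q'.1 := hlt
  have hle : Q.1.asIdeal ≤ Q'.1.asIdeal := hlt'.le
  rw [← Subtype.coe_lt_coe]
  refine lt_of_le_of_ne ?_ ?_
  · exact Ideal.map_mono (Ideal.comap_mono hle)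
  · intro heq
    have heq' : (Q.1.asIdeal.comap (algebraMap R (Localization.AtPrime s))).map
        (Ideal.Quotient.mk p) = (Q'.1.asIdeal.comap (algebraMap R (Localization.AtPrime s))).map
        (Ideal.Quotient.mk p) := congrArg PrimeSpectrum.asIdeal heq
    have h2 := congrArg (Ideal.comap (Ideal.Quotient.mk p)) heq'
    rw [Ideal.comap_map_of_surjective _ Ideal.Quotient.mk_surjective,
      Ideal.comap_map_of_surjective _ Ideal.Quotient.mk_surjective,
      ← RingHom.ker_eq_comap_bot, Ideal.mk_ker, sup_eq_left.mpr (hQ Q).1,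
      sup_eq_left.mpr (hQ Q').1] at h2
    have h3 : Q.1 = Q'.1 :=
      PrimeSpectrum.localization_comap_injective (Localization.AtPrime s) s.primeCompl
        (PrimeSpectrum.ext h2)
    exact hlt'.ne h3

/-- `depth M_s ≤ depth M_p + ht(s/p)` for primes `p ⊆ s`. -/
theorem depth_localization_le_depth_add_height [IsNoetherianRing R] (p : Ideal R) [p.IsPrime]
    (hps : p ≤ s) (M : Type u) [AddCommGroup M] [Module R M] [Module.Finite R M] :
    depth (Localization.AtPrime s) (LocalizedModule s.primeCompl M) ≤
      depth (Localization.AtPrime p) (LocalizedModule p.primeCompl M) +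
        (s.map (Ideal.Quotient.mk p)).height := by
  by_cases hMp : Subsingleton (LocalizedModule p.primeCompl M)
  · have : depth (Localization.AtPrime p) (LocalizedModule p.primeCompl M) = ⊤ :=
      idealDepth_eq_top _ _ (Subsingleton.elim _ _)
    rw [this, top_add]
    exact le_top
  · rw [not_subsingleton_iff_nontrivial] at hMp
    have hp : (⟨p, inferInstance⟩ : PrimeSpectrum R) ∈ Module.support R M :=
      Module.mem_support_iff.mpr hMp
    have hs : (⟨s, inferInstance⟩ : PrimeSpectrum R) ∈ Module.support R M :=
      Module.mem_support_mono (p := ⟨p, inferInstance⟩) (q := ⟨s, inferInstance⟩) hps hp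
    have hMs : Nontrivial (LocalizedModule s.primeCompl M) := Module.mem_support_iff.mp hs
    have hne : p.map (algebraMap R (Localization.AtPrime s)) ≠ ⊤ := by
      intro h
      have := map_le_maximalIdeal_of_le s hps
      rw [h] at this
      exact (Ideal.IsPrime.ne_top inferInstance) (top_le_iff.mp this)
    have h1 := depth_le_idealDepth_add_dim (R := Localization.AtPrime s) _ hne
      (LocalizedModule s.primeCompl M)
    have h2 := idealDepth_map_le_depth_localization s p hps M
    have h3 := ringKrullDim_quotient_map_le_height s p hps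
    have h2' : ((idealDepth (p.map (algebraMap R (Localization.AtPrime s)))
        (LocalizedModule s.primeCompl M) : ℕ∞) : WithBot ℕ∞) ≤
        ((depth (Localization.AtPrime p) (LocalizedModule p.primeCompl M) : ℕ∞) : WithBot ℕ∞) := by
      exact_mod_cast h2
    have h4 := h1.trans (add_le_add h2' h3)
    exact_mod_cast h4

end Lift

end Groth.Agent.Lib.helper9.Depth
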