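import Groth.Agent.Lib.helper9.LocFree6

/-!
# Sections of quasi-coherent modules over basic opens of affine opens

For `F` quasi-coherent on a scheme `X`, `W` an affine open and `a ∈ Γ(X, W)`, the restriction
`Γ(F, W) → Γ(F, X_a)` is a localization at `a`, in elementwise form.
-/

universe u

open AlgebraicGeometry CategoryTheory Opposite TopologicalSpace Limits

namespace Groth.Agent.Lib.helper9.QcohLoc

open Scheme.Modules Groth.Agent.Lib.helper9.CohB Groth.Agent.Lib.helper9.AffSect
  Groth.Agent.Lib.helper9.LocFree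

variable {X : Scheme.{u}}

lemma image_le {W : X.Opens} (hW : IsAffineOpen W) (D : (Spec Γ(X, W)).Opens) :
    hW.fromSpec ''ᵁ D ≤ W := by
  rintro _ ⟨q, -, rfl⟩
  have h : hW.fromSpec q ∈ Set.range hW.fromSpec := ⟨q, rfl⟩
  rw [hW.range_fromSpec] at h
  exact h

set_option backward.isDefEq.respectTransparency false in
lemma key_hom_D {W : X.Opens} (hW : IsAffineOpen W) (D : (Spec Γ(X, W)).Opens) :
    (Scheme.ΓSpecIso Γ(X, W)).inv ≫ (Spec Γ(X, W)).presheaf.map D.leTop.op ≫
      (hW.fromSpec.appIso D).inv = X.presheaf.map (homOfLE (image_le hW D)).op := by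
  rw [Scheme.Hom.appIso_inv_naturality, ← Category.assoc, key_hom hW, ← Functor.map_comp]
  exact congrArg X.presheaf.map (Subsingleton.elim _ _)

variable (F : X.Modules) {W : X.Opens} (hW : IsAffineOpen W)

set_option backward.isDefEq.respectTransparency false in
/-- the action of the coordinate ring on the sections of the restriction to the spectrum. -/
lemma smul_D (D : (Spec Γ(X, W)).Opens) (a : Γ(X, W)) (n : Γ(F.restrict hW.fromSpec, D)) :
    (a • n : Γ(F.restrict hW.fromSpec, D)) =
      ((X.presheaf.map (homOfLE (image_le hW D)).op a) •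
          (show Γ(F, hW.fromSpec ''ᵁ D) from n) : Γ(F, hW.fromSpec ''ᵁ D)) := by
  have h1 : (a • n : Γ(F.restrict hW.fromSpec, D)) =
      ((hW.fromSpec.appIso D).inv (((Spec Γ(X, W)).presheaf.map D.leTop.op)
        ((Scheme.ΓSpecIso Γ(X, W)).inv a)) •
          (show Γ(F, hW.fromSpec ''ᵁ D) from n) : Γ(F, hW.fromSpec ''ᵁ D)) := rfl
  rw [h1, ← key_hom_D hW D]
  rfl

set_option backward.isDefEq.respectTransparency false in
lemma sectEquiv_symm_apply (t : Γ(F, W)) :
    (show Γ(F, hW.fromSpec ''ᵁ ⊤) from (sectEquiv F hW).symm t) =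
      F.presheaf.map (homOfLE (le_of_eq (image_top hW))).op t := by
  have hR : (sectEquiv F hW) (F.presheaf.map (homOfLE (le_of_eq (image_top hW))).op t) = t := by
    show F.presheaf.map (homOfLE (le_of_eq (image_top hW).symm)).op
      (F.presheaf.map (homOfLE (le_of_eq (image_top hW))).op t) = t
    rw [Groth.Agent.Lib.helper9.ZC.map_map_op F _ _ (homOfLE (le_refl W)) t]
    have h : (homOfLE (le_refl W)).op = 𝟙 (op W) := rfl
    rw [h, F.presheaf.map_id]
    rfl
  apply (sectEquiv F hW).injective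
  rw [hR]
  exact (sectEquiv F hW).apply_symm_apply t

set_option backward.isDefEq.respectTransparency false in
lemma resBasic_apply (a : Γ(X, W)) (t' : Γmod (F.restrict hW.fromSpec)) :
    (show Γ(F, hW.fromSpec ''ᵁ (basicOpenS a)) from resBasic (F.restrict hW.fromSpec) a t') =
      F.presheaf.map (hW.fromSpec.opensFunctor.map (basicOpenS a).leTop).op
        (show Γ(F, hW.fromSpec ''ᵁ ⊤) from t') := rfl

set_option backward.isDefEq.respectTransparency false in
/-- (Q2) a section over an affine open `W` vanishing on `X_a` is killed by a power of `a`. -/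
theorem exists_pow_smul_eq_zero_aux [F.IsQuasicoherent] (a : Γ(X, W)) (V : X.Opens)
    (hV : V = hW.fromSpec ''ᵁ (basicOpenS a)) (hle : V ≤ W) (t : Γ(F, W))
    (ht : F.presheaf.map (homOfLE hle).op t = 0) : ∃ n : ℕ, a ^ n • t = 0 := by
  subst hV
  have h0 : resBasic (F.restrict hW.fromSpec) a ((sectEquiv F hW).symm t) = 0 := by
    have h1 := resBasic_apply F hW a ((sectEquiv F hW).symm t)
    rw [sectEquiv_symm_apply F hW t,
      Groth.Agent.Lib.helper9.ZC.map_map_op F _ _ (homOfLE hle) t, ht] at h1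
    exact h1
  obtain ⟨⟨_, n, rfl⟩, hc⟩ := IsLocalizedModule.exists_of_eq (S := Submonoid.powers a)
    (f := resBasic (F.restrict hW.fromSpec) a) (h0.trans (map_zero _).symm)
  refine ⟨n, ?_⟩
  have h2 : a ^ n • (sectEquiv F hW).symm t = 0 := hc.trans (smul_zero _)
  have h3 : a ^ n • t = (sectEquiv F hW) (a ^ n • (sectEquiv F hW).symm t) := by
    rw [_root_.map_smul, LinearEquiv.apply_symm_apply]
  rw [h3, h2, map_zero]

set_option backward.isDefEq.respectTransparency false in
/-- (Q1) a section over `X_a` times a power of `a` extends to the affine open `W`. -/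
theorem exists_pow_smul_eq_res_aux [F.IsQuasicoherent] (a : Γ(X, W)) (V : X.Opens)
    (hV : V = hW.fromSpec ''ᵁ (basicOpenS a)) (hle : V ≤ W) (s : Γ(F, V)) :
    ∃ (n : ℕ) (t : Γ(F, W)), F.presheaf.map (homOfLE hle).op t =
      (X.presheaf.map (homOfLE hle).op a) ^ n • s := by
  subst hV
  have hloc : IsLocalizedModule (M' := Γ(F.restrict hW.fromSpec, basicOpenS a))
      (Submonoid.powers a) (resBasic (F.restrict hW.fromSpec) a) :=
    resBasic_isLocalizedModule _ a
  obtain ⟨⟨t', ⟨_, n, rfl⟩⟩, hc⟩ := IsLocalizedModule.surj (Submonoid.powers a)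
    (resBasic (F.restrict hW.fromSpec) a) (show Γ(F.restrict hW.fromSpec, basicOpenS a) from s)
  refine ⟨n, sectEquiv F hW t', ?_⟩
  have h1 : (a ^ n • (show Γ(F.restrict hW.fromSpec, basicOpenS a) from s)) =
      resBasic (F.restrict hW.fromSpec) a t' := hc
  rw [smul_D F hW (basicOpenS a) (a ^ n)] at h1
  have h2 : F.presheaf.map (homOfLE hle).op (sectEquiv F hW t') =
      (show Γ(F, hW.fromSpec ''ᵁ (basicOpenS a)) from
        resBasic (F.restrict hW.fromSpec) a t') := by
    rw [resBasic_apply]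
    exact Groth.Agent.Lib.helper9.ZC.map_map_op F
      (homOfLE (le_of_eq (image_top hW).symm)) (homOfLE hle) _ t'
  rw [h2, ← h1, map_pow]

include hW in
/-- (Q2) for `V = X_a`. -/
theorem exists_pow_smul_eq_zero [F.IsQuasicoherent] (a : Γ(X, W)) (V : X.Opens)
    (hV : V = X.basicOpen a) (hle : V ≤ W) (t : Γ(F, W))
    (ht : F.presheaf.map (homOfLE hle).op t = 0) : ∃ n : ℕ, a ^ n • t = 0 :=
  exists_pow_smul_eq_zero_aux F hW a V (hV.trans (hW.fromSpec_image_basicOpen a).symm) hle t ht

include hW in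
/-- (Q1) for `V = X_a`. -/
theorem exists_pow_smul_eq_res [F.IsQuasicoherent] (a : Γ(X, W)) (V : X.Opens)
    (hV : V = X.basicOpen a) (hle : V ≤ W) (s : Γ(F, V)) :
    ∃ (n : ℕ) (t : Γ(F, W)), F.presheaf.map (homOfLE hle).op t =
      (X.presheaf.map (homOfLE hle).op a) ^ n • s :=
  exists_pow_smul_eq_res_aux F hW a V (hV.trans (hW.fromSpec_image_basicOpen a).symm) hle s

end Groth.Agent.Lib.helper9.QcohLoc
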