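import Groth.Agent.Lib.helper9.ZC3

/-!
# Sections of the Z-closure over a Noetherian open: the colimit of sections
-/

universe u

open CategoryTheory CategoryTheory.Limits AlgebraicGeometry TopologicalSpace Opposite

namespace Groth.Agent.Lib.helper9.ZC

variable {X : Scheme.{u}}

lemma eq_of_germ_eq (M : X.Modules) (U : X.Opens) (s t : Γ(M, U))
    (h : ∀ (x : X) (hx : x ∈ U), M.presheaf.germ U x hx s = M.presheaf.germ U x hx t) : s = t :=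
  TopCat.Presheaf.section_ext (shf M) U s t h

lemma res_self (M : X.Modules) (U : X.Opens) (a : Γ(M, U)) : res M (le_refl U) a = a := by
  have h : M.presheaf.map (homOfLE (le_refl U)).op = 𝟙 _ := by
    rw [show homOfLE (le_refl U) = 𝟙 U from Subsingleton.elim _ _, op_id]
    exact M.presheaf.map_id _
  exact (congrArg (fun φ => (ConcreteCategory.hom φ) a) h).trans (CategoryTheory.id_apply a)

lemma res_congr (M : X.Modules) {U U' V W : X.Opens} (hV : V ≤ U) (hV' : V ≤ U') (hW : W ≤ V)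
    (hWU : W ≤ U) (hWU' : W ≤ U') (a : Γ(M, U)) (b : Γ(M, U'))
    (h : res M hV a = res M hV' b) : res M hWU a = res M hWU' b := by
  have h1 : res M hW (res M hV a) = res M hW (res M hV' b) :=
    congrArg (fun z => res M hW z) h
  rw [res_res, res_res] at h1
  exact h1

/-- gluing sections of a sheaf of modules over a cover. -/
lemma exists_glue (M : X.Modules) {ι : Type*} (U : ι → X.Opens) (V : X.Opens)
    (hUV : ∀ i, U i ≤ V) (hcover : V ≤ iSup U) (sf : ∀ i, Γ(M, U i))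
    (h : ∀ i j, res M (inf_le_left : U i ⊓ U j ≤ U i) (sf i) =
      res M (inf_le_right : U i ⊓ U j ≤ U j) (sf j)) :
    ∃ s : Γ(M, V), ∀ i, res M (hUV i) s = sf i := by
  obtain ⟨s, hs, -⟩ := (shf M).existsUnique_gluing' U V (fun i => homOfLE (hUV i)) hcover sf
    (fun i j => h i j)
  exact ⟨s, hs⟩

variable (Z : Set X) (F : X.Modules)

omit F in
lemma ip_le2 {T T' : ZClos.Cl Z} (h : T ≤ T') {O O' : X.Opens} (hO : O' ≤ O) :
    T'.U.ι ''ᵁ T'.U.ι ⁻¹ᵁ O' ≤ T.U.ι ''ᵁ T.U.ι ⁻¹ᵁ O :=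
  (ip_mono T'.U hO).trans (ZClos.resPush_le (ZClos.Cl.U_anti h) O)

omit F in
lemma ip_inf_le {T T1 : ZClos.Cl Z} (h : T ≤ T1) (O : X.Opens) :
    T1.U.ι ''ᵁ T1.U.ι ⁻¹ᵁ O ≤ T1.U.ι ''ᵁ T1.U.ι ⁻¹ᵁ (O ⊓ T.U) := by
  rw [ZClos.ι_image_preimage, ZClos.ι_image_preimage]
  exact le_inf inf_le_left (le_inf inf_le_right (inf_le_left.trans (ZClos.Cl.U_anti h)))

/-- restriction maps of `j_*(F|_U)` in terms of `F`. -/
lemma resPush_res (U : X.Opens) {V V' : X.Opens} (h : V' ≤ V)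
    (s : Γ(F, U.ι ''ᵁ U.ι ⁻¹ᵁ V)) :
    res ((ZClos.resPush U).obj F) h s = res F (ip_mono U h) s :=
  map_eq_res F (U.ι.opensFunctor.map ((Opens.map U.ι.base).map (homOfLE h))) s

/-- the class in `Γ(O, H⁰_{X/Z}(F))` of a section of `F` over `U_T ∩ O`. -/
noncomputable def ιSec (T : ZClos.Cl Z) (O : X.Opens) (s : Γ(F, T.U.ι ''ᵁ T.U.ι ⁻¹ᵁ O)) :
    Γ((ZClos.H0 Z).obj F, O) :=
  (colimit.ι ((ZClos.diagram Z).obj F) T).app O s

lemma germ_ιSec (T : ZClos.Cl Z) (O : X.Opens) (x : X) (hx : x ∈ O)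
    (s : Γ(F, T.U.ι ''ᵁ T.U.ι ⁻¹ᵁ O)) :
    ((ZClos.H0 Z).obj F).presheaf.germ O x hx (ιSec Z F T O s) = rep Z F x T O hx s :=
  (TopCat.Presheaf.stalkFunctor_map_germ_apply O x hx
    (colimit.ι ((ZClos.diagram Z).obj F) T).mapPresheaf s).symm

lemma ιSec_zero (T : ZClos.Cl Z) (O : X.Opens) : ιSec Z F T O 0 = 0 := by
  unfold ιSec
  exact map_zero _

lemma ιSec_sub (T : ZClos.Cl Z) (O : X.Opens) (s s' : Γ(F, T.U.ι ''ᵁ T.U.ι ⁻¹ᵁ O)) :
    ιSec Z F T O (s - s') = ιSec Z F T O s - ιSec Z F T O s' := by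
  unfold ιSec
  exact map_sub _ _ _

lemma ιSec_res {T T' : ZClos.Cl Z} (h : T ≤ T') {O O' : X.Opens} (hO : O' ≤ O)
    (s : Γ(F, T.U.ι ''ᵁ T.U.ι ⁻¹ᵁ O)) :
    res ((ZClos.H0 Z).obj F) hO (ιSec Z F T O s) =
      ιSec Z F T' O' (res F (ip_le2 Z h hO) s) := by
  refine eq_of_germ_eq _ O' _ _ (fun y hy => ?_)
  refine (germ_res _ hO y hy _).trans ?_
  refine (germ_ιSec Z F T O y (hO hy) s).trans ?_
  refine Eq.trans ?_ (germ_ιSec Z F T' O' y hy _).symm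
  exact rep_res Z F y h hO hy (homOfLE (ip_le2 Z h hO)) s

/-- **B2**: a section of `F` over `U_T ∩ O` (`O` quasi-compact) whose class in the Z-closure
vanishes, vanishes on `U_{T'} ∩ O` for some larger `T'`. -/
theorem exists_res_eq_zero_of_ιSec_eq_zero (T : ZClos.Cl Z) (O : X.Opens)
    (hO : IsCompact (O : Set X)) (s : Γ(F, T.U.ι ''ᵁ T.U.ι ⁻¹ᵁ O))
    (h0 : ιSec Z F T O s = 0) :
    ∃ (T' : ZClos.Cl Z) (h : T ≤ T'), res F (ip_le2 Z h (le_refl O)) s = 0 := by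
  classical
  have h1 : ∀ y : O, ∃ (T' : ZClos.Cl Z) (_ : T ≤ T') (V' : X.Opens) (_ : V' ≤ O)
      (_ : (y : X) ∈ V') (i : (T'.U.ι ''ᵁ T'.U.ι ⁻¹ᵁ V') ⟶ (T.U.ι ''ᵁ T.U.ι ⁻¹ᵁ O)),
      F.presheaf.map i.op s = 0 := by
    intro y
    apply (rep_eq_zero_iff Z F y.1 T O y.2 s).mp
    refine (germ_ιSec Z F T O y.1 y.2 s).symm.trans ?_
    rw [h0]
    exact map_zero _
  choose T' hT' V' hV' hy' i hi using h1
  obtain ⟨t, ht⟩ := hO.elim_finite_subcover (fun y : O => ((V' y : X.Opens) : Set X))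
    (fun y => (V' y).2) (fun z hz => Set.mem_iUnion.mpr ⟨⟨z, hz⟩, hy' ⟨z, hz⟩⟩)
  refine ⟨t.sup T' ⊔ T, le_sup_right, ?_⟩
  refine eq_zero_of_germ_eq_zero F _ _ (fun z hz => ?_)
  have hz' : z ∈ (t.sup T' ⊔ T).U ⊓ O := by rwa [ZClos.ι_image_preimage] at hz
  obtain ⟨y, hyt, hzy⟩ := Set.mem_iUnion₂.mp (ht hz'.2)
  have hle : T' y ≤ t.sup T' ⊔ T := (Finset.le_sup hyt).trans le_sup_left
  have hzU : z ∈ (T' y).U.ι ''ᵁ (T' y).U.ι ⁻¹ᵁ (V' y) := by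
    rw [ZClos.ι_image_preimage]
    exact ⟨ZClos.Cl.U_anti hle hz'.1, hzy⟩
  refine (germ_res F _ z hz s).trans ?_
  refine (germ_res F (i y).le z hzU s).symm.trans ?_
  have h5 : res F (i y).le s = 0 := (map_eq_res F (i y) s).symm.trans (hi y)
  rw [h5]
  exact map_zero _

/-- **B1**, finite-cover step. -/
theorem exists_ιSec_eq_of_cover {ι : Type*} [Fintype ι] (O : X.Opens)
    (hO : ∀ O' : X.Opens, O' ≤ O → IsCompact (O' : Set X))
    (g : Γ((ZClos.H0 Z).obj F, O)) (W : ι → X.Opens) (hW : ∀ i, W i ≤ O) (hcov : O ≤ iSup W)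
    (T1 : ZClos.Cl Z) (s1 : ∀ i, Γ(F, T1.U.ι ''ᵁ T1.U.ι ⁻¹ᵁ (W i)))
    (hs1 : ∀ i, res ((ZClos.H0 Z).obj F) (hW i) g = ιSec Z F T1 (W i) (s1 i)) :
    ∃ (T : ZClos.Cl Z) (s : Γ(F, T.U.ι ''ᵁ T.U.ι ⁻¹ᵁ O)), ιSec Z F T O s = g := by
  classical
  have h2 : ∀ i j : ι, ∃ (T' : ZClos.Cl Z) (h : T1 ≤ T'),
      res F (ip_le2 Z h (inf_le_left : W i ⊓ W j ≤ W i)) (s1 i) =
        res F (ip_le2 Z h (inf_le_right : W i ⊓ W j ≤ W j)) (s1 j) := by
    intro i j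
    have hd : ιSec Z F T1 (W i ⊓ W j)
        (res F (ip_le2 Z (le_refl T1) (inf_le_left : W i ⊓ W j ≤ W i)) (s1 i) -
          res F (ip_le2 Z (le_refl T1) (inf_le_right : W i ⊓ W j ≤ W j)) (s1 j)) = 0 := by
      rw [ιSec_sub, ← ιSec_res Z F (le_refl T1) (inf_le_left : W i ⊓ W j ≤ W i) (s1 i),
        ← ιSec_res Z F (le_refl T1) (inf_le_right : W i ⊓ W j ≤ W j) (s1 j), ← hs1 i, ← hs1 j,
        res_res, res_res, sub_self]
    obtain ⟨T', h, h0⟩ := exists_res_eq_zero_of_ιSec_eq_zero Z F T1 (W i ⊓ W j)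
      (hO _ (inf_le_left.trans (hW i))) _ hd
    refine ⟨T', h, ?_⟩
    rw [map_sub, res_res, res_res] at h0
    exact sub_eq_zero.mp h0
  choose T2 hT2 h2' using h2
  obtain ⟨T3, hT13, hT23⟩ : ∃ T3 : ZClos.Cl Z, T1 ≤ T3 ∧ ∀ i j, T2 i j ≤ T3 :=
    ⟨(Finset.univ : Finset (ι × ι)).sup (fun p => T2 p.1 p.2) ⊔ T1, le_sup_right,
      fun i j => (Finset.le_sup (f := fun p : ι × ι => T2 p.1 p.2)
        (Finset.mem_univ (i, j))).trans le_sup_left⟩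
  obtain ⟨s4, hs4⟩ := exists_glue ((ZClos.resPush T3.U).obj F) W O hW hcov
    (fun i => res F (ip_le2 Z hT13 (le_refl (W i))) (s1 i)) (by
      intro i j
      refine (resPush_res F T3.U (inf_le_left : W i ⊓ W j ≤ W i) _).trans ?_
      refine Eq.trans ?_ (resPush_res F T3.U (inf_le_right : W i ⊓ W j ≤ W j) _).symm
      rw [res_res, res_res]
      exact res_congr F _ _ (ip_le2 Z (hT23 i j) (le_refl (W i ⊓ W j))) _ _ (s1 i) (s1 j)
        (h2' i j))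
  refine ⟨T3, s4, ?_⟩
  refine eq_of_germ_eq _ O _ _ (fun z hz => ?_)
  obtain ⟨i, hzi⟩ := Opens.mem_iSup.mp (hcov hz)
  have key : res ((ZClos.H0 Z).obj F) (hW i) (ιSec Z F T3 O s4) =
      res ((ZClos.H0 Z).obj F) (hW i) g := by
    rw [ιSec_res Z F (le_refl T3) (hW i) s4, hs1 i]
    have e1 : res F (ip_le2 Z (le_refl T3) (hW i)) s4 =
        res F (ip_le2 Z hT13 (le_refl (W i))) (s1 i) :=
      (resPush_res F T3.U (hW i) s4).symm.trans (hs4 i)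
    rw [e1, ← ιSec_res Z F hT13 (le_refl (W i)) (s1 i), res_self]
  refine (germ_res _ (hW i) z hzi _).symm.trans ?_
  refine Eq.trans ?_ (germ_res _ (hW i) z hzi g)
  exact congrArg (fun a => ((ZClos.H0 Z).obj F).presheaf.germ (W i) z hzi a) key

/-- **B1**: over a Noetherian open `O`, every section of the Z-closure of `F` is the class of a
section of `F` over `U_T ∩ O` for some closed `T ⊆ Z`. -/
theorem exists_ιSec_eq (O : X.Opens) (hO : ∀ O' : X.Opens, O' ≤ O → IsCompact (O' : Set X))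
    (g : Γ((ZClos.H0 Z).obj F, O)) :
    ∃ (T : ZClos.Cl Z) (s : Γ(F, T.U.ι ''ᵁ T.U.ι ⁻¹ᵁ O)), ιSec Z F T O s = g := by
  classical
  have h1 : ∀ y : O, ∃ (T : ZClos.Cl Z) (W : X.Opens) (hW : W ≤ O) (_ : (y : X) ∈ W)
      (s : Γ(F, T.U.ι ''ᵁ T.U.ι ⁻¹ᵁ W)),
      res ((ZClos.H0 Z).obj F) hW g = ιSec Z F T W s := by
    intro y
    obtain ⟨T, V, hyV, s, hs⟩ :=
      exists_rep Z F y.1 (((ZClos.H0 Z).obj F).presheaf.germ O y.1 y.2 g)
    have hs' : ((ZClos.H0 Z).obj F).presheaf.germ V y.1 hyV (ιSec Z F T V s) =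
        ((ZClos.H0 Z).obj F).presheaf.germ O y.1 y.2 g :=
      (germ_ιSec Z F T V y.1 hyV s).trans hs
    obtain ⟨W, hyW, iV, iO, hW⟩ := TopCat.Presheaf.germ_eq _ y.1 hyV y.2 _ _ hs'
    refine ⟨T, W, iO.le, hyW, res F (ip_le2 Z (le_refl T) iV.le) s, ?_⟩
    rw [← ιSec_res Z F (le_refl T) iV.le s]
    exact ((map_eq_res _ iO g).symm.trans hW.symm).trans (map_eq_res _ iV _)
  choose T W hW hyW s hs using h1
  obtain ⟨t, ht⟩ := (hO O le_rfl).elim_finite_subcover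
    (fun y : O => ((W y : X.Opens) : Set X))
    (fun y => (W y).2) (fun z hz => Set.mem_iUnion.mpr ⟨⟨z, hz⟩, hyW ⟨z, hz⟩⟩)
  have hT1le : ∀ y : t, T y.1 ≤ t.sup T := fun y => Finset.le_sup y.2
  refine exists_ιSec_eq_of_cover Z F O hO g (fun y : t => W y.1) (fun y => hW y.1) ?_ (t.sup T)
    (fun y => res F (ip_le2 Z (hT1le y) (le_refl (W y.1))) (s y.1)) ?_
  · intro z hz
    obtain ⟨y, hyt, hzy⟩ := Set.mem_iUnion₂.mp (ht hz)
    exact Opens.mem_iSup.mpr ⟨⟨y, hyt⟩, hzy⟩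
  · intro y
    dsimp only
    rw [hs y.1, ← ιSec_res Z F (hT1le y) (le_refl (W y.1)) (s y.1), res_self]

/-- **B1** with a lower bound on `T`. -/
theorem exists_ιSec_eq_ge (O : X.Opens) (hO : ∀ O' : X.Opens, O' ≤ O → IsCompact (O' : Set X))
    (g : Γ((ZClos.H0 Z).obj F, O)) (T : ZClos.Cl Z) :
    ∃ (T1 : ZClos.Cl Z) (_ : T ≤ T1) (s : Γ(F, T1.U.ι ''ᵁ T1.U.ι ⁻¹ᵁ O)),
      ιSec Z F T1 O s = g := by
  obtain ⟨T0, s0, h0⟩ := exists_ιSec_eq Z F O hO g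
  refine ⟨T0 ⊔ T, le_sup_right,
    res F (ip_le2 Z (le_sup_left : T0 ≤ T0 ⊔ T) (le_refl O)) s0, ?_⟩
  rw [← ιSec_res Z F (le_sup_left : T0 ≤ T0 ⊔ T) (le_refl O) s0, res_self, h0]

/-- over a Noetherian open `O`, restriction of sections of the Z-closure from `O` to `O ∩ U_T` is
bijective. -/
theorem H0_res_bijective (T : ZClos.Cl Z) (O : X.Opens)
    (hO : ∀ O' : X.Opens, O' ≤ O → IsCompact (O' : Set X)) :
    Function.Bijective (res ((ZClos.H0 Z).obj F) (inf_le_left : O ⊓ T.U ≤ O)) := by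
  have h0 : ∀ c : Γ((ZClos.H0 Z).obj F, O),
      res ((ZClos.H0 Z).obj F) (inf_le_left : O ⊓ T.U ≤ O) c = 0 → c = 0 := by
    intro c hc
    obtain ⟨T1, hT1, s1, rfl⟩ := exists_ιSec_eq_ge Z F O hO c T
    rw [ιSec_res Z F (le_refl T1) (inf_le_left : O ⊓ T.U ≤ O) s1] at hc
    obtain ⟨T2, hT2, h2⟩ := exists_res_eq_zero_of_ιSec_eq_zero Z F T1 (O ⊓ T.U)
      (hO _ inf_le_left) _ hc
    rw [res_res] at h2
    have h3 : res F (ip_le2 Z hT2 (le_refl O)) s1 = 0 := by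
      have h4 : res F (ip_inf_le Z (hT1.trans hT2) O) (res F _ s1) =
          res F (ip_inf_le Z (hT1.trans hT2) O) 0 :=
        congrArg (fun z => res F (ip_inf_le Z (hT1.trans hT2) O) z) h2
      rw [res_res] at h4
      exact h4.trans (map_zero _)
    rw [← res_self _ O (ιSec Z F T1 O s1), ιSec_res Z F hT2 (le_refl O) s1, h3]
    exact ιSec_zero Z F T2 O
  constructor
  · intro a b hab
    have h1 : res ((ZClos.H0 Z).obj F) (inf_le_left : O ⊓ T.U ≤ O) (a - b) = 0 := by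
      rw [map_sub, hab, sub_self]
    exact sub_eq_zero.mp (h0 _ h1)
  · intro b
    obtain ⟨T1, hT1, s1, rfl⟩ := exists_ιSec_eq_ge Z F (O ⊓ T.U)
      (fun O' h => hO O' (h.trans inf_le_left)) b T
    refine ⟨ιSec Z F T1 O (res F (ip_inf_le Z hT1 O) s1), ?_⟩
    rw [ιSec_res Z F (le_refl T1) (inf_le_left : O ⊓ T.U ≤ O), res_res, res_self]

end Groth.Agent.Lib.helper9.ZC
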