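import Groth.Agent.Lib.helper9.CohB11
import Groth.Agent.Lib.helper9.ZC3

universe u
open AlgebraicGeometry CategoryTheory Opposite TopologicalSpace Limits

namespace Groth.Agent.Lib.helper9.AffSect

open Scheme.Modules Groth.Agent.Lib.helper9.CohB

variable {X : Scheme.{u}}

lemma image_top {W : X.Opens} (hW : IsAffineOpen W) :
    hW.fromSpec ''ᵁ (⊤ : (Spec Γ(X, W)).Opens) = W := by
  rw [Scheme.Hom.image_top_eq_opensRange, hW.opensRange_fromSpec]

lemma ringMap_self (U : X.Opens) (a : Γ(X, U)) :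
    X.presheaf.map (homOfLE (le_refl U)).op a = a := by
  have h : (homOfLE (le_refl U)).op = 𝟙 (op U) := rfl
  rw [h, X.presheaf.map_id]
  rfl

lemma ringMap_map {U V W : X.Opens} (h1 : V ≤ U) (h2 : W ≤ V) (a : Γ(X, U)) :
    X.presheaf.map (homOfLE h2).op (X.presheaf.map (homOfLE h1).op a) =
      X.presheaf.map (homOfLE (h2.trans h1)).op a := by
  have hk : homOfLE (h2.trans h1) = homOfLE h2 ≫ homOfLE h1 := Subsingleton.elim _ _
  rw [hk, op_comp, CategoryTheory.Functor.map_comp]
  rfl

lemma key_hom {W : X.Opens} (hW : IsAffineOpen W) :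
    (Scheme.ΓSpecIso Γ(X, W)).inv ≫ (hW.fromSpec.appIso ⊤).inv =
      X.presheaf.map (homOfLE (le_of_eq (image_top hW))).op := by
  rw [Iso.comp_inv_eq, Scheme.Hom.appIso_hom', Scheme.Hom.map_appLE, Scheme.Hom.appLE,
    hW.fromSpec_app_self, Category.assoc, ← CategoryTheory.Functor.map_comp]
  have h : ∀ (i : op (⊤ : (Spec Γ(X, W)).Opens) ⟶ op ⊤),
      (Spec Γ(X, W)).presheaf.map i = 𝟙 _ := by
    intro i
    have : i = 𝟙 _ := Subsingleton.elim _ _
    rw [this]
    exact (Spec Γ(X, W)).presheaf.map_id _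
  rw [h, Category.comp_id]

variable (F : X.Modules) {W : X.Opens} (hW : IsAffineOpen W)

lemma smul_Γmod (a : Γ(X, W)) (n : Γmod (F.restrict hW.fromSpec)) :
    (a • n : Γmod (F.restrict hW.fromSpec)) =
      ((hW.fromSpec.appIso ⊤).inv (((Spec Γ(X, W)).presheaf.map
        (⊤ : (Spec Γ(X, W)).Opens).leTop.op) ((Scheme.ΓSpecIso Γ(X, W)).inv a)) •
          (show Γ(F, hW.fromSpec ''ᵁ ⊤) from n) : Γ(F, hW.fromSpec ''ᵁ ⊤)) := rfl

lemma presheafMap_top (a : Γ(X, W)) :
    ((Spec Γ(X, W)).presheaf.map (⊤ : (Spec Γ(X, W)).Opens).leTop.op)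
      ((Scheme.ΓSpecIso Γ(X, W)).inv a) = (Scheme.ΓSpecIso Γ(X, W)).inv a := by
  have h : (⊤ : (Spec Γ(X, W)).Opens).leTop.op = 𝟙 _ := Subsingleton.elim _ _
  rw [h, (Spec Γ(X, W)).presheaf.map_id]
  rfl

lemma smul_Γmod' (a : Γ(X, W)) (n : Γmod (F.restrict hW.fromSpec)) :
    (a • n : Γmod (F.restrict hW.fromSpec)) =
      ((X.presheaf.map (homOfLE (le_of_eq (image_top hW))).op a) •
          (show Γ(F, hW.fromSpec ''ᵁ ⊤) from n) : Γ(F, hW.fromSpec ''ᵁ ⊤)) := by
  rw [smul_Γmod, presheafMap_top, ← key_hom]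
  rfl

noncomputable def toSect : Γmod (F.restrict hW.fromSpec) →ₗ[Γ(X, W)] Γ(F, W) where
  toFun n := F.presheaf.map (homOfLE (le_of_eq (image_top hW).symm)).op n
  map_add' x y := map_add _ x y
  map_smul' a n := by
    rw [smul_Γmod' F hW a n]
    have h2 := F.val.map_smul (homOfLE (le_of_eq (image_top hW).symm)).op
      (X.presheaf.map (homOfLE (le_of_eq (image_top hW))).op a)
      (show Γ(F, hW.fromSpec ''ᵁ ⊤) from n)
    refine h2.trans ?_
    have h3 : X.presheaf.map (homOfLE (le_of_eq (image_top hW).symm)).op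
        (X.presheaf.map (homOfLE (le_of_eq (image_top hW))).op a) = a := by
      rw [ringMap_map, ringMap_self]
    have h3' : (ConcreteCategory.hom (X.ringCatSheaf.obj.map
        (homOfLE (le_of_eq (image_top hW).symm)).op))
        ((ConcreteCategory.hom (X.presheaf.map (homOfLE (le_of_eq (image_top hW))).op)) a) = a := h3
    rw [h3']
    rfl

lemma toSect_bijective : Function.Bijective (toSect F hW) := by
  have hinv : ∀ s : Γ(F, W), toSect F hW
      (F.presheaf.map (homOfLE (le_of_eq (image_top hW))).op s) = s := by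
    intro s
    change F.presheaf.map (homOfLE (le_of_eq (image_top hW).symm)).op
      (F.presheaf.map (homOfLE (le_of_eq (image_top hW))).op s) = s
    rw [Groth.Agent.Lib.helper9.ZC.map_map_op F _ _ (homOfLE (le_refl W)) s]
    have h : (homOfLE (le_refl W)).op = 𝟙 (op W) := rfl
    rw [h, F.presheaf.map_id]
    rfl
  have hinv' : ∀ n : Γmod (F.restrict hW.fromSpec),
      F.presheaf.map (homOfLE (le_of_eq (image_top hW))).op (toSect F hW n) = n := by
    intro n
    change F.presheaf.map (homOfLE (le_of_eq (image_top hW))).op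
      (F.presheaf.map (homOfLE (le_of_eq (image_top hW).symm)).op n) = n
    rw [Groth.Agent.Lib.helper9.ZC.map_map_op F _ _ (homOfLE (le_refl _)) _]
    have h : (homOfLE (le_refl (hW.fromSpec ''ᵁ (⊤ : (Spec Γ(X, W)).Opens)))).op = 𝟙 (op _) := rfl
    rw [h, F.presheaf.map_id]
    rfl
  constructor
  · intro n n' h
    rw [← hinv' n, ← hinv' n', h]
  · intro s
    exact ⟨_, hinv s⟩

/-- sections over an affine open, as a module over the coordinate ring, are the module of global
sections of the restriction to the spectrum of the coordinate ring. -/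
noncomputable def sectEquiv : Γmod (F.restrict hW.fromSpec) ≃ₗ[Γ(X, W)] Γ(F, W) :=
  LinearEquiv.ofBijective (toSect F hW) (toSect_bijective F hW)

lemma finite_sections [Module.Finite Γ(X, W) (Γmod (F.restrict hW.fromSpec))] :
    Module.Finite Γ(X, W) Γ(F, W) :=
  Module.Finite.equiv (sectEquiv F hW)

end Groth.Agent.Lib.helper9.AffSect
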