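import Mathlib.AlgebraicGeometry.Modules.Tilde
import Mathlib.Algebra.Category.ModuleCat.Sheaf.Generators

/-!
# Quasi-coherent sheaves of finite type on `Spec R` have finitely generated global sections
-/

universe u

open AlgebraicGeometry CategoryTheory Opposite TopologicalSpace Limits

namespace Groth.Agent.Lib.helper9.CohB

variable {R : CommRingCat.{u}}

/-- global sections of a quasi-coherent module on `Spec R`, as an `R`-module. -/
noncomputable abbrev Γmod (G : (Spec R).Modules) : ModuleCat.{u} R :=
  (modulesSpecToSheaf.obj G).presheaf.obj (op ⊤)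

/-- A quasi-coherent sheaf on `Spec R` generated by finitely many global sections has a finitely
generated module of global sections. -/
theorem finite_Γmod_of_generatingSections (G : (Spec R).Modules) [G.IsQuasicoherent]
    (σ : G.GeneratingSections) [σ.IsFiniteType] : Module.Finite R (Γmod G) := by
  have hiso : IsIso G.fromTildeΓ := inferInstance
  let e : tilde (Γmod G) ≅ G := asIso G.fromTildeΓ
  let ψ : tilde (ModuleCat.of R (σ.I →₀ R)) ⟶ tilde (Γmod G) :=
    (tildeFinsupp σ.I).hom ≫ σ.π ≫ e.inv
  have h1 : Epi σ.π := σ.epi
  have h2 : Epi (σ.π ≫ e.inv) := epi_comp' h1 inferInstance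
  have h3 : Epi ψ := epi_comp' inferInstance h2
  obtain ⟨g, hg⟩ := (tilde.functor R).map_surjective ψ
  have h4 : Epi ((tilde.functor R).map g) := by rw [hg]; exact h3
  have h5 : Epi g := (tilde.functor R).epi_of_epi_map h4
  have hsurj : Function.Surjective g.hom := (ModuleCat.epi_iff_surjective g).mp inferInstance
  exact Module.Finite.of_surjective g.hom hsurj

end Groth.Agent.Lib.helper9.CohB
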