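import Groth.Agent.Lib.helper9.CohB9

/-!
# The stalk dictionary is compatible with germs; associated points and specialization
-/

universe u

open AlgebraicGeometry CategoryTheory Opposite TopologicalSpace Limits

namespace Groth.Agent.Lib.helper9

/-- associated primes are transported by semilinear equivalences. -/
lemma SemiEquiv.isAssociatedPrime_comap {R S M N : Type*} [CommRing R] [CommRing S]
    [AddCommGroup M] [AddCommGroup N] [Module R M] [Module S N] (E : SemiEquiv R S M N)
    (P : Ideal R) (h : IsAssociatedPrime P M) :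
    IsAssociatedPrime (P.comap (E.σ.symm : S →+* R)) N := by
  obtain ⟨hP, x, hx⟩ := h
  refine ⟨Ideal.comap_isPrime _ _, E.e x, ?_⟩
  ext s
  rw [Ideal.mem_comap, hx, Ideal.mem_radical_iff, Ideal.mem_radical_iff]
  refine exists_congr fun n => ?_
  rw [Submodule.mem_colon_singleton, Submodule.mem_colon_singleton, Submodule.mem_bot,
    Submodule.mem_bot]
  have key : E.e (((E.σ.symm s) ^ n) • x) = s ^ n • E.e x := by
    rw [E.map_smul, map_pow, RingEquiv.apply_symm_apply]
  change ((E.σ.symm s) ^ n) • x = 0 ↔ _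
  rw [← key]
  exact (AddEquiv.map_eq_zero_iff E.e).symm

namespace CohB

open Scheme.Modules LocCoh Groth.Agent.Lib.helper9.Depth

variable {X : Scheme.{u}}

set_option backward.isDefEq.respectTransparency.types false in
lemma stalkMap_fromSpec_germ {W : X.Opens} (hW : IsAffineOpen W)
    (q : PrimeSpectrum Γ(X, W)) (hq : hW.fromSpec q ∈ W) (a : Γ(X, W)) :
    hW.fromSpec.stalkMap q (X.presheaf.germ W (hW.fromSpec q) hq a) =
      StructureSheaf.toStalk Γ(X, W) q a := by
  have h1 := Scheme.Hom.germ_stalkMap_apply hW.fromSpec W q hq a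
  refine h1.trans ?_
  rw [hW.fromSpec_app_self_apply]
  erw [TopCat.Presheaf.germ_res_apply]
  rfl

lemma semiEquivTilde_σ_algebraMap {R : CommRingCat.{u}} (N : ModuleCat.{u} R)
    (q : PrimeSpectrum R) (a : R) :
    (semiEquivTilde N q).σ (algebraMap R (Localization.AtPrime q.asIdeal) a) =
      StructureSheaf.toStalk R q a := by
  change (IsLocalization.algEquiv q.asIdeal.primeCompl (Localization.AtPrime q.asIdeal)
    ((AlgebraicGeometry.structurePresheafInCommRingCat R).stalk q)) (algebraMap R _ a) = _
  rw [AlgEquiv.commutes]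
  rfl

/-- the ring part of the stalk dictionary is the canonical `A`-algebra isomorphism
`A_q ≃ 𝒪_{X,x}`. -/
lemma stalkSemiEquiv_σ_algebraMap (M : X.Modules) [M.IsQuasicoherent] {W : X.Opens}
    (hW : IsAffineOpen W) (q : PrimeSpectrum Γ(X, W)) (hq : hW.fromSpec q ∈ W) (a : Γ(X, W)) :
    (stalkSemiEquiv M hW q).σ (algebraMap Γ(X, W) (Localization.AtPrime q.asIdeal) a) =
      X.presheaf.germ W (hW.fromSpec q) hq a := by
  have h1 : (stalkSemiEquiv M hW q).σ (algebraMap Γ(X, W) (Localization.AtPrime q.asIdeal) a) =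
      (semiEquivRestrict hW.fromSpec M q).σ
        ((semiEquivTilde (Γmod (M.restrict hW.fromSpec)) q).σ
          (algebraMap Γ(X, W) (Localization.AtPrime q.asIdeal) a)) := rfl
  rw [h1, semiEquivTilde_σ_algebraMap, ← stalkMap_fromSpec_germ hW q hq a]
  change (inv (hW.fromSpec.stalkMap q)) ((hW.fromSpec.stalkMap q) _) = _
  rw [← ConcreteCategory.comp_apply, IsIso.hom_inv_id]
  rfl

/-- if `x` is an associated point of the coherent module `G` and `x ⤳ y`, then the prime of
`𝒪_{X,y}` corresponding to `x` is an associated prime of `G_y`. -/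
theorem isAssociatedPrime_comap_stalkSpecializes [IsLocallyNoetherian X] (G : X.Modules)
    [G.IsQuasicoherent] [SheafOfModules.IsFiniteType.{u} G] {x y : X} (h : x ⤳ y)
    (hx : IsAssociatedPrime (IsLocalRing.maximalIdeal (X.presheaf.stalk x))
      (G.presheaf.stalk x)) :
    IsAssociatedPrime ((IsLocalRing.maximalIdeal (X.presheaf.stalk x)).comap
      (X.presheaf.stalkSpecializes h).hom) (G.presheaf.stalk y) := by
  obtain ⟨W, hW, hyW, hNoeth, hfin⟩ := exists_good_affine G y
  have hxW : x ∈ W := h.mem_open W.2 hyW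
  obtain ⟨qy, rfl⟩ := exists_fromSpec_eq hW hyW
  obtain ⟨qx, rfl⟩ := exists_fromSpec_eq hW hxW
  have hqxy : qx.asIdeal ≤ qy.asIdeal := (fromSpec_specializes_iff hW qx qy).mp h
  have hass : qx.asIdeal ∈ associatedPrimes Γ(X, W) (Γmod (G.restrict hW.fromSpec)) :=
    (isAssociatedPrime_maximalIdeal_stalk_iff G hW qx).mp hx
  have hdisj : Disjoint (qy.asIdeal.primeCompl : Set Γ(X, W)) (qx.asIdeal : Set Γ(X, W)) := by
    rw [Set.disjoint_left]
    intro a ha haq
    exact ha (hqxy haq)
  have hQprime : (qx.asIdeal.map (algebraMap Γ(X, W) (Localization.AtPrime qy.asIdeal))).IsPrime :=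
    IsLocalization.isPrime_of_isPrime_disjoint qy.asIdeal.primeCompl _ _ qx.2 hdisj
  have hQcomap : (qx.asIdeal.map (algebraMap Γ(X, W) (Localization.AtPrime qy.asIdeal))).comap
      (algebraMap Γ(X, W) (Localization.AtPrime qy.asIdeal)) = qx.asIdeal :=
    IsLocalization.under_map_of_isPrime_disjoint qy.asIdeal.primeCompl _ qx.2 hdisj
  have hQass : qx.asIdeal.map (algebraMap Γ(X, W) (Localization.AtPrime qy.asIdeal)) ∈
      associatedPrimes (Localization.AtPrime qy.asIdeal)
        (LocalizedModule qy.asIdeal.primeCompl (Γmod (G.restrict hW.fromSpec))) := by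
    rw [← Module.associatedPrimes.preimage_comap_associatedPrimes_eq_associatedPrimes_of_isLocalizedModule
      qy.asIdeal.primeCompl (Localization.AtPrime qy.asIdeal)
      (LocalizedModule.mkLinearMap qy.asIdeal.primeCompl (Γmod (G.restrict hW.fromSpec)))]
    rw [Set.mem_preimage, hQcomap]
    exact hass
  have h4 := (stalkSemiEquiv G hW qy).isAssociatedPrime_comap _ hQass
  have hqy : hW.fromSpec qy ∈ W := fromSpec_mem hW qy
  have hqx : hW.fromSpec qx ∈ W := fromSpec_mem hW qx
  letI algy : Algebra Γ(X, W) (X.presheaf.stalk (hW.fromSpec qy)) :=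
    TopCat.Presheaf.algebra_section_stalk X.presheaf ⟨hW.fromSpec qy, hqy⟩
  haveI locy : IsLocalization.AtPrime (X.presheaf.stalk (hW.fromSpec qy)) qy.asIdeal :=
    hW.isLocalization_stalk' qy hqy
  have hp1 : ((IsLocalRing.maximalIdeal (X.presheaf.stalk (hW.fromSpec qx))).comap
      (X.presheaf.stalkSpecializes h).hom).IsPrime := Ideal.comap_isPrime _ _
  have hp2 := h4.isPrime
  have hinj := PrimeSpectrum.localization_comap_injective (X.presheaf.stalk (hW.fromSpec qy))
    qy.asIdeal.primeCompl
  have hcomap : ((IsLocalRing.maximalIdeal (X.presheaf.stalk (hW.fromSpec qx))).comap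
      (X.presheaf.stalkSpecializes h).hom).comap
        (algebraMap Γ(X, W) (X.presheaf.stalk (hW.fromSpec qy))) =
      (((qx.asIdeal.map (algebraMap Γ(X, W) (Localization.AtPrime qy.asIdeal))).comap
        ((stalkSemiEquiv G hW qy).σ.symm :
          X.presheaf.stalk (hW.fromSpec qy) →+* Localization.AtPrime qy.asIdeal))).comap
        (algebraMap Γ(X, W) (X.presheaf.stalk (hW.fromSpec qy))) := by
    ext a
    have e1 : (algebraMap Γ(X, W) (X.presheaf.stalk (hW.fromSpec qy))) a =
        X.presheaf.germ W (hW.fromSpec qy) hqy a := rfl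
    constructor
    · intro ha
      rw [Ideal.mem_comap, Ideal.mem_comap] at ha
      rw [Ideal.mem_comap, Ideal.mem_comap]
      have ha' : a ∈ qx.asIdeal := by
        letI algx : Algebra Γ(X, W) (X.presheaf.stalk (hW.fromSpec qx)) :=
          TopCat.Presheaf.algebra_section_stalk X.presheaf ⟨hW.fromSpec qx, hqx⟩
        haveI locx : IsLocalization.AtPrime (X.presheaf.stalk (hW.fromSpec qx)) qx.asIdeal :=
          hW.isLocalization_stalk' qx hqx
        rw [← IsLocalization.AtPrime.to_map_mem_maximal_iff
          (X.presheaf.stalk (hW.fromSpec qx)) qx.asIdeal a]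
        have e2 : (X.presheaf.stalkSpecializes h).hom
            (X.presheaf.germ W (hW.fromSpec qy) hqy a) =
            X.presheaf.germ W (hW.fromSpec qx) hqx a :=
          TopCat.Presheaf.germ_stalkSpecializes_apply X.presheaf hqy h a
        rw [e1, e2] at ha
        exact ha
      have e3 : ((stalkSemiEquiv G hW qy).σ.symm :
          X.presheaf.stalk (hW.fromSpec qy) →+* Localization.AtPrime qy.asIdeal)
          ((algebraMap Γ(X, W) (X.presheaf.stalk (hW.fromSpec qy))) a) =
          algebraMap Γ(X, W) (Localization.AtPrime qy.asIdeal) a := by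
        rw [e1, ← stalkSemiEquiv_σ_algebraMap G hW qy hqy a]
        exact RingEquiv.symm_apply_apply _ _
      rw [e3]
      exact Ideal.mem_map_of_mem _ ha'
    · intro ha
      rw [Ideal.mem_comap, Ideal.mem_comap] at ha
      rw [Ideal.mem_comap, Ideal.mem_comap]
      have e3 : ((stalkSemiEquiv G hW qy).σ.symm :
          X.presheaf.stalk (hW.fromSpec qy) →+* Localization.AtPrime qy.asIdeal)
          ((algebraMap Γ(X, W) (X.presheaf.stalk (hW.fromSpec qy))) a) =
          algebraMap Γ(X, W) (Localization.AtPrime qy.asIdeal) a := by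
        rw [e1, ← stalkSemiEquiv_σ_algebraMap G hW qy hqy a]
        exact RingEquiv.symm_apply_apply _ _
      rw [e3] at ha
      have ha' : a ∈ qx.asIdeal := by
        rw [← hQcomap]
        exact ha
      letI algx : Algebra Γ(X, W) (X.presheaf.stalk (hW.fromSpec qx)) :=
        TopCat.Presheaf.algebra_section_stalk X.presheaf ⟨hW.fromSpec qx, hqx⟩
      haveI locx : IsLocalization.AtPrime (X.presheaf.stalk (hW.fromSpec qx)) qx.asIdeal :=
        hW.isLocalization_stalk' qx hqx
      have e2 : (X.presheaf.stalkSpecializes h).hom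
          (X.presheaf.germ W (hW.fromSpec qy) hqy a) =
          X.presheaf.germ W (hW.fromSpec qx) hqx a :=
        TopCat.Presheaf.germ_stalkSpecializes_apply X.presheaf hqy h a
      rw [e1, e2]
      exact (IsLocalization.AtPrime.to_map_mem_maximal_iff
        (X.presheaf.stalk (hW.fromSpec qx)) qx.asIdeal a).mpr ha'
  have heq : (⟨_, hp1⟩ : PrimeSpectrum (X.presheaf.stalk (hW.fromSpec qy))) = ⟨_, hp2⟩ :=
    hinj (PrimeSpectrum.ext hcomap)
  have heq' := congrArg PrimeSpectrum.asIdeal heq
  change (IsLocalRing.maximalIdeal (X.presheaf.stalk (hW.fromSpec qx))).comap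
      (X.presheaf.stalkSpecializes h).hom = _ at heq'
  rw [heq']
  exact h4

end CohB

end Groth.Agent.Lib.helper9
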