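import Groth.Agent.Lib.helper9.CohB10

/-!
# Associated points of quasi-coherent modules (no finiteness) on an affine open with Noetherian ring
-/

universe u

open AlgebraicGeometry CategoryTheory Opposite TopologicalSpace Limits

namespace Groth.Agent.Lib.helper9

lemma comap_maximalIdeal_of_ringEquiv {R S : Type*} [CommRing R] [CommRing S] [IsLocalRing R]
    [IsLocalRing S] (σ : S ≃+* R) :
    (IsLocalRing.maximalIdeal R).comap (σ : S →+* R) = IsLocalRing.maximalIdeal S := by
  haveI : (Ideal.comap (σ : S →+* R) (IsLocalRing.maximalIdeal R)).IsMaximal :=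
    Ideal.comap_isMaximal_of_surjective _ σ.surjective
  exact IsLocalRing.eq_maximalIdeal this

namespace CohB

open Scheme.Modules LocCoh Groth.Agent.Lib.helper9.Depth Groth.Agent.Lib.helper9.Sect

variable {X : Scheme.{u}}

/-- associated points correspond to associated primes (quasi-coherent, no finiteness). -/
theorem isAssPoint_fromSpec_iff (M : X.Modules) [M.IsQuasicoherent] {W : X.Opens}
    (hW : IsAffineOpen W) [IsNoetherianRing Γ(X, W)] (q : PrimeSpectrum Γ(X, W)) :
    IsAssociatedPrime (IsLocalRing.maximalIdeal (X.presheaf.stalk (hW.fromSpec q)))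
        (M.presheaf.stalk (hW.fromSpec q)) ↔
      q.asIdeal ∈ associatedPrimes Γ(X, W) (Γmod (M.restrict hW.fromSpec)) := by
  constructor
  · intro hx
    have h2 := (stalkSemiEquiv M hW q).symm.isAssociatedPrime_comap _ hx
    rw [comap_maximalIdeal_of_ringEquiv (stalkSemiEquiv M hW q).symm.σ.symm] at h2
    have h3 := Module.associatedPrimes.comap_mem_associatedPrimes_of_mem_associatedPrimes_of_isLocalizedModule_of_fg
      q.asIdeal.primeCompl
      (LocalizedModule.mkLinearMap q.asIdeal.primeCompl (Γmod (M.restrict hW.fromSpec))) _ h2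
      ((isNoetherianRing_iff_ideal_fg _).mp inferInstance _)
    have h4 : (IsLocalRing.maximalIdeal (Localization.AtPrime q.asIdeal)).comap
        (algebraMap Γ(X, W) (Localization.AtPrime q.asIdeal)) = q.asIdeal :=
      Localization.AtPrime.under_maximalIdeal
    rw [h4] at h3
    exact h3
  · intro hq
    have h1 := Module.associatedPrimes.mem_associatedPrimes_atPrime_of_mem_associatedPrimes hq
    have h2 := (stalkSemiEquiv M hW q).isAssociatedPrime_comap _ h1
    rw [comap_maximalIdeal_of_ringEquiv (stalkSemiEquiv M hW q).σ.symm] at h2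
    exact h2

/-- the restriction `Γ(W, M) → Γ(W ∩ U, M)` is injective if all associated primes of `Γ(W, M)`
lie in `U`. -/
theorem res_injective_of_ass_subset (M : X.Modules) [M.IsQuasicoherent] {W : X.Opens}
    (hW : IsAffineOpen W) [IsNoetherianRing Γ(X, W)] (U : X.Opens)
    (hass : ∀ q : PrimeSpectrum Γ(X, W),
      q.asIdeal ∈ associatedPrimes Γ(X, W) (Γmod (M.restrict hW.fromSpec)) →
        hW.fromSpec q ∈ U) :
    Function.Injective (M.presheaf.map (homOfLE (inf_le_left : W ⊓ U ≤ W)).op) := by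
  set f := hW.fromSpec with hf
  set U' : (Spec Γ(X, W)).Opens := f ⁻¹ᵁ U with hU'
  set G := M.restrict f with hG
  set N := Γmod G with hN
  have h1 : f ''ᵁ (⊤ : (Spec Γ(X, W)).Opens) = W := by
    rw [Scheme.Hom.image_top_eq_opensRange, hW.opensRange_fromSpec]
  have h2 : f ''ᵁ U' = W ⊓ U := by
    rw [hU', Scheme.Hom.image_preimage_eq_opensRange_inf, hW.opensRange_fromSpec]
  have hle : f ''ᵁ U' ≤ f ''ᵁ (⊤ : (Spec Γ(X, W)).Opens) := f.image_mono le_top
  rw [← injective_map_congr M.presheaf h1 h2 hle inf_le_left]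
  change Function.Injective (G.presheaf.map (homOfLE (le_top : U' ≤ ⊤)).op)
  have hass' : ∀ q : PrimeSpectrum Γ(X, W), q.asIdeal ∈ associatedPrimes Γ(X, W) N →
      q ∈ U' := fun q hq => hass q hq
  have hinj : Function.Injective (Sect.res (M := N) (le_top : U' ≤ ⊤)) :=
    res_injective_of_ass _ hass'
  have hinj' : Function.Injective
      ((tilde N).presheaf.map (homOfLE (le_top : U' ≤ ⊤)).op) := hinj
  have hnat := (G.fromTildeΓ).mapPresheaf.naturality (homOfLE (le_top : U' ≤ ⊤)).op
  have hcomp : G.presheaf.map (homOfLE (le_top : U' ≤ ⊤)).op =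
      inv ((G.fromTildeΓ).app ⊤) ≫ (tilde N).presheaf.map (homOfLE (le_top : U' ≤ ⊤)).op ≫
        (G.fromTildeΓ).app U' := by
    rw [IsIso.eq_inv_comp]
    exact hnat.symm
  rw [hcomp]
  have b1 : Function.Bijective (inv ((G.fromTildeΓ).app ⊤)) :=
    ConcreteCategory.bijective_of_isIso _
  have b2 : Function.Bijective ((G.fromTildeΓ).app U') :=
    ConcreteCategory.bijective_of_isIso _
  simp only [AddCommGrpCat.hom_comp, AddMonoidHom.coe_comp]
  exact (b2.1.comp hinj').comp b1.1

/-- conversely: if the restriction `Γ(W, M) → Γ(W ∩ U, M)` is injective then all associated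
primes of `Γ(W, M)` lie in `U`. -/
theorem ass_subset_of_res_injective (M : X.Modules) [M.IsQuasicoherent] {W : X.Opens}
    (hW : IsAffineOpen W) [IsNoetherianRing Γ(X, W)] (U : X.Opens)
    (hinj : Function.Injective (M.presheaf.map (homOfLE (inf_le_left : W ⊓ U ≤ W)).op))
    (q : PrimeSpectrum Γ(X, W))
    (hq : q.asIdeal ∈ associatedPrimes Γ(X, W) (Γmod (M.restrict hW.fromSpec))) :
    hW.fromSpec q ∈ U := by
  set f := hW.fromSpec with hf
  set U' : (Spec Γ(X, W)).Opens := f ⁻¹ᵁ U with hU'
  set G := M.restrict f with hG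
  set N := Γmod G with hN
  have h1 : f ''ᵁ (⊤ : (Spec Γ(X, W)).Opens) = W := by
    rw [Scheme.Hom.image_top_eq_opensRange, hW.opensRange_fromSpec]
  have h2 : f ''ᵁ U' = W ⊓ U := by
    rw [hU', Scheme.Hom.image_preimage_eq_opensRange_inf, hW.opensRange_fromSpec]
  have hle : f ''ᵁ U' ≤ f ''ᵁ (⊤ : (Spec Γ(X, W)).Opens) := f.image_mono le_top
  rw [← injective_map_congr M.presheaf h1 h2 hle inf_le_left] at hinj
  have hinj' : Function.Injective (G.presheaf.map (homOfLE (le_top : U' ≤ ⊤)).op) := hinj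
  obtain ⟨hprime, m, hm⟩ := (isAssociatedPrime_iff).mp hq
  by_contra hqU
  have hres : G.presheaf.map (homOfLE (le_top : U' ≤ ⊤)).op m = 0 := by
    rw [map_top_eq_zero_iff]
    intro y hy
    have hnle : ¬ q.asIdeal ≤ y.asIdeal := by
      intro hle'
      have hspec : f q ⤳ f y := (fromSpec_specializes_iff hW q y).mpr hle'
      exact hqU (hspec.mem_open U.2 hy)
    obtain ⟨t, htq, hty⟩ := SetLike.not_le_iff_exists.mp hnle
    refine (Depth.mk_eq_zero_iff' y.asIdeal N m 1).mpr ⟨⟨t, hty⟩, ?_⟩
    have h3 : t ∈ (⊥ : Submodule Γ(X, W) N).colon {m} := hm ▸ htq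
    rw [Submodule.mem_colon_singleton, Submodule.mem_bot] at h3
    exact h3
  have hm0 : m = 0 := hinj' (hres.trans (map_zero _).symm)
  apply hprime.ne_top
  rw [hm, hm0]
  ext a
  simp [Submodule.mem_colon_singleton]

end CohB

end Groth.Agent.Lib.helper9
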