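import Groth.Agent.Lib.helper9.CohB11
import Groth.Agent.Lib.helper9.ZC3

/-!
# Associated points and support of quasi-coherent modules on locally Noetherian schemes
-/

universe u

open AlgebraicGeometry CategoryTheory Opposite TopologicalSpace Limits

namespace Groth.Agent.Lib.helper9.CohB

open Scheme.Modules LocCoh Groth.Agent.Lib.helper9.Depth Groth.Agent.Lib.helper9.Sect

variable {X : Scheme.{u}}

/-- every point of the support is a specialization of an associated point. -/
theorem exists_isAssPoint_specializes [IsLocallyNoetherian X] (F : X.Modules) [F.IsQuasicoherent]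
    (x : X) (hx : ¬ Subsingleton (F.presheaf.stalk x)) :
    ∃ y : X, y ⤳ x ∧ IsAssociatedPrime (IsLocalRing.maximalIdeal (X.presheaf.stalk y))
      (F.presheaf.stalk y) := by
  obtain ⟨V, hV, hxV, -⟩ := Opens.isBasis_iff_nbhd.mp X.isBasis_affineOpens
    (show x ∈ (⊤ : X.Opens) from trivial)
  haveI : IsNoetherianRing Γ(X, V) := IsLocallyNoetherian.component_noetherian ⟨V, hV⟩
  obtain ⟨q, rfl⟩ := exists_fromSpec_eq hV hxV
  have hN : ¬ Subsingleton (LocalizedModule q.asIdeal.primeCompl (Γmod (F.restrict hV.fromSpec))) :=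
    fun h => hx ((stalkSemiEquiv F hV q).subsingleton_iff.mp h)
  haveI : Nontrivial (LocalizedModule q.asIdeal.primeCompl (Γmod (F.restrict hV.fromSpec))) :=
    not_subsingleton_iff_nontrivial.mp hN
  haveI : IsNoetherianRing (Localization.AtPrime q.asIdeal) :=
    IsLocalization.isNoetherianRing q.asIdeal.primeCompl _ inferInstance
  obtain ⟨Q, hQ⟩ := associatedPrimes.nonempty (Localization.AtPrime q.asIdeal)
    (LocalizedModule q.asIdeal.primeCompl (Γmod (F.restrict hV.fromSpec)))
  have hQprime : Q.IsPrime := hQ.isPrime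
  have h3 := Module.associatedPrimes.comap_mem_associatedPrimes_of_mem_associatedPrimes_of_isLocalizedModule_of_fg
    q.asIdeal.primeCompl
    (LocalizedModule.mkLinearMap q.asIdeal.primeCompl (Γmod (F.restrict hV.fromSpec))) Q hQ
    ((isNoetherianRing_iff_ideal_fg _).mp inferInstance _)
  have hP'prime : (Q.comap (algebraMap Γ(X, V) (Localization.AtPrime q.asIdeal))).IsPrime :=
    Ideal.comap_isPrime _ _
  have hle : Q.comap (algebraMap Γ(X, V) (Localization.AtPrime q.asIdeal)) ≤ q.asIdeal := by
    intro a ha
    rw [Ideal.mem_comap] at ha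
    have h1 : algebraMap Γ(X, V) (Localization.AtPrime q.asIdeal) a ∈
        IsLocalRing.maximalIdeal (Localization.AtPrime q.asIdeal) :=
      IsLocalRing.le_maximalIdeal hQprime.ne_top ha
    exact (IsLocalization.AtPrime.to_map_mem_maximal_iff (Localization.AtPrime q.asIdeal)
      q.asIdeal a).mp h1
  refine ⟨hV.fromSpec ⟨_, hP'prime⟩, (fromSpec_specializes_iff hV ⟨_, hP'prime⟩ q).mpr hle, ?_⟩
  exact (isAssPoint_fromSpec_iff F hV ⟨_, hP'prime⟩).mpr h3

/-- associated points lie in the support. -/
lemma not_subsingleton_stalk_of_isAssPoint (F : X.Modules) (x : X)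
    (hx : IsAssociatedPrime (IsLocalRing.maximalIdeal (X.presheaf.stalk x))
      (F.presheaf.stalk x)) : ¬ Subsingleton (F.presheaf.stalk x) := by
  intro h
  exact not_isAssociatedPrime_of_subsingleton hx

/-- a module all of whose stalks vanish is zero. -/
lemma isZero_of_subsingleton_stalks (F : X.Modules)
    (h : ∀ x : X, Subsingleton (F.presheaf.stalk x)) : IsZero F := by
  rw [IsZero.iff_id_eq_zero]
  refine Scheme.Modules.hom_ext _ _ (fun U => ?_)
  refine ConcreteCategory.hom_ext _ _ (fun s => ?_)
  have hs : s = 0 := ZC.eq_zero_of_germ_eq_zero F U s (fun x hx => by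
    haveI := h x
    exact Subsingleton.elim _ _)
  rw [hs, map_zero, map_zero]

/-- the stalks of a zero module vanish. -/
lemma subsingleton_stalk_of_isZero (F : X.Modules) (hF : IsZero F) (x : X) :
    Subsingleton (F.presheaf.stalk x) := by
  have h10 : (𝟙 F : F ⟶ F) = 0 := hF.eq_of_src _ _
  refine ⟨fun a b => ?_⟩
  have key : ∀ m : F.presheaf.stalk x, m = 0 := by
    intro m
    obtain ⟨V, hxV, s, rfl⟩ := F.presheaf.exists_germ_eq m
    have hs : s = 0 := by
      have := congrArg (fun φ : F ⟶ F => (Scheme.Modules.Hom.app φ V) s) h10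
      simpa using this
    rw [hs, map_zero]
  rw [key a, key b]

end Groth.Agent.Lib.helper9.CohB
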