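import Groth.Agent.Lib.helper9.CohB3
import Groth.Agent.Lib.helper9.Glue2

/-!
# Sections of coherent modules extend across closed subsets of depth `≥ 2`
-/

universe u

open AlgebraicGeometry CategoryTheory Opposite TopologicalSpace Limits

namespace Groth.Agent.Lib.helper9.CohB

open Scheme.Modules LocCoh Groth.Agent.Lib.helper9.Depth Groth.Agent.Lib.helper9.Sect
  Groth.Agent.Lib.helper9.Glue

variable {X : Scheme.{u}}

/-- depth of the stalk of a quasi-coherent module at a point of an affine open, computed from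
the module of sections. -/
lemma depth_localization_Γmod (M : X.Modules) [M.IsQuasicoherent] {W : X.Opens}
    (hW : IsAffineOpen W) (q : PrimeSpectrum Γ(X, W)) :
    depth (Localization.AtPrime q.asIdeal)
        (LocalizedModule q.asIdeal.primeCompl (Γmod (M.restrict hW.fromSpec))) =
      depth (X.presheaf.stalk (hW.fromSpec q)) (M.presheaf.stalk (hW.fromSpec q)) := by
  exact (depth_stalk_tilde (Γmod (M.restrict hW.fromSpec)) q).trans
    ((depth_stalk_eq_of_iso (asIso (M.restrict hW.fromSpec).fromTildeΓ) q).trans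
      (depth_stalk_restrict hW.fromSpec M q))

/-- affine case. -/
theorem res_bijective_of_isAffineOpen (M : X.Modules) [M.IsQuasicoherent] {W : X.Opens}
    (hW : IsAffineOpen W) [IsNoetherianRing Γ(X, W)]
    [Module.Finite Γ(X, W) (Γmod (M.restrict hW.fromSpec))] (U : X.Opens)
    (hdepth : ∀ x : X, x ∉ U →
      2 ≤ depth (X.presheaf.stalk x) (M.presheaf.stalk x)) :
    Function.Bijective (M.presheaf.map (homOfLE (inf_le_left : W ⊓ U ≤ W)).op) := by
  set f := hW.fromSpec with hf
  set U' : (Spec Γ(X, W)).Opens := f ⁻¹ᵁ U with hU'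
  set G := M.restrict f with hG
  set N := Γmod G with hN
  have h1 : f ''ᵁ (⊤ : (Spec Γ(X, W)).Opens) = W := by
    rw [Scheme.Hom.image_top_eq_opensRange, hW.opensRange_fromSpec]
  have h2 : f ''ᵁ U' = W ⊓ U := by
    rw [hU', Scheme.Hom.image_preimage_eq_opensRange_inf, hW.opensRange_fromSpec]
  have hle : f ''ᵁ U' ≤ f ''ᵁ (⊤ : (Spec Γ(X, W)).Opens) := f.image_mono le_top
  rw [← bijective_map_congr M.presheaf h1 h2 hle inf_le_left]
  change Function.Bijective (G.presheaf.map (homOfLE (le_top : U' ≤ ⊤)).op)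
  -- the affine statement
  have hdepth' : ∀ q : PrimeSpectrum Γ(X, W), q ∉ U' →
      2 ≤ depth (Localization.AtPrime q.asIdeal)
        (LocalizedModule q.asIdeal.primeCompl N) := by
    intro q hq
    rw [hN, hG, depth_localization_Γmod M hW q]
    exact hdepth _ hq
  have hass : ∀ q : PrimeSpectrum Γ(X, W), q.asIdeal ∈ associatedPrimes Γ(X, W) N →
      q ∈ U' := by
    intro q hq
    by_contra hqU
    have h2 := hdepth' q hqU
    rw [(depth_localization_eq_zero_iff q.asIdeal N).mpr hq] at h2
    exact absurd h2 (by decide)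
  have hbij : Function.Bijective (Sect.res (M := N) (le_top : U' ≤ ⊤)) :=
    ⟨res_injective_of_ass _ hass, res_surjective_of_depth _ hdepth'⟩
  have hbij' : Function.Bijective
      ((tilde N).presheaf.map (homOfLE (le_top : U' ≤ ⊤)).op) := hbij
  have hnat := (G.fromTildeΓ).mapPresheaf.naturality (homOfLE (le_top : U' ≤ ⊤)).op
  have hcomp : G.presheaf.map (homOfLE (le_top : U' ≤ ⊤)).op =
      inv ((G.fromTildeΓ).app ⊤) ≫ (tilde N).presheaf.map (homOfLE (le_top : U' ≤ ⊤)).op ≫
        (G.fromTildeΓ).app U' := by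
    rw [IsIso.eq_inv_comp]
    exact hnat.symm
  rw [hcomp]
  have b1 : Function.Bijective (inv ((G.fromTildeΓ).app ⊤)) :=
    ConcreteCategory.bijective_of_isIso _
  have b2 : Function.Bijective ((G.fromTildeΓ).app U') :=
    ConcreteCategory.bijective_of_isIso _
  simp only [AddCommGrpCat.hom_comp, AddMonoidHom.coe_comp]
  exact (b2.comp hbij').comp b1

/-- On a locally Noetherian scheme, if `depth M_x ≥ 2` at all points outside the open `U`,
for a coherent module `M`, then `Γ(V, M) → Γ(V ∩ U, M)` is bijective for all opens `V`. -/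
theorem res_bijective [IsLocallyNoetherian X] (M : X.Modules) [M.IsQuasicoherent]
    [SheafOfModules.IsFiniteType.{u} M] (U : X.Opens)
    (hdepth : ∀ x : X, x ∉ U →
      2 ≤ depth (X.presheaf.stalk x) (M.presheaf.stalk x)) (V : X.Opens) :
    Function.Bijective (M.presheaf.map (homOfLE (inf_le_left : V ⊓ U ≤ V)).op) := by
  refine resInf_bijective_of_basis ⟨M.presheaf, M.isSheaf⟩ U (goodAffine M)
    (isBasis_goodAffine M) ?_ V
  rintro W ⟨hW, hfin⟩
  have : IsNoetherianRing Γ(X, W) := IsLocallyNoetherian.component_noetherian ⟨W, hW⟩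
  exact res_bijective_of_isAffineOpen M hW U hdepth

end Groth.Agent.Lib.helper9.CohB
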