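import Groth.Agent.Lib.helper9.CohB6
import Groth.Agent.Lib.helper9.Semi

/-!
# The stalk dictionary: stalks of quasi-coherent modules are localizations (semilinearly)
-/

universe u

open AlgebraicGeometry CategoryTheory Opposite TopologicalSpace Limits

namespace Groth.Agent.Lib.helper9.CohB

open Scheme.Modules LocCoh Groth.Agent.Lib.helper9.Depth

variable {X : Scheme.{u}}

/-- isomorphic modules have linearly isomorphic stalks. -/
noncomputable def semiEquivOfIso {M₁ M₂ : X.Modules} (e : M₁ ≅ M₂) (x : X) :
    SemiEquiv (X.presheaf.stalk x) (X.presheaf.stalk x) (M₁.presheaf.stalk x)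
      (M₂.presheaf.stalk x) where
  σ := RingEquiv.refl _
  e := ((TopCat.Presheaf.stalkFunctor Ab x).mapIso
    ((Scheme.Modules.toPresheaf X).mapIso e)).addCommGroupIsoToAddEquiv
  map_smul r m := stalkMap_smul e.hom x r m

/-- the stalk of `N~` at `q` is `N_q`. -/
noncomputable def semiEquivTilde {R : CommRingCat.{u}} (N : ModuleCat.{u} R)
    (q : PrimeSpectrum R) :
    SemiEquiv (Localization.AtPrime q.asIdeal) ((Spec R).presheaf.stalk q)
      (LocalizedModule q.asIdeal.primeCompl N) ((tilde N).presheaf.stalk q) :=
  show SemiEquiv (Localization.AtPrime q.asIdeal) ((structurePresheafInCommRingCat R).stalk q)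
      (LocalizedModule q.asIdeal.primeCompl N)
      ↑(TopCat.Presheaf.stalk (moduleStructurePresheaf R N).presheaf q) from
  SemiEquiv.ofIsLocalizedModule q.asIdeal
    ((structurePresheafInCommRingCat R).stalk q)
    (StructureSheaf.toStalkₗ R N q)

/-- restriction along an open immersion does not change stalks. -/
noncomputable def semiEquivRestrict {X Y : Scheme.{u}} (f : Y ⟶ X) [IsOpenImmersion f]
    (M : X.Modules) (y : Y) :
    SemiEquiv (Y.presheaf.stalk y) (X.presheaf.stalk (f y))
      ((M.restrict f).presheaf.stalk y) (M.presheaf.stalk (f y)) where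
  σ := (asIso (f.stalkMap y)).symm.commRingCatIsoToRingEquiv
  e := (show (M.restrict f).presheaf.stalk y ≅ M.presheaf.stalk (f y) from
    (restrictStalkNatIso f y).app M).addCommGroupIsoToAddEquiv
  map_smul r m := by
    obtain ⟨V', hy, a, t, rfl, rfl⟩ := exists_germs (M.restrict f) y r m
    rw [← germ_smul]
    have hε : ∀ s : Γ(M.restrict f, V'),
        (show (M.restrict f).presheaf.stalk y ≅ M.presheaf.stalk (f y) from
          (restrictStalkNatIso f y).app M).addCommGroupIsoToAddEquiv
            ((M.restrict f).presheaf.germ V' y hy s) =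
          M.presheaf.germ (f ''ᵁ V') (f y) ⟨y, hy, rfl⟩ s := by
      intro s
      have := germ_restrictStalkNatIso_hom_app f y M hy
      exact congrArg (fun g => (ConcreteCategory.hom g) s) this
    rw [hε, hε]
    refine (germ_smul M (f y) (f ''ᵁ V') ⟨y, hy, rfl⟩ ((f.appIso V').inv a) t).trans ?_
    congr 1
    change _ = (asIso (f.stalkMap y)).inv _
    rw [← stalkMap_germ_image f y V' hy a]
    have hz : ∀ z, (inv (f.stalkMap y)) ((f.stalkMap y) z) = z := fun z => by
      rw [← ConcreteCategory.comp_apply, IsIso.hom_inv_id]; rfl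
    exact (hz _).symm

/-- **Stalk dictionary**: for a quasi-coherent module `M` on a scheme, an affine open `W` and a
prime `q` of `A = Γ(X, W)`, the stalk of `M` at the corresponding point is the localization at
`q` of the `A`-module of sections, compatibly with `A_q ≃ 𝒪_{X,x}`. -/
noncomputable def stalkSemiEquiv (M : X.Modules) [M.IsQuasicoherent] {W : X.Opens}
    (hW : IsAffineOpen W) (q : PrimeSpectrum Γ(X, W)) :
    SemiEquiv (Localization.AtPrime q.asIdeal) (X.presheaf.stalk (hW.fromSpec q))
      (LocalizedModule q.asIdeal.primeCompl (Γmod (M.restrict hW.fromSpec)))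
      (M.presheaf.stalk (hW.fromSpec q)) :=
  ((semiEquivTilde (Γmod (M.restrict hW.fromSpec)) q).trans
    (semiEquivOfIso (asIso (M.restrict hW.fromSpec).fromTildeΓ) q)).trans
      (semiEquivRestrict hW.fromSpec M q)

end Groth.Agent.Lib.helper9.CohB
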