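import Groth.Agent.Lib.helper9.Depth16
import Mathlib.RingTheory.Ideal.MinimalPrime.Noetherian

/-!
# Connectedness in codimension: descending through primes of depth `≥ 2`
-/

universe u

open CategoryTheory RingTheory.Sequence Pointwise

namespace Groth.Agent.Lib.helper9.Depth

open LocCoh

section

variable {A : Type u} [CommRing A]

/-- the set of primes containing a member of `S`. -/
def upper (S : Set (Ideal A)) : Set (PrimeSpectrum A) := {q | ∃ p ∈ S, p ≤ q.asIdeal}

lemma upper_mono_le {S : Set (Ideal A)} {q q' : PrimeSpectrum A} (h : q ≤ q') (hq : q ∈ upper S) :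
    q' ∈ upper S := by
  obtain ⟨p, hp, hpq⟩ := hq
  exact ⟨p, hp, hpq.trans h⟩

lemma isClosed_upper {S : Set (Ideal A)} (hS : S.Finite) : IsClosed (upper S) := by
  have : upper S = ⋃ p ∈ S, PrimeSpectrum.zeroLocus (p : Set A) := by
    ext q
    simp only [upper, Set.mem_ofPred_eq, Set.mem_iUnion, PrimeSpectrum.mem_zeroLocus, exists_prop]
    rfl
  rw [this]
  exact hS.isClosed_biUnion fun p _ => PrimeSpectrum.isClosed_zeroLocus _

variable [IsNoetherianRing A]

lemma upper_union_eq_univ {S1 S2 : Set (Ideal A)} (hcover : minimalPrimes A ⊆ S1 ∪ S2) :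
    upper S1 ∪ upper S2 = Set.univ := by
  rw [Set.eq_univ_iff_forall]
  intro q
  obtain ⟨p, hp, hpq⟩ := Ideal.exists_minimalPrimes_le (I := ⊥) (J := q.asIdeal) bot_le
  rcases hcover hp with h | h
  · exact Or.inl ⟨p, h, hpq⟩
  · exact Or.inr ⟨p, h, hpq⟩

/-- a prime of `A` with `depth A_q ≥ 2` is not minimal. -/
lemma not_mem_minimalPrimes_of_two_le_depth (q : Ideal A) [q.IsPrime]
    (h : 2 ≤ depth (Localization.AtPrime q) (Localization.AtPrime q)) : q ∉ minimalPrimes A := by
  intro hmin
  have h2 := depth_le_supportDim (R := Localization.AtPrime q) (Localization.AtPrime q)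
  rw [supportDim_self_localization, Ideal.height_eq_zero_iff.mpr hmin] at h2
  have h3 : depth (Localization.AtPrime q) (Localization.AtPrime q) ≤ 0 := by exact_mod_cast h2
  have := h.trans h3
  simp at this

theorem exists_le_depth_lt_two_aux (S1 S2 : Set (Ideal A)) (hS1 : S1 ⊆ minimalPrimes A)
    (hS2 : S2 ⊆ minimalPrimes A) (hcover : minimalPrimes A ⊆ S1 ∪ S2) :
    ∀ (n : ℕ) (q : PrimeSpectrum A), q.asIdeal.height = n → q ∈ upper S1 → q ∈ upper S2 →
      ∃ q' : PrimeSpectrum A, q' ≤ q ∧ q' ∈ upper S1 ∧ q' ∈ upper S2 ∧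
        ¬ (2 ≤ depth (Localization.AtPrime q'.asIdeal) (Localization.AtPrime q'.asIdeal)) := by
  intro n
  induction n using Nat.strong_induction_on with
  | _ n ih =>
    intro q hqn hq1 hq2
    by_cases hd : 2 ≤ depth (Localization.AtPrime q.asIdeal) (Localization.AtPrime q.asIdeal)
    swap
    · exact ⟨q, le_rfl, hq1, hq2, hd⟩
    have hfin1 : S1.Finite := (minimalPrimes.finite_of_isNoetherianRing A).subset hS1
    have hfin2 : S2.Finite := (minimalPrimes.finite_of_isNoetherianRing A).subset hS2
    have hconn := (isConnected_punctured_of_two_le_depth (R := Localization.AtPrime q.asIdeal) hd).2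
    rw [isPreconnected_closed_iff] at hconn
    let f : PrimeSpectrum (Localization.AtPrime q.asIdeal) → PrimeSpectrum A :=
      PrimeSpectrum.comap (algebraMap A (Localization.AtPrime q.asIdeal))
    have hf : Continuous f := PrimeSpectrum.continuous_comap _
    have hmax : Ideal.comap (algebraMap A (Localization.AtPrime q.asIdeal))
        (IsLocalRing.maximalIdeal (Localization.AtPrime q.asIdeal)) = q.asIdeal :=
      Localization.AtPrime.under_maximalIdeal
    have hnotmin := not_mem_minimalPrimes_of_two_le_depth q.asIdeal hd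
    -- a point of the punctured spectrum lying in the preimage of `upper S`
    have hpt : ∀ S : Set (Ideal A), S ⊆ minimalPrimes A → q ∈ upper S →
        ({x : PrimeSpectrum (Localization.AtPrime q.asIdeal) |
          x.asIdeal ≠ IsLocalRing.maximalIdeal (Localization.AtPrime q.asIdeal)} ∩
          f ⁻¹' (upper S)).Nonempty := by
      intro S hS hq
      obtain ⟨p, hp, hpq⟩ := hq
      have hpprime : p.IsPrime := (hS hp).1.1
      have hdisj : Disjoint (q.asIdeal.primeCompl : Set A) (p : Set A) := by
        rw [Set.disjoint_left]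
        intro z hz hzp
        exact hz (hpq hzp)
      have hPprime : (Ideal.map (algebraMap A (Localization.AtPrime q.asIdeal)) p).IsPrime :=
        IsLocalization.isPrime_of_isPrime_disjoint q.asIdeal.primeCompl _ p hpprime hdisj
      have hPcomap : Ideal.comap (algebraMap A (Localization.AtPrime q.asIdeal))
          (Ideal.map (algebraMap A (Localization.AtPrime q.asIdeal)) p) = p :=
        IsLocalization.under_map_of_isPrime_disjoint q.asIdeal.primeCompl _ hpprime hdisj
      refine ⟨⟨_, hPprime⟩, ?_, ?_⟩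
      · intro heq
        change Ideal.map (algebraMap A (Localization.AtPrime q.asIdeal)) p =
          IsLocalRing.maximalIdeal (Localization.AtPrime q.asIdeal) at heq
        have : p = q.asIdeal := by rw [← hPcomap, heq, hmax]
        exact hnotmin (this ▸ hS hp)
      · refine ⟨p, hp, ?_⟩
        change p ≤ Ideal.comap _ _
        rw [hPcomap]
    have hcov : {x : PrimeSpectrum (Localization.AtPrime q.asIdeal) |
          x.asIdeal ≠ IsLocalRing.maximalIdeal (Localization.AtPrime q.asIdeal)} ⊆
        f ⁻¹' (upper S1) ∪ f ⁻¹' (upper S2) := by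
      intro x _
      have : f x ∈ upper S1 ∪ upper S2 := by rw [upper_union_eq_univ hcover]; trivial
      exact this
    obtain ⟨x, hxU, hx1, hx2⟩ := hconn _ _ ((isClosed_upper hfin1).preimage hf)
      ((isClosed_upper hfin2).preimage hf) hcov (hpt S1 hS1 hq1) (hpt S2 hS2 hq2)
    have hle : f x ≤ q := by
      change Ideal.comap _ x.asIdeal ≤ q.asIdeal
      exact (Ideal.comap_mono (IsLocalRing.le_maximalIdeal x.isPrime.ne_top)).trans hmax.le
    have hne : f x ≠ q := by
      intro heq
      apply hxU
      have h1 : f x = f ⟨IsLocalRing.maximalIdeal (Localization.AtPrime q.asIdeal), inferInstance⟩ := by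
        rw [heq]
        exact PrimeSpectrum.ext hmax.symm
      have := PrimeSpectrum.localization_comap_injective (Localization.AtPrime q.asIdeal)
        q.asIdeal.primeCompl h1
      rw [this]
    have hlt : (f x).asIdeal < q.asIdeal := lt_of_le_of_ne hle (fun h => hne (PrimeSpectrum.ext h))
    have hht : (f x).asIdeal.height < q.asIdeal.height := Ideal.height_strict_mono_of_isPrime hlt
    obtain ⟨m, hm⟩ : ∃ m : ℕ, (f x).asIdeal.height = m := by
      have := Ideal.height_ne_top (I := (f x).asIdeal) (Ideal.IsPrime.ne_top (f x).isPrime)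
      exact ⟨_, (ENat.natCast_toNat this).symm⟩
    rw [hm, hqn] at hht
    have hmn : m < n := by exact_mod_cast hht
    obtain ⟨q', hq'le, h1, h2, h3⟩ := ih m hmn (f x) hm hx1 hx2
    exact ⟨q', hq'le.trans hle, h1, h2, h3⟩

/-- Descent: a point of `upper S1 ∩ upper S2` generizes to one where the depth is `< 2`. -/
theorem exists_le_depth_lt_two (S1 S2 : Set (Ideal A)) (hS1 : S1 ⊆ minimalPrimes A)
    (hS2 : S2 ⊆ minimalPrimes A) (hcover : minimalPrimes A ⊆ S1 ∪ S2)
    (q : PrimeSpectrum A) (hq1 : q ∈ upper S1) (hq2 : q ∈ upper S2) :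
    ∃ q' : PrimeSpectrum A, q' ≤ q ∧ q' ∈ upper S1 ∧ q' ∈ upper S2 ∧
      ¬ (2 ≤ depth (Localization.AtPrime q'.asIdeal) (Localization.AtPrime q'.asIdeal)) := by
  obtain ⟨m, hm⟩ : ∃ m : ℕ, q.asIdeal.height = m := by
    have := Ideal.height_ne_top (I := q.asIdeal) (Ideal.IsPrime.ne_top q.isPrime)
    exact ⟨_, (ENat.natCast_toNat this).symm⟩
  exact exists_le_depth_lt_two_aux S1 S2 hS1 hS2 hcover m q hm hq1 hq2

end

end Groth.Agent.Lib.helper9.Depth
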