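import Mathlib.RingTheory.Regular.RegularSequence
import Mathlib.RingTheory.Regular.IsSMulRegular

/-!
# Regular sequences and short exact sequences

If `0 → M' → M → M'' → 0` is exact, `rs` is weakly regular on `M` and `rs.dropLast` is weakly
regular on `M''`, then `rs` is weakly regular on `M'`.
-/

universe u v

open RingTheory.Sequence Function

namespace Groth.Agent.Lib.helper9.Depth

variable {R : Type u} [CommRing R]

/-- reduction of a short exact sequence modulo an `M''`-regular element: injectivity. -/
lemma quotSMulTop_map_injective {M' M M'' : Type v} [AddCommGroup M'] [Module R M']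
    [AddCommGroup M] [Module R M] [AddCommGroup M''] [Module R M'']
    {i : M' →ₗ[R] M} {π : M →ₗ[R] M''} (hi : Injective i) (hex : Exact i π)
    {x : R} (hx : IsSMulRegular M'' x) : Injective (QuotSMulTop.map x i) := by
  have h0 : Exact (0 : M' →ₗ[R] M') i := (LinearMap.exact_zero_iff_injective M' i).mpr hi
  have h := QuotSMulTop.map_first_exact_on_four_term_exact_of_isSMulRegular_last h0 hex hx
  rw [injective_iff_map_eq_zero]
  intro a ha
  obtain ⟨b, hb⟩ := (h a).mp ha
  rw [← hb]
  induction b using Submodule.Quotient.induction_on with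
  | H b => simp [QuotSMulTop.map]

/-- `0 → M' → M → M'' → 0` exact, `rs` weakly regular on `M`, `rs.dropLast` weakly regular on `M''`
⇒ `rs` weakly regular on `M'`. -/
theorem isWeaklyRegular_of_exact : ∀ (rs : List R) {M' M M'' : Type v} [AddCommGroup M']
    [Module R M'] [AddCommGroup M] [Module R M] [AddCommGroup M''] [Module R M'']
    (i : M' →ₗ[R] M) (π : M →ₗ[R] M''), Injective i → Exact i π → Surjective π →
    IsWeaklyRegular M rs → IsWeaklyRegular M'' rs.dropLast → IsWeaklyRegular M' rs
  | [], _, _, _, _, _, _, _, _, _, _, _, _, _, _, _, _ => IsWeaklyRegular.nil _ _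
  | [x], M', M, M'', _, _, _, _, _, _, i, π, hi, _, _, hM, _ => by
      rw [isWeaklyRegular_singleton_iff] at hM ⊢
      exact hM.of_injective i hi
  | x :: y :: t, M', M, M'', _, _, _, _, _, _, i, π, hi, hex, hπ, hM, hM'' => by
      rw [List.dropLast_cons_cons, isWeaklyRegular_cons_iff] at hM''
      rw [isWeaklyRegular_cons_iff] at hM ⊢
      refine ⟨hM.1.of_injective i hi, ?_⟩
      exact isWeaklyRegular_of_exact (y :: t) (QuotSMulTop.map x i) (QuotSMulTop.map x π)
        (quotSMulTop_map_injective hi hex hM''.1) (QuotSMulTop.map_exact x hex hπ)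
        (QuotSMulTop.map_surjective x hπ) hM.2 hM''.2

/-- membership in `J • ⊤` of a product is componentwise. -/
lemma mem_smul_top_prod_iff {M N : Type*} [AddCommGroup M] [Module R M] [AddCommGroup N]
    [Module R N] (J : Ideal R) (z : M × N) :
    z ∈ J • (⊤ : Submodule R (M × N)) ↔
      z.1 ∈ J • (⊤ : Submodule R M) ∧ z.2 ∈ J • (⊤ : Submodule R N) := by
  constructor
  · intro hz
    constructor
    · have := Submodule.mem_map_of_mem (f := LinearMap.fst R M N) hz
      rw [Submodule.map_smul''] at this
      exact Submodule.smul_mono le_rfl le_top this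
    · have := Submodule.mem_map_of_mem (f := LinearMap.snd R M N) hz
      rw [Submodule.map_smul''] at this
      exact Submodule.smul_mono le_rfl le_top this
  · rintro ⟨h1, h2⟩
    have e : z = LinearMap.inl R M N z.1 + LinearMap.inr R M N z.2 := by
      ext <;> simp
    rw [e]
    refine Submodule.add_mem _ ?_ ?_
    · have := Submodule.mem_map_of_mem (f := LinearMap.inl R M N) h1
      rw [Submodule.map_smul''] at this
      exact Submodule.smul_mono le_rfl le_top this
    · have := Submodule.mem_map_of_mem (f := LinearMap.inr R M N) h2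
      rw [Submodule.map_smul''] at this
      exact Submodule.smul_mono le_rfl le_top this

/-- a sequence weakly regular on `M` and on `N` is weakly regular on `M × N`. -/
theorem isWeaklyRegular_prod {M N : Type*} [AddCommGroup M] [Module R M] [AddCommGroup N]
    [Module R N] {rs : List R} (hM : IsWeaklyRegular M rs) (hN : IsWeaklyRegular N rs) :
    IsWeaklyRegular (M × N) rs := by
  constructor
  intro i hi
  have h1 := hM.regular_mod_prev i hi
  have h2 := hN.regular_mod_prev i hi
  rw [isSMulRegular_quotient_iff_mem_of_smul_mem] at h1 h2 ⊢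
  intro z hz
  rw [mem_smul_top_prod_iff] at hz ⊢
  exact ⟨h1 z.1 hz.1, h2 z.2 hz.2⟩

end Groth.Agent.Lib.helper9.Depth
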