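import Groth.Agent.Lib.helper9.Depth6
import Mathlib.RingTheory.Regular.LinearMap
import Mathlib.RingTheory.Ideal.AssociatedPrime.Finiteness

/-!
# `depth_I M = dim M - dim M/IM` for Cohen–Macaulay modules
-/

universe u

open CategoryTheory RingTheory.Sequence Pointwise

namespace Groth.Agent.Lib.helper9.Depth

open LocCoh

section NoRegular

variable {R : Type u} [CommRing R] [IsNoetherianRing R]

lemma exists_associatedPrime_ge_of_no_regular (I : Ideal R) (M : Type u) [AddCommGroup M]
    [Module R M] [Module.Finite R M] [Nontrivial M] (h : ∀ x ∈ I, ¬ IsSMulRegular M x) :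
    ∃ p ∈ associatedPrimes R M, I ≤ p := by
  rcases associatedPrimes.nonempty R M with ⟨Ia, hIa⟩
  apply (Ideal.subset_union_prime_finite (associatedPrimes.finite R M) Ia Ia _).mp
  · rw [biUnion_associatedPrimes_eq_compl_regular R M]
    exact fun r hr ↦ h r hr
  · exact fun I hin _ _ ↦ IsAssociatedPrime.isPrime hin

lemma no_regular_of_idealDepth_eq_zero {I : Ideal R} {M : Type u} [AddCommGroup M]
    [Module R M] (h : idealDepth I M = 0) : ∀ x ∈ I, ¬ IsSMulRegular M x := by
  intro x hx hreg
  have := length_le_idealDepth (I := I) (M := M) (rs := [x])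
    ((isWeaklyRegular_singleton_iff M x).mpr hreg) (by simpa using hx)
  rw [h] at this
  simp at this

end NoRegular

section CM

variable {R : Type u} [CommRing R] [IsLocalRing R] [IsNoetherianRing R]

/-- `(M/xM)/I(M/xM) ≃ M/IM` for `x ∈ I`. -/
noncomputable def quotSMulTopQuotEquiv (M : Type u) [AddCommGroup M] [Module R M] {I : Ideal R}
    {x : R} (hx : x ∈ I) :
    ((QuotSMulTop x M) ⧸ (I • (⊤ : Submodule R (QuotSMulTop x M)))) ≃ₗ[R]
      M ⧸ (I • (⊤ : Submodule R M)) :=
  Groth.Agent.H5.SDim.quotEquiv M x I ≪≫ₗ Submodule.quotEquivOfEq _ _ (by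
    rw [sup_eq_right.mpr ((Ideal.span_singleton_le_iff_mem I).mpr hx)])

theorem supportDim_eq_add_idealDepth_aux (I : Ideal R) (hI : I ≠ ⊤) : ∀ (n : ℕ) (M : Type u)
    [AddCommGroup M] [Module R M] [Module.Finite R M], IsCohenMacaulayModule R M →
    idealDepth I M = n →
    Module.supportDim R M = Module.supportDim R (M ⧸ (I • (⊤ : Submodule R M))) + (n : WithBot ℕ∞) := by
  have hIm : I ≤ IsLocalRing.maximalIdeal R := IsLocalRing.le_maximalIdeal hI
  intro n
  induction n with
  | zero =>
    intro M _ _ _ hM hn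
    haveI := nontrivial_of_isCohenMacaulayModule hM
    obtain ⟨p, hp, hIp⟩ := exists_associatedPrime_ge_of_no_regular I M
      (no_regular_of_idealDepth_eq_zero (by exact_mod_cast hn))
    rw [Nat.cast_zero, add_zero]
    apply le_antisymm
    · rw [← ringKrullDim_quotient_eq_supportDim_of_isCohenMacaulayModule hM hp]
      have hmem : (⟨p, hp.isPrime⟩ : PrimeSpectrum R) ∈
          Module.support R (M ⧸ (I • (⊤ : Submodule R M))) := by
        rw [Module.support_quotient]
        exact ⟨mem_support_of_mem_associatedPrimes hp, (PrimeSpectrum.mem_zeroLocus _ _).mpr hIp⟩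
      exact ringKrullDim_quotient_le_supportDim (p := ⟨p, hp.isPrime⟩) hmem
    · exact Module.supportDim_le_of_surjective (Submodule.mkQ _) (Submodule.mkQ_surjective _)
  | succ n ih =>
    intro M _ _ _ hM hn
    haveI := nontrivial_of_isCohenMacaulayModule hM
    have hIM : I • (⊤ : Submodule R M) ≠ ⊤ := fun h =>
      maximalIdeal_smul_top_ne_top (R := R) M
        (top_le_iff.mp (h.ge.trans (Submodule.smul_mono_left hIm)))
    obtain ⟨rs, hlen, hreg, hmem⟩ := (le_idealDepth_iff hIM (n + 1)).mp hn.ge
    match rs, hlen with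
    | x :: rs', hlen =>
      rw [isWeaklyRegular_cons_iff] at hreg
      have hx : x ∈ I := hmem x List.mem_cons_self
      have hQ := isCohenMacaulayModule_quotSMulTop hM (hIm hx) hreg.1
      have hd : idealDepth I (QuotSMulTop x M) = n := by
        have h1 := idealDepth_quotSMulTop_add_one hIM hx hreg.1
        rw [hn] at h1
        obtain ⟨k, hk⟩ := exists_nat_eq_idealDepth (I := I) (QuotSMulTop x M)
          (smul_top_quotSMulTop_ne_top hx hIM)
        rw [hk] at h1 ⊢
        have : k + 1 = n + 1 := by exact_mod_cast h1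
        have : k = n := by omega
        exact_mod_cast this
      have h2 := ih (QuotSMulTop x M) hQ hd
      rw [Module.supportDim_eq_of_equiv (quotSMulTopQuotEquiv M hx)] at h2
      rw [← Module.supportDim_quotSMulTop_succ_eq_supportDim hreg.1 (hIm hx), h2]
      push_cast
      rw [add_assoc]

/-- For a CM module: `dim M = dim M/IM + depth_I M`. -/
theorem supportDim_eq_add_idealDepth_of_isCohenMacaulayModule (I : Ideal R) (hI : I ≠ ⊤)
    (M : Type u) [AddCommGroup M] [Module R M] [Module.Finite R M]
    (hM : IsCohenMacaulayModule R M) :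
    Module.supportDim R M = Module.supportDim R (M ⧸ (I • (⊤ : Submodule R M))) +
      ((idealDepth I M : ℕ∞) : WithBot ℕ∞) := by
  haveI := nontrivial_of_isCohenMacaulayModule hM
  have hIm : I ≤ IsLocalRing.maximalIdeal R := IsLocalRing.le_maximalIdeal hI
  have hIM : I • (⊤ : Submodule R M) ≠ ⊤ := fun h =>
    maximalIdeal_smul_top_ne_top (R := R) M
      (top_le_iff.mp (h.ge.trans (Submodule.smul_mono_left hIm)))
  obtain ⟨n, hn⟩ := exists_nat_eq_idealDepth (I := I) M hIM
  rw [hn]
  exact supportDim_eq_add_idealDepth_aux I hI n M hM hn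

end CM

end Groth.Agent.Lib.helper9.Depth
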