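import Groth.Agent.Lib.helper9.Depth15
import Groth.Agent.Lib.helper9.Depth10
import Groth.Agent.Lib.helper9.Depth8

/-!
# A map from a finite module which is an isomorphism outside a set where the source has depth ≥ 2
and the target has no associated primes is an isomorphism
-/

universe u

open CategoryTheory RingTheory.Sequence Pointwise

namespace Groth.Agent.Lib.helper9.Depth

open LocCoh

variable {A : Type u} [CommRing A] [IsNoetherianRing A] {M N : Type u} [AddCommGroup M]
  [Module A M] [Module.Finite A M] [AddCommGroup N] [Module A N]

theorem bijective_of_local_conditions (g : M →ₗ[A] N)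
    (h : ∀ (p : Ideal A) [p.IsPrime],
      Function.Bijective (LocalizedModule.map p.primeCompl g) ∨
        ((2 : ℕ∞) ≤ depth (Localization.AtPrime p) (LocalizedModule p.primeCompl M) ∧
          p ∉ associatedPrimes A N)) :
    Function.Bijective g := by
  have hinj : Function.Injective g := by
    rw [← LinearMap.ker_eq_bot]
    by_contra hK
    haveI : Nontrivial (LinearMap.ker g) := Submodule.nontrivial_iff_ne_bot.mpr hK
    obtain ⟨P, hP⟩ := associatedPrimes.nonempty A (LinearMap.ker g)
    haveI hPprime : P.IsPrime := hP.isPrime
    have hPM : P ∈ associatedPrimes A M :=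
      hP.map_of_injective (LinearMap.ker g).subtype (Submodule.injective_subtype _)
    have hdepth0 : depth (Localization.AtPrime P) (LocalizedModule P.primeCompl M) = 0 :=
      (depth_localization_eq_zero_iff P M).mpr hPM
    rcases h P with hbij | ⟨hd, -⟩
    · obtain ⟨-, k, hk⟩ := (isAssociatedPrime_iff).mp hP
      have h0 : LocalizedModule.map P.primeCompl g (LocalizedModule.mk (k : M) 1) = 0 := by
        rw [LocalizedModule.map_mk, LinearMap.mem_ker.mp k.2, LocalizedModule.zero_mk]
      have h1 : (LocalizedModule.mk (k : M) 1 : LocalizedModule P.primeCompl M) = 0 :=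
        hbij.1 (h0.trans (map_zero _).symm)
      obtain ⟨t, ht⟩ := (mk_eq_zero_iff' P M k 1).mp h1
      have hmem : (t : A) ∈ (⊥ : Submodule A (LinearMap.ker g)).colon {k} := by
        rw [Submodule.mem_colon_singleton, Submodule.mem_bot]
        exact Subtype.ext ht
      rw [← hk] at hmem
      exact t.2 hmem
    · rw [hdepth0] at hd
      exact absurd hd (by norm_num)
  refine ⟨hinj, ?_⟩
  rw [← LinearMap.range_eq_top]
  by_contra hR
  haveI : Nontrivial (N ⧸ LinearMap.range g) :=
    Submodule.Quotient.nontrivial_iff.mpr hR
  obtain ⟨P, hP⟩ := associatedPrimes.nonempty A (N ⧸ LinearMap.range g)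
  haveI hPprime : P.IsPrime := hP.isPrime
  obtain ⟨-, cbar, hc⟩ := (isAssociatedPrime_iff).mp hP
  obtain ⟨c, rfl⟩ := Submodule.Quotient.mk_surjective _ cbar
  have hPc : ∀ z : A, z ∈ P ↔ z • c ∈ LinearMap.range g := by
    intro z
    rw [hc, Submodule.mem_colon_singleton, Submodule.mem_bot, ← Submodule.Quotient.mk_smul,
      Submodule.Quotient.mk_eq_zero]
  have hnot : ∀ w : LocalizedModule P.primeCompl M,
      LocalizedModule.map P.primeCompl g w ≠ LocalizedModule.mk c 1 := by
    intro w hw
    induction w using LocalizedModule.induction_on with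
    | h m s =>
      rw [LocalizedModule.map_mk, LocalizedModule.mk_eq] at hw
      obtain ⟨u, hu⟩ := hw
      have hu' : (u : A) • g m = ((u : A) * (s : A)) • c := by
        simpa [Submonoid.smul_def, mul_smul] using hu
      have hmem : ((u * s : P.primeCompl) : A) ∈ P := by
        rw [hPc]
        refine ⟨(u : A) • m, ?_⟩
        rw [map_smul, hu']
        rfl
      exact (u * s).2 hmem
  rcases h P with hbij | ⟨hd, hPN⟩
  · obtain ⟨w, hw⟩ := hbij.2 (LocalizedModule.mk c 1)
    exact hnot w hw
  · apply hPN
    let e := LinearEquiv.ofInjective g hinj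
    let ψ₀ : P →ₗ[A] LinearMap.range g :=
      LinearMap.codRestrict (LinearMap.range g)
        ((LinearMap.toSpanSingleton A N c).comp (Submodule.subtype P))
        (fun z => (hPc z).mp z.2)
    let ψ : P →ₗ[A] LocalizedModule P.primeCompl M :=
      (LocalizedModule.mkLinearMap P.primeCompl M).comp (e.symm.toLinearMap.comp ψ₀)
    obtain ⟨m₀, hm₀⟩ := exists_eq_smul_of_two_le_depth_localization P M hd ψ
    have hψ : ∀ z : P, g (e.symm (ψ₀ z)) = (z : A) • c := by
      intro z
      have h1 := e.apply_symm_apply (ψ₀ z)
      have h2 := congrArg Subtype.val h1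
      exact h2
    have hzc' : ∀ z ∈ P, z • (LocalizedModule.mk c 1 - LocalizedModule.map P.primeCompl g m₀ :
        LocalizedModule P.primeCompl N) = 0 := by
      intro z hz
      have h3 : LocalizedModule.map P.primeCompl g (z • m₀) = LocalizedModule.mk (z • c) 1 := by
        rw [← hm₀ ⟨z, hz⟩]
        change LocalizedModule.map P.primeCompl g
          (LocalizedModule.mk (e.symm (ψ₀ ⟨z, hz⟩)) 1) = _
        rw [LocalizedModule.map_mk, hψ]
      have h5 : LocalizedModule.map P.primeCompl g (z • m₀) =
          z • LocalizedModule.map P.primeCompl g m₀ := by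
        rw [← algebraMap_smul (Localization.AtPrime P) z m₀, map_smul, algebraMap_smul]
      rw [smul_sub, LocalizedModule.smul'_mk, ← h5, h3, sub_self]
    have hc'ne : (LocalizedModule.mk c 1 - LocalizedModule.map P.primeCompl g m₀ :
        LocalizedModule P.primeCompl N) ≠ 0 := by
      intro h0
      rw [sub_eq_zero] at h0
      exact hnot m₀ h0.symm
    have hass : IsAssociatedPrime (IsLocalRing.maximalIdeal (Localization.AtPrime P))
        (LocalizedModule P.primeCompl N) := by
      refine ⟨inferInstance,
        LocalizedModule.mk c 1 - LocalizedModule.map P.primeCompl g m₀, ?_⟩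
      have hle : IsLocalRing.maximalIdeal (Localization.AtPrime P) ≤
          (⊥ : Submodule (Localization.AtPrime P) (LocalizedModule P.primeCompl N)).colon
            {LocalizedModule.mk c 1 - LocalizedModule.map P.primeCompl g m₀} := by
        rw [← Localization.AtPrime.map_eq_maximalIdeal, Ideal.map_le_iff_le_comap]
        intro z hz
        rw [Ideal.mem_comap, Submodule.mem_colon_singleton, Submodule.mem_bot, algebraMap_smul]
        exact hzc' z hz
      have hne : (⊥ : Submodule (Localization.AtPrime P)
          (LocalizedModule P.primeCompl N)).colon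
            {LocalizedModule.mk c 1 - LocalizedModule.map P.primeCompl g m₀} ≠ ⊤ := by
        intro htop
        have h1 : (1 : Localization.AtPrime P) ∈ (⊥ : Submodule (Localization.AtPrime P)
            (LocalizedModule P.primeCompl N)).colon
              {LocalizedModule.mk c 1 - LocalizedModule.map P.primeCompl g m₀} := by
          rw [htop]; exact Submodule.mem_top
        rw [Submodule.mem_colon_singleton, Submodule.mem_bot, one_smul] at h1
        exact hc'ne h1
      have heq := (IsLocalRing.maximalIdeal.isMaximal (Localization.AtPrime P)).eq_of_le hne hle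
      rw [← heq]
      exact (Ideal.IsPrime.radical inferInstance).symm
    have h3 := Module.associatedPrimes.comap_mem_associatedPrimes_of_mem_associatedPrimes_of_isLocalizedModule_of_fg
      P.primeCompl (LocalizedModule.mkLinearMap P.primeCompl N) _ hass
      ((isNoetherianRing_iff_ideal_fg _).mp inferInstance _)
    have h4 : (IsLocalRing.maximalIdeal (Localization.AtPrime P)).comap
        (algebraMap A (Localization.AtPrime P)) = P :=
      Localization.AtPrime.under_maximalIdeal
    rw [h4] at h3
    exact h3

end Groth.Agent.Lib.helper9.Depth
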