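import Groth.Agent.Lib.helper9.ExalHoch
import Groth.Prelude.Def_Exal3
import Mathlib.RingTheory.Smooth.Kaehler
import Mathlib.Tactic

set_option autoImplicit false
set_option linter.unusedSectionVars false
universe u v w

namespace Groth.Agent.Lib.helper9.ExalLib

open Exal TensorProduct KaehlerDifferential

section Char

variable (A : Type u) {B C L : Type v} [CommRing A] [CommRing B] [CommRing C] [Algebra A B]
  [Algebra B C] [Algebra A C] [IsScalarTower A B C] [AddCommGroup L] [Module C L]
variable (X : Ext B C L)

lemma algebraMap_charCarrier_C (x : X.CharCarrier A) : algebraMap (X.CharCarrier A) C x = X.proj x :=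
  rfl

lemma algebraMap_charCarrier_surjective : Function.Surjective (algebraMap (X.CharCarrier A) C) :=
  X.isExtension.proj_surjective

lemma ker_algebraMap_charCarrier_sq : (RingHom.ker (algebraMap (X.CharCarrier A) C)) ^ 2 = ⊥ :=
  ker_proj_sq X

/-- `incl z` as an element of the kernel of `E → C`. -/
def inclKer (z : L) : RingHom.ker (algebraMap (X.CharCarrier A) C) :=
  ⟨X.inclC A z, proj_incl X z⟩

lemma deltaL_eq_kerToTensor (z : L) :
    X.deltaL A z = kerToTensor A (X.CharCarrier A) C (inclKer A X z) := rfl

/-- the A-algebra section of `E → C` attached to `IsTrivialOver`. -/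
lemma exists_section (hX : X.IsTrivialOver A) :
    ∃ g : C →ₐ[A] X.CharCarrier A,
      (IsScalarTower.toAlgHom A (X.CharCarrier A) C).comp g = AlgHom.id A C := by
  obtain ⟨s, hs⟩ := hX
  let g : C →ₐ[A] X.CharCarrier A :=
    { (s.toRingHom : C →+* X.CharCarrier A) with commutes' := fun a => s.commutes a }
  exact ⟨g, AlgHom.ext hs⟩

lemma deltaL_injective (hX : X.IsTrivialOver A) : Function.Injective (X.deltaL A) := by
  obtain ⟨g, hg⟩ := exists_section A X hX
  have hr := retractionOfSectionOfKerSqZero_comp_kerToTensor g
    (ker_algebraMap_charCarrier_sq A X) hg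
  intro z z' h
  rw [deltaL_eq_kerToTensor, deltaL_eq_kerToTensor] at h
  have h2 := congrArg (retractionOfSectionOfKerSqZero g (ker_algebraMap_charCarrier_sq A X) hg) h
  have e1 := LinearMap.congr_fun hr (inclKer A X z)
  have e2 := LinearMap.congr_fun hr (inclKer A X z')
  simp only [LinearMap.comp_apply, LinearMap.id_apply] at e1 e2
  rw [e1, e2] at h2
  exact X.isExtension.incl_injective (congrArg Subtype.val h2)

lemma map_map (ω : Ω[B⁄A]) :
    KaehlerDifferential.map A A (X.CharCarrier A) C (KaehlerDifferential.map A A B (X.CharCarrier A) ω)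
      = KaehlerDifferential.map A A B C ω := by
  have h : ω ∈ Submodule.span B (Set.range (KaehlerDifferential.D A B)) := by
    rw [KaehlerDifferential.span_range_derivation]; trivial
  induction h using Submodule.span_induction with
  | mem x hx =>
    obtain ⟨b, rfl⟩ := hx
    rw [KaehlerDifferential.map_D, KaehlerDifferential.map_D, KaehlerDifferential.map_D,
      ← IsScalarTower.algebraMap_apply]
  | zero => simp
  | add x y _ _ hx hy => rw [map_add, map_add, map_add, hx, hy]
  | smul b x _ hx =>
    rw [map_smul (KaehlerDifferential.map A A B (X.CharCarrier A)) b x,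
      map_smul (KaehlerDifferential.map A A B C) b x, ← hx,
      ← IsScalarTower.algebraMap_smul (X.CharCarrier A) b
        (KaehlerDifferential.map A A B (X.CharCarrier A) x),
      map_smul (KaehlerDifferential.map A A (X.CharCarrier A) C), IsScalarTower.algebraMap_smul]

lemma mapBaseChange_baseChangeToMiddle (t : C ⊗[B] Ω[B⁄A]) :
    KaehlerDifferential.mapBaseChange A (X.CharCarrier A) C (X.baseChangeToMiddle A t) =
      KaehlerDifferential.mapBaseChange A B C t := by
  induction t using TensorProduct.induction_on with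
  | zero => simp
  | tmul c ω =>
    change KaehlerDifferential.mapBaseChange A (X.CharCarrier A) C
      (c ⊗ₜ[X.CharCarrier A] KaehlerDifferential.map A A B (X.CharCarrier A) ω) = _
    rw [KaehlerDifferential.mapBaseChange_tmul, KaehlerDifferential.mapBaseChange_tmul, map_map]
  | add x y hx hy => rw [map_add, map_add, map_add, hx, hy]


lemma baseChangeToMiddle_smul (c : C) (t : C ⊗[B] Ω[B⁄A]) :
    X.baseChangeToMiddle A (c • t) = c • X.baseChangeToMiddle A t := by
  induction t using TensorProduct.induction_on with
  | zero => simp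
  | tmul c' ω =>
    rw [TensorProduct.smul_tmul']
    change (c • c') ⊗ₜ[X.CharCarrier A] KaehlerDifferential.map A A B (X.CharCarrier A) ω =
      c • (c' ⊗ₜ[X.CharCarrier A] KaehlerDifferential.map A A B (X.CharCarrier A) ω)
    rw [TensorProduct.smul_tmul']
  | add x y hx hy => rw [smul_add, map_add, map_add, hx, hy, smul_add]

lemma baseChangeToMiddle_mem_range (t : C ⊗[B] Ω[B⁄A]) (ht : t ∈ EGA41.imperfection A B C) :
    ∃ k : RingHom.ker (algebraMap (X.CharCarrier A) C),
      kerToTensor A (X.CharCarrier A) C k = X.baseChangeToMiddle A t := by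
  have h1 : KaehlerDifferential.mapBaseChange A (X.CharCarrier A) C (X.baseChangeToMiddle A t) = 0 := by
    rw [mapBaseChange_baseChangeToMiddle]
    exact ht
  obtain ⟨c, hc⟩ := (KaehlerDifferential.exact_kerCotangentToTensor_mapBaseChange A
    (X.CharCarrier A) C (algebraMap_charCarrier_surjective A X) _).1 h1
  obtain ⟨k, rfl⟩ := Ideal.toCotangent_surjective _ c
  exact ⟨k, hc⟩

theorem existsUnique_isCharHom (hX : X.IsTrivialOver A) :
    ∃! χ : ↥(EGA41.imperfection A B C) →ₗ[C] L, X.IsCharHom A χ := by
  obtain ⟨g, hg⟩ := exists_section A X hX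
  have hf' := ker_algebraMap_charCarrier_sq A X
  let r := retractionOfSectionOfKerSqZero g hf' hg
  have hr : ∀ k, r (kerToTensor A (X.CharCarrier A) C k) = k := fun k =>
    LinearMap.congr_fun (retractionOfSectionOfKerSqZero_comp_kerToTensor g hf' hg) k
  let F : ↥(EGA41.imperfection A B C) → L := fun t =>
    X.kerLift (r (X.baseChangeToMiddle A (t : C ⊗[B] Ω[B⁄A]))).1
      (r (X.baseChangeToMiddle A (t : C ⊗[B] Ω[B⁄A]))).2
  have hF : ∀ t : ↥(EGA41.imperfection A B C),
      X.incl (F t) = (r (X.baseChangeToMiddle A (t : C ⊗[B] Ω[B⁄A]))).1 := fun t =>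
    X.incl_kerLift _ _
  let χ : ↥(EGA41.imperfection A B C) →ₗ[C] L :=
    { toFun := F
      map_add' := by
        intro t t'
        apply X.isExtension.incl_injective
        rw [map_add, hF, hF, hF, Submodule.coe_add, map_add, map_add]
        rfl
      map_smul' := by
        intro c t
        apply X.isExtension.incl_injective
        obtain ⟨x, rfl⟩ := X.isExtension.proj_surjective c
        rw [RingHom.id_apply, ← X.isExtension.mul_incl, hF, hF, Submodule.coe_smul,
          baseChangeToMiddle_smul]
        have e1 : X.proj x • X.baseChangeToMiddle A (t : C ⊗[B] Ω[B⁄A]) =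
            (show X.CharCarrier A from x) • X.baseChangeToMiddle A (t : C ⊗[B] Ω[B⁄A]) :=
          IsScalarTower.algebraMap_smul C (show X.CharCarrier A from x) _
        rw [e1, map_smul]
        rfl }
  have hχ : X.IsCharHom A χ := by
    intro t
    obtain ⟨k, hk⟩ := baseChangeToMiddle_mem_range A X t.1 t.2
    rw [deltaL_eq_kerToTensor, ← hk]
    congr 1
    apply Subtype.ext
    change X.incl (F t) = k.1
    rw [hF, ← hk, hr]
  refine ⟨χ, hχ, ?_⟩
  intro χ' hχ'
  ext t
  apply deltaL_injective A X hX
  rw [hχ' t, hχ t]

end Char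

end Groth.Agent.Lib.helper9.ExalLib
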