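import Groth.Agent.Lib.helper9.ExalChar

set_option autoImplicit false
set_option linter.unusedSectionVars false
universe u v w

namespace Groth.Agent.Lib.helper9.ExalLib

attribute [local instance] Exal.opModule Exal.isCentralScalar_opModule

open Exal TensorProduct KaehlerDifferential

section CharDer

variable (A : Type u) {B C L : Type v} [CommRing A] [CommRing B] [CommRing C] [Algebra A B]
  [Algebra B C] [Algebra A C] [IsScalarTower A B C] [AddCommGroup L] [Module C L]
  [Module B L] [IsScalarTower B C L] [Module A L] [IsScalarTower A B L]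
variable (X : Ext B C L)
variable (g : C →ₐ[A] X.CharCarrier A)
  (hg : (IsScalarTower.toAlgHom A (X.CharCarrier A) C).comp g = AlgHom.id A C)

/-- The ring hom section underlying `g`. -/
def secRing : C →+* X.E := (g.toRingHom : C →+* X.CharCarrier A)

include hg in
lemma secRing_proj (c : C) : X.proj (secRing A X g c) = c := AlgHom.congr_fun hg c

lemma secRing_algebraMap (a : A) :
    secRing A X g (algebraMap A C a) = algebraMap B X.E (algebraMap A B a) := g.commutes a

/-- The derivation `B → L` attached to a trivialization over `A`. -/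
noncomputable def derOfSection : Derivation A B L where
  toFun b := kap X (secRing A X g) (secRing_proj A X g hg) (algebraMap B X.E b)
  map_add' b b' := by rw [map_add, kap_add]
  map_smul' a b := by
    simp only [RingHom.id_apply]
    rw [Algebra.smul_def, map_mul, kap_mul, ← secRing_algebraMap A X g, kap_section, smul_zero,
      add_zero, secRing_proj A X g hg, IsScalarTower.algebraMap_apply A B C, algebraMap_smul,
      algebraMap_smul]
  map_one_eq_zero' := by
    change kap X (secRing A X g) (secRing_proj A X g hg) (algebraMap B X.E 1) = 0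
    rw [map_one, kap_one]
  leibniz' b b' := by
    change kap X (secRing A X g) (secRing_proj A X g hg) (algebraMap B X.E (b * b')) = _
    rw [map_mul, kap_mul, AlgHom.commutes, AlgHom.commutes, algebraMap_smul, algebraMap_smul]
    rfl

lemma derOfSection_apply (b : B) :
    derOfSection A X g hg b = kap X (secRing A X g) (secRing_proj A X g hg) (algebraMap B X.E b) :=
  rfl

lemma incl_derOfSection (b : B) :
    X.incl (derOfSection A X g hg b) = algebraMap B X.E b - secRing A X g (algebraMap B C b) := by
  rw [derOfSection_apply, incl_kap, AlgHom.commutes]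

/-- Every extension with a trivialization over `A` is equivalent to the one attached to
its derivation. -/
noncomputable def equivOfDerivation :
    X.Equiv (Ext.ofDerivation (C := C) (derOfSection A X g hg)) := by
  let φ : X.E →ₐ[B] (Ext.ofDerivation (C := C) (derOfSection A X g hg)).E :=
    { (toTriv X (secRing A X g) (secRing_proj A X g hg) :
        X.E →+* (Ext.ofDerivation (C := C) (derOfSection A X g hg)).E) with
      commutes' := by
        intro b
        change toTriv X (secRing A X g) (secRing_proj A X g hg) (algebraMap B X.E b) =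
          TrivSqZeroExt.inl (algebraMap B C b) + TrivSqZeroExt.inr (derOfSection A X g hg b)
        rw [toTriv_apply, AlgHom.commutes]
        rfl }
  refine equivOfAlgHom X _ φ ?_ ?_
  · intro x
    exact fst_toTriv X _ _ x
  · intro z
    exact toTriv_incl X _ _ z

/-- The `C`-linear map `C ⊗_B Ω_{B/A} → L` attached to a derivation. -/
noncomputable def derLin (D : Derivation A B L) : C ⊗[B] Ω[B⁄A] →ₗ[C] L :=
  D.liftKaehlerDifferential.liftBaseChange C

lemma derLin_tmul (D : Derivation A B L) (c : C) (ω : Ω[B⁄A]) :
    derLin A D (c ⊗ₜ ω) = c • D.liftKaehlerDifferential ω := rfl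

lemma derLin_tmul_D (D : Derivation A B L) (c : C) (b : B) :
    derLin A D (c ⊗ₜ KaehlerDifferential.D A B b) = c • D b := by
  rw [derLin_tmul, Derivation.liftKaehlerDifferential_comp_D]

/-- The retraction applied to `bc t` is `incl (derLin D t)`. -/
lemma retraction_baseChangeToMiddle (t : C ⊗[B] Ω[B⁄A]) :
    ((retractionOfSectionOfKerSqZero g (ker_algebraMap_charCarrier_sq A X) hg
      (X.baseChangeToMiddle A t)) : X.CharCarrier A) =
      X.incl (derLin A (derOfSection A X g hg) t) := by
  induction t using TensorProduct.induction_on with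
  | zero =>
    rw [map_zero, map_zero, map_zero, map_zero]
    rfl
  | add x y hx hy =>
    rw [map_add, map_add, map_add, map_add, ← hx, ← hy]
    rfl
  | tmul c ω =>
    have h : ω ∈ Submodule.span B (Set.range (KaehlerDifferential.D A B)) := by
      rw [KaehlerDifferential.span_range_derivation]; trivial
    induction h using Submodule.span_induction generalizing c with
    | mem x hx =>
      obtain ⟨b, rfl⟩ := hx
      rw [derLin_tmul_D]
      change ((retractionOfSectionOfKerSqZero g (ker_algebraMap_charCarrier_sq A X) hg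
        (c ⊗ₜ[X.CharCarrier A] KaehlerDifferential.map A A B (X.CharCarrier A)
          (KaehlerDifferential.D A B b))) : X.CharCarrier A) = _
      rw [KaehlerDifferential.map_D, retractionOfSectionOfKerSqZero_tmul_D]
      have h1 : X.incl (c • derOfSection A X g hg b) =
          secRing A X g c * X.incl (derOfSection A X g hg b) := by
        rw [X.isExtension.mul_incl, secRing_proj A X g hg]
      rw [h1, incl_derOfSection]
      change g c * algebraMap B (X.CharCarrier A) b -
          g c * g (X.proj (algebraMap B X.E b)) =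
        g c * (algebraMap B (X.CharCarrier A) b - g (algebraMap B C b))
      rw [AlgHom.commutes, mul_sub]
    | zero =>
      rw [TensorProduct.tmul_zero, map_zero, map_zero, map_zero, map_zero]
      rfl
    | add x y _ _ hx hy =>
      rw [TensorProduct.tmul_add, map_add, map_add, map_add, map_add, ← hx c, ← hy c]
      rfl
    | smul b x _ hx =>
      rw [← TensorProduct.smul_tmul]
      exact hx (b • c)

theorem isCharHom_iff (χ : ↥(EGA41.imperfection A B C) →ₗ[C] L) :
    X.IsCharHom A χ ↔
      ∀ z : ↥(EGA41.imperfection A B C),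
        χ z = derLin A (derOfSection A X g hg) (z : C ⊗[B] Ω[B⁄A]) := by
  have hf' := ker_algebraMap_charCarrier_sq A X
  have hr : ∀ k, retractionOfSectionOfKerSqZero g hf' hg (kerToTensor A (X.CharCarrier A) C k) = k :=
    fun k => LinearMap.congr_fun (retractionOfSectionOfKerSqZero_comp_kerToTensor g hf' hg) k
  constructor
  · intro hχ z
    have h1 := congrArg (fun t => ((retractionOfSectionOfKerSqZero g hf' hg t) : X.CharCarrier A))
      (hχ z)
    rw [deltaL_eq_kerToTensor, hr, retraction_baseChangeToMiddle] at h1
    exact X.isExtension.incl_injective h1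
  · intro h z
    obtain ⟨k, hk⟩ := baseChangeToMiddle_mem_range A X z.1 z.2
    rw [deltaL_eq_kerToTensor, ← hk]
    congr 1
    apply Subtype.ext
    have h2 := retraction_baseChangeToMiddle A X g hg (z : C ⊗[B] Ω[B⁄A])
    rw [← hk, hr] at h2
    rw [h2, h z]
    rfl

section OfDer

variable (D : Derivation A B L)

/-- The canonical `A`-algebra section of the extension attached to a derivation. -/
noncomputable def ofDerSection : C →ₐ[A] (Ext.ofDerivation (C := C) D).CharCarrier A :=
  { (TrivSqZeroExt.inlHom C L : C →+* (Ext.ofDerivation (C := C) D).CharCarrier A) with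
    commutes' := fun a => by
      change (TrivSqZeroExt.inl (algebraMap A C a) : TrivSqZeroExt C L) =
        TrivSqZeroExt.inl (algebraMap B C (algebraMap A B a)) +
          TrivSqZeroExt.inr (D (algebraMap A B a))
      rw [D.map_algebraMap, TrivSqZeroExt.inr_zero, add_zero, ← IsScalarTower.algebraMap_apply] }

lemma ofDerSection_comp :
    (IsScalarTower.toAlgHom A ((Ext.ofDerivation (C := C) D).CharCarrier A) C).comp
      (ofDerSection A D) = AlgHom.id A C :=
  AlgHom.ext fun _ => rfl

lemma isTrivialOver_ofDerivation : (Ext.ofDerivation (C := C) D).IsTrivialOver A := by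
  let σ : C →+* ((Ext.ofDerivation (C := C) D).restrictBase A).E := TrivSqZeroExt.inlHom C L
  refine ⟨{ σ with commutes' := ?_ }, fun c => rfl⟩
  intro a
  change (TrivSqZeroExt.inl (algebraMap A C a) : TrivSqZeroExt C L) =
    TrivSqZeroExt.inl (algebraMap B C (algebraMap A B a)) +
      TrivSqZeroExt.inr (D (algebraMap A B a))
  rw [D.map_algebraMap, TrivSqZeroExt.inr_zero, add_zero, ← IsScalarTower.algebraMap_apply]

lemma derOfSection_ofDerivation :
    derOfSection A (Ext.ofDerivation (C := C) D) (ofDerSection A D) (ofDerSection_comp A D) = D := by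
  ext b
  apply (Ext.ofDerivation (C := C) D).isExtension.incl_injective
  rw [incl_derOfSection]
  change (TrivSqZeroExt.inl (algebraMap B C b) + TrivSqZeroExt.inr (D b) : TrivSqZeroExt C L) -
    TrivSqZeroExt.inl (algebraMap B C b) = TrivSqZeroExt.inr (D b)
  abel

theorem isCharHom_ofDerivation_iff (χ : ↥(EGA41.imperfection A B C) →ₗ[C] L) :
    (Ext.ofDerivation (C := C) D).IsCharHom A χ ↔
      ∀ z : ↥(EGA41.imperfection A B C), χ z = derLin A D (z : C ⊗[B] Ω[B⁄A]) := by
  rw [isCharHom_iff A _ (ofDerSection A D) (ofDerSection_comp A D), derOfSection_ofDerivation]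

end OfDer

/-- The derivation attached to a `C`-linear map `C ⊗_B Ω_{B/A} → L`. -/
noncomputable def derOfLin (ψ : C ⊗[B] Ω[B⁄A] →ₗ[C] L) : Derivation A B L :=
  ((ψ.restrictScalars B).comp (TensorProduct.mk B C Ω[B⁄A] 1)).compDer (KaehlerDifferential.D A B)

lemma derOfLin_apply (ψ : C ⊗[B] Ω[B⁄A] →ₗ[C] L) (b : B) :
    derOfLin A ψ b = ψ ((1 : C) ⊗ₜ KaehlerDifferential.D A B b) := rfl

lemma derLin_derOfLin (ψ : C ⊗[B] Ω[B⁄A] →ₗ[C] L) : derLin A (derOfLin A ψ) = ψ := by
  have h1 : (derOfLin A ψ).liftKaehlerDifferential =
      (ψ.restrictScalars B).comp (TensorProduct.mk B C Ω[B⁄A] 1) := by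
    apply Derivation.liftKaehlerDifferential_unique
    rw [Derivation.liftKaehlerDifferential_comp]
    rfl
  apply LinearMap.ext
  intro t
  induction t using TensorProduct.induction_on with
  | zero => simp
  | add x y hx hy => rw [map_add, map_add, hx, hy]
  | tmul c ω =>
    rw [derLin_tmul, h1]
    change c • ψ ((1 : C) ⊗ₜ ω) = ψ (c ⊗ₜ ω)
    rw [← map_smul, TensorProduct.smul_tmul', smul_eq_mul, mul_one]

/-- If two derivations `B → L` differ by a derivation coming from `C`, the attached extensions are
equivalent. -/
noncomputable def equivOfDerivationSub (D₁ D₂ : Derivation A B L) (D' : Derivation A C L)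
    (h : ∀ b, D₁ b = D₂ b + D' (algebraMap B C b)) :
    (Ext.ofDerivation (C := C) D₂).Equiv (Ext.ofDerivation (C := C) D₁) := by
  let φ0 : TrivSqZeroExt C L →+* TrivSqZeroExt C L :=
    { toFun := fun x => x + TrivSqZeroExt.inr (D' x.fst)
      map_one' := by simp
      map_mul' := fun x y => by
        apply TrivSqZeroExt.ext
        · simp
        · simp only [TrivSqZeroExt.fst_mul, TrivSqZeroExt.snd_add, TrivSqZeroExt.snd_mul,
            TrivSqZeroExt.snd_inr, TrivSqZeroExt.fst_add, TrivSqZeroExt.fst_inr, add_zero,
            op_smul_eq_smul, Derivation.leibniz, smul_add]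
          abel
      map_zero' := by simp
      map_add' := fun x y => by
        apply TrivSqZeroExt.ext
        · simp
        · simp only [TrivSqZeroExt.fst_add, map_add, TrivSqZeroExt.snd_add, TrivSqZeroExt.snd_inr]
          abel }
  let φ : (Ext.ofDerivation (C := C) D₂).E →ₐ[B] (Ext.ofDerivation (C := C) D₁).E :=
    { (φ0 : (Ext.ofDerivation (C := C) D₂).E →+* (Ext.ofDerivation (C := C) D₁).E) with
      commutes' := fun b => by
        change (TrivSqZeroExt.inl (algebraMap B C b) + TrivSqZeroExt.inr (D₂ b) : TrivSqZeroExt C L) +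
          TrivSqZeroExt.inr (D' (TrivSqZeroExt.fst
            (TrivSqZeroExt.inl (algebraMap B C b) + TrivSqZeroExt.inr (D₂ b) : TrivSqZeroExt C L))) =
          TrivSqZeroExt.inl (algebraMap B C b) + TrivSqZeroExt.inr (D₁ b)
        rw [h b]
        simp only [TrivSqZeroExt.fst_add, TrivSqZeroExt.fst_inl, TrivSqZeroExt.fst_inr, add_zero,
          TrivSqZeroExt.inr_add]
        abel }
  refine equivOfAlgHom _ _ φ ?_ ?_
  · intro x
    change TrivSqZeroExt.fst ((show TrivSqZeroExt C L from x) + TrivSqZeroExt.inr (D' _)) =
      TrivSqZeroExt.fst (show TrivSqZeroExt C L from x)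
    simp
  · intro z
    change (TrivSqZeroExt.inr z : TrivSqZeroExt C L) +
      TrivSqZeroExt.inr (D' (TrivSqZeroExt.fst (TrivSqZeroExt.inr z : TrivSqZeroExt C L))) =
      TrivSqZeroExt.inr z
    simp

omit [Module B L] [IsScalarTower B C L] [Module A L] [IsScalarTower A B L] in
theorem exists_lin_of_vanish
    (h : Module.Injective C L ∨
      ∃ s : Ω[C⁄B] →ₗ[C] Ω[C⁄A], ∀ ω : Ω[C⁄B], KaehlerDifferential.map A B C C (s ω) = ω)
    (δ : C ⊗[B] Ω[B⁄A] →ₗ[C] L) (hδ : ∀ z ∈ EGA41.imperfection A B C, δ z = 0) :
    ∃ ε : Ω[C⁄A] →ₗ[C] L, ∀ t, ε (KaehlerDifferential.mapBaseChange A B C t) = δ t := by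
  let mbc := KaehlerDifferential.mapBaseChange A B C
  have hle : LinearMap.ker mbc ≤ LinearMap.ker δ := fun z hz => hδ z hz
  let δbar : LinearMap.range mbc →ₗ[C] L :=
    ((LinearMap.ker mbc).liftQ δ hle).comp mbc.quotKerEquivRange.symm.toLinearMap
  have hδbar : ∀ t, δbar ⟨mbc t, LinearMap.mem_range_self mbc t⟩ = δ t := by
    intro t
    change ((LinearMap.ker mbc).liftQ δ hle) (mbc.quotKerEquivRange.symm ⟨mbc t, _⟩) = δ t
    rw [LinearMap.quotKerEquivRange_symm_apply_image]
    rfl
  rcases h with hinj | ⟨s, hs⟩
  · obtain ⟨ε, hε⟩ := Module.Injective.extension_property C L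
      (↥(LinearMap.range mbc)) (Ω[C⁄A])
      (LinearMap.range mbc).subtype (Submodule.injective_subtype _) δbar
    refine ⟨ε, fun t => ?_⟩
    rw [← hδbar t, ← hε]
    rfl
  · have hmem : ∀ ω : Ω[C⁄A], ω - s (KaehlerDifferential.map A B C C ω) ∈ LinearMap.range mbc := by
      intro ω
      rw [KaehlerDifferential.range_mapBaseChange, LinearMap.mem_ker, map_sub, hs, sub_self]
    let π : Ω[C⁄A] →ₗ[C] LinearMap.range mbc :=
      (LinearMap.id - s.comp (KaehlerDifferential.map A B C C)).codRestrict (LinearMap.range mbc) hmem
    refine ⟨δbar.comp π, fun t => ?_⟩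
    rw [LinearMap.comp_apply, ← hδbar t]
    congr 1
    apply Subtype.ext
    change mbc t - s (KaehlerDifferential.map A B C C (mbc t)) = mbc t
    have : KaehlerDifferential.map A B C C (mbc t) = 0 :=
      (KaehlerDifferential.exact_mapBaseChange_map A B C).apply_apply_eq_zero t
    rw [this, map_zero, sub_zero]

end CharDer

end Groth.Agent.Lib.helper9.ExalLib
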