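import Groth.Agent.Lib.helper9.ExalLib
import Mathlib.RingTheory.Smooth.Basic
import Mathlib.Tactic

set_option autoImplicit false
set_option linter.unusedSectionVars false
universe u v w

namespace Groth.Agent.Lib.helper9.ExalLib

open Exal

section Smooth

variable {A : Type u} {B L : Type v} [CommRing A] [CommRing B] [Algebra A B] [AddCommGroup L] [Module B L]

lemma ker_proj_sq (X : Ext A B L) : (RingHom.ker (X.proj : X.E →+* B)) ^ 2 = ⊥ := by
  rw [eq_bot_iff, pow_two, Ideal.mul_le]
  intro x hx y hy
  obtain ⟨z, rfl⟩ := exists_incl_eq X x hx
  obtain ⟨z', rfl⟩ := exists_incl_eq X y hy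
  rw [incl_mul_incl]
  exact Ideal.zero_mem _

theorem isTrivial_of_formallySmooth [Algebra.FormallySmooth A B] (X : Ext A B L) : X.IsTrivial := by
  have hnil : IsNilpotent (RingHom.ker (X.proj : X.E →+* B)) := ⟨2, ker_proj_sq X⟩
  refine ⟨Algebra.FormallySmooth.liftOfSurjective (AlgHom.id A B) X.proj
    X.isExtension.proj_surjective hnil, fun b => ?_⟩
  rw [Algebra.FormallySmooth.liftOfSurjective_apply]
  rfl

end Smooth

section Hoch

variable {A : Type u} {B L : Type v} [CommRing A] [CommRing B] [Algebra A B] [AddCommGroup L]
  [Module B L] [Module A L] [IsScalarTower A B L]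

/-- Carrier of the Hochschild extension attached to a symmetric 2-cocycle. -/
@[nolint unusedArguments]
def HE (_f : B →ₗ[A] B →ₗ[A] L) : Type v := B × L

variable (f : B →ₗ[A] B →ₗ[A] L)

instance : AddCommGroup (HE f) := inferInstanceAs (AddCommGroup (B × L))
instance : Module A (HE f) := inferInstanceAs (Module A (B × L))

/-- constructor -/
def HE.mk (b : B) (l : L) : HE f := (b, l)
/-- first component -/
def HE.fst (x : HE f) : B := Prod.fst x
/-- second component -/
def HE.snd (x : HE f) : L := Prod.snd x

@[ext] lemma HE.ext {x y : HE f} (h1 : x.fst = y.fst) (h2 : x.snd = y.snd) : x = y := Prod.ext h1 h2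

@[simp] lemma HE.fst_mk (b : B) (l : L) : (HE.mk f b l).fst = b := rfl
@[simp] lemma HE.snd_mk (b : B) (l : L) : (HE.mk f b l).snd = l := rfl
@[simp] lemma HE.fst_add (x y : HE f) : (x + y).fst = x.fst + y.fst := rfl
@[simp] lemma HE.snd_add (x y : HE f) : (x + y).snd = x.snd + y.snd := rfl
@[simp] lemma HE.fst_zero : (0 : HE f).fst = 0 := rfl
@[simp] lemma HE.snd_zero : (0 : HE f).snd = 0 := rfl
@[simp] lemma HE.fst_neg (x : HE f) : (-x).fst = -x.fst := rfl
@[simp] lemma HE.snd_neg (x : HE f) : (-x).snd = -x.snd := rfl
@[simp] lemma HE.fst_smul (a : A) (x : HE f) : (a • x).fst = a • x.fst := rfl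
@[simp] lemma HE.snd_smul (a : A) (x : HE f) : (a • x).snd = a • x.snd := rfl

instance : Mul (HE f) := ⟨fun x y => HE.mk f (x.fst * y.fst) (x.fst • y.snd + y.fst • x.snd + f x.fst y.fst)⟩
instance : One (HE f) := ⟨HE.mk f 1 (-(f 1 1))⟩

@[simp] lemma HE.fst_mul (x y : HE f) : (x * y).fst = x.fst * y.fst := rfl
@[simp] lemma HE.snd_mul (x y : HE f) :
    (x * y).snd = x.fst • y.snd + y.fst • x.snd + f x.fst y.fst := rfl
@[simp] lemma HE.fst_one : (1 : HE f).fst = 1 := rfl
@[simp] lemma HE.snd_one : (1 : HE f).snd = -(f 1 1) := rfl

variable (hsymm : ∀ x y : B, f x y = f y x)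
  (hcoc : ∀ x y z : B, f (x * y) z + z • f x y = x • f y z + f x (y * z))

include hcoc in
lemma HE.f_one_left (b : B) : f 1 b = b • f 1 1 := by
  have := hcoc 1 1 b
  simp only [mul_one, one_mul, one_smul] at this
  have h2 : f 1 b + b • f 1 1 = f 1 b + f 1 b := this
  exact (add_left_cancel h2).symm

/-- The commutative ring structure of the Hochschild extension. -/
@[instance_reducible]
noncomputable def HE.commRing : CommRing (HE f) :=
  { (inferInstance : AddCommGroup (HE f)), (inferInstance : Mul (HE f)),
    (inferInstance : One (HE f)) with
    left_distrib := by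
      intro x y z
      ext
      · simp [mul_add]
      · simp only [HE.snd_mul, HE.snd_add, HE.fst_add, smul_add, add_smul, map_add]
        abel
    right_distrib := by
      intro x y z
      ext
      · simp [add_mul]
      · simp only [HE.snd_mul, HE.snd_add, HE.fst_add, smul_add, add_smul, map_add,
          LinearMap.add_apply]
        abel
    zero_mul := by
      intro x
      ext
      · simp
      · simp
    mul_zero := by
      intro x
      ext
      · simp
      · simp
    mul_assoc := by
      intro x y z
      ext
      · simp [mul_assoc]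
      · simp only [HE.snd_mul, HE.fst_mul, smul_add, mul_smul]
        have := hcoc x.fst y.fst z.fst
        linear_combination (norm := module) this
    one_mul := by
      intro x
      ext
      · simp
      · simp only [HE.snd_mul, HE.fst_one, HE.snd_one, one_smul, smul_neg]
        have := HE.f_one_left f hcoc x.fst
        linear_combination (norm := module) this
    mul_one := by
      intro x
      ext
      · simp
      · simp only [HE.snd_mul, HE.fst_one, HE.snd_one, one_smul, smul_neg]
        have := HE.f_one_left f hcoc x.fst
        rw [hsymm x.fst 1]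
        linear_combination (norm := module) this
    mul_comm := by
      intro x y
      ext
      · simp [mul_comm]
      · simp only [HE.snd_mul]
        rw [hsymm x.fst y.fst]
        abel }

/-- The `A`-algebra structure of the Hochschild extension. -/
@[instance_reducible]
noncomputable def HE.algebra :
    @Algebra A (HE f) _ (HE.commRing f hsymm hcoc).toSemiring :=
  letI := HE.commRing f hsymm hcoc
  Algebra.ofModule
    (by
      intro a x y
      ext
      · simp
      · simp only [HE.snd_mul, HE.fst_smul, HE.snd_smul, smul_add, map_smul, LinearMap.smul_apply,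
          smul_assoc]
        rw [smul_comm y.fst a x.snd])
    (by
      intro a x y
      ext
      · simp
      · simp only [HE.snd_mul, HE.fst_smul, HE.snd_smul, smul_add, map_smul,
          smul_assoc]
        rw [smul_comm x.fst a y.snd])

/-- The Hochschild extension attached to a symmetric 2-cocycle. -/
noncomputable def hochExt : Ext A B L :=
  letI := HE.commRing f hsymm hcoc
  letI := HE.algebra f hsymm hcoc
  { E := HE f
    proj :=
      { toFun := fun x => x.fst
        map_one' := rfl
        map_mul' := fun _ _ => rfl
        map_zero' := rfl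
        map_add' := fun _ _ => rfl
        commutes' := fun a => by
          rw [Algebra.algebraMap_eq_smul_one]
          change a • (1 : B) = _
          rw [Algebra.algebraMap_eq_smul_one] }
    incl :=
      { toFun := fun l => HE.mk f 0 l
        map_zero' := rfl
        map_add' := fun l l' => by
          ext
          · simp
          · simp }
    isExtension :=
      { proj_surjective := fun b => ⟨HE.mk f b 0, rfl⟩
        incl_injective := fun l l' h => congrArg (HE.snd f) h
        exact := fun x => by
          constructor
          · intro hx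
            exact ⟨x.snd, HE.ext f hx.symm rfl⟩
          · rintro ⟨l, rfl⟩
            rfl
        mul_incl := fun x z => by
          ext
          · change x.fst * 0 = 0
            exact mul_zero _
          · change x.fst • z + (0 : B) • x.snd + f x.fst 0 = x.fst • z
            rw [zero_smul, map_zero, add_zero, add_zero] } }

theorem exists_cobound_of_isTrivial (h : (hochExt f hsymm hcoc).IsTrivial) :
    ∃ g : B →ₗ[A] L, ∀ x y : B, f x y = x • g y - g (x * y) + y • g x := by
  letI := HE.commRing f hsymm hcoc
  letI := HE.algebra f hsymm hcoc
  obtain ⟨s, hs⟩ := h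
  have hs' : ∀ b, HE.fst f (s b) = b := hs
  let g : B →ₗ[A] L :=
    { toFun := fun b => -(HE.snd f (s b))
      map_add' := by
        intro x y
        change -(HE.snd f (s (x + y))) = _
        rw [map_add]
        change -(HE.snd f (s x) + HE.snd f (s y)) = _
        abel
      map_smul' := by
        intro a x
        change -(HE.snd f (s (a • x))) = _
        rw [map_smul]
        change -(a • HE.snd f (s x)) = a • -(HE.snd f (s x))
        rw [smul_neg] }
  refine ⟨g, fun x y => ?_⟩
  change f x y = x • -(HE.snd f (s y)) - -(HE.snd f (s (x * y))) + y • -(HE.snd f (s x))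
  rw [map_mul]
  change f x y = x • -(HE.snd f (s y)) - -(HE.fst f (s x) • HE.snd f (s y) +
    HE.fst f (s y) • HE.snd f (s x) + f (HE.fst f (s x)) (HE.fst f (s y))) + y • -(HE.snd f (s x))
  rw [hs', hs']
  module

end Hoch

end Groth.Agent.Lib.helper9.ExalLib
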