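import Groth.Agent.Lib.helper9.ExalCharDer
import Mathlib.RingTheory.Kaehler.JacobiZariski

set_option autoImplicit false
set_option linter.unusedSectionVars false
universe u v w

namespace Groth.Agent.Lib.helper9.ExalLib

open Exal TensorProduct KaehlerDifferential

section Tower

variable (R : Type u) (A B C : Type v) [CommRing R] [CommRing A] [CommRing B] [CommRing C]
  [Algebra R A] [Algebra R B] [Algebra R C] [Algebra A B] [Algebra B C] [Algebra A C]
  [IsScalarTower R A B] [IsScalarTower R B C] [IsScalarTower R A C] [IsScalarTower A B C]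

lemma kmap_kmap (ω : Ω[A⁄R]) :
    KaehlerDifferential.map R R B C (KaehlerDifferential.map R R A B ω) =
      KaehlerDifferential.map R R A C ω := by
  have h : ω ∈ Submodule.span A (Set.range (KaehlerDifferential.D R A)) := by
    rw [KaehlerDifferential.span_range_derivation]; trivial
  induction h using Submodule.span_induction with
  | mem x hx =>
    obtain ⟨b, rfl⟩ := hx
    rw [KaehlerDifferential.map_D, KaehlerDifferential.map_D, KaehlerDifferential.map_D,
      ← IsScalarTower.algebraMap_apply]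
  | zero => simp
  | add x y _ _ hx hy => rw [map_add, map_add, map_add, hx, hy]
  | smul b x _ hx =>
    rw [map_smul (KaehlerDifferential.map R R A B) b x,
      map_smul (KaehlerDifferential.map R R A C) b x, ← hx,
      ← IsScalarTower.algebraMap_smul B b (KaehlerDifferential.map R R A B x),
      map_smul (KaehlerDifferential.map R R B C), IsScalarTower.algebraMap_smul]

/-- The map `C ⊗_A Ω_{A/R} → C ⊗_B Ω_{B/R}`. -/
noncomputable def alphaMap : C ⊗[A] Ω[A⁄R] →ₗ[C] C ⊗[B] Ω[B⁄R] :=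
  ((KaehlerDifferential.mapBaseChange R A B).baseChange C).comp
    (TensorProduct.AlgebraTensorModule.cancelBaseChange A B C C Ω[A⁄R]).symm.toLinearMap

lemma alphaMap_apply (z : C ⊗[A] Ω[A⁄R]) :
    alphaMap R A B C z = ((KaehlerDifferential.mapBaseChange R A B).baseChange C)
      ((TensorProduct.AlgebraTensorModule.cancelBaseChange A B C C Ω[A⁄R]).symm z) := rfl

lemma alphaMap_tmul (c : C) (ω : Ω[A⁄R]) :
    alphaMap R A B C (c ⊗ₜ ω) = c ⊗ₜ KaehlerDifferential.map R R A B ω := by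
  rw [alphaMap_apply, TensorProduct.AlgebraTensorModule.cancelBaseChange_symm_tmul,
    LinearMap.baseChange_tmul, KaehlerDifferential.mapBaseChange_tmul, one_smul]

lemma mapBaseChange_alphaMap (z : C ⊗[A] Ω[A⁄R]) :
    KaehlerDifferential.mapBaseChange R B C (alphaMap R A B C z) =
      KaehlerDifferential.mapBaseChange R A C z := by
  induction z using TensorProduct.induction_on with
  | zero => simp
  | tmul c ω =>
    rw [alphaMap_tmul, KaehlerDifferential.mapBaseChange_tmul,
      KaehlerDifferential.mapBaseChange_tmul, kmap_kmap]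
  | add x y hx hy => rw [map_add, map_add, map_add, hx, hy]

variable {L : Type v} [AddCommGroup L] [Module C L] [Module B L] [IsScalarTower B C L]
  [Module R L] [IsScalarTower R B L] [Module A L] [IsScalarTower A C L] [IsScalarTower R A L]
  [IsScalarTower A B L]

lemma derLin_alphaMap (Dh : Derivation R B L) (D : Derivation R A L)
    (hD : ∀ a, D a = Dh (algebraMap A B a)) (z : C ⊗[A] Ω[A⁄R]) :
    derLin R D z = derLin R Dh (alphaMap R A B C z) := by
  induction z using TensorProduct.induction_on with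
  | zero => simp
  | add x y hx hy => rw [map_add, map_add, map_add, hx, hy]
  | tmul c ω =>
    have h : ω ∈ Submodule.span A (Set.range (KaehlerDifferential.D R A)) := by
      rw [KaehlerDifferential.span_range_derivation]; trivial
    induction h using Submodule.span_induction generalizing c with
    | mem x hx =>
      obtain ⟨a, rfl⟩ := hx
      rw [derLin_tmul_D, alphaMap_tmul, KaehlerDifferential.map_D, derLin_tmul_D, hD]
    | zero => simp
    | add x y _ _ hx hy =>
      rw [TensorProduct.tmul_add, map_add, map_add, map_add, hx c, hy c]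
    | smul a x _ hx =>
      rw [← TensorProduct.smul_tmul]
      exact hx (a • c)

end Tower

section SmoothSplit

variable (R : Type u) (A B C : Type v) [CommRing R] [CommRing A] [CommRing B] [CommRing C]
  [Algebra R A] [Algebra R B] [Algebra R C] [Algebra A B] [Algebra B C] [Algebra A C]
  [IsScalarTower R A B] [IsScalarTower R B C] [IsScalarTower R A C] [IsScalarTower A B C]

lemma exists_retraction_mapBaseChange [Algebra.FormallySmooth A B] :
    ∃ ρ : Ω[B⁄R] →ₗ[B] B ⊗[A] Ω[A⁄R],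
      ρ ∘ₗ KaehlerDifferential.mapBaseChange R A B = LinearMap.id := by
  have hex := KaehlerDifferential.exact_mapBaseChange_map R A B
  have hinj : Function.Injective (KaehlerDifferential.mapBaseChange R A B) := by
    rw [injective_iff_map_eq_zero]
    intro t ht
    obtain ⟨h, rfl⟩ := (Algebra.H1Cotangent.exact_δ_mapBaseChange R A B t).1 ht
    rw [Subsingleton.elim h 0, map_zero]
  obtain ⟨σ, hσ⟩ := Module.projective_lifting_property (KaehlerDifferential.map R A B B)
    (LinearMap.id : Ω[B⁄A] →ₗ[B] Ω[B⁄A]) (KaehlerDifferential.map_surjective R A B)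
  exact ((hex.split_tfae'.out 0 1 rfl rfl).mp ⟨hinj, σ, hσ⟩).2

lemma alphaMap_injective [Algebra.FormallySmooth A B] :
    Function.Injective (alphaMap R A B C) := by
  obtain ⟨ρ, hρ⟩ := exists_retraction_mapBaseChange R A B
  rw [injective_iff_map_eq_zero]
  intro z hz
  rw [alphaMap_apply] at hz
  have h1 := congrArg (ρ.baseChange C) hz
  rw [map_zero, ← LinearMap.comp_apply, ← LinearMap.baseChange_comp, hρ,
    LinearMap.baseChange_id, LinearMap.id_apply] at h1
  exact (LinearEquiv.map_eq_zero_iff _).1 h1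

end SmoothSplit

section Conormal

variable (R : Type u) {B : Type v} [CommRing R] [CommRing B] [Algebra R B] (K : Ideal B)

lemma ker_algebraMap_quotient : RingHom.ker (algebraMap B (B ⧸ K)) = K := by
  rw [Ideal.Quotient.algebraMap_eq, Ideal.mk_ker]

lemma mem_ker_algebraMap_quotient {b : B} : b ∈ RingHom.ker (algebraMap B (B ⧸ K)) ↔ b ∈ K := by
  rw [ker_algebraMap_quotient]

/-- Elements of the imperfection module of `B → B/K` are of the form `1 ⊗ dk`, `k ∈ K`. -/
lemma exists_rep_of_mem_imperfection (t : (B ⧸ K) ⊗[B] Ω[B⁄R])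
    (ht : t ∈ EGA41.imperfection R B (B ⧸ K)) :
    ∃ (k : B) (_ : k ∈ K), t = (1 : B ⧸ K) ⊗ₜ[B] KaehlerDifferential.D R B k := by
  obtain ⟨c, hc⟩ := (KaehlerDifferential.exact_kerCotangentToTensor_mapBaseChange R B (B ⧸ K)
    Ideal.Quotient.mk_surjective _).1 ht
  obtain ⟨k, rfl⟩ := Ideal.toCotangent_surjective _ c
  refine ⟨k.1, (mem_ker_algebraMap_quotient K).1 k.2, ?_⟩
  rw [← hc]
  rfl

lemma one_tmul_D_mem_imperfection {k : B} (hk : k ∈ K) :
    (1 : B ⧸ K) ⊗ₜ[B] KaehlerDifferential.D R B k ∈ EGA41.imperfection R B (B ⧸ K) := by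
  change KaehlerDifferential.mapBaseChange R B (B ⧸ K) _ = 0
  rw [KaehlerDifferential.mapBaseChange_tmul, KaehlerDifferential.map_D, one_smul,
    Ideal.Quotient.algebraMap_eq, Ideal.Quotient.eq_zero_iff_mem.2 hk, map_zero]

lemma one_tmul_D_eq_zero_of_mem_sq {k : B} (hk : k ∈ K ^ 2) :
    (1 : B ⧸ K) ⊗ₜ[B] KaehlerDifferential.D R B k = 0 := by
  have hk1 : k ∈ K := Ideal.pow_le_self two_ne_zero hk
  have hk2 : k ∈ RingHom.ker (algebraMap B (B ⧸ K)) := (mem_ker_algebraMap_quotient K).2 hk1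
  have h0 : (RingHom.ker (algebraMap B (B ⧸ K))).toCotangent ⟨k, hk2⟩ = 0 := by
    rw [Ideal.toCotangent_eq_zero]
    change k ∈ RingHom.ker (algebraMap B (B ⧸ K)) ^ 2
    rw [ker_algebraMap_quotient]
    exact hk
  have := congrArg (KaehlerDifferential.kerCotangentToTensor R B (B ⧸ K)) h0
  rw [map_zero] at this
  exact this

end Conormal

section Inf

variable {Λ : Type u} {A B : Type v} [CommRing Λ] [CommRing A] [CommRing B] [Algebra Λ A]
  [Algebra Λ B] [Algebra A B] [IsScalarTower Λ A B] (K : Ideal B)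

instance isScalarTower_quot_cotangent : IsScalarTower A (B ⧸ K) K.Cotangent :=
  IsScalarTower.of_algebraMap_smul (fun a l => by
    rw [IsScalarTower.algebraMap_apply A B (B ⧸ K), algebraMap_smul, algebraMap_smul])

/-- The infinitesimal extension as an `A`-extension. -/
noncomputable abbrev infA : Ext A (B ⧸ K) K.Cotangent := (Ext.infinitesimal K).restrictBase A

/-- the quotient map `B → B/K²` into the middle ring -/
def mkE : B →+* (infA (A := A) K).E := Ideal.Quotient.mk (K ^ 2)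

lemma proj_mkE (b : B) : (infA (A := A) K).proj (mkE (A := A) K b) = Ideal.Quotient.mk K b := rfl

lemma algebraMap_infA (a : A) :
    algebraMap A (infA (A := A) K).E a = mkE (A := A) K (algebraMap A B a) := rfl

lemma mk_smul_cotangent (b : B) (l : K.Cotangent) : (Ideal.Quotient.mk K b) • l = b • l := by
  rw [← Ideal.Quotient.algebraMap_eq, algebraMap_smul]

lemma incl_toCotangent (k : K) :
    (infA (A := A) K).incl (K.toCotangent k) = mkE (A := A) K (k : B) := by
  change K.cotangentToQuotientSquare (K.toCotangent k) = _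
  rw [Ideal.toCotangent_to_quotient_square]
  rfl

variable (g : (B ⧸ K) →ₐ[Λ] (infA (A := A) K).CharCarrier Λ)
  (hg : (IsScalarTower.toAlgHom Λ ((infA (A := A) K).CharCarrier Λ) (B ⧸ K)).comp g =
    AlgHom.id Λ (B ⧸ K))

/-- The `Λ`-derivation `B → K/K²` attached to a `Λ`-trivialization of `B/K²`. -/
noncomputable def dhat : Derivation Λ B K.Cotangent where
  toFun b := kap (infA (A := A) K) (secRing Λ _ g) (secRing_proj Λ _ g hg) (mkE (A := A) K b)
  map_add' b b' := by rw [map_add, kap_add]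
  map_smul' r b := by
    simp only [RingHom.id_apply]
    have h0 : kap (infA (A := A) K) (secRing Λ _ g) (secRing_proj Λ _ g hg)
        (mkE (A := A) K (algebraMap Λ B r)) = 0 := by
      rw [IsScalarTower.algebraMap_apply Λ A B, ← algebraMap_infA, ← secRing_algebraMap Λ _ g,
        kap_section]
    rw [Algebra.smul_def, map_mul, kap_mul, h0, smul_zero, add_zero, proj_mkE,
      mk_smul_cotangent, algebraMap_smul]
  map_one_eq_zero' := by
    change kap (infA (A := A) K) (secRing Λ _ g) (secRing_proj Λ _ g hg) (mkE (A := A) K 1) = 0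
    rw [map_one, kap_one]
  leibniz' b b' := by
    change kap (infA (A := A) K) (secRing Λ _ g) (secRing_proj Λ _ g hg) (mkE (A := A) K (b * b')) = _
    rw [map_mul, kap_mul, proj_mkE, proj_mkE, mk_smul_cotangent, mk_smul_cotangent]
    rfl

lemma dhat_apply (b : B) : dhat K g hg b =
    kap (infA (A := A) K) (secRing Λ _ g) (secRing_proj Λ _ g hg) (mkE (A := A) K b) := rfl

lemma derOfSection_eq_dhat (a : A) :
    derOfSection Λ (infA (A := A) K) g hg a = dhat K g hg (algebraMap A B a) := rfl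

lemma dhat_of_mem {k : B} (hk : k ∈ K) : dhat K g hg k = K.toCotangent ⟨k, hk⟩ := by
  apply (infA (A := A) K).isExtension.incl_injective
  rw [dhat_apply, incl_kap, proj_mkE, Ideal.Quotient.eq_zero_iff_mem.2 hk, map_zero, sub_zero,
    incl_toCotangent]

variable (χ : ↥(EGA41.imperfection Λ A (B ⧸ K)) →ₗ[B ⧸ K] K.Cotangent)
  (hχ : (infA (A := A) K).IsCharHom Λ χ)

include hχ in
lemma charHom_eq (z : ↥(EGA41.imperfection Λ A (B ⧸ K))) :
    χ z = derLin Λ (dhat K g hg) (alphaMap Λ A B (B ⧸ K) (z : (B ⧸ K) ⊗[A] Ω[A⁄Λ])) := by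
  rw [(isCharHom_iff Λ (infA (A := A) K) g hg χ).1 hχ z]
  exact derLin_alphaMap Λ A B (B ⧸ K) (dhat K g hg) _ (derOfSection_eq_dhat K g hg) _

lemma alphaMap_mem_imperfection (z : ↥(EGA41.imperfection Λ A (B ⧸ K))) :
    alphaMap Λ A B (B ⧸ K) (z : (B ⧸ K) ⊗[A] Ω[A⁄Λ]) ∈ EGA41.imperfection Λ B (B ⧸ K) := by
  change KaehlerDifferential.mapBaseChange Λ B (B ⧸ K) _ = 0
  rw [mapBaseChange_alphaMap]
  exact z.2

omit g hg in
include hχ in
/-- `alphaMap z = 1 ⊗ d k` with `χ z = [k]`. -/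
lemma exists_rep_charHom (htriv : (infA (A := A) K).IsTrivialOver Λ)
    (z : ↥(EGA41.imperfection Λ A (B ⧸ K))) :
    ∃ (k : B) (hk : k ∈ K),
      alphaMap Λ A B (B ⧸ K) (z : (B ⧸ K) ⊗[A] Ω[A⁄Λ]) =
        (1 : B ⧸ K) ⊗ₜ[B] KaehlerDifferential.D Λ B k ∧ χ z = K.toCotangent ⟨k, hk⟩ := by
  obtain ⟨g, hg⟩ := exists_section Λ _ htriv
  obtain ⟨k, hk, hrep⟩ := exists_rep_of_mem_imperfection Λ K _ (alphaMap_mem_imperfection K z)
  refine ⟨k, hk, hrep, ?_⟩
  rw [charHom_eq K g hg χ hχ z, hrep, derLin_tmul_D, one_smul, dhat_of_mem K g hg hk]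

omit g hg in
include hχ in
theorem charHom_eq_zero_iff (htriv : (infA (A := A) K).IsTrivialOver Λ)
    (z : ↥(EGA41.imperfection Λ A (B ⧸ K))) :
    χ z = 0 ↔ alphaMap Λ A B (B ⧸ K) (z : (B ⧸ K) ⊗[A] Ω[A⁄Λ]) = 0 := by
  constructor
  · intro h0
    obtain ⟨k, hk, hrep, hval⟩ := exists_rep_charHom K χ hχ htriv z
    rw [hval, Ideal.toCotangent_eq_zero] at h0
    rw [hrep]
    exact one_tmul_D_eq_zero_of_mem_sq Λ K h0
  · intro h0
    obtain ⟨g, hg⟩ := exists_section Λ _ htriv
    rw [charHom_eq K g hg χ hχ z, h0, map_zero]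

/-- The map `C ⊗_B Ω_{B/Λ} → C ⊗_B Ω_{B/A}`. -/
noncomputable def betaMap : (B ⧸ K) ⊗[B] Ω[B⁄Λ] →ₗ[B ⧸ K] (B ⧸ K) ⊗[B] Ω[B⁄A] :=
  (KaehlerDifferential.map Λ A B B).baseChange (B ⧸ K)

omit g hg in
lemma betaMap_one_tmul_D (x : B) :
    betaMap (Λ := Λ) (A := A) K ((1 : B ⧸ K) ⊗ₜ[B] KaehlerDifferential.D Λ B x) =
      (1 : B ⧸ K) ⊗ₜ[B] KaehlerDifferential.D A B x := by
  change (KaehlerDifferential.map Λ A B B).baseChange (B ⧸ K) _ = _
  rw [LinearMap.baseChange_tmul, KaehlerDifferential.map_D, Algebra.algebraMap_self,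
    RingHom.id_apply]

omit g hg in
lemma betaMap_alphaMap (z : (B ⧸ K) ⊗[A] Ω[A⁄Λ]) :
    betaMap (Λ := Λ) (A := A) K (alphaMap Λ A B (B ⧸ K) z) = 0 := by
  rw [alphaMap_apply]
  change ((KaehlerDifferential.map Λ A B B).baseChange (B ⧸ K) ∘ₗ
    (KaehlerDifferential.mapBaseChange Λ A B).baseChange (B ⧸ K)) _ = 0
  rw [← LinearMap.baseChange_comp,
    (KaehlerDifferential.exact_mapBaseChange_map Λ A B).linearMap_comp_eq_zero,
    LinearMap.baseChange_zero, LinearMap.zero_apply]

omit g hg in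
lemma exists_alphaMap_eq_of_betaMap_eq_zero (t : (B ⧸ K) ⊗[B] Ω[B⁄Λ])
    (ht : betaMap (Λ := Λ) (A := A) K t = 0) :
    ∃ z : (B ⧸ K) ⊗[A] Ω[A⁄Λ], alphaMap Λ A B (B ⧸ K) z = t := by
  have hex := lTensor_exact (B ⧸ K) (KaehlerDifferential.exact_mapBaseChange_map Λ A B)
    (KaehlerDifferential.map_surjective Λ A B)
  have ht' : (KaehlerDifferential.map Λ A B B).lTensor (B ⧸ K) t = 0 := ht
  obtain ⟨w, hw⟩ := (hex t).1 ht'
  refine ⟨TensorProduct.AlgebraTensorModule.cancelBaseChange A B (B ⧸ K) (B ⧸ K) Ω[A⁄Λ] w, ?_⟩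
  rw [alphaMap_apply, LinearEquiv.symm_apply_apply]
  exact hw

omit g hg in
include hχ in
theorem toCotangent_mem_range_iff (htriv : (infA (A := A) K).IsTrivialOver Λ)
    (x : B) (hx : x ∈ K) :
    K.toCotangent ⟨x, hx⟩ ∈ LinearMap.range χ ↔
      (1 : B ⧸ K) ⊗ₜ[B] KaehlerDifferential.D A B x = (0 : (B ⧸ K) ⊗[B] Ω[B⁄A]) := by
  constructor
  · rintro ⟨z, hz⟩
    obtain ⟨k, hk, hrep, hval⟩ := exists_rep_charHom K χ hχ htriv z
    rw [hz, eq_comm, Ideal.toCotangent_eq] at hval
    have h1 : (1 : B ⧸ K) ⊗ₜ[B] KaehlerDifferential.D Λ B x =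
        alphaMap Λ A B (B ⧸ K) (z : (B ⧸ K) ⊗[A] Ω[A⁄Λ]) := by
      have h2 := one_tmul_D_eq_zero_of_mem_sq Λ K hval
      rw [map_sub, TensorProduct.tmul_sub, sub_eq_zero] at h2
      rw [hrep, ← h2]
    rw [← betaMap_one_tmul_D (Λ := Λ), h1, betaMap_alphaMap]
  · intro h0
    rw [← betaMap_one_tmul_D (Λ := Λ)] at h0
    obtain ⟨z, hz⟩ := exists_alphaMap_eq_of_betaMap_eq_zero K _ h0
    have hzmem : z ∈ EGA41.imperfection Λ A (B ⧸ K) := by
      change KaehlerDifferential.mapBaseChange Λ A (B ⧸ K) z = 0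
      rw [← mapBaseChange_alphaMap Λ A B (B ⧸ K), hz]
      exact one_tmul_D_mem_imperfection Λ K hx
    obtain ⟨g, hg⟩ := exists_section Λ _ htriv
    refine ⟨⟨z, hzmem⟩, ?_⟩
    rw [charHom_eq K g hg χ hχ ⟨z, hzmem⟩]
    change derLin Λ (dhat K g hg) (alphaMap Λ A B (B ⧸ K) z) = _
    rw [hz, derLin_tmul_D, one_smul, dhat_of_mem K g hg hx]

end Inf

end Groth.Agent.Lib.helper9.ExalLib
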