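import Groth.Agent.Lib.helper9.ExalLib
import Mathlib.Tactic

set_option autoImplicit false
set_option linter.unusedSectionVars false
universe u v w

namespace Groth.Agent.Lib.helper9.ExalLib

attribute [local instance] Exal.opModule Exal.isCentralScalar_opModule

open Exal

section Push

variable {B : Type u} [CommRing B] (J : Ideal B)
  {M : Type u} [AddCommGroup M] [Module (B ⧸ J) M] [Module B M] [IsScalarTower B (B ⧸ J) M]

lemma mk_smul_eq (b : B) (m : M) : (Ideal.Quotient.mk J b) • m = b • m := by
  rw [← Ideal.Quotient.algebraMap_eq, algebraMap_smul]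

lemma smul_eq_zero_of_mem {b : B} (hb : b ∈ J) (m : M) : b • m = 0 := by
  rw [← mk_smul_eq J, Ideal.Quotient.eq_zero_iff_mem.2 hb, zero_smul]

variable (w : J.Cotangent →ₗ[B] M)

/-- the element `(j, -w j)` -/
def pushGen (j : J) : TrivSqZeroExt B M :=
  TrivSqZeroExt.inl (j : B) - TrivSqZeroExt.inr (w (J.toCotangent j))

lemma pushGen_add (j j' : J) : pushGen J w (j + j') = pushGen J w j + pushGen J w j' := by
  unfold pushGen
  rw [map_add, map_add, Submodule.coe_add, TrivSqZeroExt.inl_add, TrivSqZeroExt.inr_add]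
  abel

lemma mul_pushGen (x : TrivSqZeroExt B M) (j : J) :
    x * pushGen J w j = pushGen J w (x.fst • j) := by
  unfold pushGen
  apply TrivSqZeroExt.ext
  · simp
  · simp only [TrivSqZeroExt.snd_mul, TrivSqZeroExt.snd_sub, TrivSqZeroExt.snd_inl,
      TrivSqZeroExt.snd_inr, zero_sub, TrivSqZeroExt.fst_sub, TrivSqZeroExt.fst_inl,
      TrivSqZeroExt.fst_inr, sub_zero, op_smul_eq_smul, map_smul, smul_neg]
    rw [smul_eq_zero_of_mem J j.2, add_zero]

/-- The ideal `{(j, -w j)}` of `B ⊕ M`. -/
def pushIdeal : Ideal (TrivSqZeroExt B M) where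
  carrier := Set.range (pushGen J w)
  add_mem' := by
    rintro _ _ ⟨j, rfl⟩ ⟨j', rfl⟩
    exact ⟨j + j', pushGen_add J w j j'⟩
  zero_mem' := ⟨0, by simp [pushGen]⟩
  smul_mem' := by
    rintro x _ ⟨j, rfl⟩
    exact ⟨x.fst • j, (mul_pushGen J w x j).symm⟩

lemma mem_pushIdeal (x : TrivSqZeroExt B M) : x ∈ pushIdeal J w ↔ ∃ j, pushGen J w j = x := Iff.rfl

/-- Carrier of the pushout extension. -/
def PushCarrier : Type u := TrivSqZeroExt B M ⧸ pushIdeal J w

instance : CommRing (PushCarrier J w) :=
  inferInstanceAs (CommRing (TrivSqZeroExt B M ⧸ pushIdeal J w))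

/-- quotient map -/
def pushMk : TrivSqZeroExt B M →+* PushCarrier J w := Ideal.Quotient.mk (pushIdeal J w)

lemma pushMk_surjective : Function.Surjective (pushMk J w) := Ideal.Quotient.mk_surjective

lemma pushMk_eq_zero_iff (x : TrivSqZeroExt B M) : pushMk J w x = 0 ↔ ∃ j, pushGen J w j = x :=
  Ideal.Quotient.eq_zero_iff_mem

noncomputable instance : Algebra B (PushCarrier J w) :=
  ((pushMk J w).comp (TrivSqZeroExt.inlHom B M)).toAlgebra

lemma push_algebraMap (b : B) :
    algebraMap B (PushCarrier J w) b = pushMk J w (TrivSqZeroExt.inl b) := rfl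

/-- projection of the pushout extension, as a ring hom -/
def pushProjRing : PushCarrier J w →+* B ⧸ J :=
  Ideal.Quotient.lift (pushIdeal J w)
    ((Ideal.Quotient.mk J).comp (TrivSqZeroExt.fstHom B B M : TrivSqZeroExt B M →+* B)) (by
      rintro _ ⟨j, rfl⟩
      change Ideal.Quotient.mk J (TrivSqZeroExt.fst (pushGen J w j)) = 0
      rw [Ideal.Quotient.eq_zero_iff_mem]
      simp [pushGen])

lemma pushProjRing_mk (x : TrivSqZeroExt B M) :
    pushProjRing J w (pushMk J w x) = Ideal.Quotient.mk J x.fst := rfl

/-- The pushout of the infinitesimal extension along `w`. -/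
noncomputable def pushExt : Ext B (B ⧸ J) M where
  E := PushCarrier J w
  proj :=
    { pushProjRing J w with
      commutes' := fun b => by
        change pushProjRing J w (pushMk J w (TrivSqZeroExt.inl b)) = _
        rw [pushProjRing_mk]
        rfl }
  incl := (pushMk J w : TrivSqZeroExt B M →+ PushCarrier J w).comp
    (TrivSqZeroExt.inrHom B M).toAddMonoidHom
  isExtension :=
    { proj_surjective := fun c => by
        obtain ⟨b, rfl⟩ := Ideal.Quotient.mk_surjective c
        exact ⟨pushMk J w (TrivSqZeroExt.inl b), rfl⟩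
      incl_injective := by
        rw [injective_iff_map_eq_zero]
        intro m hm
        change pushMk J w (TrivSqZeroExt.inr m) = 0 at hm
        rw [pushMk_eq_zero_iff] at hm
        obtain ⟨j, hj⟩ := hm
        have h1 := congrArg TrivSqZeroExt.fst hj
        have h2 := congrArg TrivSqZeroExt.snd hj
        simp only [pushGen, TrivSqZeroExt.fst_sub, TrivSqZeroExt.fst_inl, TrivSqZeroExt.fst_inr,
          sub_zero] at h1
        simp only [pushGen, TrivSqZeroExt.snd_sub, TrivSqZeroExt.snd_inl, TrivSqZeroExt.snd_inr,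
          zero_sub] at h2
        have hj0 : j = 0 := Subtype.ext h1
        rw [hj0, map_zero, map_zero, neg_zero] at h2
        exact h2.symm
      exact := fun x => by
        obtain ⟨x, rfl⟩ := pushMk_surjective J w x
        change pushProjRing J w (pushMk J w x) = 0 ↔ _
        rw [pushProjRing_mk, Ideal.Quotient.eq_zero_iff_mem]
        constructor
        · intro hx
          refine ⟨x.snd + w (J.toCotangent ⟨x.fst, hx⟩), ?_⟩
          change pushMk J w (TrivSqZeroExt.inr _) = pushMk J w x
          rw [← sub_eq_zero, ← map_sub, pushMk_eq_zero_iff]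
          refine ⟨-⟨x.fst, hx⟩, ?_⟩
          apply TrivSqZeroExt.ext
          · simp [pushGen]
          · simp [pushGen]
        · rintro ⟨m, hm⟩
          change pushMk J w (TrivSqZeroExt.inr m) = pushMk J w x at hm
          rw [← sub_eq_zero, ← map_sub, pushMk_eq_zero_iff] at hm
          obtain ⟨j, hj⟩ := hm
          have h1 := congrArg TrivSqZeroExt.fst hj
          simp only [pushGen, TrivSqZeroExt.fst_sub, TrivSqZeroExt.fst_inl, TrivSqZeroExt.fst_inr,
            sub_zero, zero_sub] at h1
          have : x.fst = -(j : B) := by rw [h1, neg_neg]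
          rw [this]
          exact J.neg_mem j.2
      mul_incl := fun x z => by
        obtain ⟨x, rfl⟩ := pushMk_surjective J w x
        change pushMk J w x * pushMk J w (TrivSqZeroExt.inr z) =
          pushMk J w (TrivSqZeroExt.inr (pushProjRing J w (pushMk J w x) • z))
        rw [pushProjRing_mk, mk_smul_eq, ← map_mul]
        congr 1
        apply TrivSqZeroExt.ext
        · simp
        · simp }

lemma incl_idealToKer (X : Ext B (B ⧸ J) M) (j : J) :
    X.incl (X.idealToKer J j) = algebraMap B X.E (j : B) :=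
  X.incl_kerLift _ (X.proj_algebraMap_eq_zero J j)

lemma conormalMap_toCotangent (X : Ext B (B ⧸ J) M) (j : J) :
    X.conormalMap J (J.toCotangent j) = X.idealToKer J j := rfl

lemma incl_conormalMap (X : Ext B (B ⧸ J) M) (j : J) :
    X.incl (X.conormalMap J (J.toCotangent j)) = algebraMap B X.E (j : B) := by
  rw [conormalMap_toCotangent, incl_idealToKer]

lemma pushExt_incl (m : M) : (pushExt J w).incl m = pushMk J w (TrivSqZeroExt.inr m) := rfl

lemma pushExt_conormalMap : (pushExt J w).conormalMap J = w := by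
  apply LinearMap.ext
  intro z
  obtain ⟨j, rfl⟩ := J.toCotangent_surjective z
  apply (pushExt J w).isExtension.incl_injective
  rw [incl_conormalMap, pushExt_incl]
  change pushMk J w (TrivSqZeroExt.inl (j : B)) = _
  rw [← sub_eq_zero, ← map_sub, pushMk_eq_zero_iff]
  exact ⟨j, rfl⟩

/-- The ring hom `B ⊕ M → E`, `(b, m) ↦ q b + i m`. -/
noncomputable def fromTriv (X : Ext B (B ⧸ J) M) : TrivSqZeroExt B M →+* X.E where
  toFun x := algebraMap B X.E x.fst + X.incl x.snd
  map_one' := by simp
  map_mul' x y := by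
    simp only [TrivSqZeroExt.fst_mul, TrivSqZeroExt.snd_mul, op_smul_eq_smul, map_mul, map_add]
    have h1 : X.incl (x.fst • y.snd) = algebraMap B X.E x.fst * X.incl y.snd := by
      rw [X.isExtension.mul_incl, AlgHom.commutes, Ideal.Quotient.algebraMap_eq, mk_smul_eq]
    have h2 : X.incl (y.fst • x.snd) = algebraMap B X.E y.fst * X.incl x.snd := by
      rw [X.isExtension.mul_incl, AlgHom.commutes, Ideal.Quotient.algebraMap_eq, mk_smul_eq]
    have h3 := incl_mul_incl X x.snd y.snd
    rw [h1, h2]
    linear_combination (-1 : X.E) * h3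
  map_zero' := by simp
  map_add' x y := by
    simp only [TrivSqZeroExt.fst_add, TrivSqZeroExt.snd_add, map_add]
    abel

lemma fromTriv_apply (X : Ext B (B ⧸ J) M) (x : TrivSqZeroExt B M) :
    fromTriv J X x = algebraMap B X.E x.fst + X.incl x.snd := rfl

/-- Every extension is equivalent to the pushout extension along its conormal map. -/
noncomputable def pushEquiv (X : Ext B (B ⧸ J) M) : (pushExt J (X.conormalMap J)).Equiv X := by
  let w := X.conormalMap J
  let φ0 : PushCarrier J w →+* X.E :=
    Ideal.Quotient.lift (pushIdeal J w) (fromTriv J X) (by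
      rintro _ ⟨j, rfl⟩
      rw [fromTriv_apply]
      simp only [pushGen, TrivSqZeroExt.fst_sub, TrivSqZeroExt.fst_inl, TrivSqZeroExt.fst_inr,
        sub_zero, TrivSqZeroExt.snd_sub, TrivSqZeroExt.snd_inl, TrivSqZeroExt.snd_inr, zero_sub,
        map_neg]
      rw [incl_conormalMap, add_neg_cancel])
  have hφ0 : ∀ x, φ0 (pushMk J w x) = fromTriv J X x := fun x => rfl
  let φ : (pushExt J w).E →ₐ[B] X.E :=
    { φ0 with
      commutes' := fun b => by
        change φ0 (pushMk J w (TrivSqZeroExt.inl b)) = _
        rw [hφ0, fromTriv_apply]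
        simp }
  refine equivOfAlgHom _ _ φ ?_ ?_
  · intro x
    obtain ⟨x, rfl⟩ := pushMk_surjective J w x
    change X.proj (φ0 (pushMk J w x)) = pushProjRing J w (pushMk J w x)
    rw [hφ0, fromTriv_apply, pushProjRing_mk, map_add, proj_incl, add_zero, AlgHom.commutes]
    rfl
  · intro z
    change φ0 (pushMk J w (TrivSqZeroExt.inr z)) = X.incl z
    rw [hφ0, fromTriv_apply]
    simp

end Push

end Groth.Agent.Lib.helper9.ExalLib
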