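import Groth.Agent.Lib.helper9.FPLocal
import Groth.Agent.Lib.helper9.ZC5

/-!
# Local criterion for finite presentation of quasi-coherent modules; sections as linear maps
-/

universe u

open AlgebraicGeometry CategoryTheory Opposite TopologicalSpace Limits

namespace Groth.Agent.Lib.helper9.FPLocal

open Scheme.Modules Groth.Agent.Lib.helper9.CohB Groth.Agent.Lib.helper9.AffSect
  Groth.Agent.Lib.helper9.TildeFin

variable {X : Scheme.{u}}

set_option backward.isDefEq.respectTransparency false in
/-- a quasi-coherent module whose modules of sections over a cover by affine opens are finitely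
presented is of finite presentation. -/
theorem isFinitePresentation_of_forall_exists (M : X.Modules) [M.IsQuasicoherent]
    (h : ∀ x : X, ∃ (W : X.Opens) (hW : IsAffineOpen W), x ∈ W ∧
      Module.FinitePresentation Γ(X, W) (Γmod (M.restrict hW.fromSpec))) :
    SheafOfModules.IsFinitePresentation.{u} M := by
  have key : ∀ x : X, ∃ W : X.Opens, x ∈ W ∧ ∃ Q : (M.over W).Presentation, Q.IsFinite := by
    intro x
    obtain ⟨W, hW, hxW, hfp⟩ := h x
    haveI := hfp
    obtain ⟨P₀, hP₀⟩ := exists_presentation_tilde_finite (Γmod (M.restrict hW.fromSpec))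
    haveI hqc : (M.restrict hW.fromSpec).IsQuasicoherent := inferInstance
    haveI hiso : IsIso (M.restrict hW.fromSpec).fromTildeΓ := inferInstance
    haveI : (SheafOfModules.Presentation.ofIsIso.{u, u, u}
      (M.restrict hW.fromSpec).fromTildeΓ P₀).IsFinite := inferInstance
    obtain ⟨P₂, hP₂⟩ := exists_presentation_restrict_ι hW
      (SheafOfModules.Presentation.ofIsIso.{u, u, u} (M.restrict hW.fromSpec).fromTildeΓ P₀)
    obtain ⟨P₃, hP₃⟩ := exists_presentation_over W P₂
    exact ⟨W, hxW, P₃, hP₃⟩
  choose W hxW Q hQ using key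
  have cov : (Opens.grothendieckTopology X).CoversTop W := by
    rw [Opens.coversTop_iff, IsOpenCover]
    exact eq_top_iff.mpr fun x _ => Opens.mem_iSup.mpr ⟨x, hxW x⟩
  let q : M.QuasicoherentData := { I := X, X := W, coversTop := cov, presentation := Q }
  constructor
  refine ⟨q, ?_⟩
  constructor
  intro i
  exact hQ i

/-- the map on sections over `U` induced by a morphism of modules, as a linear map. -/
noncomputable def appLin {M N : X.Modules} (φ : M ⟶ N) (U : X.Opens) :
    Γ(M, U) →ₗ[Γ(X, U)] Γ(N, U) where
  toFun x := φ.app U x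
  map_add' a b := map_add (φ.app U).hom a b
  map_smul' r x := Hom.app_smul φ r x

@[simp] lemma appLin_apply {M N : X.Modules} (φ : M ⟶ N) (U : X.Opens) (x : Γ(M, U)) :
    appLin φ U x = φ.app U x := rfl

lemma appLin_injective {M N : X.Modules} (φ : M ⟶ N) [Mono φ] (U : X.Opens) :
    Function.Injective (appLin φ U) :=
  Groth.Agent.Lib.helper9.ZC.app_injective_of_mono φ U

set_option backward.isDefEq.respectTransparency false in
/-- on a locally Noetherian scheme, a quasi-coherent submodule of a coherent module is of finite
presentation. -/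
theorem isFinitePresentation_of_mono [IsLocallyNoetherian X] {N M : X.Modules} (i : N ⟶ M) [Mono i]
    [M.IsQuasicoherent] [SheafOfModules.IsFiniteType.{u} M] [N.IsQuasicoherent] :
    SheafOfModules.IsFinitePresentation.{u} N := by
  apply isFinitePresentation_of_forall_exists
  intro x
  obtain ⟨W, hW, hxW, hNoeth, hfin⟩ := exists_good_affine M x
  haveI := hNoeth
  haveI := hfin
  haveI : Module.Finite Γ(X, W) Γ(M, W) := finite_sections M hW
  haveI : IsNoetherian Γ(X, W) Γ(M, W) := isNoetherian_of_isNoetherianRing_of_finite _ _
  haveI : Module.Finite Γ(X, W) Γ(N, W) :=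
    Module.Finite.of_injective (appLin i W) (appLin_injective i W)
  haveI : Module.Finite Γ(X, W) (Γmod (N.restrict hW.fromSpec)) :=
    Module.Finite.equiv (sectEquiv N hW).symm
  exact ⟨W, hW, hxW, Module.finitePresentation_of_finite _ _⟩

end Groth.Agent.Lib.helper9.FPLocal
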