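import Groth.Agent.Lib.helper9.FPLocal2
import Groth.Agent.Lib.helper9.FinAff

/-!
# Local criterion for finite type of quasi-coherent modules
-/

universe u

open AlgebraicGeometry CategoryTheory Opposite TopologicalSpace Limits

namespace Groth.Agent.Lib.helper9.FTLocal

open Scheme.Modules Groth.Agent.Lib.helper9.CohB Groth.Agent.Lib.helper9.AffSect
  Groth.Agent.Lib.helper9.TildeFin

variable {X : Scheme.{u}}

set_option backward.isDefEq.respectTransparency false in
/-- a quasi-coherent module whose modules of sections over a cover by affine opens are finite is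
of finite type. -/
theorem isFiniteType_of_forall_exists (M : X.Modules) [M.IsQuasicoherent]
    (h : ∀ x : X, ∃ (W : X.Opens) (hW : IsAffineOpen W), x ∈ W ∧
      Module.Finite Γ(X, W) (Γmod (M.restrict hW.fromSpec))) :
    SheafOfModules.IsFiniteType.{u} M := by
  have key : ∀ x : X, ∃ W : X.Opens, x ∈ W ∧
      ∃ Q : (M.over W).GeneratingSections, Q.IsFiniteType := by
    intro x
    obtain ⟨W, hW, hxW, hfin⟩ := h x
    haveI := hfin
    obtain ⟨S, hS⟩ := (Module.Finite.fg_top :
      (⊤ : Submodule Γ(X, W) (Γmod (M.restrict hW.fromSpec))).FG)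
    let P := presentationTilde.{u} (Γmod (M.restrict hW.fromSpec)) (S : Set _) hS _
      (Submodule.span_eq _)
    haveI hfinI : Finite P.generators.I := (Finset.finite_toSet S).to_subtype
    haveI hP : P.generators.IsFiniteType := ⟨hfinI⟩
    haveI hiso : IsIso (M.restrict hW.fromSpec).fromTildeΓ := inferInstance
    let τ₁ : (M.restrict hW.fromSpec).GeneratingSections :=
      P.generators.ofEpi (M.restrict hW.fromSpec).fromTildeΓ
    let iso : (M.restrict hW.fromSpec).restrict hW.isoSpec.hom ≅ M.restrict W.ι :=
      ((restrictFunctorComp hW.isoSpec.hom hW.fromSpec).app M).symm ≪≫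
        (restrictFunctorCongr (show hW.isoSpec.hom ≫ hW.fromSpec = W.ι by
          rw [IsAffineOpen.fromSpec, Iso.hom_inv_id_assoc])).app M
    let τ₂ : (M.restrict W.ι).GeneratingSections :=
      (generatingSectionsRestrict hW.isoSpec.hom τ₁).ofEpi iso.hom
    let E := overEquiv W
    let η₀ : E.functor.obj (SheafOfModules.unit (X.ringCatSheaf.over W)) ≅
        SheafOfModules.unit (W : Scheme.{u}).ringCatSheaf := Iso.refl _
    let η : SheafOfModules.unit (X.ringCatSheaf.over W) ≅
        E.inverse.obj (SheafOfModules.unit (W : Scheme.{u}).ringCatSheaf) :=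
      E.unitIso.app _ ≪≫ E.inverse.mapIso η₀
    have : PreservesColimitsOfSize.{u, u} E.inverse := inferInstance
    let iso2 : E.inverse.obj (M.restrict W.ι) ≅ M.over W :=
      E.inverse.mapIso ((overFunctorEquiv W).app M).symm ≪≫ (E.unitIso.app (M.over W)).symm
    let τ₃ : (M.over W).GeneratingSections := (τ₂.map E.inverse η).ofEpi iso2.hom
    exact ⟨W, hxW, τ₃, ⟨hfinI⟩⟩
  choose W hxW Q hQ using key
  have cov : (Opens.grothendieckTopology X).CoversTop W := by
    rw [Opens.coversTop_iff, IsOpenCover]
    exact eq_top_iff.mpr fun x _ => Opens.mem_iSup.mpr ⟨x, hxW x⟩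
  let q : M.LocalGeneratorsData := { I := X, X := W, coversTop := cov, generators := Q }
  constructor
  refine ⟨q, ?_⟩
  constructor
  intro i
  exact hQ i

end Groth.Agent.Lib.helper9.FTLocal
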