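import Groth.Prelude.Def_FibClv
import Mathlib

set_option autoImplicit false
set_option backward.isDefEq.respectTransparency false
set_option backward.isDefEq.respectTransparency.types false
universe v₁ v₂ u₁ u₂

open CategoryTheory CategoryTheory.Functor

namespace Groth.Agent.H9FibClv

variable {𝒮 : Type u₁} {𝒳 : Type u₂} [Category.{v₁} 𝒮] [Category.{v₂} 𝒳] {p : 𝒳 ⥤ 𝒮}
  (K : FibCat.Cleavage p)

/-- the identification of inverse images along equal morphisms is compatible with the lifts -/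
theorem congr_hom_app_lift {R S : 𝒮} {f f' : R ⟶ S} (h : f = f') (a : p.Fiber S) :
    Fiber.fiberInclusion.map ((K.inverseImageCongr h).hom.app a) ≫ K.lift a.2 f' = K.lift a.2 f := by
  subst h
  simp [FibCat.Cleavage.inverseImageCongr]

theorem comp_app_lift {R S T : 𝒮} (f : T ⟶ S) (g : R ⟶ T) (a : p.Fiber S) :
    Fiber.fiberInclusion.map ((K.comp f g).app a) ≫ K.lift a.2 (g ≫ f) =
      K.lift (K.obj_proj a.2 f) g ≫ K.lift a.2 f := by
  rw [FibCat.Cleavage.comp_app]
  exact IsCartesian.fac p (g ≫ f) (K.lift a.2 (g ≫ f)) _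

theorem inverseImage_map_lift {R S : 𝒮} (f : R ⟶ S) {a b : p.Fiber S} (φ : a ⟶ b) :
    Fiber.fiberInclusion.map ((K.inverseImage f).map φ) ≫ K.lift b.2 f =
      K.lift a.2 f ≫ Fiber.fiberInclusion.map φ := by
  rw [FibCat.Cleavage.inverseImage_map]
  exact IsCartesian.fac p f (K.lift b.2 f) _

end Groth.Agent.H9FibClv

namespace Groth.Agent.H9FibClv

variable {𝒮 : Type u₁} {𝒳 : Type u₂} [Category.{v₁} 𝒮] [Category.{v₂} 𝒳] {p : 𝒳 ⥤ 𝒮}
  (K : FibCat.Cleavage p)

/-- a morphism of a fibre whose underlying morphism is invertible is invertible -/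
theorem isIso_fiber_of_isIso {S : 𝒮} {a b : p.Fiber S} (φ : a ⟶ b)
    (h : IsIso (Fiber.fiberInclusion.map φ)) : IsIso φ := by
  have h1 : p.IsHomLift (𝟙 S) (Fiber.fiberInclusion.map φ) := inferInstance
  have h2 : p.IsHomLift (𝟙 S) (inv (Fiber.fiberInclusion.map φ)) := inferInstance
  refine ⟨Fiber.homMk p S (inv (Fiber.fiberInclusion.map φ)), ?_, ?_⟩
  · apply Fiber.hom_ext
    rw [Functor.map_comp, Fiber.fiberInclusion_homMk, IsIso.hom_inv_id]
    rfl
  · apply Fiber.hom_ext
    rw [Functor.map_comp, Fiber.fiberInclusion_homMk, IsIso.inv_hom_id]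
    rfl

/-- In a fibred category the comparison morphisms are invertible. -/
theorem isIso_comp_of_isFibered [p.IsFibered] {R S T : 𝒮} (f : T ⟶ S) (g : R ⟶ T) :
    IsIso (K.comp f g) := by
  have : ∀ a : p.Fiber S, IsIso ((K.comp f g).app a) := by
    intro a
    apply isIso_fiber_of_isIso
    rw [FibCat.Cleavage.comp_app]
    have hc : p.IsCartesian (g ≫ f) (K.lift (K.obj_proj a.2 f) g ≫ K.lift a.2 f) := inferInstance
    have := (IsCartesian.domainUniqueUpToIso p (g ≫ f) (K.lift a.2 (g ≫ f))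
      (K.lift (K.obj_proj a.2 f) g ≫ K.lift a.2 f)).isIso_hom
    rwa [IsCartesian.domainUniqueUpToIso_hom] at this
  exact NatIso.isIso_of_isIso_app _

end Groth.Agent.H9FibClv
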