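import Groth.Agent.Lib.helper9.FlatDepth

/-!
# Depth does not decrease along a flat local homomorphism
-/

universe u

open CategoryTheory RingTheory.Sequence Pointwise TensorProduct

namespace Groth.Agent.Lib.helper9.FlatDepth

open LocCoh Groth.Agent.Lib.helper9.Depth

theorem idealDepth_mono {A : Type u} [CommRing A] {I J : Ideal A} (h : I ≤ J) (M : Type u)
    [AddCommGroup M] [Module A M] : idealDepth I M ≤ idealDepth J M := by
  by_cases hJ : J • (⊤ : Submodule A M) = ⊤
  · rw [idealDepth_eq_top J M hJ]
    exact le_top
  · have hI : I • (⊤ : Submodule A M) ≠ ⊤ := by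
      intro hI
      apply hJ
      have : (⊤ : Submodule A M) ≤ J • (⊤ : Submodule A M) := by
        calc (⊤ : Submodule A M) = I • (⊤ : Submodule A M) := hI.symm
          _ ≤ J • (⊤ : Submodule A M) := Submodule.smul_mono_left h
      exact top_le_iff.mp this
    rw [idealDepth_eq_iSup I M hI]
    refine iSup₂_le fun rs hrs => ?_
    exact length_le_idealDepth hrs.1 (fun r hr => h (hrs.2 r hr))

theorem depth_le_of_flat_local {A B : Type u} [CommRing A] [CommRing B] [IsLocalRing A]
    [IsLocalRing B] [Algebra A B] [Module.Flat A B] [IsLocalHom (algebraMap A B)] :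
    depth A A ≤ depth B B := by
  unfold depth
  refine (idealDepth_le_baseChange (B := B) (IsLocalRing.maximalIdeal A) A).trans ?_
  rw [idealDepth_congr _ (TensorProduct.AlgebraTensorModule.rid A B B)]
  apply idealDepth_mono
  exact ((IsLocalRing.local_hom_TFAE (algebraMap A B)).out 0 2).1 ‹_›

end Groth.Agent.Lib.helper9.FlatDepth
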