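import Groth.Agent.Lib.helper9.InvRes
import Groth.Agent.Lib.helper9.CohB6
import Groth.Prelude.Def_FlatMod2

/-!
# Restriction of sections of a finite locally free module across a closed subset
-/

universe u

open AlgebraicGeometry CategoryTheory Opposite TopologicalSpace Limits

namespace Groth.Agent.Lib.helper9.Glue

open Scheme.Modules

/-- if `N` is a finite "direct sum" of the `f i` (via maps `inc`, `pr` with `∑ pr ≫ inc = 𝟙`), a
restriction map of `N` is bijective as soon as those of the `f i` are. -/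
theorem bijective_of_decomp {Z : Scheme.{u}} {ι : Type} [Fintype ι] (f : ι → Z.Modules)
    (N : Z.Modules) (inc : ∀ i, f i ⟶ N) (pr : ∀ i, N ⟶ f i)
    (htot : ∑ i, pr i ≫ inc i = 𝟙 N) {W₁ W₂ : Z.Opens} (hle : W₂ ≤ W₁)
    (hb : ∀ i, Function.Bijective ((f i).presheaf.map (homOfLE hle).op)) :
    Function.Bijective (N.presheaf.map (homOfLE hle).op) := by
  have htot' : ∀ (W : Z.Opens) (s : Γ(N, W)),
      ∑ i, (inc i).app W ((pr i).app W s) = s := by
    intro W s
    let ev : (N ⟶ N) →+ Γ(N, W) :=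
      { toFun := fun φ => φ.app W s, map_zero' := rfl, map_add' := fun _ _ => rfl }
    have := congrArg ev htot
    rw [map_sum] at this
    exact this
  have hnat : ∀ {M M' : Z.Modules} (φ : M ⟶ M') (s : Γ(M, W₁)),
      M'.presheaf.map (homOfLE hle).op (φ.app W₁ s) =
        φ.app W₂ (M.presheaf.map (homOfLE hle).op s) := by
    intro M M' φ s
    have h1 := φ.mapPresheaf.naturality (homOfLE hle).op
    have := congrArg (fun ψ => ψ s) h1
    exact this.symm
  constructor
  · intro s s' hss'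
    have key : ∀ i, (pr i).app W₁ s = (pr i).app W₁ s' := by
      intro i
      apply (hb i).1
      rw [hnat (pr i) s, hnat (pr i) s', hss']
    calc s = ∑ i, (inc i).app W₁ ((pr i).app W₁ s) := (htot' W₁ s).symm
      _ = ∑ i, (inc i).app W₁ ((pr i).app W₁ s') :=
          Finset.sum_congr rfl (fun i _ => by rw [key i])
      _ = s' := htot' W₁ s'
  · intro t
    choose a ha using fun i => (hb i).2 ((pr i).app W₂ t)
    refine ⟨∑ i, (inc i).app W₁ (a i), ?_⟩
    rw [map_sum]
    calc ∑ i, N.presheaf.map (homOfLE hle).op ((inc i).app W₁ (a i))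
        = ∑ i, (inc i).app W₂ ((pr i).app W₂ t) :=
          Finset.sum_congr rfl (fun i _ => by rw [hnat (inc i) (a i), ha i])
      _ = t := htot' W₂ t

/-- restriction maps of a finite coproduct. -/
theorem bijective_sigma {Z : Scheme.{u}} {n : ℕ} (f : Fin n → Z.Modules)
    {W₁ W₂ : Z.Opens} (hle : W₂ ≤ W₁)
    (hb : ∀ i, Function.Bijective ((f i).presheaf.map (homOfLE hle).op)) :
    Function.Bijective ((∐ f).presheaf.map (homOfLE hle).op) := by
  haveI : HasFiniteBiproducts Z.Modules := HasFiniteBiproducts.of_hasFiniteProducts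
  set iso := biproduct.isoCoproduct f with hiso
  refine bijective_of_decomp f (∐ f) (fun i => biproduct.ι f i ≫ iso.hom)
    (fun i => iso.inv ≫ biproduct.π f i) ?_ hle hb
  have : ∑ i, (iso.inv ≫ biproduct.π f i) ≫ (biproduct.ι f i ≫ iso.hom) =
      iso.inv ≫ (∑ i, biproduct.π f i ≫ biproduct.ι f i) ≫ iso.hom := by
    rw [Preadditive.sum_comp, Preadditive.comp_sum]
    exact Finset.sum_congr rfl (fun i _ => by simp only [Category.assoc])
  rw [this, biproduct.total, Category.id_comp, Iso.inv_hom_id]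

variable {X : Scheme.{u}}

/-- on an open where `L` is free of finite rank, restriction maps of `L` are bijective when those
of `𝒪` are. -/
theorem res_of_iso_free (L : X.Modules) (U₀ : X.Opens) (n : ℕ)
    (e : L.restrict U₀.ι ≅ FlatMod.freeMod (↑U₀ : Scheme.{u}) n) (U W : X.Opens) (hW : W ≤ U₀)
    (hX : Function.Bijective (X.presheaf.map (homOfLE (inf_le_left : W ⊓ U ≤ W)).op)) :
    Function.Bijective (L.presheaf.map (homOfLE (inf_le_left : W ⊓ U ≤ W)).op) := by
  set ι := U₀.ι with hι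
  set W₁ : (↑U₀ : Scheme.{u}).Opens := ι ⁻¹ᵁ W with hW₁
  set W₂ : (↑U₀ : Scheme.{u}).Opens := ι ⁻¹ᵁ (W ⊓ U) with hW₂
  have hle12 : W₂ ≤ W₁ := ι.preimage_mono inf_le_left
  have h1 : ι ''ᵁ W₁ = W := by
    rw [hW₁, Scheme.Hom.image_preimage_eq_opensRange_inf, Scheme.Opens.opensRange_ι]
    exact inf_eq_right.mpr hW
  have h2 : ι ''ᵁ W₂ = W ⊓ U := by
    rw [hW₂, Scheme.Hom.image_preimage_eq_opensRange_inf, Scheme.Opens.opensRange_ι]
    exact inf_eq_right.mpr (inf_le_left.trans hW)
  have hle : ι ''ᵁ W₂ ≤ ι ''ᵁ W₁ := ι.image_mono hle12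
  rw [← bijective_map_congr L.presheaf h1 h2 hle inf_le_left]
  rw [← bijective_map_congr X.presheaf h1 h2 hle inf_le_left] at hX
  have hO : Function.Bijective
      ((Coh.structureModule (↑U₀ : Scheme.{u})).presheaf.map (homOfLE hle12).op) := hX
  have hfree : Function.Bijective
      ((FlatMod.freeMod (↑U₀ : Scheme.{u}) n).presheaf.map (homOfLE hle12).op) :=
    bijective_sigma (fun _ : Fin n => Coh.structureModule (↑U₀ : Scheme.{u})) hle12 (fun _ => hO)
  have hnat := e.hom.mapPresheaf.naturality (homOfLE hle12).op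
  have b1 : Function.Bijective (e.hom.app W₁) := by
    haveI : IsIso (e.hom.app W₁) := inferInstance
    exact ConcreteCategory.bijective_of_isIso _
  have b2 : Function.Bijective (e.hom.app W₂) := by
    haveI : IsIso (e.hom.app W₂) := inferInstance
    exact ConcreteCategory.bijective_of_isIso _
  refine ((bij_inj_iff_of_square (f := L.presheaf.map (homOfLE hle).op)
    (g := (FlatMod.freeMod (↑U₀ : Scheme.{u}) n).presheaf.map (homOfLE hle12).op)
    b1 b2 ?_).1).2 hfree
  intro s
  have := congrArg (fun φ => φ s) hnat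
  exact this

/-- for a finite locally free module, bijectivity of restrictions `Γ(V) → Γ(V ∩ U)` follows
from that of the structure sheaf. -/
theorem res_of_isFinLocFree (E : X.Modules) (hE : FlatMod.IsFinLocFree E) (U : X.Opens)
    (h : ∀ V : X.Opens,
      Function.Bijective (X.presheaf.map (homOfLE (inf_le_left : V ⊓ U ≤ V)).op)) :
    ∀ V : X.Opens,
      Function.Bijective (E.presheaf.map (homOfLE (inf_le_left : V ⊓ U ≤ V)).op) := by
  let B : Set X.Opens := {W | ∃ (U₀ : X.Opens) (n : ℕ), W ≤ U₀ ∧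
    Nonempty (E.restrict U₀.ι ≅ FlatMod.freeMod (↑U₀ : Scheme.{u}) n)}
  have hB : Opens.IsBasis B := by
    rw [Opens.isBasis_iff_nbhd]
    intro V x hx
    obtain ⟨U₀, n, hxU₀, he⟩ := hE x
    exact ⟨V ⊓ U₀, ⟨U₀, n, inf_le_right, he⟩, ⟨hx, hxU₀⟩, inf_le_left⟩
  intro V
  refine resInf_bijective_of_basis ⟨E.presheaf, E.isSheaf⟩ U B hB ?_ V
  rintro W ⟨U₀, n, hW, ⟨e⟩⟩
  exact res_of_iso_free E U₀ n e U W hW (h W)

/-- the unit `E → j_* j^* E` is an isomorphism for finite locally free `E` when functions extend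
uniquely. -/
theorem isIso_unit_of_isFinLocFree (E : X.Modules) (hE : FlatMod.IsFinLocFree E) (U : X.Opens)
    (h : ∀ V : X.Opens,
      Function.Bijective (X.presheaf.map (homOfLE (inf_le_left : V ⊓ U ≤ V)).op)) :
    IsIso ((restrictAdjunction U.ι).unit.app E) :=
  (Groth.Agent.Lib.helper9.CohB.isIso_unit_iff E U).mpr (res_of_isFinLocFree E hE U h)

/-- finite local freeness is invariant under isomorphism. -/
theorem isFinLocFree_of_iso {E E' : X.Modules} (e : E ≅ E') (hE : FlatMod.IsFinLocFree E) :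
    FlatMod.IsFinLocFree E' := by
  intro x
  obtain ⟨U₀, n, hx, ⟨e₀⟩⟩ := hE x
  exact ⟨U₀, n, hx, ⟨(Scheme.Modules.restrictFunctor U₀.ι).mapIso e.symm ≪≫ e₀⟩⟩

/-- invertibility is invariant under isomorphism. -/
theorem isInvertible_of_iso {E E' : X.Modules} (e : E ≅ E') (hE : PicF.IsInvertible E) :
    PicF.IsInvertible E' := by
  intro x
  obtain ⟨U₀, hx, ⟨e₀⟩⟩ := hE x
  exact ⟨U₀, hx, ⟨(Scheme.Modules.restrictFunctor U₀.ι).mapIso e.symm ≪≫ e₀⟩⟩

end Groth.Agent.Lib.helper9.Glue
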