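import Groth.Agent.Lib.helper9.Glue2

/-!
# Schematic density and depth `≥ 1`
-/

universe u

open AlgebraicGeometry CategoryTheory Opposite TopologicalSpace

namespace Groth.Agent.Lib.helper9.Glue

open LocCoh Groth.Agent.Lib.helper9.Depth Groth.Agent.Lib.helper9.Sect

/-- injectivity of a restriction map only depends on the opens. -/
lemma injective_map_congr {C : Type*} [Category C] {FC : C → C → Type*} {CC : C → Type*}
    [∀ X Y, FunLike (FC X Y) (CC X) (CC Y)] [ConcreteCategory C FC]
    {X : TopCat} (P : TopCat.Presheaf C X) {V₁ V₁' V₂ V₂' : Opens X}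
    (h₁ : V₁ = V₁') (h₂ : V₂ = V₂') (le : V₂ ≤ V₁) (le' : V₂' ≤ V₁') :
    Function.Injective (P.map (homOfLE le).op) ↔ Function.Injective (P.map (homOfLE le').op) := by
  subst h₁ h₂
  rfl

lemma injective_comp_bijective {α β γ δ : Type*} {e₁ : α → β} {g : β → γ} {e₂ : γ → δ}
    (h₁ : Function.Bijective e₁) (h₂ : Function.Bijective e₂) :
    Function.Injective (e₂ ∘ g ∘ e₁) ↔ Function.Injective g := by
  rw [h₂.injective.of_comp_iff, Function.Injective.of_comp_iff' _ h₁]

/-- affine case: injectivity of `Γ(W, 𝒪) → Γ(W ∩ U, 𝒪)` in terms of associated primes. -/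
theorem structureSheaf_res_injective_iff_of_isAffineOpen {X : Scheme.{u}} {W : X.Opens}
    (hW : IsAffineOpen W) [IsNoetherianRing Γ(X, W)] (U : X.Opens) :
    Function.Injective (X.presheaf.map (homOfLE (inf_le_left : W ⊓ U ≤ W)).op) ↔
      ∀ q : PrimeSpectrum Γ(X, W), q.asIdeal ∈ associatedPrimes Γ(X, W) Γ(X, W) →
        hW.fromSpec q ∈ U := by
  set f := hW.fromSpec with hf
  set U' : (Spec Γ(X, W)).Opens := f ⁻¹ᵁ U with hU'
  have h1 : f ''ᵁ (⊤ : (Spec Γ(X, W)).Opens) = W := by
    rw [Scheme.Hom.image_top_eq_opensRange, hW.opensRange_fromSpec]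
  have h2 : f ''ᵁ U' = W ⊓ U := by
    rw [hU', Scheme.Hom.image_preimage_eq_opensRange_inf, hW.opensRange_fromSpec]
  have hle : f ''ᵁ U' ≤ f ''ᵁ (⊤ : (Spec Γ(X, W)).Opens) := f.image_mono le_top
  rw [← injective_map_congr X.presheaf h1 h2 hle inf_le_left]
  have hnat := f.appIso_hom_naturality (homOfLE (le_top : U' ≤ ⊤)).op
  have hcomp : X.presheaf.map (homOfLE hle).op =
      (f.appIso ⊤).hom ≫ (Spec Γ(X, W)).presheaf.map (homOfLE (le_top : U' ≤ ⊤)).op ≫
        (f.appIso U').inv := by
    rw [← Category.assoc, ← hnat, Category.assoc, Iso.hom_inv_id, Category.comp_id]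
    rfl
  have b1 : Function.Bijective (f.appIso ⊤).hom :=
    ConcreteCategory.bijective_of_isIso _
  have b2 : Function.Bijective (f.appIso U').inv :=
    ConcreteCategory.bijective_of_isIso _
  have hiff : Function.Injective (X.presheaf.map (homOfLE hle).op) ↔
      Function.Injective (Sect.res (M := Γ(X, W)) (le_top : U' ≤ ⊤)) := by
    rw [hcomp]
    simp only [CommRingCat.hom_comp, RingHom.coe_comp]
    exact injective_comp_bijective (g := Sect.res (M := Γ(X, W)) (le_top : U' ≤ ⊤)) b1 b2
  rw [hiff]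
  constructor
  · intro h q hq
    exact ass_subset_of_res_injective U' h q hq
  · intro h
    exact res_injective_of_ass U' h

/-- On a locally Noetherian scheme, `Γ(V, 𝒪_X) → Γ(V ∩ U, 𝒪_X)` is injective for all opens `V`
iff `depth 𝒪_{X,x} ≥ 1` at all points outside the open `U`. -/
theorem structureSheaf_res_injective_iff {X : Scheme.{u}} [IsLocallyNoetherian X] (U : X.Opens) :
    (∀ V : X.Opens, Function.Injective (X.presheaf.map (homOfLE (inf_le_left : V ⊓ U ≤ V)).op)) ↔
      ∀ x : X, x ∉ U → 1 ≤ depth (X.presheaf.stalk x) (X.presheaf.stalk x) := by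
  constructor
  · intro h x hx
    obtain ⟨W, hW, hxW, -⟩ := (Opens.isBasis_iff_nbhd.mp X.isBasis_affineOpens)
      (show x ∈ (⊤ : X.Opens) from trivial)
    have : IsNoetherianRing Γ(X, W) := IsLocallyNoetherian.component_noetherian ⟨W, hW⟩
    obtain ⟨q, rfl⟩ : ∃ q, hW.fromSpec q = x :=
      ⟨hW.primeIdealOf ⟨x, hxW⟩, hW.fromSpec_primeIdealOf ⟨x, hxW⟩⟩
    have hass := (structureSheaf_res_injective_iff_of_isAffineOpen hW U).mp (h W)
    rw [← depth_stalk_eq hW q, Order.one_le_iff_ne_zero]
    intro h0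
    exact hx (hass q ((depth_localization_eq_zero_iff q.asIdeal Γ(X, W)).mp h0))
  · intro h V
    refine resInf_injective_of_basis X.sheaf U X.affineOpens X.isBasis_affineOpens ?_ V
    intro W hW
    have : IsNoetherianRing Γ(X, W) := IsLocallyNoetherian.component_noetherian ⟨W, hW⟩
    refine (structureSheaf_res_injective_iff_of_isAffineOpen hW U).mpr ?_
    intro q hq
    by_contra hqU
    have h1 := h _ hqU
    rw [← depth_stalk_eq hW q, (depth_localization_eq_zero_iff q.asIdeal Γ(X, W)).mpr hq] at h1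
    exact absurd h1 (by decide)

end Groth.Agent.Lib.helper9.Glue
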