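import Groth.Agent.Lib.helper9.Glue3
import Groth.Prelude.Def_Pic
import Groth.Prelude.Def_Coh

/-!
# Restriction of sections of an invertible module across a closed subset
-/

universe u

open AlgebraicGeometry CategoryTheory Opposite TopologicalSpace

namespace Groth.Agent.Lib.helper9.Glue

/-- square lemma on functions. -/
lemma bij_inj_iff_of_square {α β γ δ : Type*} {f : α → β} {g : γ → δ} {e₁ : α → γ} {e₂ : β → δ}
    (h₁ : Function.Bijective e₁) (h₂ : Function.Bijective e₂)
    (hsq : ∀ s, e₂ (f s) = g (e₁ s)) :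
    (Function.Bijective f ↔ Function.Bijective g) ∧
      (Function.Injective f ↔ Function.Injective g) := by
  have hcomp : e₂ ∘ f = g ∘ e₁ := funext hsq
  constructor
  · constructor
    · intro hf
      have : Function.Bijective (g ∘ e₁) := hcomp ▸ h₂.comp hf
      exact (Function.Bijective.of_comp_iff g h₁).1 this
    · intro hg
      have : Function.Bijective (e₂ ∘ f) := hcomp ▸ hg.comp h₁
      exact (Function.Bijective.of_comp_iff' h₂ f).1 this
  · constructor
    · intro hf
      have : Function.Injective (g ∘ e₁) := hcomp ▸ h₂.injective.comp hf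
      exact (Function.Injective.of_comp_iff' g h₁).1 this
    · intro hg
      have : Function.Injective (e₂ ∘ f) := hcomp ▸ hg.comp h₁.injective
      exact this.of_comp

variable {X : Scheme.{u}}

/-- on an open where `L` is trivial, restriction maps of `L` behave like those of `𝒪`. -/
theorem res_iff_of_iso (L : X.Modules) (U₀ : X.Opens)
    (e : L.restrict U₀.ι ≅ Coh.structureModule (↑U₀ : Scheme.{u})) (U W : X.Opens) (hW : W ≤ U₀) :
    (Function.Bijective (L.presheaf.map (homOfLE (inf_le_left : W ⊓ U ≤ W)).op) ↔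
      Function.Bijective (X.presheaf.map (homOfLE (inf_le_left : W ⊓ U ≤ W)).op)) ∧
    (Function.Injective (L.presheaf.map (homOfLE (inf_le_left : W ⊓ U ≤ W)).op) ↔
      Function.Injective (X.presheaf.map (homOfLE (inf_le_left : W ⊓ U ≤ W)).op)) := by
  set ι := U₀.ι with hι
  set W₁ : (↑U₀ : Scheme.{u}).Opens := ι ⁻¹ᵁ W with hW₁
  set W₂ : (↑U₀ : Scheme.{u}).Opens := ι ⁻¹ᵁ (W ⊓ U) with hW₂
  have hle12 : W₂ ≤ W₁ := ι.preimage_mono inf_le_left
  have h1 : ι ''ᵁ W₁ = W := by
    rw [hW₁, Scheme.Hom.image_preimage_eq_opensRange_inf, Scheme.Opens.opensRange_ι]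
    exact inf_eq_right.mpr hW
  have h2 : ι ''ᵁ W₂ = W ⊓ U := by
    rw [hW₂, Scheme.Hom.image_preimage_eq_opensRange_inf, Scheme.Opens.opensRange_ι]
    exact inf_eq_right.mpr (inf_le_left.trans hW)
  have hle : ι ''ᵁ W₂ ≤ ι ''ᵁ W₁ := ι.image_mono hle12
  rw [← bijective_map_congr L.presheaf h1 h2 hle inf_le_left,
    ← bijective_map_congr X.presheaf h1 h2 hle inf_le_left,
    ← injective_map_congr L.presheaf h1 h2 hle inf_le_left,
    ← injective_map_congr X.presheaf h1 h2 hle inf_le_left]
  have hnat := e.hom.mapPresheaf.naturality (homOfLE hle12).op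
  have b1 : Function.Bijective (e.hom.app W₁) := by
    haveI : IsIso (e.hom.app W₁) := inferInstance
    exact ConcreteCategory.bijective_of_isIso _
  have b2 : Function.Bijective (e.hom.app W₂) := by
    haveI : IsIso (e.hom.app W₂) := inferInstance
    exact ConcreteCategory.bijective_of_isIso _
  refine bij_inj_iff_of_square (f := L.presheaf.map (homOfLE hle).op)
    (g := X.presheaf.map (homOfLE hle).op) b1 b2 ?_
  intro s
  have := congrArg (fun φ => φ s) hnat
  exact this

/-- for an invertible module, injectivity/bijectivity of restrictions `Γ(V) → Γ(V ∩ U)` follows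
from that of the structure sheaf. -/
theorem res_of_isInvertible (L : X.Modules) (hL : PicF.IsInvertible L) (U : X.Opens) :
    ((∀ V : X.Opens, Function.Injective (X.presheaf.map (homOfLE (inf_le_left : V ⊓ U ≤ V)).op)) →
      ∀ V : X.Opens, Function.Injective (L.presheaf.map (homOfLE (inf_le_left : V ⊓ U ≤ V)).op)) ∧
    ((∀ V : X.Opens, Function.Bijective (X.presheaf.map (homOfLE (inf_le_left : V ⊓ U ≤ V)).op)) →
      ∀ V : X.Opens,
        Function.Bijective (L.presheaf.map (homOfLE (inf_le_left : V ⊓ U ≤ V)).op)) := by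
  let B : Set X.Opens := {W | ∃ U₀ : X.Opens, W ≤ U₀ ∧
    Nonempty (L.restrict U₀.ι ≅ Coh.structureModule (↑U₀ : Scheme.{u}))}
  have hB : Opens.IsBasis B := by
    rw [Opens.isBasis_iff_nbhd]
    intro V x hx
    obtain ⟨U₀, hxU₀, he⟩ := hL x
    exact ⟨V ⊓ U₀, ⟨U₀, inf_le_right, he⟩, ⟨hx, hxU₀⟩, inf_le_left⟩
  constructor
  · intro h V
    refine resInf_injective_of_basis ⟨L.presheaf, L.isSheaf⟩ U B hB ?_ V
    rintro W ⟨U₀, hW, ⟨e⟩⟩
    exact (res_iff_of_iso L U₀ e U W hW).2.2 (h W)
  · intro h V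
    refine resInf_bijective_of_basis ⟨L.presheaf, L.isSheaf⟩ U B hB ?_ V
    rintro W ⟨U₀, hW, ⟨e⟩⟩
    exact (res_iff_of_iso L U₀ e U W hW).1.2 (h W)

end Groth.Agent.Lib.helper9.Glue
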