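import Mathlib

set_option autoImplicit false
open CategoryTheory CategoryTheory.Limits Opposite
universe u

namespace Groth.Agent.Lib.helper9.LanYoneda

variable {C : Type u} [SmallCategory C] {C' : Type u} [SmallCategory C'] (u : C ⥤ C')

/-- left Kan extension on presheaves -/
noncomputable abbrev L : (Cᵒᵖ ⥤ Type u) ⥤ (C'ᵒᵖ ⥤ Type u) := u.op.lan

/-- restriction on presheaves -/
abbrev R : (C'ᵒᵖ ⥤ Type u) ⥤ (Cᵒᵖ ⥤ Type u) := (Functor.whiskeringLeft _ _ (Type u)).obj u.op

noncomputable abbrev adj : L u ⊣ R u := u.op.lanAdjunction (Type u)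

/-- The Yoneda bijection `Hom(u_! h_X, G) ≃ Hom(h_{uX}, G)`. -/
noncomputable def e (X : C) (G : C'ᵒᵖ ⥤ Type u) :
    ((L u).obj (yoneda.obj X) ⟶ G) ≃ (yoneda.obj (u.obj X) ⟶ G) :=
  ((adj u).homEquiv _ _).trans
    ((yonedaEquiv (F := (R u).obj G)).trans (yonedaEquiv (F := G)).symm)

lemma e_right (X : C) (G G' : C'ᵒᵖ ⥤ Type u) (a : (L u).obj (yoneda.obj X) ⟶ G) (g : G ⟶ G') :
    e u X G' (a ≫ g) = e u X G a ≫ g := by
  show (yonedaEquiv (X := u.obj X) (F := G')).symm
      (yonedaEquiv (X := X) ((adj u).homEquiv _ _ (a ≫ g))) =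
      (yonedaEquiv (X := u.obj X) (F := G)).symm
      (yonedaEquiv (X := X) ((adj u).homEquiv _ _ a)) ≫ g
  rw [(adj u).homEquiv_naturality_right, yonedaEquiv_comp, yonedaEquiv_symm_naturality_right]
  rfl

lemma e_left (X X' : C) (f : X ⟶ X') (G : C'ᵒᵖ ⥤ Type u)
    (a : (L u).obj (yoneda.obj X') ⟶ G) :
    e u X G ((L u).map (yoneda.map f) ≫ a) = yoneda.map (u.map f) ≫ e u X' G a := by
  show (yonedaEquiv (X := u.obj X) (F := G)).symm
      (yonedaEquiv (X := X) ((adj u).homEquiv _ _ ((L u).map (yoneda.map f) ≫ a))) =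
      yoneda.map (u.map f) ≫ (yonedaEquiv (X := u.obj X') (F := G)).symm
      (yonedaEquiv (X := X') ((adj u).homEquiv _ _ a))
  rw [(adj u).homEquiv_naturality_left, ← yonedaEquiv_naturality]
  exact yonedaEquiv_symm_map (u.map f).op (F := G) _

noncomputable def ψ (X : C) : yoneda.obj (u.obj X) ⟶ (L u).obj (yoneda.obj X) := e u X _ (𝟙 _)

noncomputable def φ (X : C) : (L u).obj (yoneda.obj X) ⟶ yoneda.obj (u.obj X) :=
  (e u X _).symm (𝟙 _)

lemma ψ_φ (X : C) : ψ u X ≫ φ u X = 𝟙 _ := by
  show e u X _ (𝟙 _) ≫ φ u X = 𝟙 _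
  rw [← e_right, Category.id_comp]
  exact (e u X _).apply_symm_apply _

lemma φ_ψ (X : C) : φ u X ≫ ψ u X = 𝟙 _ := by
  apply (e u X _).injective
  rw [e_right]
  show e u X _ ((e u X _).symm (𝟙 _)) ≫ ψ u X = e u X _ (𝟙 _)
  rw [Equiv.apply_symm_apply, Category.id_comp]
  rfl

lemma key (X X' : C) (f : X ⟶ X') :
    e u X _ ((L u).map (yoneda.map f)) = yoneda.map (u.map f) ≫ ψ u X' := by
  have := e_left u X X' f _ (𝟙 _)
  rwa [Category.comp_id] at this

lemma ψ_mono (X : C) {Z : C'ᵒᵖ ⥤ Type u} (a b : Z ⟶ yoneda.obj (u.obj X))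
    (hab : a ≫ ψ u X = b ≫ ψ u X) : a = b := by
  have := congrArg (· ≫ φ u X) hab
  simpa [Category.assoc, ψ_φ] using this

lemma map_injective_of_lan (X X' : C)
    (h : Function.Injective (fun a : yoneda.obj X ⟶ yoneda.obj X' => (L u).map a)) :
    Function.Injective (fun f : X ⟶ X' => u.map f) := by
  intro f g hfg
  have hfg' : u.map f = u.map g := hfg
  have h1 : e u X _ ((L u).map (yoneda.map f)) = e u X _ ((L u).map (yoneda.map g)) := by
    rw [key, key, hfg']
  have h2 := (e u X _).injective h1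
  have h3 : yoneda.map f = yoneda.map g := h h2
  exact yoneda.map_injective h3

lemma map_surjective_of_lan (X X' : C)
    (h : Function.Surjective (fun a : yoneda.obj X ⟶ yoneda.obj X' => (L u).map a)) :
    Function.Surjective (fun f : X ⟶ X' => u.map f) := by
  intro g
  obtain ⟨b, hb⟩ := h ((e u X _).symm (yoneda.map g ≫ ψ u X'))
  obtain ⟨f, hf⟩ := yoneda.map_surjective b
  refine ⟨f, ?_⟩
  have hb' : (L u).map b = (e u X _).symm (yoneda.map g ≫ ψ u X') := hb
  have h1 : e u X _ ((L u).map (yoneda.map f)) = yoneda.map g ≫ ψ u X' := by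
    rw [hf, hb']
    exact (e u X _).apply_symm_apply _
  rw [key] at h1
  have h2 := ψ_mono u X' _ _ h1
  exact yoneda.map_injective h2

/-- the unit of the adjunction, at a representable, composed with `φ`, is `u.map` -/
lemma φ_unit (X Y : C) (f : X ⟶ Y) :
    (φ u Y).app (op (u.obj X)) (((adj u).unit.app (yoneda.obj Y)).app (op X) f) = u.map f := by
  -- adj.homEquiv (φ Y) = unit ≫ R (φ Y)
  have h1 : (adj u).homEquiv _ _ (φ u Y) =
      (adj u).unit.app (yoneda.obj Y) ≫ (R u).map (φ u Y) :=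
    (adj u).homEquiv_unit _ _ _
  have h2 : (adj u).homEquiv _ _ (φ u Y) =
      (yonedaEquiv (X := Y) (F := (R u).obj (yoneda.obj (u.obj Y)))).symm
        (yonedaEquiv (X := u.obj Y) (F := yoneda.obj (u.obj Y)) (𝟙 _)) := by
    have : e u Y _ (φ u Y) = 𝟙 _ := (e u Y _).apply_symm_apply _
    have h3 : (yonedaEquiv (X := u.obj Y) (F := yoneda.obj (u.obj Y))).symm
        (yonedaEquiv (X := Y) ((adj u).homEquiv _ _ (φ u Y))) = 𝟙 _ := this
    have h4 := congrArg (yonedaEquiv (X := u.obj Y) (F := yoneda.obj (u.obj Y))) h3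
    rw [Equiv.apply_symm_apply] at h4
    apply (yonedaEquiv (X := Y) (F := (R u).obj (yoneda.obj (u.obj Y)))).injective
    rw [Equiv.apply_symm_apply]
    exact h4
  have h5 := congrArg (fun t => t.app (op X) f) (h1.symm.trans h2)
  refine Eq.trans ?_ (Eq.trans h5 ?_)
  · rfl
  · refine (yonedaEquiv_symm_app_apply (X := Y) (F := (R u).obj (yoneda.obj (u.obj Y)))
      _ (op X) f).trans ?_
    show (yoneda.obj (u.obj Y)).map (u.map f).op (yonedaEquiv (X := u.obj Y) (𝟙 _)) = u.map f
    rw [yonedaEquiv_apply]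
    simp

lemma unit_yoneda_injective [u.Faithful] (X Y : C) :
    Function.Injective (fun f : X ⟶ Y => ((adj u).unit.app (yoneda.obj Y)).app (op X) f) := by
  intro f g hfg
  have hfg' : ((adj u).unit.app (yoneda.obj Y)).app (op X) f =
      ((adj u).unit.app (yoneda.obj Y)).app (op X) g := hfg
  have := congrArg (fun t => (φ u Y).app (op (u.obj X)) t) hfg'
  simp only [φ_unit] at this
  exact u.map_injective this

/-- naturality of the unit, elementwise -/
lemma unit_naturality_apply {F G : Cᵒᵖ ⥤ Type u} (a : F ⟶ G) (X : C) (x : F.obj (op X)) :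
    ((adj u).unit.app G).app (op X) (a.app (op X) x) =
      ((L u).map a).app (op (u.obj X)) (((adj u).unit.app F).app (op X) x) := by
  have h := (adj u).unit.naturality a
  have h2 := congrArg (fun t => t.app (op X) x) h
  exact h2

lemma unit_injective_of_isIndObject [u.Faithful] (G : Cᵒᵖ ⥤ Type u) (hG : IsIndObject G)
    (X : C) :
    Function.Injective (fun s : G.obj (op X) => ((adj u).unit.app G).app (op X) s) := by
  obtain ⟨⟨P⟩⟩ := hG
  intro s t hst
  have hst' : ((adj u).unit.app G).app (op X) s = ((adj u).unit.app G).app (op X) t := hst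
  have hc := isColimitOfPreserves ((evaluation _ _).obj (op X)) P.isColimit
  obtain ⟨j, f, g, hf, hg⟩ := Types.FilteredColimit.jointly_surjective_of_isColimit₂ hc s t
  have hf' : (P.ι.app j).app (op X) f = s := hf
  have hg' : (P.ι.app j).app (op X) g = t := hg
  have : PreservesColimitsOfSize.{u, u} (L u) := (adj u).leftAdjoint_preservesColimits
  have hc' := isColimitOfPreserves (L u ⋙ (evaluation _ _).obj (op (u.obj X))) P.isColimit
  let a := ((adj u).unit.app (yoneda.obj (P.F.obj j))).app (op X) f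
  let b := ((adj u).unit.app (yoneda.obj (P.F.obj j))).app (op X) g
  have hab : ((L u).map (P.ι.app j)).app (op (u.obj X)) a =
      ((L u).map (P.ι.app j)).app (op (u.obj X)) b := by
    show ((L u).map (P.ι.app j)).app (op (u.obj X))
        (((adj u).unit.app (yoneda.obj (P.F.obj j))).app (op X) f) =
      ((L u).map (P.ι.app j)).app (op (u.obj X))
        (((adj u).unit.app (yoneda.obj (P.F.obj j))).app (op X) g)
    have e1 := unit_naturality_apply u (P.ι.app j) X f
    have e2 := unit_naturality_apply u (P.ι.app j) X g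
    rw [hf'] at e1
    rw [hg'] at e2
    exact e1.symm.trans (hst'.trans e2)
  obtain ⟨k, α, β, hαβ⟩ := (Types.FilteredColimit.isColimit_eq_iff _ hc').mp hab
  have h1 : ((L u).map (yoneda.map (P.F.map α))).app (op (u.obj X)) a =
      ((L u).map (yoneda.map (P.F.map β))).app (op (u.obj X)) b := hαβ
  have h2 : ((adj u).unit.app (yoneda.obj (P.F.obj k))).app (op X) (f ≫ P.F.map α) =
      ((adj u).unit.app (yoneda.obj (P.F.obj k))).app (op X) (g ≫ P.F.map β) := by
    have e1 := unit_naturality_apply u (yoneda.map (P.F.map α)) X f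
    have e2 := unit_naturality_apply u (yoneda.map (P.F.map β)) X g
    exact e1.trans (h1.trans e2.symm)
  have h3 : f ≫ P.F.map α = g ≫ P.F.map β := unit_yoneda_injective u X _ h2
  have w1 := congrArg (fun t => t.app (op X) f) (P.ι.naturality α)
  have w2 := congrArg (fun t => t.app (op X) g) (P.ι.naturality β)
  have w1' : (P.ι.app k).app (op X) (f ≫ P.F.map α) = (P.ι.app j).app (op X) f := w1
  have w2' : (P.ι.app k).app (op X) (g ≫ P.F.map β) = (P.ι.app j).app (op X) g := w2
  rw [← hf', ← hg', ← w1', ← w2', h3]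

end Groth.Agent.Lib.helper9.LanYoneda
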