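import Groth.Agent.Lib.helper9.FT1
import Mathlib.Topology.Sheaves.Abelian
import Mathlib.Algebra.Category.Grp.FilteredColimits
import Mathlib.Algebra.Category.Grp.Abelian

/-!
# Exactness of the stalk functor on `𝒪_X`-modules; linear stalk maps
-/

universe u

open CategoryTheory CategoryTheory.Limits AlgebraicGeometry TopologicalSpace Opposite

namespace Groth.Agent.Lib.helper9.StalkExact

open Groth.Agent.Lib.helper9.ZC Groth.Agent.Lib.helper9.FT Groth.Agent.Lib.helper9

variable {X : Scheme.{u}}

noncomputable instance preservesFiniteLimits_stalkF (x : X) : PreservesFiniteLimits (stalkF x) := by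
  have h0 : PreservesFiniteLimits (TopCat.Sheaf.forget Ab.{u} X.toTopCat ⋙
      TopCat.Presheaf.stalkFunctor Ab.{u} x) := inferInstance
  have h1 : PreservesFiniteLimits (SheafOfModules.toSheaf.{u} X.ringCatSheaf) := inferInstance
  exact @comp_preservesFiniteLimits _ _ _ _ _ _ (SheafOfModules.toSheaf.{u} X.ringCatSheaf)
    (TopCat.Sheaf.forget Ab.{u} X.toTopCat ⋙ TopCat.Presheaf.stalkFunctor Ab.{u} x) h1 h0

noncomputable instance preservesFiniteColimits_stalkF (x : X) : PreservesFiniteColimits (stalkF x) := by
  have : PreservesColimitsOfSize.{0, 0} (stalkF x) := preservesColimitsOfSize_shrink.{0, u, 0, u} _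
  exact PreservesColimits.preservesFiniteColimits _

/-- the map on stalks induced by a morphism of modules, as a linear map over the local ring. -/
noncomputable def stalkLin {M N : X.Modules} (φ : M ⟶ N) (x : X) :
    M.presheaf.stalk x →ₗ[X.presheaf.stalk x] N.presheaf.stalk x where
  toFun := (CohB.stalkMap φ x).hom
  map_add' := map_add _
  map_smul' := fun r m => CohB.stalkMap_smul φ x r m

lemma stalkLin_apply {M N : X.Modules} (φ : M ⟶ N) (x : X) (m : M.presheaf.stalk x) :
    stalkLin φ x m = (stalkF x).map φ m := rfl

lemma stalkLin_injective_of_mono {M N : X.Modules} (φ : M ⟶ N) [Mono φ] (x : X) :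
    Function.Injective (stalkLin φ x) := by
  have : Mono ((stalkF x).map φ) := inferInstance
  exact (AddCommGrpCat.mono_iff_injective _).mp this

lemma stalkLin_surjective_of_epi {M N : X.Modules} (φ : M ⟶ N) [Epi φ] (x : X) :
    Function.Surjective (stalkLin φ x) :=
  stalk_surjective_of_epi φ x

/-- exactness of a short complex of modules passes to stalks. -/
lemma stalkLin_exact (S : ShortComplex X.Modules) (hS : S.Exact) (x : X) :
    Function.Exact (stalkLin S.f x) (stalkLin S.g x) := by
  have h1 : (S.map (stalkF x)).Exact := hS.map (stalkF x)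
  exact (ShortComplex.ab_exact_iff_function_exact _).mp h1

end Groth.Agent.Lib.helper9.StalkExact
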