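import Groth.Agent.Lib.helper9.CohB12
import Groth.Agent.Lib.helper9.StalkExact

/-!
# The stalk dictionary is compatible with germs of sections and natural in the module
-/

universe u

open AlgebraicGeometry CategoryTheory Opposite TopologicalSpace Limits

namespace Groth.Agent.Lib.helper9.CohB

open Scheme.Modules LocCoh Groth.Agent.Lib.helper9.Depth

variable {X : Scheme.{u}}

lemma semiEquivTilde_e_mk {R : CommRingCat.{u}} (N : ModuleCat.{u} R) (q : PrimeSpectrum R)
    (n : N) :
    (semiEquivTilde N q).e (LocalizedModule.mk n 1) =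
      (tilde N).presheaf.germ ⊤ q trivial (StructureSheaf.toOpenₗ R N ⊤ n) := by
  change (IsLocalizedModule.iso q.asIdeal.primeCompl (StructureSheaf.toStalkₗ R N q))
    (LocalizedModule.mk n 1) = _
  rw [IsLocalizedModule.iso_mk_one]
  rfl

lemma semiEquivOfIso_e_germ {M₁ M₂ : X.Modules} (e : M₁ ≅ M₂) (x : X) (V : X.Opens)
    (hx : x ∈ V) (s : Γ(M₁, V)) :
    (semiEquivOfIso e x).e (M₁.presheaf.germ V x hx s) =
      M₂.presheaf.germ V x hx (e.hom.app V s) :=
  TopCat.Presheaf.stalkFunctor_map_germ_apply V x hx e.hom.mapPresheaf s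

lemma semiEquivRestrict_e_germ {X Y : Scheme.{u}} (f : Y ⟶ X) [IsOpenImmersion f]
    (M : X.Modules) (y : Y) (V' : Y.Opens) (hy : y ∈ V') (s : Γ(M.restrict f, V')) :
    (semiEquivRestrict f M y).e ((M.restrict f).presheaf.germ V' y hy s) =
      M.presheaf.germ (f ''ᵁ V') (f y) ⟨y, hy, rfl⟩ s := by
  have := germ_restrictStalkNatIso_hom_app f y M hy
  exact congrArg (fun g => (ConcreteCategory.hom g) s) this

/-- the module part of the stalk dictionary sends `n/1` to the germ of `n`. -/
lemma stalkSemiEquiv_e_mk (M : X.Modules) [M.IsQuasicoherent] {W : X.Opens}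
    (hW : IsAffineOpen W) (q : PrimeSpectrum Γ(X, W)) (n : Γmod (M.restrict hW.fromSpec)) :
    (stalkSemiEquiv M hW q).e (LocalizedModule.mk n 1) =
      M.presheaf.germ (hW.fromSpec ''ᵁ ⊤) (hW.fromSpec q) ⟨q, trivial, rfl⟩ n := by
  have h1 : (stalkSemiEquiv M hW q).e (LocalizedModule.mk n 1) =
      (semiEquivRestrict hW.fromSpec M q).e
        ((semiEquivOfIso (asIso (M.restrict hW.fromSpec).fromTildeΓ) q).e
          ((semiEquivTilde (Γmod (M.restrict hW.fromSpec)) q).e (LocalizedModule.mk n 1))) := rfl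
  rw [h1, semiEquivTilde_e_mk, semiEquivOfIso_e_germ, semiEquivRestrict_e_germ]
  congr 1
  have h2 := fromTildeΓ_app_toOpen (M.restrict hW.fromSpec) ⊤ n
  refine h2.trans ?_
  have h3 : (homOfLE (le_top : (⊤ : (Spec Γ(X, W)).Opens) ≤ ⊤)).op = 𝟙 _ := rfl
  rw [h3, CategoryTheory.Functor.map_id]
  rfl

/-- the map on sections over an affine open, as a linear map between the modules of the stalk
dictionary. -/
noncomputable def Γmap {F G : X.Modules} (φ : F ⟶ G) {W : X.Opens} (hW : IsAffineOpen W) :
    Γmod (F.restrict hW.fromSpec) ⟶ Γmod (G.restrict hW.fromSpec) :=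
  (modulesSpecToSheaf.map ((Scheme.Modules.restrictFunctor hW.fromSpec).map φ)).1.app (op ⊤)

lemma Γmap_apply {F G : X.Modules} (φ : F ⟶ G) {W : X.Opens} (hW : IsAffineOpen W)
    (n : Γmod (F.restrict hW.fromSpec)) :
    (Γmap φ hW).hom n = φ.app (hW.fromSpec ''ᵁ ⊤) n := rfl

/-- **naturality of the stalk dictionary.** -/
theorem stalkSemiEquiv_naturality {F G : X.Modules} [F.IsQuasicoherent] [G.IsQuasicoherent]
    (φ : F ⟶ G) {W : X.Opens} (hW : IsAffineOpen W) (q : PrimeSpectrum Γ(X, W))
    (z : LocalizedModule q.asIdeal.primeCompl (Γmod (F.restrict hW.fromSpec))) :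
    (stalkSemiEquiv G hW q).e (LocalizedModule.map q.asIdeal.primeCompl (Γmap φ hW).hom z) =
      stalkMap φ (hW.fromSpec q) ((stalkSemiEquiv F hW q).e z) := by
  induction z using LocalizedModule.induction_on with
  | h n s =>
    have hz : (LocalizedModule.mk n s :
        LocalizedModule q.asIdeal.primeCompl (Γmod (F.restrict hW.fromSpec))) =
        (Localization.mk 1 s : Localization.AtPrime q.asIdeal) • LocalizedModule.mk n 1 := by
      rw [LocalizedModule.mk_smul_mk, one_smul, mul_one]
    have hz' : (LocalizedModule.mk ((Γmap φ hW).hom n) s :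
        LocalizedModule q.asIdeal.primeCompl (Γmod (G.restrict hW.fromSpec))) =
        (Localization.mk 1 s : Localization.AtPrime q.asIdeal) •
          LocalizedModule.mk ((Γmap φ hW).hom n) 1 := by
      rw [LocalizedModule.mk_smul_mk, one_smul, mul_one]
    have hσ : (stalkSemiEquiv G hW q).σ = (stalkSemiEquiv F hW q).σ := rfl
    rw [LocalizedModule.map_mk, hz', hz, (stalkSemiEquiv G hW q).map_smul,
      (stalkSemiEquiv F hW q).map_smul, stalkMap_smul, stalkSemiEquiv_e_mk, stalkSemiEquiv_e_mk,
      hσ]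
    congr 1
    exact (ZC.stalk_map_germ φ _ _ _ n).symm

lemma stalkMap_bijective_iff {F G : X.Modules} [F.IsQuasicoherent] [G.IsQuasicoherent]
    (φ : F ⟶ G) {W : X.Opens} (hW : IsAffineOpen W) (q : PrimeSpectrum Γ(X, W)) :
    Function.Bijective (stalkMap φ (hW.fromSpec q)) ↔
      Function.Bijective (LocalizedModule.map q.asIdeal.primeCompl (Γmap φ hW).hom) := by
  have h1 : (stalkMap φ (hW.fromSpec q) : _ → _) =
      (stalkSemiEquiv G hW q).e ∘ (LocalizedModule.map q.asIdeal.primeCompl (Γmap φ hW).hom) ∘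
        (stalkSemiEquiv F hW q).e.symm := by
    funext m
    simp only [Function.comp_apply]
    rw [stalkSemiEquiv_naturality, AddEquiv.apply_symm_apply]
  rw [h1, EquivLike.comp_bijective, EquivLike.bijective_comp]

lemma stalkMap_injective_iff {F G : X.Modules} [F.IsQuasicoherent] [G.IsQuasicoherent]
    (φ : F ⟶ G) {W : X.Opens} (hW : IsAffineOpen W) (q : PrimeSpectrum Γ(X, W)) :
    Function.Injective (stalkMap φ (hW.fromSpec q)) ↔
      Function.Injective (LocalizedModule.map q.asIdeal.primeCompl (Γmap φ hW).hom) := by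
  have h1 : (stalkMap φ (hW.fromSpec q) : _ → _) =
      (stalkSemiEquiv G hW q).e ∘ (LocalizedModule.map q.asIdeal.primeCompl (Γmap φ hW).hom) ∘
        (stalkSemiEquiv F hW q).e.symm := by
    funext m
    simp only [Function.comp_apply]
    rw [stalkSemiEquiv_naturality, AddEquiv.apply_symm_apply]
  rw [h1, EquivLike.comp_injective, EquivLike.injective_comp]

lemma stalkMap_surjective_iff {F G : X.Modules} [F.IsQuasicoherent] [G.IsQuasicoherent]
    (φ : F ⟶ G) {W : X.Opens} (hW : IsAffineOpen W) (q : PrimeSpectrum Γ(X, W)) :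
    Function.Surjective (stalkMap φ (hW.fromSpec q)) ↔
      Function.Surjective (LocalizedModule.map q.asIdeal.primeCompl (Γmap φ hW).hom) := by
  have h1 : (stalkMap φ (hW.fromSpec q) : _ → _) =
      (stalkSemiEquiv G hW q).e ∘ (LocalizedModule.map q.asIdeal.primeCompl (Γmap φ hW).hom) ∘
        (stalkSemiEquiv F hW q).e.symm := by
    funext m
    simp only [Function.comp_apply]
    rw [stalkSemiEquiv_naturality, AddEquiv.apply_symm_apply]
  rw [h1, EquivLike.comp_surjective, EquivLike.surjective_comp]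

end Groth.Agent.Lib.helper9.CohB
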