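import Groth.Agent.Lib.helper9.QcohLocal
import Groth.Agent.Lib.helper9.StalkNat
import Groth.Agent.Lib.helper9.FPLocal2
import Groth.Agent.Lib.helper9.TildeFin
import Mathlib.RingTheory.LocalRing.Module
import Mathlib.RingTheory.LocalProperties.Projective
import Groth.Prelude.Def_FlatMod2
import Mathlib.RingTheory.Localization.Free

/-!
# Local freeness of modules on schemes: bridge to commutative algebra
-/

universe u

open AlgebraicGeometry CategoryTheory Opposite TopologicalSpace Limits

namespace Groth.Agent.Lib.helper9.LocFree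

open Scheme.Modules Groth.Agent.Lib.helper9.CohB Groth.Agent.Lib.helper9.AffSect

variable {X Y : Scheme.{u}}

set_option backward.isDefEq.respectTransparency false in
/-- restriction of the free module of rank `n` along an open immersion. -/
noncomputable def freeModRestrictIso (f : Y ⟶ X) [IsOpenImmersion f] (n : ℕ) :
    (FlatMod.freeMod X n).restrict f ≅ FlatMod.freeMod Y n :=
  have : PreservesColimitsOfSize.{0, 0} (restrictFunctor f) :=
    (restrictAdjunction f).leftAdjoint_preservesColimits
  PreservesCoproduct.iso (restrictFunctor f) (fun _ : Fin n => Coh.structureModule X) ≪≫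
    Sigma.mapIso (fun _ => restrictUnitIso f)

set_option backward.isDefEq.respectTransparency false in
/-- if the restriction of `F` along an open immersion with range `U` is free, so is `F|_U`. -/
lemma restrict_ι_iso_of_range_eq {F : X.Modules} (j : Y ⟶ X) [IsOpenImmersion j] (U : X.Opens)
    (hj : Set.range j = (U : Set X)) (n : ℕ) (h : Nonempty (F.restrict j ≅ FlatMod.freeMod Y n)) :
    Nonempty (F.restrict U.ι ≅ FlatMod.freeMod U n) := by
  obtain ⟨h⟩ := h
  let e : (U : Scheme.{u}) ≅ Y := IsOpenImmersion.isoOfRangeEq U.ι j (by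
    rw [hj]
    exact Scheme.Opens.range_ι U)
  have he : e.hom ≫ j = U.ι := IsOpenImmersion.isoOfRangeEq_hom_fac _ _ _
  exact ⟨(restrictFunctorCongr he.symm).app F ≪≫ (restrictFunctorComp e.hom j).app F ≪≫
    (restrictFunctor e.hom).mapIso h ≪≫ freeModRestrictIso e.hom n⟩

set_option backward.isDefEq.respectTransparency false in
/-- the sheaf of a free module of rank `n` is the free sheaf of rank `n`. -/
lemma tilde_iso_freeMod {B : CommRingCat.{u}} (N : ModuleCat.{u} B) (n : ℕ)
    (e : N ≃ₗ[B] (Fin n →₀ B)) :
    Nonempty (tilde N ≅ FlatMod.freeMod (Spec B) n) := by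
  let I := ULift.{u} (Fin n)
  let e' : N ≃ₗ[B] (I →₀ B) := e.trans (Finsupp.domLCongr Equiv.ulift.symm)
  let i0 : N ≅ ModuleCat.of B (I →₀ B) := e'.toModuleIso
  let i1 : tilde N ≅ tilde (ModuleCat.of B (I →₀ B)) := (tilde.functor B).mapIso i0
  let i2 : tilde (ModuleCat.of B (I →₀ B)) ≅ SheafOfModules.free.{u} I := tildeFinsupp I
  let i3 : (∐ fun _ : I => SheafOfModules.unit (Spec B).ringCatSheaf) ≅
      ∐ fun _ : Fin n => SheafOfModules.unit (Spec B).ringCatSheaf :=
    Sigma.whiskerEquiv (f := fun _ : I => SheafOfModules.unit (Spec B).ringCatSheaf)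
      (g := fun _ : Fin n => SheafOfModules.unit (Spec B).ringCatSheaf)
      (Equiv.ulift : I ≃ Fin n) (fun _ => Iso.refl _)
  exact ⟨i1 ≪≫ i2 ≪≫ i3⟩

set_option backward.isDefEq.respectTransparency false in
/-- **free sections over an affine open give a free restriction**. -/
theorem restrict_ι_iso_freeMod_of_sections (F : X.Modules) [F.IsQuasicoherent] {U : X.Opens}
    (hU : IsAffineOpen U) (n : ℕ)
    (e : Γmod (F.restrict hU.fromSpec) ≃ₗ[Γ(X, U)] (Fin n →₀ Γ(X, U))) :
    Nonempty (F.restrict U.ι ≅ FlatMod.freeMod U n) := by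
  haveI : IsIso (F.restrict hU.fromSpec).fromTildeΓ := inferInstance
  obtain ⟨i⟩ := tilde_iso_freeMod (Γmod (F.restrict hU.fromSpec)) n e
  exact restrict_ι_iso_of_range_eq hU.fromSpec U hU.range_fromSpec n
    ⟨(asIso (F.restrict hU.fromSpec).fromTildeΓ).symm ≪≫ i⟩

/-- a finite free module is isomorphic to a standard one. -/
lemma exists_linearEquiv_fin (R : Type*) [CommRing R] (M : Type*) [AddCommGroup M] [Module R M]
    [Module.Free R M] [Module.Finite R M] : ∃ n : ℕ, Nonempty (M ≃ₗ[R] (Fin n →₀ R)) := by
  rcases subsingleton_or_nontrivial R with hR | hR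
  · haveI : Subsingleton M := Module.subsingleton R M
    haveI : Subsingleton (Fin 0 →₀ R) := inferInstance
    exact ⟨0, ⟨LinearEquiv.ofSubsingleton M (Fin 0 →₀ R)⟩⟩
  · let b := Module.Free.chooseBasis R M
    haveI : Finite (Module.Free.ChooseBasisIndex R M) := Module.Finite.finite_basis b
    haveI : Fintype (Module.Free.ChooseBasisIndex R M) := Fintype.ofFinite _
    exact ⟨_, ⟨(b.reindex (Fintype.equivFin _)).repr⟩⟩


section Alg

/-- a linear map between modules over two localizations of `A` at `S` is semilinear for the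
canonical isomorphism of the localizations. -/
lemma localization_semilinear {A : Type*} [CommRing A] (S : Submonoid A) {L L' : Type*}
    [CommRing L] [CommRing L'] [Algebra A L] [Algebra A L'] [IsLocalization S L]
    [IsLocalization S L'] {M M' : Type*} [AddCommGroup M] [AddCommGroup M'] [Module A M]
    [Module A M'] [Module L M] [Module L' M'] [IsScalarTower A L M] [IsScalarTower A L' M']
    (f : M →ₗ[A] M') (hinj : ∀ s : S, Function.Injective (fun m' : M' => (s : A) • m'))
    (l : L) (m : M) :
    f (l • m) = (IsLocalization.algEquiv S L L' l) • f m := by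
  obtain ⟨⟨a, s⟩, hl⟩ := IsLocalization.surj S l
  apply hinj s
  show (s : A) • f (l • m) = (s : A) • ((IsLocalization.algEquiv S L L' l) • f m)
  have h1 : (s : A) • (l • m) = a • m := by
    rw [← algebraMap_smul L (s : A) (l • m), smul_smul, mul_comm, hl, algebraMap_smul]
  have h2 : (s : A) • ((IsLocalization.algEquiv S L L' l) • f m) = a • f m := by
    rw [← algebraMap_smul L' (s : A), smul_smul]
    have h3 : algebraMap A L' (s : A) * (IsLocalization.algEquiv S L L' l) =
        algebraMap A L' a := by
      rw [← AlgEquiv.commutes (IsLocalization.algEquiv S L L') (s : A), ← map_mul, mul_comm, hl,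
        AlgEquiv.commutes]
    rw [h3, algebraMap_smul]
  rw [← f.map_smul, h1, f.map_smul, h2]

/-- freeness transfers along semilinear equivalences. -/
lemma _root_.Groth.Agent.Lib.helper9.SemiEquiv.free {R S M N : Type*} [CommRing R] [CommRing S]
    [AddCommGroup M] [AddCommGroup N] [Module R M] [Module S N]
    (E : SemiEquiv R S M N) [Module.Free R M] : Module.Free S N := by
  letI : RingHomInvPair (E.σ : R →+* S) (E.σ.symm : S →+* R) := RingHomInvPair.of_ringEquiv E.σ
  letI : RingHomInvPair (E.σ.symm : S →+* R) (E.σ : R →+* S) := RingHomInvPair.symm _ _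
  let e₂ : M ≃ₛₗ[(E.σ : R →+* S)] N :=
    { toFun := E.e
      map_add' := E.e.map_add
      map_smul' := E.map_smul
      invFun := E.e.symm
      left_inv := E.e.left_inv
      right_inv := E.e.right_inv }
  exact Module.Free.of_equiv e₂

end Alg

/-- freeness transfers between two localizations of the same module. -/
lemma free_of_isLocalizedModule {A : Type*} [CommRing A] (S : Submonoid A) {L L' : Type*}
    [CommRing L] [CommRing L'] [Algebra A L] [Algebra A L'] [IsLocalization S L]
    [IsLocalization S L'] {M N N' : Type*} [AddCommGroup M] [AddCommGroup N] [AddCommGroup N']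
    [Module A M] [Module A N] [Module A N'] [Module L N] [Module L' N'] [IsScalarTower A L N]
    [IsScalarTower A L' N'] (f : M →ₗ[A] N) (f' : M →ₗ[A] N') [IsLocalizedModule S f]
    [IsLocalizedModule S f'] [Module.Free L N] : Module.Free L' N' := by
  let iso : N ≃ₗ[A] N' := IsLocalizedModule.linearEquiv S f f'
  let E : SemiEquiv L L' N N' :=
    { σ := (IsLocalization.algEquiv S L L').toRingEquiv
      e := iso.toAddEquiv
      map_smul := fun l m => localization_semilinear S iso.toLinearMap
        (fun s => IsLocalizedModule.smul_injective f' s) l m }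
  exact E.free

/-- the restriction map from global sections to sections over a basic open of a module on
`Spec B`, as a `B`-linear map. -/
noncomputable def resBasic {B : CommRingCat.{u}} (G : (Spec B).Modules) (r : B) :=
  ((modulesSpecToSheaf.obj G).obj.map (PrimeSpectrum.basicOpen r).leTop.op).hom

instance resBasic_isLocalizedModule {B : CommRingCat.{u}} (G : (Spec B).Modules)
    [G.IsQuasicoherent] (r : B) :
    IsLocalizedModule (Submonoid.powers r) (resBasic G r) :=
  (isIso_fromTildeΓ_iff_isLocalizing G).mp inferInstance r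

set_option backward.isDefEq.respectTransparency false in
/-- on an affine scheme, if the localization of the global sections at `r` is free, the sections
over the basic open `D(r)` are free over its coordinate ring. -/
lemma free_sections_basicOpen {B : CommRingCat.{u}} (G : (Spec B).Modules) [G.IsQuasicoherent]
    (r : B) [Module.Finite B (Γmod G)]
    [Module.Free (Localization.Away r) (LocalizedModule.Away r (Γmod G))] :
    Module.Free Γ(Spec B, PrimeSpectrum.basicOpen r) Γ(G, PrimeSpectrum.basicOpen r) ∧
      Module.Finite Γ(Spec B, PrimeSpectrum.basicOpen r) Γ(G, PrimeSpectrum.basicOpen r) := by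
  have hloc : IsLocalizedModule (M' := Γ(G, PrimeSpectrum.basicOpen r)) (Submonoid.powers r)
      (resBasic G r) := resBasic_isLocalizedModule G r
  constructor
  · exact free_of_isLocalizedModule (Submonoid.powers r) (L := Localization.Away r)
      (L' := Γ(Spec B, PrimeSpectrum.basicOpen r)) (N' := Γ(G, PrimeSpectrum.basicOpen r))
      (LocalizedModule.mkLinearMap (Submonoid.powers r) (Γmod G)) (resBasic G r)
  · exact Module.Finite.of_isLocalizedModule (Submonoid.powers r)
      (Rₚ := Γ(Spec B, PrimeSpectrum.basicOpen r)) (Mₚ := Γ(G, PrimeSpectrum.basicOpen r))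
      (resBasic G r)

set_option backward.isDefEq.respectTransparency false in
/-- on an affine scheme, a quasi-coherent module with finitely presented global sections whose
localization at a prime is free is free on a basic open neighbourhood of that prime. -/
theorem exists_basicOpen_restrict_iso_freeMod {B : CommRingCat.{u}} (G : (Spec B).Modules)
    [G.IsQuasicoherent] [Module.FinitePresentation B (Γmod G)] (q : PrimeSpectrum B)
    [Module.Free (Localization.AtPrime q.asIdeal)
      (LocalizedModule q.asIdeal.primeCompl (Γmod G))] :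
    ∃ (D : (Spec B).Opens) (n : ℕ), q ∈ D ∧
      Nonempty (G.restrict D.ι ≅ FlatMod.freeMod D n) := by
  haveI : q.asIdeal.IsPrime := q.2
  obtain ⟨r, hr, hfree, -⟩ := Module.FinitePresentation.exists_free_localizedModule_powers
    q.asIdeal.primeCompl (LocalizedModule.mkLinearMap q.asIdeal.primeCompl (Γmod G))
    (Localization.AtPrime q.asIdeal)
  haveI := hfree
  let D : (Spec B).Opens := PrimeSpectrum.basicOpen r
  have hU' : IsAffineOpen D := IsAffineOpen.Spec_basicOpen r
  obtain ⟨hf1, hf2⟩ := free_sections_basicOpen G r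
  haveI : Module.Free Γ(Spec B, D) (Γmod (G.restrict hU'.fromSpec)) :=
    Module.Free.of_equiv (sectEquiv G hU').symm
  haveI : Module.Finite Γ(Spec B, D) (Γmod (G.restrict hU'.fromSpec)) :=
    Module.Finite.equiv (sectEquiv G hU').symm
  obtain ⟨n, ⟨e⟩⟩ := exists_linearEquiv_fin Γ(Spec B, D) (Γmod (G.restrict hU'.fromSpec))
  exact ⟨D, n, hr, restrict_ι_iso_freeMod_of_sections G hU' n e⟩

set_option backward.isDefEq.respectTransparency false in
/-- **local freeness from freeness of a stalk**. -/
theorem exists_nhd_restrict_iso_freeMod (F : X.Modules) [F.IsQuasicoherent] {U : X.Opens}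
    (hU : IsAffineOpen U) [Module.FinitePresentation Γ(X, U) (Γmod (F.restrict hU.fromSpec))]
    (q : PrimeSpectrum Γ(X, U))
    [Module.Free (X.presheaf.stalk (hU.fromSpec q)) (F.presheaf.stalk (hU.fromSpec q))] :
    ∃ (V : X.Opens) (n : ℕ), hU.fromSpec q ∈ V ∧
      Nonempty (F.restrict V.ι ≅ FlatMod.freeMod V n) := by
  haveI : q.asIdeal.IsPrime := q.2
  haveI : Module.Free (Localization.AtPrime q.asIdeal)
      (LocalizedModule q.asIdeal.primeCompl (Γmod (F.restrict hU.fromSpec))) :=
    (stalkSemiEquiv F hU q).symm.free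
  obtain ⟨D, n, hqD, ⟨i⟩⟩ := exists_basicOpen_restrict_iso_freeMod (F.restrict hU.fromSpec) q
  refine ⟨hU.fromSpec ''ᵁ D, n, ⟨q, hqD, rfl⟩, ?_⟩
  refine restrict_ι_iso_of_range_eq (D.ι ≫ hU.fromSpec) (hU.fromSpec ''ᵁ D) ?_ n
    ⟨(restrictFunctorComp D.ι hU.fromSpec).app F ≪≫ i⟩
  rw [Scheme.Hom.comp_base, TopCat.coe_comp, Set.range_comp, Scheme.Opens.range_ι]
  rfl

set_option backward.isDefEq.respectTransparency false in
/-- **converse**: if `F|_V` is free of rank `n`, the sections over any affine open `U ≤ V` are free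
of rank `n`. -/
lemma sections_linearEquiv_of_restrict_iso (F : X.Modules) {V : X.Opens} (n : ℕ)
    (i : F.restrict V.ι ≅ FlatMod.freeMod V n) {U : X.Opens} (hU : IsAffineOpen U) (hUV : U ≤ V) :
    Nonempty (Γmod (F.restrict hU.fromSpec) ≃ₗ[Γ(X, U)] (Fin n →₀ Γ(X, U))) := by
  have hrange : Set.range hU.fromSpec ⊆ Set.range V.ι := by
    rw [hU.range_fromSpec, Scheme.Opens.range_ι]
    exact hUV
  let j : Spec Γ(X, U) ⟶ V := IsOpenImmersion.lift V.ι hU.fromSpec hrange
  have hj : j ≫ V.ι = hU.fromSpec := IsOpenImmersion.lift_fac _ _ _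
  haveI : IsOpenImmersion (j ≫ V.ι) := by
    rw [hj]
    infer_instance
  haveI : IsOpenImmersion j := IsOpenImmersion.of_comp j V.ι
  let i1 : F.restrict hU.fromSpec ≅ FlatMod.freeMod (Spec Γ(X, U)) n :=
    (restrictFunctorCongr hj.symm).app F ≪≫ (restrictFunctorComp j V.ι).app F ≪≫
      (restrictFunctor j).mapIso i ≪≫ freeModRestrictIso j n
  obtain ⟨i2⟩ := tilde_iso_freeMod (ModuleCat.of Γ(X, U) (Fin n →₀ Γ(X, U))) n
    (LinearEquiv.refl _ _)
  let i3 : F.restrict hU.fromSpec ≅ tilde (ModuleCat.of Γ(X, U) (Fin n →₀ Γ(X, U))) :=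
    i1 ≪≫ i2.symm
  let i4 : Γmod (F.restrict hU.fromSpec) ≅
      Γmod (tilde (ModuleCat.of Γ(X, U) (Fin n →₀ Γ(X, U)))) :=
    (moduleSpecΓFunctor (R := Γ(X, U))).mapIso i3
  exact ⟨(i4 ≪≫ (tilde.isoTop _).symm).toLinearEquiv⟩

set_option backward.isDefEq.respectTransparency false in
/-- the stalks of a locally free module are free. -/
theorem free_stalk_of_restrict_iso (F : X.Modules) [F.IsQuasicoherent] {V : X.Opens} (n : ℕ)
    (i : F.restrict V.ι ≅ FlatMod.freeMod V n) (x : X) (hx : x ∈ V) :
    Module.Free (X.presheaf.stalk x) (F.presheaf.stalk x) := by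
  obtain ⟨U, hU, hxU, hUV⟩ := exists_isAffineOpen_mem_and_subset (x := x) (U := V) hx
  obtain ⟨q, rfl⟩ := exists_fromSpec_eq hU hxU
  obtain ⟨e⟩ := sections_linearEquiv_of_restrict_iso F n i hU hUV
  haveI : q.asIdeal.IsPrime := q.2
  haveI : Module.Free Γ(X, U) (Γmod (F.restrict hU.fromSpec)) := Module.Free.of_equiv e.symm
  haveI : Module.Free (Localization.AtPrime q.asIdeal)
      (LocalizedModule q.asIdeal.primeCompl (Γmod (F.restrict hU.fromSpec))) :=
    Module.free_of_isLocalizedModule q.asIdeal.primeCompl
      (LocalizedModule.mkLinearMap q.asIdeal.primeCompl (Γmod (F.restrict hU.fromSpec)))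
  exact (stalkSemiEquiv F hU q).free

set_option backward.isDefEq.respectTransparency false in
/-- a quasi-coherent finite locally free module is of finite presentation. -/
theorem isFinitePresentation_of_isFinLocFree (F : X.Modules) [F.IsQuasicoherent]
    (h : FlatMod.IsFinLocFree F) : SheafOfModules.IsFinitePresentation.{u} F := by
  apply Groth.Agent.Lib.helper9.FPLocal.isFinitePresentation_of_forall_exists
  intro x
  obtain ⟨V, n, hxV, ⟨i⟩⟩ := h x
  obtain ⟨U, hU, hxU, hUV⟩ := exists_isAffineOpen_mem_and_subset (x := x) (U := V) hxV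
  obtain ⟨e⟩ := sections_linearEquiv_of_restrict_iso F n i hU hUV
  exact ⟨U, hU, hxU, Module.FinitePresentation.of_equiv e.symm⟩

set_option backward.isDefEq.respectTransparency false in
/-- a finitely presented module has finitely presented sections on small affine opens. -/
theorem exists_affine_finitePresentation (F : X.Modules)
    [SheafOfModules.IsFinitePresentation.{u} F] (x : X) :
    ∃ (U : X.Opens) (hU : IsAffineOpen U), x ∈ U ∧
      Module.FinitePresentation Γ(X, U) (Γmod (F.restrict hU.fromSpec)) := by
  obtain ⟨I, W, hW, hP⟩ := Groth.Agent.Lib.helper9.TildeFin.exists_isOpenCover_presentation_finite F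
  obtain ⟨i, hi⟩ : ∃ i, x ∈ W i := by
    have : x ∈ (⨆ i, W i : X.Opens) := by
      rw [hW.iSup_eq_top]
      trivial
    simpa [Opens.mem_iSup] using this
  obtain ⟨U, hU, hxU, hUW⟩ := exists_isAffineOpen_mem_and_subset (x := x) (U := W i) hi
  obtain ⟨P, hPf⟩ := hP i U hUW
  obtain ⟨Q, hQ⟩ := Groth.Agent.Lib.helper9.TildeFin.exists_fromSpec_presentation_finite F hU P
  exact ⟨U, hU, hxU,
    Groth.Agent.Lib.helper9.TildeFin.finitePresentation_Γmod_of_presentation _ Q⟩

set_option backward.isDefEq.respectTransparency false in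
/-- **a finitely presented module with a free stalk at `x` is free near `x`**. -/
theorem exists_nhd_restrict_iso_freeMod_of_fp (F : X.Modules)
    [SheafOfModules.IsFinitePresentation.{u} F] (x : X)
    (hfree : Module.Free (X.presheaf.stalk x) (F.presheaf.stalk x)) :
    ∃ (V : X.Opens) (n : ℕ), x ∈ V ∧ Nonempty (F.restrict V.ι ≅ FlatMod.freeMod V n) := by
  obtain ⟨U, hU, hxU, hfp⟩ := exists_affine_finitePresentation F x
  obtain ⟨q, rfl⟩ := exists_fromSpec_eq hU hxU
  haveI := hfp
  haveI := hfree
  exact exists_nhd_restrict_iso_freeMod F hU q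

set_option backward.isDefEq.respectTransparency false in
/-- the stalks of a finitely presented module are finite. -/
theorem finite_stalk_of_fp (F : X.Modules) [SheafOfModules.IsFinitePresentation.{u} F] (x : X) :
    Module.Finite (X.presheaf.stalk x) (F.presheaf.stalk x) := by
  obtain ⟨U, hU, hxU, hfp⟩ := exists_affine_finitePresentation F x
  obtain ⟨q, rfl⟩ := exists_fromSpec_eq hU hxU
  haveI := hfp
  haveI : q.asIdeal.IsPrime := q.2
  exact (stalkSemiEquiv F hU q).finite

set_option backward.isDefEq.respectTransparency false in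
/-- a flat stalk of a finitely presented module is free. -/
theorem free_stalk_of_flat (F : X.Modules) [SheafOfModules.IsFinitePresentation.{u} F] (x : X)
    (hflat : Module.Flat (X.presheaf.stalk x) (F.presheaf.stalk x)) :
    Module.Free (X.presheaf.stalk x) (F.presheaf.stalk x) := by
  haveI := finite_stalk_of_fp F x
  haveI := hflat
  exact Module.free_of_flat_of_isLocalRing

end Groth.Agent.Lib.helper9.LocFree
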