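import Groth.Agent.Lib.helper9.LocFree3
import Groth.Agent.Lib.helper9.CohB8
import Groth.Agent.Lib.helper6.AusBuchE

/-!
# Local freeness, part 4: maximal Cohen–Macaulay modules on regular schemes
-/

universe u

open AlgebraicGeometry CategoryTheory Opposite TopologicalSpace Limits IsLocalRing

namespace Groth.Agent.Lib.helper9.LocFree

open Scheme.Modules Groth.Agent.Lib.helper9.CohB Groth.Agent.Lib.helper9.AffSect LocCoh
  Groth.Agent.Lib.helper9.Depth RingTheory.Sequence TensorProduct

section Alg

/-- the depth of a flat module is at least the depth of the ring. -/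
theorem depth_self_le_of_flat (R : Type u) [CommRing R] [IsLocalRing R] (M : Type u)
    [AddCommGroup M] [Module R M] [Module.Flat R M] : depth R R ≤ depth R M := by
  unfold depth
  have hR : maximalIdeal R • (⊤ : Submodule R R) ≠ ⊤ := by
    rw [smul_eq_mul, Ideal.mul_top]
    exact (maximalIdeal.isMaximal R).ne_top
  rw [idealDepth_eq_iSup _ _ hR]
  refine iSup₂_le fun rs hrs => ?_
  have h1 : IsWeaklyRegular (R ⊗[R] M) rs := hrs.1.isWeaklyRegular_rTensor
  have h2 : IsWeaklyRegular M rs := ((TensorProduct.lid R M).isWeaklyRegular_congr rs).mp h1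
  exact length_le_idealDepth h2 hrs.2

/-- a nonzero finite flat module over a regular local ring is Cohen–Macaulay. -/
theorem isCohenMacaulayModule_of_flat (R : Type u) [CommRing R] [IsRegularLocalRing R] (M : Type u)
    [AddCommGroup M] [Module R M] [Module.Flat R M] [Module.Finite R M] [Nontrivial M] :
    IsCohenMacaulayModule R M := by
  obtain ⟨d, hd⟩ := Groth.Agent.H5.RegLoc.exists_nat_dim R
  have h0 := Groth.Agent.Lib.helper6.AusBuchE.depth_eq_dim R d hd
  have h1 := depth_self_le_of_flat R M
  have h2 := depth_le_supportDim (R := R) M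
  have h3 : Module.supportDim R M ≤ ringKrullDim R := Module.supportDim_le_ringKrullDim R M
  unfold IsCohenMacaulayModule
  apply le_antisymm
  · rw [h0] at h1
    calc Module.supportDim R M ≤ ringKrullDim R := h3
      _ = (d : WithBot ℕ∞) := hd
      _ ≤ ((depth R M : ℕ∞) : WithBot ℕ∞) := by exact_mod_cast h1
  · exact h2

end Alg

variable {X Y : Scheme.{u}}

set_option backward.isDefEq.respectTransparency false in
/-- the stalk of a module free of rank `n` near `x` is nonzero iff `n` is positive. -/
theorem nontrivial_stalk_iff_pos (F : X.Modules) [F.IsQuasicoherent] {V : X.Opens} (n : ℕ)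
    (i : F.restrict V.ι ≅ FlatMod.freeMod V n) (x : X) (hx : x ∈ V) :
    Nontrivial (F.presheaf.stalk x) ↔ 0 < n := by
  obtain ⟨U, hU, hxU, hUV⟩ := exists_isAffineOpen_mem_and_subset (x := x) (U := V) hx
  obtain ⟨q, rfl⟩ := exists_fromSpec_eq hU hxU
  obtain ⟨e⟩ := sections_linearEquiv_of_restrict_iso F n i hU hUV
  haveI : q.asIdeal.IsPrime := q.2
  rw [nontrivial_stalk_iff F hU q]
  constructor
  · intro hnt
    by_contra hn
    have hn0 : n = 0 := by omega
    subst hn0
    haveI : Subsingleton (Γmod (F.restrict hU.fromSpec)) := e.toEquiv.subsingleton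
    haveI : Subsingleton (LocalizedModule q.asIdeal.primeCompl (Γmod (F.restrict hU.fromSpec))) :=
      inferInstance
    exact not_subsingleton _ ‹_›
  · intro hn
    haveI : Module.Finite Γ(X, U) (Γmod (F.restrict hU.fromSpec)) := Module.Finite.equiv e.symm
    have hann : Module.annihilator Γ(X, U) (Γmod (F.restrict hU.fromSpec)) = ⊥ := by
      rw [e.annihilator_eq, eq_bot_iff]
      intro r hr
      have := Module.mem_annihilator.mp hr (Finsupp.single (⟨0, hn⟩ : Fin n) (1 : Γ(X, U)))
      rw [Finsupp.smul_single, smul_eq_mul, mul_one, Finsupp.single_eq_zero] at this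
      exact this
    have hq : q ∈ Module.support Γ(X, U) (Γmod (F.restrict hU.fromSpec)) := by
      rw [Module.mem_support_iff_of_finite, hann]
      exact bot_le
    exact Module.mem_support_iff.mp hq

set_option backward.isDefEq.respectTransparency false in
/-- on a locally Noetherian scheme, a coherent module with full support has stalks of full
dimension. -/
theorem supportDim_stalk_eq_ringKrullDim [IsLocallyNoetherian X] (F : X.Modules)
    [F.IsQuasicoherent] [SheafOfModules.IsFiniteType.{u} F]
    (hsupp : ∀ y : X, Nontrivial (F.presheaf.stalk y)) (x : X) :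
    Module.supportDim (X.presheaf.stalk x) (F.presheaf.stalk x) =
      ringKrullDim (X.presheaf.stalk x) := by
  obtain ⟨W, hW, hxW, hNoeth, hfin⟩ := exists_good_affine F x
  obtain ⟨q, rfl⟩ := exists_fromSpec_eq hW hxW
  haveI := hNoeth
  haveI := hfin
  haveI : q.asIdeal.IsPrime := q.2
  rw [supportDim_stalk_eq F hW q]
  have hsuppN : Module.support Γ(X, W) (Γmod (F.restrict hW.fromSpec)) = Set.univ := by
    ext q'
    simp only [Set.mem_univ, iff_true]
    rw [Module.mem_support_iff]
    exact (nontrivial_stalk_iff F hW q').mp (hsupp _)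
  have hsuppL : Module.support (Localization.AtPrime q.asIdeal)
      (LocalizedModule q.asIdeal.primeCompl (Γmod (F.restrict hW.fromSpec))) = Set.univ := by
    ext Q
    simp only [Set.mem_univ, iff_true]
    apply mem_support_of_comap_mem_support q.asIdeal _ Q
    rw [hsuppN]
    trivial
  have h1 : Module.supportDim (Localization.AtPrime q.asIdeal)
      (LocalizedModule q.asIdeal.primeCompl (Γmod (F.restrict hW.fromSpec))) =
      ringKrullDim (Localization.AtPrime q.asIdeal) := by
    unfold Module.supportDim ringKrullDim
    rw [hsuppL]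
    exact Order.krullDim_eq_of_orderIso OrderIso.Set.univ
  rw [h1]
  exact ringKrullDim_eq_of_ringEquiv (stalkSemiEquiv F hW q).σ

end Groth.Agent.Lib.helper9.LocFree
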