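import Groth.Agent.Lib.helper9.LocFree3
import Groth.Agent.Lib.helper9.CohB8
import Mathlib.RingTheory.Localization.Integer
import Mathlib.LinearAlgebra.Basis.SMul
import Mathlib.LinearAlgebra.Basis.VectorSpace
import Mathlib.LinearAlgebra.Dimension.Free
import Mathlib.RingTheory.Localization.FractionRing

/-!
# Local freeness, part 6: generic freeness for modules of finite type on integral schemes, ranks
-/

universe u

open AlgebraicGeometry CategoryTheory Opposite TopologicalSpace Limits IsLocalRing

namespace Groth.Agent.Lib.helper9.LocFree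

open Scheme.Modules Groth.Agent.Lib.helper9.CohB Groth.Agent.Lib.helper9.AffSect Module

section Alg

/-- **generic freeness for finite modules over a domain**. -/
theorem exists_away_free_of_finite_domain (B : Type u) [CommRing B] [IsDomain B] (N : Type u)
    [AddCommGroup N] [Module B N] [Module.Finite B N] :
    ∃ f : B, f ≠ 0 ∧ Module.Free (Localization.Away f) (LocalizedModule.Away f N) := by
  classical
  let S : Submonoid B := nonZeroDivisors B
  let K := Localization S
  let NK := LocalizedModule S N
  letI : Field K := inferInstanceAs (Field (FractionRing B))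
  haveI : Module.Finite K NK := inferInstance
  haveI : Module.Free K NK := Module.Free.of_divisionRing K NK
  let r := Module.finrank K NK
  let b : Basis (Fin r) K NK := Module.finBasis K NK
  have hb : ∀ i, ∃ x : N × S, x.2 • b i = LocalizedModule.mkLinearMap S N x.1 := fun i =>
    IsLocalizedModule.surj S (LocalizedModule.mkLinearMap S N) (b i)
  choose x hx using hb
  let m : Fin r → N := fun i => (x i).1
  have hw : ∀ i, IsUnit (algebraMap B K ((x i).2 : B)) := fun i =>
    IsLocalization.map_units K (x i).2
  let b' : Basis (Fin r) K NK := b.isUnitSMul hw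
  have hb' : ∀ i, b' i = LocalizedModule.mkLinearMap S N (m i) := by
    intro i
    rw [Basis.isUnitSMul_apply, algebraMap_smul, ← hx i]
    rfl
  let φ : (Fin r → B) →ₗ[B] N := Fintype.linearCombination B m
  have hφ : ∀ c : Fin r → B, LocalizedModule.mkLinearMap S N (φ c) =
      ∑ i, algebraMap B K (c i) • b' i := by
    intro c
    rw [Fintype.linearCombination_apply, map_sum]
    refine Finset.sum_congr rfl fun i _ => ?_
    rw [_root_.map_smul, hb', algebraMap_smul]
  have hφinj : Function.Injective φ := by
    rw [injective_iff_map_eq_zero]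
    intro c hc
    have h0 := hφ c
    rw [hc, map_zero] at h0
    have h1 := Fintype.linearIndependent_iff.mp b'.linearIndependent
      (fun i => algebraMap B K (c i)) h0.symm
    funext i
    exact (IsFractionRing.injective B K) ((h1 i).trans (map_zero _).symm)
  -- generators
  obtain ⟨n, g, hg⟩ := Module.Finite.exists_fin (R := B) (M := N)
  have ht : ∀ j : Fin n, ∃ t : B, t ≠ 0 ∧ t • g j ∈ LinearMap.range φ := by
    intro j
    let k : Fin r → K := fun i => b'.repr (LocalizedModule.mkLinearMap S N (g j)) i
    obtain ⟨d, hd⟩ := IsLocalization.exist_integer_multiples_of_finite S k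
    choose a ha using hd
    have h1 : LocalizedModule.mkLinearMap S N ((d : B) • g j) =
        LocalizedModule.mkLinearMap S N (φ a) := by
      rw [hφ a, _root_.map_smul]
      conv_lhs => rw [← b'.sum_repr (LocalizedModule.mkLinearMap S N (g j))]
      rw [Finset.smul_sum]
      refine Finset.sum_congr rfl fun i _ => ?_
      rw [ha i, smul_assoc]
    have h2 : LocalizedModule.mkLinearMap S N ((d : B) • g j - φ a) = 0 := by
      rw [map_sub, h1, sub_self]
    obtain ⟨u, hu⟩ := (IsLocalizedModule.eq_zero_iff S (LocalizedModule.mkLinearMap S N)).mp h2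
    refine ⟨(u : B) * (d : B), mul_ne_zero (nonZeroDivisors.ne_zero u.2)
      (nonZeroDivisors.ne_zero d.2), ?_⟩
    have h3 : (u : B) • ((d : B) • g j - φ a) = 0 := hu
    rw [smul_sub, sub_eq_zero] at h3
    rw [mul_smul, h3]
    exact ⟨(u : B) • a, by rw [_root_.map_smul]⟩
  choose t ht0 htm using ht
  let f : B := ∏ j, t j
  have hf0 : f ≠ 0 := Finset.prod_ne_zero_iff.mpr fun j _ => ht0 j
  have hfN : ∀ y : N, f • y ∈ LinearMap.range φ := by
    intro y
    have hy : y ∈ Submodule.span B (Set.range g) := by
      rw [hg]
      trivial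
    induction hy using Submodule.span_induction with
    | mem y hy =>
      obtain ⟨j, rfl⟩ := hy
      obtain ⟨c, hc⟩ := Finset.dvd_prod_of_mem t (Finset.mem_univ j)
      have : f = c * t j := by rw [mul_comm]; exact hc
      rw [this, mul_smul]
      exact Submodule.smul_mem _ _ (htm j)
    | zero => rw [smul_zero]; exact Submodule.zero_mem _
    | add y z _ _ hy hz => rw [smul_add]; exact Submodule.add_mem _ hy hz
    | smul c y _ hy => rw [smul_comm]; exact Submodule.smul_mem _ _ hy
  refine ⟨f, hf0, ?_⟩
  let φf := LocalizedModule.map (Submonoid.powers f) φ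
  have hinj : Function.Injective φf := LocalizedModule.map_injective _ φ hφinj
  have hsurj : Function.Surjective φf := by
    intro y
    induction y using LocalizedModule.induction_on with
    | h y s =>
      obtain ⟨c, hc⟩ := hfN y
      refine ⟨LocalizedModule.mk c (⟨f, Submonoid.mem_powers f⟩ * s), ?_⟩
      rw [LocalizedModule.map_mk, hc]
      rw [LocalizedModule.mk_eq]
      refine ⟨1, ?_⟩
      simp only [one_smul]
      rw [Submonoid.smul_def, Submonoid.smul_def, Submonoid.coe_mul, mul_smul, smul_comm]
  haveI : Module.Free (Localization.Away f) (LocalizedModule.Away f (Fin r → B)) :=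
    Module.free_of_isLocalizedModule (Submonoid.powers f)
      (LocalizedModule.mkLinearMap (Submonoid.powers f) (Fin r → B))
  exact Module.Free.of_equiv (LinearEquiv.ofBijective φf ⟨hinj, hsurj⟩)


/-- ranks are preserved by semilinear equivalences. -/
lemma _root_.Groth.Agent.Lib.helper9.SemiEquiv.finrank_eq {R S M N : Type*} [CommRing R]
    [CommRing S] [AddCommGroup M] [AddCommGroup N] [Module R M] [Module S N]
    (E : SemiEquiv R S M N) : Module.finrank R M = Module.finrank S N := by
  unfold Module.finrank
  have h := lift_rank_eq_of_equiv_equiv (E.σ : R → S) E.e E.σ.bijective E.map_smul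
  have h2 := congrArg Cardinal.toNat h
  simpa using h2

end Alg

variable {X Y : Scheme.{u}}

/-- the basic open `D(r)` as an open of the scheme `Spec B`. -/
abbrev basicOpenS {B : CommRingCat.{u}} (r : B) : (Spec B).Opens := PrimeSpectrum.basicOpen r

set_option backward.isDefEq.respectTransparency false in
/-- on an affine scheme, a quasi-coherent module with finite global sections whose localization
away from `r` is free is free on `D(r)`. -/
theorem exists_basicOpen_restrict_iso_freeMod_of_free {B : CommRingCat.{u}}
    (G : (Spec B).Modules) [G.IsQuasicoherent] [Module.Finite B (Γmod G)] (r : B)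
    [Module.Free (Localization.Away r) (LocalizedModule.Away r (Γmod G))] :
    ∃ n : ℕ, Nonempty (G.restrict (basicOpenS r).ι ≅ FlatMod.freeMod (basicOpenS r) n) := by
  let D : (Spec B).Opens := basicOpenS r
  have hU' : IsAffineOpen D := IsAffineOpen.Spec_basicOpen r
  obtain ⟨hf1, hf2⟩ := free_sections_basicOpen G r
  haveI : Module.Free Γ(Spec B, D) (Γmod (G.restrict hU'.fromSpec)) :=
    Module.Free.of_equiv (sectEquiv G hU').symm
  haveI : Module.Finite Γ(Spec B, D) (Γmod (G.restrict hU'.fromSpec)) :=
    Module.Finite.equiv (sectEquiv G hU').symm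
  obtain ⟨n, ⟨e⟩⟩ := exists_linearEquiv_fin Γ(Spec B, D) (Γmod (G.restrict hU'.fromSpec))
  exact ⟨n, restrict_ι_iso_freeMod_of_sections G hU' n e⟩

set_option backward.isDefEq.respectTransparency false in
/-- if the sections of a quasi-coherent module over an affine open `U` are finite and become free
after inverting `r`, the module is free over `D(r) ⊆ U`. -/
theorem exists_restrict_iso_freeMod_of_away_free (F : X.Modules) [F.IsQuasicoherent]
    {U : X.Opens} (hU : IsAffineOpen U) [Module.Finite Γ(X, U) (Γmod (F.restrict hU.fromSpec))]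
    (r : Γ(X, U))
    [Module.Free (Localization.Away r)
      (LocalizedModule.Away r (Γmod (F.restrict hU.fromSpec)))] :
    ∃ n : ℕ, Nonempty (F.restrict (hU.fromSpec ''ᵁ (basicOpenS r)).ι ≅
      FlatMod.freeMod (hU.fromSpec ''ᵁ (basicOpenS r)) n) := by
  obtain ⟨n, ⟨i⟩⟩ := exists_basicOpen_restrict_iso_freeMod_of_free (F.restrict hU.fromSpec) r
  let D : (Spec Γ(X, U)).Opens := basicOpenS r
  refine ⟨n, ?_⟩
  refine restrict_ι_iso_of_range_eq (D.ι ≫ hU.fromSpec) (hU.fromSpec ''ᵁ D) ?_ n
    ⟨(restrictFunctorComp D.ι hU.fromSpec).app F ≪≫ i⟩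
  rw [Scheme.Hom.comp_base, TopCat.coe_comp, Set.range_comp, Scheme.Opens.range_ι]
  rfl

set_option backward.isDefEq.respectTransparency false in
/-- the rank of the stalks of a module free of rank `n` near `x`. -/
theorem finrank_stalk_of_restrict_iso (F : X.Modules) [F.IsQuasicoherent] {V : X.Opens} (n : ℕ)
    (i : F.restrict V.ι ≅ FlatMod.freeMod V n) (x : X) (hx : x ∈ V) :
    Module.finrank (X.presheaf.stalk x) (F.presheaf.stalk x) = n := by
  obtain ⟨U, hU, hxU, hUV⟩ := exists_isAffineOpen_mem_and_subset (x := x) (U := V) hx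
  obtain ⟨q, rfl⟩ := exists_fromSpec_eq hU hxU
  obtain ⟨e⟩ := sections_linearEquiv_of_restrict_iso F n i hU hUV
  haveI : q.asIdeal.IsPrime := q.2
  haveI : Nontrivial Γ(X, U) := q.nontrivial
  haveI : Module.Free Γ(X, U) (Γmod (F.restrict hU.fromSpec)) := Module.Free.of_equiv e.symm
  have h1 : Module.finrank (Localization.AtPrime q.asIdeal)
      (LocalizedModule q.asIdeal.primeCompl (Γmod (F.restrict hU.fromSpec))) =
      Module.finrank Γ(X, U) (Γmod (F.restrict hU.fromSpec)) :=
    Module.finrank_of_isLocalizedModule_of_free (Localization.AtPrime q.asIdeal)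
      q.asIdeal.primeCompl
      (LocalizedModule.mkLinearMap q.asIdeal.primeCompl (Γmod (F.restrict hU.fromSpec)))
  have h2 : Module.finrank Γ(X, U) (Γmod (F.restrict hU.fromSpec)) = n := by
    rw [e.finrank_eq, Module.finrank_finsupp_self, Fintype.card_fin]
  rw [← (stalkSemiEquiv F hU q).finrank_eq, h1, h2]

set_option backward.isDefEq.respectTransparency false in
/-- **generic freeness**: a quasi-coherent module of finite type on an integral scheme is free,
of rank the dimension of its generic stalk, over a nonempty open. -/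
theorem exists_open_restrict_iso_freeMod_generic (X : Scheme.{u}) [IsIntegral X] (F : X.Modules)
    [F.IsQuasicoherent] [SheafOfModules.IsFiniteType.{u} F] :
    ∃ U : X.Opens, (U : Set X).Nonempty ∧
      Nonempty (F.restrict U.ι ≅ FlatMod.freeMod U
        (Module.finrank (X.presheaf.stalk (genericPoint X))
          (F.presheaf.stalk (genericPoint X)))) := by
  obtain ⟨W, ⟨hW, hfin⟩, hηW, -⟩ := (Opens.isBasis_iff_nbhd.mp (isBasis_goodAffine F))
    (show genericPoint X ∈ (⊤ : X.Opens) from trivial)
  haveI := hfin
  haveI : Nonempty W := ⟨⟨genericPoint X, hηW⟩⟩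
  haveI : IsDomain Γ(X, W) := inferInstance
  obtain ⟨f, hf0, hfree⟩ := exists_away_free_of_finite_domain Γ(X, W)
    (Γmod (F.restrict hW.fromSpec))
  haveI := hfree
  obtain ⟨n, ⟨i⟩⟩ := exists_restrict_iso_freeMod_of_away_free F hW f
  let D : (Spec Γ(X, W)).Opens := basicOpenS f
  let U : X.Opens := hW.fromSpec ''ᵁ D
  have hne : (U : Set X).Nonempty := by
    have hD : D ≠ ⊥ := by
      intro h
      have : IsNilpotent f := (PrimeSpectrum.basicOpen_eq_bot_iff f).mp h
      exact hf0 (IsNilpotent.eq_zero this)
    obtain ⟨q, hq⟩ : (D : Set (Spec Γ(X, W))).Nonempty := by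
      rw [Set.nonempty_iff_ne_empty]
      intro h
      exact hD (Opens.ext h)
    exact ⟨hW.fromSpec q, q, hq, rfl⟩
  have hηU : genericPoint X ∈ U := by
    exact ((genericPoint_spec X).mem_open_set_iff U.2).mpr (by simpa using hne)
  have hn := finrank_stalk_of_restrict_iso F n i (genericPoint X) hηU
  refine ⟨U, hne, ?_⟩
  rw [hn]
  exact ⟨i⟩

end Groth.Agent.Lib.helper9.LocFree
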