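import Groth.Agent.Lib.helper9.ZC6

/-!
# `H⁰_{X/Z}(u)` is an isomorphism when `u` is bijective on stalks outside `Z`
-/

universe u

open CategoryTheory CategoryTheory.Limits AlgebraicGeometry TopologicalSpace Opposite

namespace Groth.Agent.Lib.helper9.ZC

variable {X : Scheme.{u}}

lemma app_res {M N : X.Modules} (φ : M ⟶ N) {U V : X.Opens} (h : V ≤ U) (s : Γ(M, U)) :
    φ.app V (res M h s) = res N h (φ.app U s) :=
  congrArg (fun ψ => (ConcreteCategory.hom ψ) s) (φ.mapPresheaf.naturality (homOfLE h).op)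

lemma eq_of_res_eq (M : X.Modules) {ι : Type*} (U : ι → X.Opens) (V : X.Opens)
    (hUV : ∀ i, U i ≤ V) (hcover : V ≤ iSup U) (s t : Γ(M, V))
    (h : ∀ i, res M (hUV i) s = res M (hUV i) t) : s = t :=
  (shf M).eq_of_locally_eq' U V (fun i => homOfLE (hUV i)) hcover s t h

lemma stalk_map_germ {M N : X.Modules} (φ : M ⟶ N) (U : X.Opens) (x : X) (hx : x ∈ U)
    (s : Γ(M, U)) :
    (stalkF x).map φ (M.presheaf.germ U x hx s) = N.presheaf.germ U x hx (φ.app U s) :=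
  TopCat.Presheaf.stalkFunctor_map_germ_apply U x hx φ.mapPresheaf s

lemma isCompact_of_le_isAffineOpen [IsLocallyNoetherian X] {W : X.Opens} (hW : IsAffineOpen W)
    (O' : X.Opens) (hO' : O' ≤ W) : IsCompact (O' : Set X) := by
  haveI : IsNoetherianRing Γ(X, W) := IsLocallyNoetherian.component_noetherian ⟨W, hW⟩
  haveI : NoetherianSpace {z : X // z ∈ W} := noetherianSpace_of_isAffineOpen W hW
  have h1 : IsCompact ({y : {z : X // z ∈ W} | (y : X) ∈ O'}) :=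
    TopologicalSpace.NoetherianSpace.isCompact _
  have h2 : IsCompact ((fun y : {z : X // z ∈ W} => (y : X)) ''
      {y : {z : X // z ∈ W} | (y : X) ∈ O'}) :=
    h1.image continuous_subtype_val
  have h3 : (fun y : {z : X // z ∈ W} => (y : X)) ''
      {y : {z : X // z ∈ W} | (y : X) ∈ O'} = (O' : Set X) := by
    ext z
    constructor
    · rintro ⟨y, hy, rfl⟩
      exact hy
    · intro hz
      exact ⟨⟨z, hO' hz⟩, hz, rfl⟩
  rwa [h3] at h2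

section

variable [IsLocallyNoetherian X] {Z : Set X} (hZ : StableUnderSpecialization Z)
  {F F' : X.Modules} (u : F ⟶ F')

include hZ in
/-- a section killed by `u` (injective on stalks outside `Z`) vanishes off some closed `T ⊆ Z`. -/
theorem exists_res_eq_zero_of_app_eq_zero
    (hu : ∀ x : X, x ∉ Z → Function.Injective ((stalkF x).map u))
    (G : X.Opens) (s : Γ(F, G)) (h0 : u.app G s = 0) :
    ∃ T : ZClos.Cl Z, ∀ (V : X.Opens) (hV : V ≤ G), V ≤ T.U → res F hV s = 0 := by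
  refine exists_res_eq_zero_of_germ_eq_zero_off hZ F G s (fun y hy hyZ => ?_)
  apply hu y hyZ
  refine (stalk_map_germ u G y hy s).trans ?_
  rw [h0]
  exact (map_zero _).trans (map_zero _).symm

include hZ in
/-- gluing finitely many local lifts of a section along `u`, off a closed `T ⊆ Z`. -/
theorem exists_lift_of_local_lifts
    (hu : ∀ x : X, x ∉ Z → Function.Injective ((stalkF x).map u))
    {ι : Type*} [Fintype ι] (G : X.Opens) (s' : Γ(F', G)) (W : ι → X.Opens)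
    (hW : ∀ i, W i ≤ G) (a : ∀ i, Γ(F, W i))
    (ha : ∀ i, u.app (W i) (a i) = res F' (hW i) s') :
    ∃ T : ZClos.Cl Z, ∀ (G3 : X.Opens) (hG3 : G3 ≤ G), G3 ≤ T.U → G3 ≤ iSup W →
      ∃ b : Γ(F, G3), u.app G3 b = res F' hG3 s' := by
  classical
  have h1 : ∀ i j : ι, ∃ T : ZClos.Cl Z, ∀ (V : X.Opens) (hV : V ≤ W i ⊓ W j), V ≤ T.U →
      res F hV (res F (inf_le_left : W i ⊓ W j ≤ W i) (a i) -
        res F (inf_le_right : W i ⊓ W j ≤ W j) (a j)) = 0 := by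
    intro i j
    refine exists_res_eq_zero_of_app_eq_zero hZ u hu (W i ⊓ W j) _ ?_
    rw [map_sub, app_res, app_res, ha i, ha j, res_res, res_res, sub_self]
  choose T hT using h1
  refine ⟨(Finset.univ : Finset (ι × ι)).sup (fun p => T p.1 p.2), ?_⟩
  intro G3 hG3 hG3T hcov
  have hTle : ∀ i j, G3 ≤ (T i j).U := fun i j => hG3T.trans
    (ZClos.Cl.U_anti (Finset.le_sup (f := fun p : ι × ι => T p.1 p.2) (Finset.mem_univ (i, j))))
  have hcov' : G3 ≤ iSup (fun i => W i ⊓ G3) := by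
    intro z hz
    obtain ⟨i, hzi⟩ := Opens.mem_iSup.mp (hcov hz)
    exact Opens.mem_iSup.mpr ⟨i, ⟨hzi, hz⟩⟩
  obtain ⟨b, hb⟩ := exists_glue F (fun i => W i ⊓ G3) G3 (fun i => inf_le_right) hcov'
    (fun i => res F (inf_le_left : W i ⊓ G3 ≤ W i) (a i)) (by
      intro i j
      beta_reduce
      rw [res_res, res_res]
      have hle : (W i ⊓ G3) ⊓ (W j ⊓ G3) ≤ W i ⊓ W j := inf_le_inf inf_le_left inf_le_left
      have h2 := hT i j _ hle ((inf_le_left.trans inf_le_right).trans (hTle i j))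
      rw [map_sub, res_res, res_res] at h2
      exact sub_eq_zero.mp h2)
  have hb' : ∀ i, res F (inf_le_right : W i ⊓ G3 ≤ G3) b =
      res F (inf_le_left : W i ⊓ G3 ≤ W i) (a i) := hb
  refine ⟨b, ?_⟩
  refine eq_of_res_eq F' (fun i => W i ⊓ G3) G3 (fun i => inf_le_right) hcov' _ _ (fun i => ?_)
  beta_reduce
  rw [← app_res, hb' i, app_res, ha i, res_res, res_res]

/-- the locus where a section of `F'` lifts locally along `u`. -/
def liftLocus (G : X.Opens) (s' : Γ(F', G)) : Set X :=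
  {y | ∃ (W : X.Opens) (hW : W ≤ G) (_ : y ∈ W) (a : Γ(F, W)), u.app W a = res F' hW s'}

lemma isOpen_liftLocus (G : X.Opens) (s' : Γ(F', G)) : IsOpen (liftLocus u G s') := by
  rw [isOpen_iff_forall_mem_open]
  rintro y ⟨W, hW, hyW, a, ha⟩
  exact ⟨W, fun y' hy' => ⟨W, hW, hy', a, ha⟩, W.2, hyW⟩

lemma mem_liftLocus_of_surjective (G : X.Opens) (s' : Γ(F', G)) {y : X}
    (hsurj : Function.Surjective ((stalkF y).map u)) (hy : y ∈ G) : y ∈ liftLocus u G s' := by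
  obtain ⟨α, hα⟩ := hsurj (F'.presheaf.germ G y hy s')
  obtain ⟨W1, hyW1, a1, rfl⟩ := F.presheaf.exists_germ_eq α
  have h1 : F'.presheaf.germ W1 y hyW1 (u.app W1 a1) = F'.presheaf.germ G y hy s' :=
    (stalk_map_germ u W1 y hyW1 a1).symm.trans hα
  obtain ⟨W2, hyW2, iU, iV, h2⟩ := TopCat.Presheaf.germ_eq _ y hyW1 hy _ _ h1
  refine ⟨W2, iV.le, hyW2, res F iU.le a1, ?_⟩
  rw [app_res]
  exact ((map_eq_res F' iU _).symm.trans h2).trans (map_eq_res F' iV _)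

include hZ in
theorem stalk_H0map_injective
    (hu : ∀ x : X, x ∉ Z → Function.Injective ((stalkF x).map u)) (x : X) :
    Function.Injective ((stalkF x).map ((ZClos.H0 Z).map u)) := by
  have h0 : ∀ g : ((ZClos.H0 Z).obj F).presheaf.stalk x,
      (stalkF x).map ((ZClos.H0 Z).map u) g = 0 → g = 0 := by
    intro g hg
    obtain ⟨T, V, hxV, s, rfl⟩ := exists_rep Z F x g
    have hg' := (H0map_rep Z u x T V hxV s).symm.trans hg
    obtain ⟨T', hT', V', hV', hx', i, hi⟩ := (rep_eq_zero_iff Z F' x T V hxV _).mp hg'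
    have hi' : u.app _ (res F i.le s) = 0 :=
      (app_res u i.le s).trans ((map_eq_res F' i _).symm.trans hi)
    obtain ⟨T1, hT1⟩ := exists_res_eq_zero_of_app_eq_zero hZ u hu _ _ hi'
    have hle : (T' ⊔ T1).U.ι ''ᵁ (T' ⊔ T1).U.ι ⁻¹ᵁ V' ≤ T1.U := by
      rw [ZClos.ι_image_preimage]
      exact inf_le_left.trans (ZClos.Cl.U_anti le_sup_right)
    refine (rep_eq_zero_iff Z F x T V hxV s).mpr ⟨T' ⊔ T1, hT'.trans le_sup_left, V', hV', hx',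
      homOfLE (ip_le2 Z (hT'.trans le_sup_left) hV'), ?_⟩
    have h2 := hT1 _ (ip_le2 Z (le_sup_left : T' ≤ T' ⊔ T1) (le_refl V')) hle
    rw [res_res] at h2
    exact h2
  intro a b hab
  have h1 : (stalkF x).map ((ZClos.H0 Z).map u) (a - b) = 0 := by
    rw [map_sub, hab, sub_self]
  exact sub_eq_zero.mp (h0 _ h1)

include hZ in
theorem exists_preimage_rep
    (hu : ∀ x : X, x ∉ Z → Function.Bijective ((stalkF x).map u)) (x : X) (T : ZClos.Cl Z)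
    (V : X.Opens) (hVc : ∀ O' : X.Opens, O' ≤ V → IsCompact (O' : Set X)) (hxV : x ∈ V)
    (s' : Γ(F', T.U.ι ''ᵁ T.U.ι ⁻¹ᵁ V)) :
    ∃ g : ((ZClos.H0 Z).obj F).presheaf.stalk x,
      (stalkF x).map ((ZClos.H0 Z).map u) g = rep Z F' x T V hxV s' := by
  classical
  have hopen := isOpen_liftLocus u (T.U.ι ''ᵁ T.U.ι ⁻¹ᵁ V) s'
  have hC : ((T.U.ι ''ᵁ T.U.ι ⁻¹ᵁ V : X.Opens) : Set X) ∩
      (liftLocus u (T.U.ι ''ᵁ T.U.ι ⁻¹ᵁ V) s')ᶜ ⊆ Z := by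
    rintro y ⟨hyG, hyN⟩
    by_contra hyZ
    exact hyN (mem_liftLocus_of_surjective u _ s' (hu y hyZ).2 hyG)
  have hcl := closure_subset_of_stableUnderSpecialization hZ
    (T.U.ι ''ᵁ T.U.ι ⁻¹ᵁ V).2 hopen.isClosed_compl hC
  obtain ⟨T1, hT1⟩ : ∃ T1 : ZClos.Cl Z, ∀ y : X, y ∈ T.U.ι ''ᵁ T.U.ι ⁻¹ᵁ V → y ∈ T1.U →
      y ∈ liftLocus u (T.U.ι ''ᵁ T.U.ι ⁻¹ᵁ V) s' := by
    refine ⟨⟨⟨closure (((T.U.ι ''ᵁ T.U.ι ⁻¹ᵁ V : X.Opens) : Set X) ∩
      (liftLocus u (T.U.ι ''ᵁ T.U.ι ⁻¹ᵁ V) s')ᶜ), isClosed_closure⟩, hcl⟩, ?_⟩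
    intro y hyG hyT
    have hyT' : y ∉ closure (((T.U.ι ''ᵁ T.U.ι ⁻¹ᵁ V : X.Opens) : Set X) ∩
      (liftLocus u (T.U.ι ''ᵁ T.U.ι ⁻¹ᵁ V) s')ᶜ) := hyT
    by_contra hyN
    exact hyT' (subset_closure ⟨hyG, hyN⟩)
  obtain ⟨T2, hT2a, hT2b⟩ : ∃ T2 : ZClos.Cl Z, T ≤ T2 ∧ T1 ≤ T2 :=
    ⟨T ⊔ T1, le_sup_left, le_sup_right⟩
  have hG2G : T2.U.ι ''ᵁ T2.U.ι ⁻¹ᵁ V ≤ T.U.ι ''ᵁ T.U.ι ⁻¹ᵁ V := ip_le2 Z hT2a (le_refl V)
  have hG2T1 : T2.U.ι ''ᵁ T2.U.ι ⁻¹ᵁ V ≤ T1.U := by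
    rw [ZClos.ι_image_preimage]
    exact inf_le_left.trans (ZClos.Cl.U_anti hT2b)
  have hloc : ∀ y : (T2.U.ι ''ᵁ T2.U.ι ⁻¹ᵁ V : X.Opens), ∃ (W : X.Opens)
      (hW : W ≤ T.U.ι ''ᵁ T.U.ι ⁻¹ᵁ V) (_ : (y : X) ∈ W) (a : Γ(F, W)),
      u.app W a = res F' hW s' := fun y => hT1 y.1 (hG2G y.2) (hG2T1 y.2)
  choose W hW hyW a ha using hloc
  obtain ⟨t, ht⟩ := (hVc _ (ip_le T2.U V)).elim_finite_subcover
    (fun y => ((W y : X.Opens) : Set X)) (fun y => (W y).2)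
    (fun z hz => Set.mem_iUnion.mpr ⟨⟨z, hz⟩, hyW ⟨z, hz⟩⟩)
  obtain ⟨T3, hT3⟩ := exists_lift_of_local_lifts hZ u (fun y hy => (hu y hy).1)
    (T.U.ι ''ᵁ T.U.ι ⁻¹ᵁ V) s' (fun i : t => W i.1) (fun i => hW i.1) (fun i => a i.1)
    (fun i => ha i.1)
  obtain ⟨T4, hT4a, hT4b⟩ : ∃ T4 : ZClos.Cl Z, T2 ≤ T4 ∧ T3 ≤ T4 :=
    ⟨T2 ⊔ T3, le_sup_left, le_sup_right⟩
  have hG4G : T4.U.ι ''ᵁ T4.U.ι ⁻¹ᵁ V ≤ T.U.ι ''ᵁ T.U.ι ⁻¹ᵁ V :=
    ip_le2 Z (hT2a.trans hT4a) (le_refl V)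
  have hG4T3 : T4.U.ι ''ᵁ T4.U.ι ⁻¹ᵁ V ≤ T3.U := by
    rw [ZClos.ι_image_preimage]
    exact inf_le_left.trans (ZClos.Cl.U_anti hT4b)
  have hG4cov : T4.U.ι ''ᵁ T4.U.ι ⁻¹ᵁ V ≤ iSup (fun i : t => W i.1) := by
    intro z hz
    have hz2 : z ∈ T2.U.ι ''ᵁ T2.U.ι ⁻¹ᵁ V := ip_le2 Z hT4a (le_refl V) hz
    obtain ⟨y, hyt, hzy⟩ := Set.mem_iUnion₂.mp (ht hz2)
    exact Opens.mem_iSup.mpr ⟨⟨y, hyt⟩, hzy⟩
  obtain ⟨b, hb⟩ := hT3 _ hG4G hG4T3 hG4cov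
  refine ⟨rep Z F x T4 V hxV b, ?_⟩
  refine (H0map_rep Z u x T4 V hxV b).trans ?_
  rw [hb]
  exact (rep_res Z F' x (hT2a.trans hT4a) (le_refl V) hxV (homOfLE hG4G) s').symm

include hZ in
theorem stalk_H0map_surjective
    (hu : ∀ x : X, x ∉ Z → Function.Bijective ((stalkF x).map u)) (x : X) :
    Function.Surjective ((stalkF x).map ((ZClos.H0 Z).map u)) := by
  intro g'
  obtain ⟨T, V0, hxV0, s0, rfl⟩ := exists_rep Z F' x g'
  obtain ⟨V, hVaff, hxV, hVV0⟩ :=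
    (Opens.isBasis_iff_nbhd.mp X.isBasis_affineOpens) hxV0
  obtain ⟨g, hg⟩ := exists_preimage_rep hZ u hu x T V
    (fun O' hO' => isCompact_of_le_isAffineOpen hVaff O' hO') hxV
    (F'.presheaf.map (homOfLE (ip_mono T.U hVV0)).op s0)
  refine ⟨g, hg.trans ?_⟩
  exact (rep_res Z F' x (le_refl T) hVV0 hxV (homOfLE (ip_mono T.U hVV0)) s0).symm

include hZ in
/-- `H⁰_{X/Z}(u)` is an isomorphism if `u` is bijective on the stalks at all points outside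
`Z`. -/
theorem isIso_H0map
    (hu : ∀ x : X, x ∉ Z → Function.Bijective ((stalkF x).map u)) :
    IsIso ((ZClos.H0 Z).map u) :=
  isIso_of_stalk_bijective _ (fun x =>
    ⟨stalk_H0map_injective hZ u (fun y hy => (hu y hy).1) x, stalk_H0map_surjective hZ u hu x⟩)

end

end Groth.Agent.Lib.helper9.ZC
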