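import Groth.Agent.Lib.helper9.FreeRes
import Groth.Agent.Lib.helper9.ZC7
import Groth.Prelude.Def_ParaF

/-!
# Parafactorial pairs: criterion via direct images
-/

universe u

open AlgebraicGeometry CategoryTheory Opposite TopologicalSpace Limits

namespace Groth.Agent.Lib.helper9.Para

open Scheme.Modules Groth.Agent.Lib.helper9.Glue

section General

variable {U Z : Scheme.{u}} (j : U ⟶ Z) [IsOpenImmersion j]

/-- the unit `E → j_* j^* E` is an isomorphism iff all restriction maps
`Γ(W, E) → Γ(j(j⁻¹ W), E)` are bijective. -/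
lemma isIso_unit_iff_gen (E : Z.Modules) :
    IsIso ((restrictAdjunction j).unit.app E) ↔ ∀ W : Z.Opens,
      Function.Bijective (E.presheaf.map (homOfLE (j.image_preimage_le W)).op) := by
  rw [Hom.isIso_iff_isIso_app]
  refine forall_congr' fun W => ?_
  rw [restrictAdjunction_unit_app_app, ConcreteCategory.isIso_iff_bijective]
  exact Iff.rfl

lemma homEquiv_restrict_map (E F : Z.Modules) (φ : F ⟶ E) :
    (restrictAdjunction j).homEquiv F _ ((restrictFunctor j).map φ) =
      φ ≫ (restrictAdjunction j).unit.app E := by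
  rw [Adjunction.homEquiv_unit]
  exact ((restrictAdjunction j).unit.naturality φ).symm

theorem restrict_hom_bijective_iff_gen (E F : Z.Modules) :
    Function.Bijective (fun φ : F ⟶ E => (restrictFunctor j).map φ) ↔
      Function.Bijective (fun φ : F ⟶ E => φ ≫ (restrictAdjunction j).unit.app E) := by
  have : (fun φ : F ⟶ E => φ ≫ (restrictAdjunction j).unit.app E) =
      ((restrictAdjunction j).homEquiv F ((restrictFunctor j).obj E)) ∘
        (fun φ : F ⟶ E => (restrictFunctor j).map φ) := by
    funext φ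
    exact (homEquiv_restrict_map j E F φ).symm
  rw [this]
  exact (Equiv.comp_bijective _ _).symm

theorem restrict_hom_bijective_of_isIso_unit_gen (E F : Z.Modules)
    [IsIso ((restrictAdjunction j).unit.app E)] :
    Function.Bijective (fun φ : F ⟶ E => (restrictFunctor j).map φ) := by
  rw [restrict_hom_bijective_iff_gen]
  constructor
  · intro φ φ' h
    exact (cancel_mono ((restrictAdjunction j).unit.app E)).mp h
  · intro ψ
    exact ⟨ψ ≫ inv ((restrictAdjunction j).unit.app E), by simp⟩

/-- evaluation of a global section at `⊤`. -/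
noncomputable def evTop (M : Z.Modules) (s : SheafOfModules.sections M) : Γ(M, ⊤) :=
  s.val (op (⊤ : Z.Opens))

lemma evTop_bijective (M : Z.Modules) : Function.Bijective (evTop M) := by
  constructor
  · intro s t hst
    apply PresheafOfModules.sections_ext
    intro W
    have h1 := PresheafOfModules.sections_property s (homOfLE (le_top : W.unop ≤ ⊤)).op
    have h2 := PresheafOfModules.sections_property t (homOfLE (le_top : W.unop ≤ ⊤)).op
    have hst' : s.val (op (⊤ : Z.Opens)) = t.val (op (⊤ : Z.Opens)) := hst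
    refine h1.symm.trans ?_
    rw [hst']
    exact h2
  · intro t
    refine ⟨PresheafOfModules.sectionsMk (M := M.val)
      (fun W => (Groth.Agent.Lib.helper9.ZC.res M (le_top : W.unop ≤ ⊤) t : M.val.obj W)) ?_, ?_⟩
    · intro W W' f
      exact Groth.Agent.Lib.helper9.ZC.map_map_op M (homOfLE le_top) f.unop (homOfLE le_top) t
    · exact Groth.Agent.Lib.helper9.ZC.res_self M ⊤ t

/-- if composition with the unit is bijective on `Hom(𝒪, E)`, the unit is bijective on global
sections. -/
theorem unit_app_top_bijective_of_hom (E : Z.Modules)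
    (h : Function.Bijective
      (fun φ : Coh.structureModule Z ⟶ E => φ ≫ (restrictAdjunction j).unit.app E)) :
    Function.Bijective (((restrictAdjunction j).unit.app E).app ⊤) := by
  have h1 : Function.Bijective (fun s : SheafOfModules.sections E =>
      SheafOfModules.sectionsMap ((restrictAdjunction j).unit.app E) s) := by
    have this : (fun s : SheafOfModules.sections E =>
          SheafOfModules.sectionsMap ((restrictAdjunction j).unit.app E) s) ∘
          (SheafOfModules.unitHomEquiv E) =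
        (SheafOfModules.unitHomEquiv ((pushforward j).obj ((restrictFunctor j).obj E))) ∘
          (fun φ : Coh.structureModule Z ⟶ E => φ ≫ (restrictAdjunction j).unit.app E) := by
      funext φ
      rfl
    have h2 : Function.Bijective ((fun s : SheafOfModules.sections E =>
          SheafOfModules.sectionsMap ((restrictAdjunction j).unit.app E) s) ∘
          (SheafOfModules.unitHomEquiv E)) := by
      rw [this]
      exact (SheafOfModules.unitHomEquiv _).bijective.comp h
    exact (Function.Bijective.of_comp_iff _ (SheafOfModules.unitHomEquiv E).bijective).mp h2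
  refine ((bij_inj_iff_of_square
    (f := fun s : SheafOfModules.sections E =>
      SheafOfModules.sectionsMap ((restrictAdjunction j).unit.app E) s)
    (g := ((restrictAdjunction j).unit.app E).app ⊤)
    (evTop_bijective E) (evTop_bijective _) ?_).1).1 h1
  intro s
  rfl

end General

lemma isInvertible_structureModule (Z : Scheme.{u}) :
    PicF.IsInvertible (Coh.structureModule Z) :=
  fun _ => ⟨⊤, trivial, ⟨restrictUnitIso (⊤ : Z.Opens).ι⟩⟩

lemma image_image_of_comp_eq {A B C : Scheme.{u}} (f : A ⟶ B) (g : B ⟶ C) (h : A ⟶ C)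
    [IsOpenImmersion f] [IsOpenImmersion g] [IsOpenImmersion h] (hfg : f ≫ g = h)
    (T : A.Opens) : g ''ᵁ (f ''ᵁ T) = h ''ᵁ T := by
  subst hfg
  exact (Scheme.Hom.comp_image f g T).symm

variable (X : Scheme.{u}) (Uo : X.Opens)

/-- the inclusion `V ∩ Uo → V`. -/
noncomputable abbrev jOf (V : X.Opens) : (↑(V ⊓ Uo) : Scheme.{u}) ⟶ (↑V : Scheme.{u}) :=
  X.homOfLE (inf_le_left : V ⊓ Uo ≤ V)

lemma image_image_preimage (V : X.Opens) (W : (↑V : Scheme.{u}).Opens) :
    V.ι ''ᵁ ((jOf X Uo V) ''ᵁ (jOf X Uo V) ⁻¹ᵁ W) = V.ι ''ᵁ W ⊓ Uo := by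
  have hWV : V.ι ''ᵁ W ≤ V := by
    have := V.ι.image_le_opensRange W
    rwa [Scheme.Opens.opensRange_ι] at this
  rw [image_image_of_comp_eq (jOf X Uo V) V.ι (V ⊓ Uo).ι (X.homOfLE_ι _) ((jOf X Uo V) ⁻¹ᵁ W),
    Scheme.ι_image_homOfLE_eq_ι_image_inf, ← inf_assoc, inf_eq_left.mpr hWV]

variable {X Uo}

/-- transfer of the Hartogs property from `X` to the open subscheme `V`. -/
lemma transfer
    (hA : ∀ V' : X.Opens,
      Function.Bijective (X.presheaf.map (homOfLE (inf_le_left : V' ⊓ Uo ≤ V')).op))
    (V : X.Opens) (W : (↑V : Scheme.{u}).Opens) :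
    Function.Bijective ((↑V : Scheme.{u}).presheaf.map
      (homOfLE ((jOf X Uo V).image_preimage_le W)).op) := by
  have h2 := image_image_preimage X Uo V W
  have hle : V.ι ''ᵁ ((jOf X Uo V) ''ᵁ (jOf X Uo V) ⁻¹ᵁ W) ≤ V.ι ''ᵁ W :=
    V.ι.image_mono ((jOf X Uo V).image_preimage_le W)
  have := (bijective_map_congr X.presheaf rfl h2 hle inf_le_left).mpr (hA (V.ι ''ᵁ W))
  exact this

lemma isIso_unit_of_isInvertible
    (hA : ∀ V' : X.Opens,
      Function.Bijective (X.presheaf.map (homOfLE (inf_le_left : V' ⊓ Uo ≤ V')).op))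
    (V : X.Opens) (L' : (↑V : Scheme.{u}).Modules) (hL' : PicF.IsInvertible L') :
    IsIso ((restrictAdjunction (jOf X Uo V)).unit.app L') := by
  have hr : ∀ W : (↑V : Scheme.{u}).Opens,
      (jOf X Uo V) ''ᵁ (jOf X Uo V) ⁻¹ᵁ W = W ⊓ (jOf X Uo V).opensRange := fun W => by
    rw [Scheme.Hom.image_preimage_eq_opensRange_inf, inf_comm]
  have hZ' : ∀ W : (↑V : Scheme.{u}).Opens, Function.Bijective ((↑V : Scheme.{u}).presheaf.map
      (homOfLE (inf_le_left : W ⊓ (jOf X Uo V).opensRange ≤ W)).op) := fun W =>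
    (bijective_map_congr (↑V : Scheme.{u}).presheaf rfl (hr W)
      ((jOf X Uo V).image_preimage_le W) inf_le_left).mp (transfer hA V W)
  have hL := (res_of_isInvertible L' hL' (jOf X Uo V).opensRange).2 hZ'
  exact (isIso_unit_iff_gen (jOf X Uo V) L').mpr (fun W =>
    (bijective_map_congr L'.presheaf rfl (hr W)
      ((jOf X Uo V).image_preimage_le W) inf_le_left).mpr (hL W))

variable (X Uo)

theorem main :
    (∀ V : X.Opens, ParaF.InvRestrictEquiv (X.homOfLE (inf_le_left : V ⊓ Uo ≤ V))) ↔
      ((∀ V : X.Opens,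
          Function.Bijective (X.presheaf.map (homOfLE (inf_le_left : V ⊓ Uo ≤ V)).op)) ∧
        ∀ (V : X.Opens) (L : ((V ⊓ Uo : X.Opens) : Scheme.{u}).Modules), PicF.IsInvertible L →
          PicF.IsInvertible
            ((Scheme.Modules.pushforward (X.homOfLE (inf_le_left : V ⊓ Uo ≤ V))).obj L)) := by
  constructor
  · intro hP
    have hA : ∀ V : X.Opens,
        Function.Bijective (X.presheaf.map (homOfLE (inf_le_left : V ⊓ Uo ≤ V)).op) := by
      intro V
      have hb := (hP V).1 (Coh.structureModule _) (Coh.structureModule _)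
        (isInvertible_structureModule _) (isInvertible_structureModule _)
      have hb2 := unit_app_top_bijective_of_hom (jOf X Uo V) (Coh.structureModule _)
        ((restrict_hom_bijective_iff_gen (jOf X Uo V) _ _).mp hb)
      have h1 : V.ι ''ᵁ (⊤ : (↑V : Scheme.{u}).Opens) = V := by
        rw [Scheme.Hom.image_top_eq_opensRange, Scheme.Opens.opensRange_ι]
      have h2 : V.ι ''ᵁ ((jOf X Uo V) ''ᵁ (jOf X Uo V) ⁻¹ᵁ ⊤) = V ⊓ Uo := by
        rw [image_image_preimage, h1]
      have hle : V.ι ''ᵁ ((jOf X Uo V) ''ᵁ (jOf X Uo V) ⁻¹ᵁ ⊤) ≤ V.ι ''ᵁ ⊤ :=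
        V.ι.image_mono ((jOf X Uo V).image_preimage_le ⊤)
      refine (bijective_map_congr X.presheaf h1 h2 hle inf_le_left).mp ?_
      exact hb2
    refine ⟨hA, ?_⟩
    intro V L₀ hL₀
    obtain ⟨L, hL, ⟨e⟩⟩ := (hP V).2 L₀ hL₀
    haveI := isIso_unit_of_isInvertible hA V L hL
    exact isInvertible_of_iso
      (asIso ((restrictAdjunction (jOf X Uo V)).unit.app L) ≪≫
        (pushforward (jOf X Uo V)).mapIso e) hL
  · rintro ⟨hA, hB⟩ V
    refine ⟨?_, ?_⟩
    · intro L L' _ hL'
      haveI := isIso_unit_of_isInvertible hA V L' hL'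
      exact restrict_hom_bijective_of_isIso_unit_gen (jOf X Uo V) L' L
    · intro L₀ hL₀
      exact ⟨(pushforward (jOf X Uo V)).obj L₀, hB V L₀ hL₀,
        ⟨asIso ((restrictAdjunction (jOf X Uo V)).counit.app L₀)⟩⟩

end Groth.Agent.Lib.helper9.Para
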