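import Groth.Agent.Lib.helper9.PullFF
import Groth.Agent.Lib.helper9.TrivInv

/-!
# Modules trivial locally over the base come from the base (when `𝒪_S ≅ f_* 𝒪_X`)
-/

universe u

open AlgebraicGeometry CategoryTheory Opposite TopologicalSpace Limits

namespace Groth.Agent.Lib.helper9.PullFF

open Scheme.Modules

section Abstract

universe v₁ u₁

variable {C : Type u₁} [Category.{v₁} C]

lemma isIso_of_comp_eq_left {A B E : C} {a : A ⟶ B} {b : B ⟶ E} {d : A ⟶ E}
    (h : a ≫ b = d) (ha : IsIso a) (hd : IsIso d) : IsIso b := by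
  have : b = inv a ≫ d := by
    rw [← h, IsIso.inv_hom_id_assoc]
  rw [this]
  infer_instance

end Abstract

variable {X S : Scheme.{u}}

lemma isIso_app_of_eq {M N : X.Modules} (φ : M ⟶ N) {A B : X.Opens} (h : A = B)
    (hA : IsIso (φ.app A)) : IsIso (φ.app B) := by
  subst h
  exact hA

/-- an endomorphism of the structure sheaf hitting `1` on global sections is an isomorphism. -/
lemma isIso_of_exists_app_eq_one {Z : Scheme.{u}}
    (e : Coh.structureModule Z ⟶ Coh.structureModule Z)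
    (h : ∃ a : Γ(Z, ⊤), (e.val.app (op ⊤)).hom a = (1 : Z.ringCatSheaf.obj.obj (op ⊤))) :
    IsIso e := by
  obtain ⟨a, ha⟩ := h
  obtain ⟨e', he'⟩ := TrivInv.secO_bijective.2 a
  have h1 : a * TrivInv.secO e = 1 := by
    have h := FT.unit_app_eq_smul (Coh.structureModule Z) e ⊤ a
    exact h.symm.trans ha
  refine ⟨⟨e', ?_, ?_⟩⟩
  · apply TrivInv.secO_bijective.1
    rw [TrivInv.secO_comp, TrivInv.secO_id, he', mul_comm]
    exact h1
  · apply TrivInv.secO_bijective.1
    rw [TrivInv.secO_comp, TrivInv.secO_id, he']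
    exact h1

set_option backward.isDefEq.respectTransparency false in
lemma isIso_of_isIso_app_top {Z : Scheme.{u}}
    (e : Coh.structureModule Z ⟶ Coh.structureModule Z) (h : IsIso (e.app ⊤)) : IsIso e := by
  apply isIso_of_exists_app_eq_one
  have hs := (ConcreteCategory.bijective_of_isIso (e.app ⊤)).2
  obtain ⟨a, ha⟩ := hs (1 : Z.ringCatSheaf.obj.obj (op ⊤))
  exact ⟨a, ha⟩

/-- `𝒪_S ≅ f_* 𝒪_X` as modules. -/
theorem nonempty_structureModule_iso_pushforward (f : X ⟶ S)
    (hf : ∀ U : S.Opens, Function.Bijective (f.app U)) :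
    Nonempty (Coh.structureModule S ≅ (pushforward f).obj (Coh.structureModule X)) := by
  obtain ⟨p⟩ := nonempty_pullback_structureModule_iso f
  haveI := isIso_unit_structureModule f hf
  exact ⟨asIso ((pullbackPushforwardAdjunction f).unit.app (Coh.structureModule S)) ≪≫
    (pushforward f).mapIso p⟩

set_option backward.isDefEq.respectTransparency false in
/-- `(f_* L)|_V ≅ (f|_V)_* (L|_{f⁻¹V})`. -/
theorem nonempty_restrict_pushforward_iso (f : X ⟶ S) (V : S.Opens) (L : X.Modules) :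
    Nonempty ((restrictFunctor V.ι).obj ((pushforward f).obj L) ≅
      (pushforward (f ∣_ V)).obj ((restrictFunctor (f ⁻¹ᵁ V).ι).obj L)) := by
  have e : (f ⁻¹ᵁ V).ι ≫ f = (f ∣_ V) ≫ V.ι := (morphismRestrict_ι f V).symm
  let β : pushforward (f ⁻¹ᵁ V).ι ⋙ pushforward f ≅ pushforward (f ∣_ V) ⋙ pushforward V.ι :=
    pushforwardComp (f ⁻¹ᵁ V).ι f ≪≫ pushforwardCongr e ≪≫ (pushforwardComp (f ∣_ V) V.ι).symm
  let m1 := (restrictFunctor V.ι).map
    ((pushforward f).map ((restrictAdjunction (f ⁻¹ᵁ V).ι).unit.app L))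
  have h1 : IsIso m1 := by
    rw [Hom.isIso_iff_isIso_app]
    intro U'
    exact isIso_restrictUnit_app_of_le (f ⁻¹ᵁ V) L (f ⁻¹ᵁ (V.ι ''ᵁ U'))
      (by intro x hx; exact V.ι_image_le U' hx)
  let m2 := (restrictFunctor V.ι).map (β.hom.app ((restrictFunctor (f ⁻¹ᵁ V).ι).obj L))
  let m3 := (restrictAdjunction V.ι).counit.app
    ((pushforward (f ∣_ V)).obj ((restrictFunctor (f ⁻¹ᵁ V).ι).obj L))
  exact ⟨asIso m1 ≪≫ asIso m2 ≪≫ asIso m3⟩

set_option backward.isDefEq.respectTransparency false in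
/-- `(f^* M)|_{f⁻¹V} ≅ (f|_V)^* (M|_V)`. -/
theorem nonempty_restrict_pullback_iso (f : X ⟶ S) (V : S.Opens) (M : S.Modules) :
    Nonempty ((restrictFunctor (f ⁻¹ᵁ V).ι).obj ((Scheme.Modules.pullback f).obj M) ≅
      (Scheme.Modules.pullback (f ∣_ V)).obj ((restrictFunctor V.ι).obj M)) := by
  have e : (f ⁻¹ᵁ V).ι ≫ f = (f ∣_ V) ≫ V.ι := (morphismRestrict_ι f V).symm
  let β : pushforward (f ⁻¹ᵁ V).ι ⋙ pushforward f ≅ pushforward (f ∣_ V) ⋙ pushforward V.ι :=
    pushforwardComp (f ⁻¹ᵁ V).ι f ≪≫ pushforwardCongr e ≪≫ (pushforwardComp (f ∣_ V) V.ι).symm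
  obtain ⟨θ, -⟩ := exists_iso_unit_comp (pullbackPushforwardAdjunction f)
    (pullbackPushforwardAdjunction (f ∣_ V)) (restrictAdjunction V.ι)
    (restrictAdjunction (f ⁻¹ᵁ V).ι) β M
  exact ⟨θ⟩

theorem nonempty_restrict_pushforward_iso_structureModule (f : X ⟶ S)
    (hf : ∀ U : S.Opens, Function.Bijective (f.app U)) (L : X.Modules) (U : S.Opens)
    (τ : (restrictFunctor (f ⁻¹ᵁ U).ι).obj L ≅ Coh.structureModule (f ⁻¹ᵁ U)) :
    Nonempty ((restrictFunctor U.ι).obj ((pushforward f).obj L) ≅ Coh.structureModule U) := by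
  obtain ⟨δ⟩ := nonempty_restrict_pushforward_iso f U L
  obtain ⟨κ⟩ := nonempty_structureModule_iso_pushforward (f ∣_ U)
    (bijective_morphismRestrict_app f hf U)
  exact ⟨δ ≪≫ (pushforward (f ∣_ U)).mapIso τ ≪≫ κ.symm⟩

theorem isInvertible_pushforward_of_locally_trivial (f : X ⟶ S)
    (hf : ∀ U : S.Opens, Function.Bijective (f.app U)) (L : X.Modules)
    (hloc : ∀ s : S, ∃ U : S.Opens, s ∈ U ∧
      Nonempty ((restrictFunctor (f ⁻¹ᵁ U).ι).obj L ≅ Coh.structureModule (f ⁻¹ᵁ U))) :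
    PicF.IsInvertible ((pushforward f).obj L) := by
  intro s
  obtain ⟨U, hsU, ⟨τ⟩⟩ := hloc s
  exact ⟨U, hsU, nonempty_restrict_pushforward_iso_structureModule f hf L U τ⟩

set_option backward.isDefEq.respectTransparency false in
/-- if `𝒪_S ≅ f_* 𝒪_X` and `L` is trivial locally over `S`, the counit `f^* f_* L → L` is an
isomorphism. -/
theorem isIso_counit_of_locally_trivial (f : X ⟶ S)
    (hf : ∀ U : S.Opens, Function.Bijective (f.app U)) (L : X.Modules)
    (hloc : ∀ s : S, ∃ U : S.Opens, s ∈ U ∧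
      Nonempty ((restrictFunctor (f ⁻¹ᵁ U).ι).obj L ≅ Coh.structureModule (f ⁻¹ᵁ U))) :
    IsIso ((pullbackPushforwardAdjunction f).counit.app L) := by
  have hN : PicF.IsInvertible ((pushforward f).obj L) :=
    isInvertible_pushforward_of_locally_trivial f hf L hloc
  have hη : IsIso ((pullbackPushforwardAdjunction f).unit.app ((pushforward f).obj L)) :=
    isIso_unit_of_isInvertible f hf _ hN
  have htri := (pullbackPushforwardAdjunction f).right_triangle_components L
  have hGε : IsIso ((pushforward f).map ((pullbackPushforwardAdjunction f).counit.app L)) :=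
    isIso_of_comp_eq_left htri hη inferInstance
  apply isIso_of_locally_restrict
  intro x
  obtain ⟨U, hsU, ⟨τ⟩⟩ := hloc (f x)
  refine ⟨f ⁻¹ᵁ U, hsU, ?_⟩
  obtain ⟨ν⟩ := nonempty_restrict_pushforward_iso_structureModule f hf L U τ
  obtain ⟨θ⟩ := nonempty_restrict_pullback_iso f U ((pushforward f).obj L)
  obtain ⟨p'⟩ := nonempty_pullback_structureModule_iso (f ∣_ U)
  let σ : (restrictFunctor (f ⁻¹ᵁ U).ι).obj
      ((Scheme.Modules.pullback f).obj ((pushforward f).obj L)) ≅
      Coh.structureModule (f ⁻¹ᵁ U) :=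
    θ ≪≫ (Scheme.Modules.pullback (f ∣_ U)).mapIso ν ≪≫ p'
  let e : Coh.structureModule (f ⁻¹ᵁ U) ⟶ Coh.structureModule (f ⁻¹ᵁ U) :=
    σ.inv ≫ (restrictFunctor (f ⁻¹ᵁ U).ι).map
      ((pullbackPushforwardAdjunction f).counit.app L) ≫ τ.hom
  have h1 : IsIso (((restrictFunctor (f ⁻¹ᵁ U).ι).map
      ((pullbackPushforwardAdjunction f).counit.app L)).app ⊤) := by
    have h2 : IsIso (((pushforward f).map
        ((pullbackPushforwardAdjunction f).counit.app L)).app U) := by
      have := hGε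
      infer_instance
    exact isIso_app_of_eq ((pullbackPushforwardAdjunction f).counit.app L)
      ((f ⁻¹ᵁ U).ι_image_top).symm h2
  have he : IsIso e := by
    apply isIso_of_isIso_app_top
    show IsIso (σ.inv.app ⊤ ≫ ((restrictFunctor (f ⁻¹ᵁ U).ι).map
      ((pullbackPushforwardAdjunction f).counit.app L)).app ⊤ ≫ τ.hom.app ⊤)
    have := h1
    infer_instance
  have hfin : (restrictFunctor (f ⁻¹ᵁ U).ι).map
      ((pullbackPushforwardAdjunction f).counit.app L) = σ.hom ≫ e ≫ τ.inv := by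
    simp [e]
  rw [hfin]
  infer_instance

end Groth.Agent.Lib.helper9.PullFF
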