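import Groth.Agent.Lib.helper9.QcohLoc
import Groth.Agent.Lib.helper9.QcohLocal
import Mathlib.AlgebraicGeometry.Morphisms.Affine

/-!
# Direct images of quasi-coherent modules under affine morphisms are quasi-coherent
-/

universe u

open AlgebraicGeometry CategoryTheory Opposite TopologicalSpace Limits

namespace Groth.Agent.Lib.helper9.PushAff

open Scheme.Modules Groth.Agent.Lib.helper9.CohB Groth.Agent.Lib.helper9.AffSect
  Groth.Agent.Lib.helper9.LocFree Groth.Agent.Lib.helper9.QcohLoc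

variable {X Y : Scheme.{u}}

set_option backward.isDefEq.respectTransparency false in
/-- the action of functions on the base on sections of a direct image. -/
lemma push_smul (f : X ⟶ Y) (F : X.Modules) (V : Y.Opens) (c : Γ(Y, V))
    (y : Γ((pushforward f).obj F, V)) :
    (c • y : Γ((pushforward f).obj F, V)) =
      ((f.app V c) • (show Γ(F, f ⁻¹ᵁ V) from y) : Γ(F, f ⁻¹ᵁ V)) := rfl

set_option backward.isDefEq.respectTransparency false in
lemma smul_H (f : X ⟶ Y) (F : X.Modules) {W : Y.Opens} (hW : IsAffineOpen W)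
    (D : (Spec Γ(Y, W)).Opens) (c : Γ(Y, W))
    (y : Γ(((pushforward f).obj F).restrict hW.fromSpec, D)) :
    (c • y : Γ(((pushforward f).obj F).restrict hW.fromSpec, D)) =
      ((f.app (hW.fromSpec ''ᵁ D) (Y.presheaf.map (homOfLE (image_le hW D)).op c)) •
        (show Γ(F, f ⁻¹ᵁ (hW.fromSpec ''ᵁ D)) from y) : Γ(F, f ⁻¹ᵁ (hW.fromSpec ''ᵁ D))) := by
  rw [smul_D ((pushforward f).obj F) hW D c y]
  rfl

set_option backward.isDefEq.respectTransparency false in
theorem isLocalizedModule_resBasic_pushforward (f : X ⟶ Y) [IsAffineHom f] (F : X.Modules)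
    [F.IsQuasicoherent] {W : Y.Opens} (hW : IsAffineOpen W) (b : Γ(Y, W)) :
    IsLocalizedModule (Submonoid.powers b)
      (resBasic (((pushforward f).obj F).restrict hW.fromSpec) b) := by
  have hU' : IsAffineOpen (f ⁻¹ᵁ (hW.fromSpec ''ᵁ ⊤)) := by
    rw [image_top hW]
    exact hW.preimage f
  have hle0 : hW.fromSpec ''ᵁ (basicOpenS b) ≤ hW.fromSpec ''ᵁ ⊤ :=
    (hW.fromSpec.opensFunctor.map (basicOpenS b).leTop).le
  have hle : f ⁻¹ᵁ (hW.fromSpec ''ᵁ (basicOpenS b)) ≤ f ⁻¹ᵁ (hW.fromSpec ''ᵁ ⊤) :=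
    fun x hx => hle0 hx
  have hV : f ⁻¹ᵁ (hW.fromSpec ''ᵁ (basicOpenS b)) =
      X.basicOpen (f.app (hW.fromSpec ''ᵁ ⊤)
        (Y.presheaf.map (homOfLE (image_le hW ⊤)).op b)) := by
    rw [← Scheme.preimage_basicOpen, Scheme.basicOpen_res, image_top hW,
      hW.fromSpec_image_basicOpen b, inf_eq_right.mpr (Y.basicOpen_le b)]
  have hnat : f.app (hW.fromSpec ''ᵁ (basicOpenS b))
      (Y.presheaf.map (homOfLE (image_le hW (basicOpenS b))).op b) =
      X.presheaf.map (homOfLE hle).op (f.app (hW.fromSpec ''ᵁ ⊤)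
        (Y.presheaf.map (homOfLE (image_le hW ⊤)).op b)) := by
    have h1 := f.naturality (homOfLE hle0).op
    have h3 : f.app (hW.fromSpec ''ᵁ (basicOpenS b)) (Y.presheaf.map (homOfLE hle0).op
        (Y.presheaf.map (homOfLE (image_le hW ⊤)).op b)) =
        X.presheaf.map ((Opens.map f.base).map (homOfLE hle0)).op
          (f.app (hW.fromSpec ''ᵁ ⊤) (Y.presheaf.map (homOfLE (image_le hW ⊤)).op b)) :=
      congrArg (fun φ => φ.hom (Y.presheaf.map (homOfLE (image_le hW ⊤)).op b)) h1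
    rw [ringMap_map] at h3
    exact h3
  have hs_top : ∀ (n : ℕ) (x : Γ(((pushforward f).obj F).restrict hW.fromSpec, ⊤)),
      (b ^ n • x : Γ(((pushforward f).obj F).restrict hW.fromSpec, ⊤)) =
        ((f.app (hW.fromSpec ''ᵁ ⊤) (Y.presheaf.map (homOfLE (image_le hW ⊤)).op b)) ^ n •
          (show Γ(F, f ⁻¹ᵁ (hW.fromSpec ''ᵁ ⊤)) from x) :
            Γ(F, f ⁻¹ᵁ (hW.fromSpec ''ᵁ ⊤))) := by
    intro n x
    rw [smul_H f F hW ⊤ (b ^ n) x, map_pow, map_pow]
  have hs_D : ∀ (n : ℕ)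
      (y : Γ(((pushforward f).obj F).restrict hW.fromSpec, basicOpenS b)),
      (b ^ n • y : Γ(((pushforward f).obj F).restrict hW.fromSpec, basicOpenS b)) =
        ((X.presheaf.map (homOfLE hle).op (f.app (hW.fromSpec ''ᵁ ⊤)
          (Y.presheaf.map (homOfLE (image_le hW ⊤)).op b))) ^ n •
          (show Γ(F, f ⁻¹ᵁ (hW.fromSpec ''ᵁ (basicOpenS b))) from y) :
            Γ(F, f ⁻¹ᵁ (hW.fromSpec ''ᵁ (basicOpenS b)))) := by
    intro n y
    rw [smul_H f F hW (basicOpenS b) (b ^ n) y, map_pow, map_pow, hnat]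
  have hres : ∀ t : Γ(F, f ⁻¹ᵁ (hW.fromSpec ''ᵁ ⊤)),
      (show Γ(F, f ⁻¹ᵁ (hW.fromSpec ''ᵁ (basicOpenS b))) from
        resBasic (((pushforward f).obj F).restrict hW.fromSpec) b t) =
        F.presheaf.map (homOfLE hle).op t := fun t => rfl
  have key : IsLocalizedModule
      (M' := Γ(((pushforward f).obj F).restrict hW.fromSpec, basicOpenS b))
      (Submonoid.powers b) (resBasic (((pushforward f).obj F).restrict hW.fromSpec) b) := by
    refine ⟨?_, ?_, ?_⟩
    · rintro ⟨_, n, rfl⟩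
      have hu := Scheme.Modules.isUnit_algebraMap_end_of_le_basicOpen
        (M := ((pushforward f).obj F).restrict hW.fromSpec) (U := basicOpenS b) b le_rfl
      show IsUnit (algebraMap _ _ (b ^ n))
      rw [map_pow]
      exact hu.pow n
    · intro y
      obtain ⟨n, t, ht⟩ := exists_pow_smul_eq_res F hU' _ _ hV hle
        (show Γ(F, f ⁻¹ᵁ (hW.fromSpec ''ᵁ (basicOpenS b))) from y)
      refine ⟨(t, ⟨b ^ n, n, rfl⟩), ?_⟩
      show (b ^ n • y : Γ(((pushforward f).obj F).restrict hW.fromSpec, basicOpenS b)) =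
        resBasic (((pushforward f).obj F).restrict hW.fromSpec) b t
      rw [hs_D n y, ← ht]
      exact (hres t).symm
    · intro x₁ x₂ h
      have h0 : F.presheaf.map (homOfLE hle).op
          ((show Γ(F, f ⁻¹ᵁ (hW.fromSpec ''ᵁ ⊤)) from x₁) -
            (show Γ(F, f ⁻¹ᵁ (hW.fromSpec ''ᵁ ⊤)) from x₂)) = 0 := by
        rw [map_sub, sub_eq_zero, ← hres, ← hres]
        exact h
      obtain ⟨n, hn⟩ := exists_pow_smul_eq_zero F hU' _ _ hV hle _ h0
      refine ⟨⟨b ^ n, n, rfl⟩, ?_⟩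
      show (b ^ n • x₁ : Γ(((pushforward f).obj F).restrict hW.fromSpec, ⊤)) = b ^ n • x₂
      rw [hs_top n x₁, hs_top n x₂]
      have hn' : ((f.app (hW.fromSpec ''ᵁ ⊤) (Y.presheaf.map (homOfLE (image_le hW ⊤)).op b)) ^ n •
          (show Γ(F, f ⁻¹ᵁ (hW.fromSpec ''ᵁ ⊤)) from x₁) : Γ(F, f ⁻¹ᵁ (hW.fromSpec ''ᵁ ⊤))) -
          (f.app (hW.fromSpec ''ᵁ ⊤) (Y.presheaf.map (homOfLE (image_le hW ⊤)).op b)) ^ n •
          (show Γ(F, f ⁻¹ᵁ (hW.fromSpec ''ᵁ ⊤)) from x₂) = 0 := by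
        rw [← smul_sub]
        exact hn
      exact sub_eq_zero.mp hn'
  exact key

/-- **the direct image of a quasi-coherent module under an affine morphism is
quasi-coherent**. -/
theorem isQuasicoherent_pushforward (f : X ⟶ Y) [IsAffineHom f] (F : X.Modules)
    [F.IsQuasicoherent] : ((pushforward f).obj F).IsQuasicoherent := by
  apply Groth.Agent.Lib.helper9.QcohLocal.isQuasicoherent_of_forall_exists
  intro y
  obtain ⟨W, hW, hyW, -⟩ := exists_isAffineOpen_mem_and_subset (x := y) (U := ⊤) trivial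
  refine ⟨W, hW, hyW, ?_⟩
  rw [isQuasicoherent_iff_isIso_fromTildeΓ, isIso_fromTildeΓ_iff_isLocalizing]
  intro b
  exact isLocalizedModule_resBasic_pushforward f F hW b

end Groth.Agent.Lib.helper9.PushAff
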