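import Groth.Agent.Lib.helper9.PushAff
import Groth.Agent.Lib.helper9.FinAff
import Groth.Agent.Lib.helper9.FTLocal
import Groth.Agent.Lib.helper9.ZC3

/-!
# Direct images along a morphism for which the preimage of a given affine open is affine
-/

universe u

open AlgebraicGeometry CategoryTheory Opposite TopologicalSpace Limits

namespace Groth.Agent.Lib.helper9.PushAff2

open Scheme.Modules Groth.Agent.Lib.helper9.CohB Groth.Agent.Lib.helper9.AffSect
  Groth.Agent.Lib.helper9.LocFree Groth.Agent.Lib.helper9.QcohLoc Groth.Agent.Lib.helper9.PushAff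
  Groth.Agent.Lib.helper9.FinAff

variable {X Y : Scheme.{u}}

set_option backward.isDefEq.respectTransparency false in
theorem isLocalizedModule_resBasic_pushforward' (f : X ⟶ Y) (F : X.Modules)
    [F.IsQuasicoherent] {W : Y.Opens} (hW : IsAffineOpen W) (hfW : IsAffineOpen (f ⁻¹ᵁ W))
    (b : Γ(Y, W)) :
    IsLocalizedModule (Submonoid.powers b)
      (resBasic (((pushforward f).obj F).restrict hW.fromSpec) b) := by
  have hU' : IsAffineOpen (f ⁻¹ᵁ (hW.fromSpec ''ᵁ ⊤)) := by
    rw [image_top hW]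
    exact hfW
  have hle0 : hW.fromSpec ''ᵁ (basicOpenS b) ≤ hW.fromSpec ''ᵁ ⊤ :=
    (hW.fromSpec.opensFunctor.map (basicOpenS b).leTop).le
  have hle : f ⁻¹ᵁ (hW.fromSpec ''ᵁ (basicOpenS b)) ≤ f ⁻¹ᵁ (hW.fromSpec ''ᵁ ⊤) :=
    fun x hx => hle0 hx
  have hV : f ⁻¹ᵁ (hW.fromSpec ''ᵁ (basicOpenS b)) =
      X.basicOpen (f.app (hW.fromSpec ''ᵁ ⊤)
        (Y.presheaf.map (homOfLE (image_le hW ⊤)).op b)) := by
    rw [← Scheme.preimage_basicOpen, Scheme.basicOpen_res, image_top hW,
      hW.fromSpec_image_basicOpen b, inf_eq_right.mpr (Y.basicOpen_le b)]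
  have hnat : f.app (hW.fromSpec ''ᵁ (basicOpenS b))
      (Y.presheaf.map (homOfLE (image_le hW (basicOpenS b))).op b) =
      X.presheaf.map (homOfLE hle).op (f.app (hW.fromSpec ''ᵁ ⊤)
        (Y.presheaf.map (homOfLE (image_le hW ⊤)).op b)) := by
    have h1 := f.naturality (homOfLE hle0).op
    have h3 : f.app (hW.fromSpec ''ᵁ (basicOpenS b)) (Y.presheaf.map (homOfLE hle0).op
        (Y.presheaf.map (homOfLE (image_le hW ⊤)).op b)) =
        X.presheaf.map ((Opens.map f.base).map (homOfLE hle0)).op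
          (f.app (hW.fromSpec ''ᵁ ⊤) (Y.presheaf.map (homOfLE (image_le hW ⊤)).op b)) :=
      congrArg (fun φ => φ.hom (Y.presheaf.map (homOfLE (image_le hW ⊤)).op b)) h1
    rw [ringMap_map] at h3
    exact h3
  have hs_top : ∀ (n : ℕ) (x : Γ(((pushforward f).obj F).restrict hW.fromSpec, ⊤)),
      (b ^ n • x : Γ(((pushforward f).obj F).restrict hW.fromSpec, ⊤)) =
        ((f.app (hW.fromSpec ''ᵁ ⊤) (Y.presheaf.map (homOfLE (image_le hW ⊤)).op b)) ^ n •
          (show Γ(F, f ⁻¹ᵁ (hW.fromSpec ''ᵁ ⊤)) from x) :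
            Γ(F, f ⁻¹ᵁ (hW.fromSpec ''ᵁ ⊤))) := by
    intro n x
    rw [smul_H f F hW ⊤ (b ^ n) x, map_pow, map_pow]
  have hs_D : ∀ (n : ℕ)
      (y : Γ(((pushforward f).obj F).restrict hW.fromSpec, basicOpenS b)),
      (b ^ n • y : Γ(((pushforward f).obj F).restrict hW.fromSpec, basicOpenS b)) =
        ((X.presheaf.map (homOfLE hle).op (f.app (hW.fromSpec ''ᵁ ⊤)
          (Y.presheaf.map (homOfLE (image_le hW ⊤)).op b))) ^ n •
          (show Γ(F, f ⁻¹ᵁ (hW.fromSpec ''ᵁ (basicOpenS b))) from y) :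
            Γ(F, f ⁻¹ᵁ (hW.fromSpec ''ᵁ (basicOpenS b)))) := by
    intro n y
    rw [smul_H f F hW (basicOpenS b) (b ^ n) y, map_pow, map_pow, hnat]
  have hres : ∀ t : Γ(F, f ⁻¹ᵁ (hW.fromSpec ''ᵁ ⊤)),
      (show Γ(F, f ⁻¹ᵁ (hW.fromSpec ''ᵁ (basicOpenS b))) from
        resBasic (((pushforward f).obj F).restrict hW.fromSpec) b t) =
        F.presheaf.map (homOfLE hle).op t := fun t => rfl
  have key : IsLocalizedModule
      (M' := Γ(((pushforward f).obj F).restrict hW.fromSpec, basicOpenS b))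
      (Submonoid.powers b) (resBasic (((pushforward f).obj F).restrict hW.fromSpec) b) := by
    refine ⟨?_, ?_, ?_⟩
    · rintro ⟨_, n, rfl⟩
      have hu := Scheme.Modules.isUnit_algebraMap_end_of_le_basicOpen
        (M := ((pushforward f).obj F).restrict hW.fromSpec) (U := basicOpenS b) b le_rfl
      show IsUnit (algebraMap _ _ (b ^ n))
      rw [map_pow]
      exact hu.pow n
    · intro y
      obtain ⟨n, t, ht⟩ := exists_pow_smul_eq_res F hU' _ _ hV hle
        (show Γ(F, f ⁻¹ᵁ (hW.fromSpec ''ᵁ (basicOpenS b))) from y)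
      refine ⟨(t, ⟨b ^ n, n, rfl⟩), ?_⟩
      show (b ^ n • y : Γ(((pushforward f).obj F).restrict hW.fromSpec, basicOpenS b)) =
        resBasic (((pushforward f).obj F).restrict hW.fromSpec) b t
      rw [hs_D n y, ← ht]
      exact (hres t).symm
    · intro x₁ x₂ h
      have h0 : F.presheaf.map (homOfLE hle).op
          ((show Γ(F, f ⁻¹ᵁ (hW.fromSpec ''ᵁ ⊤)) from x₁) -
            (show Γ(F, f ⁻¹ᵁ (hW.fromSpec ''ᵁ ⊤)) from x₂)) = 0 := by
        rw [map_sub, sub_eq_zero, ← hres, ← hres]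
        exact h
      obtain ⟨n, hn⟩ := exists_pow_smul_eq_zero F hU' _ _ hV hle _ h0
      refine ⟨⟨b ^ n, n, rfl⟩, ?_⟩
      show (b ^ n • x₁ : Γ(((pushforward f).obj F).restrict hW.fromSpec, ⊤)) = b ^ n • x₂
      rw [hs_top n x₁, hs_top n x₂]
      have hn' : ((f.app (hW.fromSpec ''ᵁ ⊤) (Y.presheaf.map (homOfLE (image_le hW ⊤)).op b)) ^ n •
          (show Γ(F, f ⁻¹ᵁ (hW.fromSpec ''ᵁ ⊤)) from x₁) : Γ(F, f ⁻¹ᵁ (hW.fromSpec ''ᵁ ⊤))) -
          (f.app (hW.fromSpec ''ᵁ ⊤) (Y.presheaf.map (homOfLE (image_le hW ⊤)).op b)) ^ n •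
          (show Γ(F, f ⁻¹ᵁ (hW.fromSpec ''ᵁ ⊤)) from x₂) = 0 := by
        rw [← smul_sub]
        exact hn
      exact sub_eq_zero.mp hn'
  exact key


lemma isLocalizedModule_of_subsingleton {R M M' : Type*} [CommSemiring R] [AddCommMonoid M]
    [AddCommMonoid M'] [Module R M] [Module R M'] (S : Submonoid R) (g : M →ₗ[R] M')
    (h1 : Subsingleton M) (h2 : Subsingleton M') : IsLocalizedModule S g := by
  refine ⟨fun s => ?_, fun y => ⟨(0, 1), Subsingleton.elim _ _⟩,
    fun _ => ⟨1, Subsingleton.elim _ _⟩⟩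
  haveI : Subsingleton (Module.End R M') :=
    ⟨fun a b => LinearMap.ext fun x => Subsingleton.elim _ _⟩
  exact isUnit_of_subsingleton _

set_option backward.isDefEq.respectTransparency false in
/-- if all stalks of `F` over the preimage of the affine open `W` vanish, the direct image has no
sections over opens inside `W`. -/
lemma subsingleton_sections (f : X ⟶ Y) (F : X.Modules) {W : Y.Opens} (hW : IsAffineOpen W)
    (hz : ∀ x : X, f x ∈ W → Subsingleton (F.presheaf.stalk x)) (D : (Spec Γ(Y, W)).Opens) :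
    Subsingleton Γ(((pushforward f).obj F).restrict hW.fromSpec, D) := by
  have key : ∀ t : Γ(F, f ⁻¹ᵁ (hW.fromSpec ''ᵁ D)), t = 0 := by
    intro t
    apply Groth.Agent.Lib.helper9.ZC.eq_zero_of_germ_eq_zero
    intro x hx
    haveI := hz x (image_le hW D hx)
    exact Subsingleton.elim _ _
  exact ⟨fun a b => (key a).trans (key b).symm⟩

set_option backward.isDefEq.respectTransparency false in
theorem isLocalizedModule_resBasic_pushforward_of_subsingleton (f : X ⟶ Y) (F : X.Modules)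
    {W : Y.Opens} (hW : IsAffineOpen W)
    (hz : ∀ x : X, f x ∈ W → Subsingleton (F.presheaf.stalk x)) (b : Γ(Y, W)) :
    IsLocalizedModule (Submonoid.powers b)
      (resBasic (((pushforward f).obj F).restrict hW.fromSpec) b) := by
  have h1 := subsingleton_sections f F hW hz ⊤
  have h2 := subsingleton_sections f F hW hz (basicOpenS b)
  exact isLocalizedModule_of_subsingleton _ _ h1 h2

set_option backward.isDefEq.respectTransparency false in
theorem finite_Γmod_pushforward_of_subsingleton (f : X ⟶ Y) (F : X.Modules)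
    {W : Y.Opens} (hW : IsAffineOpen W)
    (hz : ∀ x : X, f x ∈ W → Subsingleton (F.presheaf.stalk x)) :
    Module.Finite Γ(Y, W) (Γmod (((pushforward f).obj F).restrict hW.fromSpec)) := by
  haveI h1 : Subsingleton (Γmod (((pushforward f).obj F).restrict hW.fromSpec)) :=
    subsingleton_sections f F hW hz ⊤
  exact Module.Finite.of_finite

set_option backward.isDefEq.respectTransparency false in
/-- finiteness of the sections of a direct image over an affine open with affine preimage, when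
the ring map on sections is finite. -/
theorem finite_Γmod_pushforward' (f : X ⟶ Y) (M : X.Modules)
    [M.IsQuasicoherent] [SheafOfModules.IsFiniteType.{u} M] {W : Y.Opens}
    (hW : IsAffineOpen W) (hfW : IsAffineOpen (f ⁻¹ᵁ W))
    (h1 : (f.app (hW.fromSpec ''ᵁ ⊤)).hom.Finite) :
    Module.Finite Γ(Y, W) (Γmod (((pushforward f).obj M).restrict hW.fromSpec)) := by
  have hU' : IsAffineOpen (f ⁻¹ᵁ (hW.fromSpec ''ᵁ ⊤)) := by
    rw [image_top hW]
    exact hfW
  haveI := finite_Γmod M hU'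
  haveI hfinU : Module.Finite Γ(X, f ⁻¹ᵁ (hW.fromSpec ''ᵁ ⊤))
      Γ(M, f ⁻¹ᵁ (hW.fromSpec ''ᵁ ⊤)) := finite_sections M hU'
  have h2 : (Y.presheaf.map (homOfLE (image_le hW ⊤)).op).hom.Finite := by
    apply RingHom.Finite.of_surjective
    intro z
    refine ⟨Y.presheaf.map (homOfLE (le_of_eq (image_top hW).symm)).op z, ?_⟩
    exact (ringMap_map _ _ z).trans (ringMap_self _ z)
  exact finite_of_smul_eq
    ((f.app (hW.fromSpec ''ᵁ ⊤)).hom.comp (Y.presheaf.map (homOfLE (image_le hW ⊤)).op).hom)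
    (h1.comp h2)
    (N := Γ(M, f ⁻¹ᵁ (hW.fromSpec ''ᵁ ⊤)))
    { toFun := fun x => x
      invFun := fun x => x
      left_inv := fun _ => rfl
      right_inv := fun _ => rfl
      map_add' := fun _ _ => rfl }
    (fun c x => smul_H f M hW ⊤ c x)

end Groth.Agent.Lib.helper9.PushAff2
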