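import Groth.Agent.S12215
import Groth.Agent.Lib.helper9.StalkNat
import Groth.Agent.Lib.helper9.AffSect
import Groth.Agent.Lib.helper9.ZC7

/-!
# Weakly associated points of quasi-coherent modules on schemes
-/

universe u

open AlgebraicGeometry CategoryTheory Opposite TopologicalSpace Limits

namespace Groth.Agent.Lib.helper9.WeakAssSch

open Scheme.Modules Groth.Agent.Lib.helper9.CohB Groth.Agent.Lib.helper9.Depth
  Groth.Agent.Lib.helper9.AffSect

section Alg

variable {R : Type u} [CommRing R] {M : Type u} [AddCommGroup M] [Module R M]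

lemma annihilator_span_singleton_ne_top {m : M} (hm : m ≠ 0) :
    (Submodule.span R {m}).annihilator ≠ ⊤ := by
  intro h
  have h1 : (1 : R) ∈ (Submodule.span R {m}).annihilator := by rw [h]; trivial
  rw [Submodule.mem_annihilator_span_singleton, one_smul] at h1
  exact hm h1

lemma exists_minimalPrimes_annihilator {m : M} (hm : m ≠ 0) :
    ∃ p, p ∈ (Submodule.span R {m}).annihilator.minimalPrimes := by
  obtain ⟨Q, hQ, hle⟩ := Ideal.exists_le_maximal _ (annihilator_span_singleton_ne_top (R := R) hm)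
  haveI := hQ.isPrime
  obtain ⟨p, hp, -⟩ := Ideal.exists_minimalPrimes_le hle
  exact ⟨p, hp⟩

lemma mk_ne_zero_of_annihilator_le (m : M) (p : Ideal R) [p.IsPrime]
    (h : (Submodule.span R {m}).annihilator ≤ p) :
    (LocalizedModule.mk m 1 : LocalizedModule p.primeCompl M) ≠ 0 := by
  intro h0
  rw [mk_eq_zero_iff'] at h0
  obtain ⟨t, ht⟩ := h0
  exact t.2 (h ((Submodule.mem_annihilator_span_singleton m (t : R)).mpr ht))

lemma annihilator_le_of_mk_ne_zero (m : M) (p : Ideal R) [p.IsPrime]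
    (h : (LocalizedModule.mk m 1 : LocalizedModule p.primeCompl M) ≠ 0) :
    (Submodule.span R {m}).annihilator ≤ p := by
  intro a ha
  by_contra hap
  apply h
  rw [mk_eq_zero_iff']
  exact ⟨⟨a, hap⟩, (Submodule.mem_annihilator_span_singleton m a).mp ha⟩

lemma exists_mk_ne_zero (p : Ideal R) [p.IsPrime]
    (h : ¬ Subsingleton (LocalizedModule p.primeCompl M)) :
    ∃ m : M, (LocalizedModule.mk m 1 : LocalizedModule p.primeCompl M) ≠ 0 := by
  by_contra hcon
  push Not at hcon
  apply h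
  have hz : ∀ z : LocalizedModule p.primeCompl M, z = 0 := by
    intro z
    induction z using LocalizedModule.induction_on with
    | h m s =>
      rw [mk_eq_zero_iff']
      exact (mk_eq_zero_iff' p M m 1).mp (hcon m)
  exact ⟨fun a b => (hz a).trans (hz b).symm⟩

end Alg

variable {X : Scheme.{u}}

set_option backward.isDefEq.respectTransparency false in
/-- **dictionary for weakly associated points**. -/
theorem isWeakAssPoint_fromSpec_iff (F : X.Modules) [F.IsQuasicoherent] {W : X.Opens}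
    (hW : IsAffineOpen W) (q : PrimeSpectrum Γ(X, W)) :
    Curv2.IsWeakAssPoint F (hW.fromSpec q) ↔
      q.asIdeal ∈ FlatCA.weakAss Γ(X, W) (Γmod (F.restrict hW.fromSpec)) := by
  haveI : q.asIdeal.IsPrime := q.2
  rw [Groth.Agent.S12215.alg_iff q.asIdeal (Γmod (F.restrict hW.fromSpec))]
  constructor
  · intro h
    exact Groth.Agent.S12215.semi_weak (stalkSemiEquiv F hW q).symm h
  · intro h
    exact Groth.Agent.S12215.semi_weak (stalkSemiEquiv F hW q) h

lemma germ_eq_zero_iff (F : X.Modules) [F.IsQuasicoherent] {W : X.Opens}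
    (hW : IsAffineOpen W) (q : PrimeSpectrum Γ(X, W)) (n : Γmod (F.restrict hW.fromSpec)) :
    F.presheaf.germ (hW.fromSpec ''ᵁ ⊤) (hW.fromSpec q) ⟨q, trivial, rfl⟩ n = 0 ↔
      (LocalizedModule.mk n 1 :
        LocalizedModule q.asIdeal.primeCompl (Γmod (F.restrict hW.fromSpec))) = 0 := by
  rw [← stalkSemiEquiv_e_mk]
  exact AddEquiv.map_eq_zero_iff (stalkSemiEquiv F hW q).e

/-- a nonzero section over an affine open has a nonzero germ at some weakly associated point. -/
lemma exists_weakAssPoint_germ_ne_zero (F : X.Modules) [F.IsQuasicoherent] {W : X.Opens}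
    (hW : IsAffineOpen W) (n : Γmod (F.restrict hW.fromSpec)) (hn : n ≠ 0) :
    ∃ p : PrimeSpectrum Γ(X, W), Curv2.IsWeakAssPoint F (hW.fromSpec p) ∧
      F.presheaf.germ (hW.fromSpec ''ᵁ ⊤) (hW.fromSpec p) ⟨p, trivial, rfl⟩ n ≠ 0 := by
  obtain ⟨P, hP⟩ := exists_minimalPrimes_annihilator (R := Γ(X, W)) hn
  haveI : P.IsPrime := hP.1.1
  refine ⟨⟨P, hP.1.1⟩, ?_, ?_⟩
  · rw [isWeakAssPoint_fromSpec_iff]
    exact ⟨n, hP⟩
  · rw [Ne, germ_eq_zero_iff]
    exact mk_ne_zero_of_annihilator_le n P hP.1.2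

/-- the restriction of a section to the image of `fromSpec`. -/
noncomputable def toΓmod (F : X.Modules) {W : X.Opens} (hW : IsAffineOpen W) {U : X.Opens}
    (hWU : W ≤ U) (s : Γ(F, U)) : Γmod (F.restrict hW.fromSpec) :=
  F.presheaf.map (homOfLE (le_trans (le_of_eq (image_top hW)) hWU)).op s

lemma germ_toΓmod (F : X.Modules) {W : X.Opens} (hW : IsAffineOpen W) {U : X.Opens}
    (hWU : W ≤ U) (s : Γ(F, U)) (q : PrimeSpectrum Γ(X, W)) :
    F.presheaf.germ (hW.fromSpec ''ᵁ ⊤) (hW.fromSpec q) ⟨q, trivial, rfl⟩ (toΓmod F hW hWU s) =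
      F.presheaf.germ U (hW.fromSpec q) (hWU (fromSpec_mem hW q)) s :=
  Groth.Agent.Lib.helper9.ZC.germ_res F _ _ _ s

/-- a section whose germs at all weakly associated points vanish is zero. -/
theorem eq_zero_of_germ_eq_zero_of_weakAss (F : X.Modules) [F.IsQuasicoherent] (U : X.Opens)
    (s : Γ(F, U))
    (h : ∀ (x : X) (hx : x ∈ U), Curv2.IsWeakAssPoint F x → F.presheaf.germ U x hx s = 0) :
    s = 0 := by
  apply Groth.Agent.Lib.helper9.ZC.eq_zero_of_germ_eq_zero
  intro x hx
  obtain ⟨W, hW, hxW, hWU⟩ := exists_isAffineOpen_mem_and_subset hx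
  obtain ⟨q, rfl⟩ := exists_fromSpec_eq hW hxW
  have hn : toΓmod F hW hWU s = 0 := by
    by_contra hn
    obtain ⟨p, hp, hgerm⟩ := exists_weakAssPoint_germ_ne_zero F hW _ hn
    apply hgerm
    rw [germ_toΓmod]
    exact h _ _ hp
  rw [← germ_toΓmod F hW hWU s q, hn]
  exact map_zero (F.presheaf.germ (hW.fromSpec ''ᵁ ⊤) (hW.fromSpec q) ⟨q, trivial, rfl⟩).hom

end Groth.Agent.Lib.helper9.WeakAssSch
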