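import Groth.Agent.Lib.helper9.PushAff
import Groth.Agent.Lib.helper9.WeakAssSch
import Groth.Agent.Lib.helper9.CohB3
import Mathlib.AlgebraicGeometry.Morphisms.QuasiCompact
import Mathlib.RingTheory.Ideal.MinimalPrime.Localization

/-!
# Weakly associated points of direct images under quasi-compact morphisms
-/

universe u

open AlgebraicGeometry CategoryTheory Opposite TopologicalSpace Limits

namespace Groth.Agent.Lib.helper9.PushQC

open Scheme.Modules Groth.Agent.Lib.helper9.CohB Groth.Agent.Lib.helper9.AffSect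
  Groth.Agent.Lib.helper9.LocFree Groth.Agent.Lib.helper9.QcohLoc Groth.Agent.Lib.helper9.PushAff
  Groth.Agent.Lib.helper9.WeakAssSch Groth.Agent.Lib.helper9

variable {X S : Scheme.{u}}

/-- restriction is semilinear. -/
lemma res_smul (F : X.Modules) {U V : X.Opens} (h : V ≤ U) (a : Γ(X, U)) (t : Γ(F, U)) :
    F.presheaf.map (homOfLE h).op (a • t) =
      (X.presheaf.map (homOfLE h).op a) • F.presheaf.map (homOfLE h).op t :=
  F.val.map_smul (homOfLE h).op a t

/-- a quasi-compact open is covered by finitely many affine opens contained in it. -/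
lemma exists_finset_affine_cover (O : X.Opens) (hO : IsCompact (O : Set X)) :
    ∃ c : Finset X.affineOpens, (∀ U ∈ c, (U : X.Opens) ≤ O) ∧
      ∀ x ∈ O, ∃ U ∈ c, x ∈ (U : X.Opens) := by
  obtain ⟨s, hfin, hs⟩ := (isCompact_and_isOpen_iff_finite_and_eq_biUnion_affineOpens
    (U := (O : Set X))).mp ⟨hO, O.2⟩
  refine ⟨hfin.toFinset, ?_, ?_⟩
  · intro i hi x hx
    have his : i ∈ s := hfin.mem_toFinset.mp hi
    have h1 : x ∈ ⋃ j ∈ s, ((j : X.Opens) : Set X) := Set.mem_biUnion his hx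
    rw [← hs] at h1
    exact h1
  · intro x hx
    have h1 : x ∈ ⋃ j ∈ s, ((j : X.Opens) : Set X) := by
      rw [← hs]
      exact hx
    obtain ⟨i, his, hxi⟩ := Set.mem_iUnion₂.mp h1
    exact ⟨i, hfin.mem_toFinset.mpr his, hxi⟩

/-- a section vanishing on all members of a cover vanishes. -/
lemma eq_zero_of_cover (F : X.Modules) (O : X.Opens) (c : Finset X.affineOpens)
    (hc1 : ∀ U ∈ c, (U : X.Opens) ≤ O) (hc2 : ∀ x ∈ O, ∃ U ∈ c, x ∈ (U : X.Opens)) (y : Γ(F, O))
    (hy : ∀ U ∈ c, ∀ hUO : (U : X.Opens) ≤ O, F.presheaf.map (homOfLE hUO).op y = 0) :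
    y = 0 := by
  apply ZC.eq_zero_of_germ_eq_zero
  intro z hz
  obtain ⟨U, hUs, hzU⟩ := hc2 z hz
  have hUO := hc1 U hUs
  refine (ZC.germ_res F hUO z hzU y).symm.trans ?_
  have h0 : ZC.res F hUO y = 0 := hy U hUs hUO
  rw [h0]
  exact map_zero _

/-- (Q2) over a quasi-compact open: a section vanishing on `X_h` is killed by a power of `h`. -/
theorem exists_pow_smul_eq_zero_of_isCompact (F : X.Modules) [F.IsQuasicoherent] (O : X.Opens)
    (hO : IsCompact (O : Set X)) (h : Γ(X, O)) (V : X.Opens) (hV : V = X.basicOpen h)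
    (hle : V ≤ O) (u : Γ(F, O)) (hu : F.presheaf.map (homOfLE hle).op u = 0) :
    ∃ k : ℕ, h ^ k • u = 0 := by
  classical
  obtain ⟨c, hc1, hc2⟩ := exists_finset_affine_cover O hO
  have hpow : ∀ U : X.affineOpens, U ∈ c → ∃ n : ℕ, ∀ k, n ≤ k → ∀ hUO : (U : X.Opens) ≤ O,
      F.presheaf.map (homOfLE hUO).op (h ^ k • u) = 0 := by
    rintro ⟨U, hUa⟩ hU
    have hUO : U ≤ O := hc1 _ hU
    have hVx : U ⊓ V = X.basicOpen (X.presheaf.map (homOfLE hUO).op h) := by
      rw [Scheme.basicOpen_res, hV]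
    have hres0 : F.presheaf.map (homOfLE (inf_le_left : U ⊓ V ≤ U)).op
        (F.presheaf.map (homOfLE hUO).op u) = 0 := by
      rw [ZC.map_map_op F (homOfLE hUO) (homOfLE inf_le_left)
        (homOfLE ((inf_le_right : U ⊓ V ≤ V).trans hle)) u,
        ← ZC.map_map_op F (homOfLE hle) (homOfLE (inf_le_right : U ⊓ V ≤ V))
          (homOfLE ((inf_le_right : U ⊓ V ≤ V).trans hle)) u, hu, map_zero]
    obtain ⟨n, hn⟩ := exists_pow_smul_eq_zero F hUa (X.presheaf.map (homOfLE hUO).op h)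
      (U ⊓ V) hVx inf_le_left (F.presheaf.map (homOfLE hUO).op u) hres0
    refine ⟨n, fun k hk _ => ?_⟩
    rw [res_smul, map_pow]
    obtain ⟨d, rfl⟩ := Nat.exists_eq_add_of_le hk
    rw [pow_add, mul_comm, mul_smul, hn, smul_zero]
  choose! n hn using hpow
  refine ⟨c.sup n, ?_⟩
  apply eq_zero_of_cover F O c hc1 hc2
  intro U hU hUO
  exact hn U hU _ (Finset.le_sup hU) hUO

section Stalk

variable (P : S.Modules) (s : S) {W : S.Opens} (hsW : s ∈ W) (t : Γ(P, W))

lemma exists_res_pow_smul_eq_zero (hW : IsAffineOpen W)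
    (hm : Ideal.radical (LinearMap.ker (LinearMap.toSpanSingleton (S.presheaf.stalk s)
      (P.presheaf.stalk s) (P.presheaf.germ W s hsW t))) =
        IsLocalRing.maximalIdeal (S.presheaf.stalk s))
    (a : Γ(S, W))
    (ha : S.presheaf.germ W s hsW a ∈ IsLocalRing.maximalIdeal (S.presheaf.stalk s)) :
    ∃ (n : ℕ) (g : Γ(S, W)), IsUnit (S.presheaf.germ W s hsW g) ∧
      P.presheaf.map (homOfLE (S.basicOpen_le g)).op (a ^ n • t) = 0 := by
  have h1 : S.presheaf.germ W s hsW a ∈ Ideal.radical (LinearMap.ker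
      (LinearMap.toSpanSingleton (S.presheaf.stalk s) (P.presheaf.stalk s)
        (P.presheaf.germ W s hsW t))) := by
    rw [hm]
    exact ha
  obtain ⟨n, hn⟩ := h1
  have h2 : P.presheaf.germ W s hsW (a ^ n • t) = 0 := by
    rw [germ_smul, map_pow]
    have h := LinearMap.mem_ker.mp hn
    rwa [LinearMap.toSpanSingleton_apply] at h
  have h3 : P.presheaf.germ W s hsW (a ^ n • t) = P.presheaf.germ W s hsW 0 :=
    h2.trans (map_zero _).symm
  obtain ⟨V, hsV, iU, iV, hV⟩ := TopCat.Presheaf.germ_eq _ s hsW hsW _ _ h3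
  obtain ⟨g, hgV, hsg⟩ := hW.exists_basicOpen_le ⟨s, hsV⟩ hsW
  refine ⟨n, g, (S.mem_basicOpen g s hsW).mp hsg, ?_⟩
  have h4 : P.presheaf.map iU.op (a ^ n • t) = 0 := hV.trans (map_zero _)
  rw [← ZC.map_map_op P iU (homOfLE hgV) (homOfLE (S.basicOpen_le g)) (a ^ n • t), h4, map_zero]

lemma germ_mem_maximalIdeal_of_smul_eq_zero
    (hm : Ideal.radical (LinearMap.ker (LinearMap.toSpanSingleton (S.presheaf.stalk s)
      (P.presheaf.stalk s) (P.presheaf.germ W s hsW t))) =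
        IsLocalRing.maximalIdeal (S.presheaf.stalk s))
    (a : Γ(S, W)) (hat : a • t = 0) :
    S.presheaf.germ W s hsW a ∈ IsLocalRing.maximalIdeal (S.presheaf.stalk s) := by
  by_contra hna
  have hu : IsUnit (S.presheaf.germ W s hsW a) := by
    by_contra h
    exact hna ((IsLocalRing.mem_maximalIdeal _).mpr h)
  have h0 : P.presheaf.germ W s hsW t = 0 := by
    have h1 := germ_smul P s W hsW a t
    rw [hat, map_zero] at h1
    exact hu.smul_eq_zero.mp h1.symm
  rw [h0] at hm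
  have h1 : (1 : S.presheaf.stalk s) ∈ IsLocalRing.maximalIdeal (S.presheaf.stalk s) := by
    rw [← hm]
    apply Ideal.le_radical
    rw [LinearMap.mem_ker, LinearMap.toSpanSingleton_apply, smul_zero]
  exact (IsLocalRing.maximalIdeal.isMaximal _).ne_top ((Ideal.eq_top_iff_one _).mpr h1)

end Stalk

set_option backward.isDefEq.respectTransparency false in
/-- the affine-local heart: a section of `f_* F` over an affine open `W ∋ s` whose germ at `s` has
annihilator with radical the maximal ideal gives a weakly associated point of `F` over `s`. -/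
theorem exists_isWeakAssPoint_of_section (f : X ⟶ S) [QuasiCompact f] (F : X.Modules)
    [F.IsQuasicoherent] (s : S) {W : S.Opens} (hW : IsAffineOpen W) (hsW : s ∈ W)
    (t : Γ((pushforward f).obj F, W))
    (hm : Ideal.radical (LinearMap.ker (LinearMap.toSpanSingleton (S.presheaf.stalk s)
      (((pushforward f).obj F).presheaf.stalk s)
        (((pushforward f).obj F).presheaf.germ W s hsW t))) =
        IsLocalRing.maximalIdeal (S.presheaf.stalk s)) :
    ∃ x : X, f x = s ∧ Curv2.IsWeakAssPoint F x := by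
  classical
  have hO : IsCompact ((f ⁻¹ᵁ W : X.Opens) : Set X) := f.isCompact_preimage hW.isCompact
  -- the key relation between the two module structures
  have key : ∀ a : Γ(S, W), ((f.app W a) • (show Γ(F, f ⁻¹ᵁ W) from t) : Γ(F, f ⁻¹ᵁ W)) =
      (a • t : Γ((pushforward f).obj F, W)) := fun a => (push_smul f F W a t).symm
  have hstar : ∀ a : Γ(S, W),
      S.presheaf.germ W s hsW a ∈ IsLocalRing.maximalIdeal (S.presheaf.stalk s) →
      ∃ (n : ℕ) (g : Γ(S, W)), IsUnit (S.presheaf.germ W s hsW g) ∧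
        ((f.app W (g * a ^ n)) • (show Γ(F, f ⁻¹ᵁ W) from t) : Γ(F, f ⁻¹ᵁ W)) = 0 := by
    intro a ha
    obtain ⟨n, g, hg, h0⟩ :=
      exists_res_pow_smul_eq_zero ((pushforward f).obj F) s hsW t hW hm a ha
    have hle : f ⁻¹ᵁ (S.basicOpen g) ≤ f ⁻¹ᵁ W := fun x hx => S.basicOpen_le g hx
    obtain ⟨k, hk⟩ := exists_pow_smul_eq_zero_of_isCompact F (f ⁻¹ᵁ W) hO (f.app W g)
      (f ⁻¹ᵁ (S.basicOpen g)) (Scheme.preimage_basicOpen f g) hle
      (show Γ(F, f ⁻¹ᵁ W) from (a ^ n • t : Γ((pushforward f).obj F, W))) h0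
    refine ⟨n, g ^ k, ?_, ?_⟩
    · rw [map_pow]
      exact hg.pow k
    · rw [key, mul_smul]
      rw [push_smul f F W (g ^ k) (a ^ n • t), map_pow]
      exact hk
  have hstar2 : ∀ a : Γ(S, W),
      ((f.app W a) • (show Γ(F, f ⁻¹ᵁ W) from t) : Γ(F, f ⁻¹ᵁ W)) = 0 →
      S.presheaf.germ W s hsW a ∈ IsLocalRing.maximalIdeal (S.presheaf.stalk s) := by
    intro a hat
    rw [key] at hat
    exact germ_mem_maximalIdeal_of_smul_eq_zero ((pushforward f).obj F) s hsW t hm a hat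
  obtain ⟨c, hc1, hc2⟩ := exists_finset_affine_cover (f ⁻¹ᵁ W) hO
  -- choose a member of the cover
  have hexU : ∃ U ∈ c, ∀ a : Γ(S, W), (∀ hUO : (U : X.Opens) ≤ f ⁻¹ᵁ W,
      F.presheaf.map (homOfLE hUO).op
        ((f.app W a) • (show Γ(F, f ⁻¹ᵁ W) from t) : Γ(F, f ⁻¹ᵁ W)) = 0) →
      S.presheaf.germ W s hsW a ∈ IsLocalRing.maximalIdeal (S.presheaf.stalk s) := by
    by_contra hcon
    push Not at hcon
    choose! a ha1 ha2 using hcon
    have hprime : (Ideal.comap (S.presheaf.germ W s hsW).hom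
        (IsLocalRing.maximalIdeal (S.presheaf.stalk s))).IsPrime := Ideal.comap_isPrime _ _
    have hprod : ((f.app W (∏ U ∈ c, a U)) • (show Γ(F, f ⁻¹ᵁ W) from t) : Γ(F, f ⁻¹ᵁ W)) = 0 := by
      apply eq_zero_of_cover F (f ⁻¹ᵁ W) c hc1 hc2
      intro U hU hUO
      rw [← Finset.prod_erase_mul c a hU, map_mul, mul_smul, res_smul, ha1 U hU hUO, smul_zero]
    have hmem : (∏ U ∈ c, a U) ∈ Ideal.comap (S.presheaf.germ W s hsW).hom
        (IsLocalRing.maximalIdeal (S.presheaf.stalk s)) := hstar2 _ hprod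
    obtain ⟨U, hU, hUm⟩ := (Ideal.IsPrime.prod_mem_iff (hp := hprime)).mp hmem
    exact ha2 U hU hUm
  obtain ⟨⟨U, hUa⟩, hUc, hUprop⟩ := hexU
  have hUO : U ≤ f ⁻¹ᵁ W := hc1 _ hUc
  have hC : ∀ a : Γ(S, W), F.presheaf.map (homOfLE hUO).op
      ((f.app W a) • (show Γ(F, f ⁻¹ᵁ W) from t) : Γ(F, f ⁻¹ᵁ W)) =
      (f.appLE W U hUO).hom a • F.presheaf.map (homOfLE hUO).op (show Γ(F, f ⁻¹ᵁ W) from t) :=
    fun a => res_smul F hUO (f.app W a) (show Γ(F, f ⁻¹ᵁ W) from t)
  have h𝔭prime : (Ideal.comap (S.presheaf.germ W s hsW).hom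
      (IsLocalRing.maximalIdeal (S.presheaf.stalk s))).IsPrime := Ideal.comap_isPrime _ _
  have hmin : Ideal.comap (S.presheaf.germ W s hsW).hom
      (IsLocalRing.maximalIdeal (S.presheaf.stalk s)) ∈
      (((Submodule.span Γ(X, U) {F.presheaf.map (homOfLE hUO).op
        (show Γ(F, f ⁻¹ᵁ W) from t)}).annihilator).comap (f.appLE W U hUO).hom).minimalPrimes := by
    refine ⟨⟨h𝔭prime, ?_⟩, ?_⟩
    · intro a ha
      rw [Ideal.mem_comap, Submodule.mem_annihilator_span_singleton] at ha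
      apply hUprop a
      intro _
      rw [hC a]
      exact ha
    · rintro 𝔮 ⟨h𝔮prime, h𝔮le⟩ h𝔮𝔭 a ha
      obtain ⟨n, g, hg, hga⟩ := hstar a ha
      have h1 : g * a ^ n ∈ 𝔮 := by
        apply h𝔮le
        rw [Ideal.mem_comap, Submodule.mem_annihilator_span_singleton, ← hC, hga]
        exact map_zero _
      have hg𝔮 : g ∉ 𝔮 := fun h => (IsLocalRing.mem_maximalIdeal _).mp (h𝔮𝔭 h) hg
      exact h𝔮prime.mem_of_pow_mem n ((h𝔮prime.mem_or_mem h1).resolve_left hg𝔮)
  obtain ⟨𝔮, h𝔮, h𝔮𝔭⟩ := Ideal.exists_minimalPrimes_comap_eq (f.appLE W U hUO).hom _ hmin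
  have h𝔮prime : 𝔮.IsPrime := h𝔮.1.1
  have hann : (Submodule.span Γ(X, U) {(sectEquiv F hUa).symm (F.presheaf.map (homOfLE hUO).op
      (show Γ(F, f ⁻¹ᵁ W) from t))}).annihilator =
      (Submodule.span Γ(X, U) {F.presheaf.map (homOfLE hUO).op
        (show Γ(F, f ⁻¹ᵁ W) from t)}).annihilator := by
    ext b
    rw [Submodule.mem_annihilator_span_singleton, Submodule.mem_annihilator_span_singleton,
      ← _root_.map_smul, LinearEquiv.map_eq_zero_iff]
  have hweak : 𝔮 ∈ FlatCA.weakAss Γ(X, U) (Γmod (F.restrict hUa.fromSpec)) :=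
    ⟨(sectEquiv F hUa).symm (F.presheaf.map (homOfLE hUO).op (show Γ(F, f ⁻¹ᵁ W) from t)), by
      rw [hann]
      exact h𝔮⟩
  refine ⟨hUa.fromSpec (⟨𝔮, h𝔮prime⟩ : PrimeSpectrum Γ(X, U)), ?_,
    (isWeakAssPoint_fromSpec_iff F hUa ⟨𝔮, h𝔮prime⟩).mpr hweak⟩
  have h1 := IsAffineOpen.SpecMap_appLE_fromSpec f hW hUa hUO
  have h2 : f (hUa.fromSpec (⟨𝔮, h𝔮prime⟩ : PrimeSpectrum Γ(X, U))) =
      hW.fromSpec (Spec.map (f.appLE W U hUO) (⟨𝔮, h𝔮prime⟩ : PrimeSpectrum Γ(X, U))) := by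
    rw [← Scheme.Hom.comp_apply, ← Scheme.Hom.comp_apply, h1]
  rw [h2]
  have h3 : Spec.map (f.appLE W U hUO) (⟨𝔮, h𝔮prime⟩ : PrimeSpectrum Γ(X, U)) =
      hW.primeIdealOf ⟨s, hsW⟩ := by
    apply PrimeSpectrum.ext
    rw [hW.primeIdealOf_eq_map_closedPoint]
    exact h𝔮𝔭
  rw [h3]
  exact hW.fromSpec_primeIdealOf ⟨s, hsW⟩

set_option backward.isDefEq.respectTransparency false in
/-- **weakly associated points of a direct image under a quasi-compact morphism are images of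
weakly associated points** (no quasi-separatedness or Noetherian hypothesis needed). -/
theorem exists_isWeakAssPoint_of_pushforward (f : X ⟶ S) [QuasiCompact f] (F : X.Modules)
    [F.IsQuasicoherent] (s : S) (hs : Curv2.IsWeakAssPoint ((pushforward f).obj F) s) :
    ∃ x : X, f x = s ∧ Curv2.IsWeakAssPoint F x := by
  obtain ⟨m, hm⟩ := hs
  obtain ⟨V₀, hsV₀, t₀, rfl⟩ := ((pushforward f).obj F).presheaf.exists_germ_eq m
  obtain ⟨W, hW, hsW, hWV₀⟩ := exists_isAffineOpen_mem_and_subset hsV₀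
  refine exists_isWeakAssPoint_of_section f F s hW hsW
    (((pushforward f).obj F).presheaf.map (homOfLE hWV₀).op t₀) ?_
  have hgerm : ((pushforward f).obj F).presheaf.germ W s hsW
      (((pushforward f).obj F).presheaf.map (homOfLE hWV₀).op t₀) =
      ((pushforward f).obj F).presheaf.germ V₀ s hsV₀ t₀ :=
    ZC.germ_res ((pushforward f).obj F) hWV₀ s hsW t₀
  rw [hgerm]
  exact hm

end Groth.Agent.Lib.helper9.PushQC
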