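import Groth.Agent.Lib.helper9.QcohLocal

/-!
# Quasi-coherent modules are closed under binary biproducts and pullbacks
-/

universe u

open AlgebraicGeometry CategoryTheory Opposite TopologicalSpace Limits

namespace Groth.Agent.Lib.helper9.QcohLim

open Scheme.Modules Groth.Agent.Lib.helper9.CohB

variable {X : Scheme.{u}}

set_option backward.isDefEq.respectTransparency false in
/-- binary biproducts of quasi-coherent modules are quasi-coherent. -/
theorem isQuasicoherent_biprod (F G : X.Modules) [F.IsQuasicoherent] [G.IsQuasicoherent] :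
    (F ⊞ G).IsQuasicoherent := by
  apply Groth.Agent.Lib.helper9.QcohLocal.isQuasicoherent_of_forall_exists
  intro x
  obtain ⟨W, hW, hxW, -⟩ := exists_isAffineOpen_mem_and_subset (show x ∈ (⊤ : X.Opens) from trivial)
  refine ⟨W, hW, hxW, ?_⟩
  haveI h1 : (F.restrict hW.fromSpec).IsQuasicoherent := inferInstance
  haveI h2 : (G.restrict hW.fromSpec).IsQuasicoherent := inferInstance
  haveI i1 : IsIso (F.restrict hW.fromSpec).fromTildeΓ := inferInstance
  haveI i2 : IsIso (G.restrict hW.fromSpec).fromTildeΓ := inferInstance
  haveI : PreservesBinaryBiproducts (restrictFunctor hW.fromSpec) :=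
    preservesBinaryBiproducts_of_preservesBiproducts _
  haveI : PreservesBinaryBiproducts (tilde.functor Γ(X, W)) :=
    preservesBinaryBiproducts_of_preservesBiproducts _
  let e : (restrictFunctor hW.fromSpec).obj (F ⊞ G) ≅
      (tilde.functor Γ(X, W)).obj
        (Γmod (F.restrict hW.fromSpec) ⊞ Γmod (G.restrict hW.fromSpec)) :=
    (restrictFunctor hW.fromSpec).mapBiprod F G ≪≫
      biprod.mapIso (asIso (F.restrict hW.fromSpec).fromTildeΓ).symm
        (asIso (G.restrict hW.fromSpec).fromTildeΓ).symm ≪≫
      ((tilde.functor Γ(X, W)).mapBiprod (Γmod (F.restrict hW.fromSpec))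
        (Γmod (G.restrict hW.fromSpec))).symm
  exact (SheafOfModules.isQuasicoherent (Spec Γ(X, W)).ringCatSheaf).prop_of_iso e.symm
    (inferInstance : ((tilde.functor Γ(X, W)).obj
      (Γmod (F.restrict hW.fromSpec) ⊞ Γmod (G.restrict hW.fromSpec))).IsQuasicoherent)

set_option backward.isDefEq.respectTransparency false in
/-- fibre products of quasi-coherent modules are quasi-coherent. -/
theorem isQuasicoherent_pullback {A B C : X.Modules} [A.IsQuasicoherent] [B.IsQuasicoherent]
    [C.IsQuasicoherent] (f : A ⟶ C) (g : B ⟶ C) : (pullback f g).IsQuasicoherent := by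
  haveI : (A ⊞ B).IsQuasicoherent := isQuasicoherent_biprod A B
  haveI : (kernel (biprod.desc f (-g))).IsQuasicoherent :=
    Groth.Agent.Lib.helper9.QcohLocal.isQuasicoherent_kernel _
  let e : pullback f g ≅ kernel (biprod.desc f (-g)) :=
    (Abelian.PullbackToBiproductIsKernel.isLimitPullbackToBiproduct f g).conePointUniqueUpToIso
      (limit.isLimit (parallelPair (biprod.desc f (-g)) 0))
  exact (SheafOfModules.isQuasicoherent X.ringCatSheaf).prop_of_iso e.symm
    (inferInstance : (kernel (biprod.desc f (-g))).IsQuasicoherent)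

end Groth.Agent.Lib.helper9.QcohLim
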