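import Groth.Agent.Lib.helper9.Semi
import Mathlib.Algebra.Module.SpanRankOperations
import Mathlib.Algebra.Module.LocalizedModule.Submodule
import Mathlib.RingTheory.LocalRing.Module
import Mathlib.RingTheory.Localization.Finiteness
import Mathlib.RingTheory.Localization.AtPrime.Basic
import Mathlib.RingTheory.Localization.Integer
import Mathlib.RingTheory.Nilpotent.Lemmas
import Mathlib.LinearAlgebra.Dimension.OrzechProperty
import Mathlib.RingTheory.Spectrum.Prime.FreeLocus

/-!
# Finite modules of constant fibre rank over reduced rings are locally free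
-/

universe u

namespace Groth.Agent.Lib.helper9.RedFree

open IsLocalRing TensorProduct

section Local

variable {R : Type*} [CommRing R] [IsLocalRing R] {M : Type*} [AddCommGroup M] [Module R M]

/-- generators of `M` give generators of the fibre. -/
lemma span_tmul_eq_top {ι : Type*} (f : ι → M) (hf : Submodule.span R (Set.range f) = ⊤) :
    Submodule.span (ResidueField R) (Set.range fun i => (1 : ResidueField R) ⊗ₜ[R] f i) = ⊤ := by
  have key : ∀ y : M, (1 : ResidueField R) ⊗ₜ[R] y ∈
      Submodule.span (ResidueField R) (Set.range fun i => (1 : ResidueField R) ⊗ₜ[R] f i) := by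
    intro y
    have hy : y ∈ Submodule.span R (Set.range f) := hf ▸ Submodule.mem_top
    induction hy using Submodule.span_induction with
    | mem z hz =>
      obtain ⟨i, rfl⟩ := hz
      exact Submodule.subset_span ⟨i, rfl⟩
    | zero =>
      rw [TensorProduct.tmul_zero]
      exact zero_mem _
    | add a b _ _ ha hb =>
      rw [TensorProduct.tmul_add]
      exact add_mem ha hb
    | smul r a _ ha =>
      rw [TensorProduct.tmul_smul, ← algebraMap_smul (ResidueField R) r]
      exact Submodule.smul_mem _ _ ha
  rw [eq_top_iff]
  rintro x -
  induction x using TensorProduct.induction_on with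
  | zero => exact zero_mem _
  | tmul c y =>
    have hcy : c ⊗ₜ[R] y = c • ((1 : ResidueField R) ⊗ₜ[R] y) := by
      rw [TensorProduct.smul_tmul', smul_eq_mul, mul_one]
    rw [hcy]
    exact Submodule.smul_mem _ _ (key y)
  | add a b ha hb => exact add_mem ha hb

/-- a relation among `n` generators of a module whose fibre has dimension `n` has coefficients
in the maximal ideal. -/
lemma mem_maximalIdeal_of_sum_smul_eq_zero {n : ℕ}
    (hn : Module.finrank (ResidueField R) (ResidueField R ⊗[R] M) = n)
    (f : Fin n → M) (hf : Submodule.span R (Set.range f) = ⊤) (c : Fin n → R)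
    (hc : ∑ j, c j • f j = 0) (j : Fin n) : c j ∈ maximalIdeal R := by
  have hspan := span_tmul_eq_top f hf
  have hli : LinearIndependent (ResidueField R) (fun i => (1 : ResidueField R) ⊗ₜ[R] f i) :=
    linearIndependent_of_top_le_span_of_card_eq_finrank hspan.ge (by rw [Fintype.card_fin, hn])
  have h2 : ∑ j, (residue R (c j)) • ((1 : ResidueField R) ⊗ₜ[R] f j) = 0 := by
    have h3 := congrArg (TensorProduct.mk R (ResidueField R) M 1) hc
    rw [map_sum, map_zero] at h3
    rw [← h3]
    refine Finset.sum_congr rfl fun j _ => ?_
    rw [map_smul, TensorProduct.mk_apply, ← algebraMap_smul (ResidueField R) (c j)]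
    rfl
  have h4 := (Fintype.linearIndependent_iff.mp hli) (fun j => residue R (c j)) h2 j
  exact (residue_eq_zero_iff _).mp h4

/-- the fibre rank of a finite module over a local ring is its minimal number of generators. -/
lemma fibreRank_eq_spanFinrank (R : Type*) [CommRing R] [IsLocalRing R] (M : Type*)
    [AddCommGroup M] [Module R M] [Module.Finite R M] :
    Module.finrank (ResidueField R) (ResidueField R ⊗[R] M) =
      (⊤ : Submodule R M).spanFinrank := by
  have h1 := TensorProduct.spanFinrank_top_eq_of_residueField (⊤ : Submodule R M)
    Module.Finite.fg_top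
  rw [← h1, ← Module.finrank_eq_spanFinrank_of_free]
  exact (LinearEquiv.finrank_eq (TensorProduct.AlgebraTensorModule.congr
    (LinearEquiv.refl (ResidueField R) (ResidueField R))
    (Submodule.topEquiv (R := R) (M := M)))).symm

end Local

/-- the minimal number of generators is invariant under semilinear equivalences. -/
lemma _root_.Groth.Agent.Lib.helper9.SemiEquiv.spanFinrank_top_eq {R S : Type*} {M N : Type u}
    [CommRing R] [CommRing S] [AddCommGroup M] [AddCommGroup N] [Module R M] [Module S N]
    (E : SemiEquiv R S M N) :
    (⊤ : Submodule R M).spanFinrank = (⊤ : Submodule S N).spanFinrank := by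
  letI : RingHomInvPair (E.σ : R →+* S) (E.σ.symm : S →+* R) := RingHomInvPair.of_ringEquiv E.σ
  letI : RingHomInvPair (E.σ.symm : S →+* R) (E.σ : R →+* S) := RingHomInvPair.symm _ _
  let e₂ : M ≃ₛₗ[(E.σ : R →+* S)] N :=
    { toFun := E.e
      map_add' := E.e.map_add
      map_smul' := E.map_smul
      invFun := E.e.symm
      left_inv := E.e.left_inv
      right_inv := E.e.right_inv }
  unfold Submodule.spanFinrank
  rw [Submodule.spanRank_eq_of_equiv e₂]

/-- the fibre rank is invariant under semilinear equivalences. -/
lemma _root_.Groth.Agent.Lib.helper9.SemiEquiv.fibreRank_eq {R S : Type*} {M N : Type u}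
    [CommRing R] [CommRing S] [IsLocalRing R] [IsLocalRing S] [AddCommGroup M] [AddCommGroup N]
    [Module R M] [Module S N] [Module.Finite R M] [Module.Finite S N]
    (E : SemiEquiv R S M N) :
    Module.finrank (ResidueField R) (ResidueField R ⊗[R] M) =
      Module.finrank (ResidueField S) (ResidueField S ⊗[S] N) := by
  rw [fibreRank_eq_spanFinrank, fibreRank_eq_spanFinrank, E.spanFinrank_top_eq]

section Loc

variable {A : Type*} [CommRing A] {N : Type*} [AddCommGroup N] [Module A N]

/-- if a submodule `L` localizes to everything, some element of the multiplicative set maps the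
finite module into `L`. -/
lemma exists_smul_mem_of_localized'_eq_top [Module.Finite A N] (S : Submonoid A) (A' : Type*)
    [CommRing A'] [Algebra A A'] [IsLocalization S A'] {N' : Type*} [AddCommGroup N']
    [Module A N'] [Module A' N'] [IsScalarTower A A' N'] (f : N →ₗ[A] N')
    [IsLocalizedModule S f] (L : Submodule A N) (hL : L.localized' A' S f = ⊤) :
    ∃ t ∈ S, ∀ x : N, t • x ∈ L := by
  classical
  have key : ∀ x : N, ∃ t : S, (t : A) • x ∈ L := by
    intro x
    have hx : f x ∈ L.localized' A' S f := by
      rw [hL]
      exact Submodule.mem_top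
    obtain ⟨m, hm, s, hs⟩ := (Submodule.mem_localized' A' S f L (f x)).mp hx
    rw [IsLocalizedModule.mk'_eq_iff] at hs
    have hs' : f m = f ((s : A) • x) := by
      rw [hs, map_smul, Submonoid.smul_def]
    obtain ⟨c, hc⟩ := IsLocalizedModule.exists_of_eq (S := S) (f := f) hs'
    refine ⟨c * s, ?_⟩
    have h : ((c * s : S) : A) • x = (c : A) • m := by
      rw [← Submonoid.smul_def c m, hc, Submonoid.smul_def, Submonoid.coe_mul, mul_smul]
    rw [h]
    exact L.smul_mem _ hm
  obtain ⟨G, hG⟩ := (Module.Finite.fg_top : (⊤ : Submodule A N).FG)
  choose t ht using key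
  refine ⟨∏ x ∈ G, (t x : A), Submonoid.prod_mem S (fun x _ => (t x).2), ?_⟩
  intro x
  have hx : x ∈ Submodule.span A (G : Set N) := by
    rw [hG]
    exact Submodule.mem_top
  induction hx using Submodule.span_induction with
  | mem y hy =>
    rw [← Finset.prod_erase_mul G _ (Finset.mem_coe.mp hy), mul_smul]
    exact L.smul_mem _ (ht y)
  | zero =>
    rw [smul_zero]
    exact L.zero_mem
  | add a b _ _ ha hb =>
    rw [smul_add]
    exact L.add_mem ha hb
  | smul r a _ ha =>
    rw [smul_comm]
    exact L.smul_mem r ha

/-- if an element of the multiplicative set maps everything into `L`, then `L` localizes to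
everything. -/
lemma localized'_eq_top_of_smul_mem (S : Submonoid A) (A' : Type*)
    [CommRing A'] [Algebra A A'] [IsLocalization S A'] {N' : Type*} [AddCommGroup N']
    [Module A N'] [Module A' N'] [IsScalarTower A A' N'] (f : N →ₗ[A] N')
    [IsLocalizedModule S f] (L : Submodule A N) (t : A) (ht : t ∈ S)
    (hL : ∀ x : N, t • x ∈ L) : L.localized' A' S f = ⊤ := by
  rw [eq_top_iff]
  rintro y -
  obtain ⟨⟨m, s⟩, rfl⟩ := IsLocalizedModule.mk'_surjective S f y
  rw [Submodule.mem_localized']
  exact ⟨(⟨t, ht⟩ : S) • m, hL m, ⟨t, ht⟩ * s, IsLocalizedModule.mk'_cancel_left f m ⟨t, ht⟩ s⟩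

end Loc

/-- **constant fibre rank over a reduced ring implies local freeness**. -/
theorem exists_away_free_of_reduced (A : Type u) [CommRing A] [IsReduced A] (N : Type u)
    [AddCommGroup N] [Module A N] [Module.Finite A N] (n : ℕ)
    (hrank : ∀ (q : Ideal A) [q.IsPrime],
      Module.finrank (ResidueField (Localization.AtPrime q))
        (ResidueField (Localization.AtPrime q) ⊗[Localization.AtPrime q]
          LocalizedModule q.primeCompl N) = n)
    (p : Ideal A) [p.IsPrime] :
    ∃ t ∉ p, Module.Free (Localization.Away t) (LocalizedModule.Away t N) := by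
  classical
  -- Step A: `n` elements of `N` generating the localization at `p`
  obtain ⟨g, hg⟩ : ∃ g : Fin n → N, Submodule.span (Localization.AtPrime p)
      (Set.range fun j => LocalizedModule.mkLinearMap p.primeCompl N (g j)) = ⊤ := by
    let b : Module.Basis (Fin n) (ResidueField (Localization.AtPrime p))
        (ResidueField (Localization.AtPrime p) ⊗[Localization.AtPrime p]
          LocalizedModule p.primeCompl N) := Module.finBasisOfFinrankEq _ _ (hrank p)
    have hsurj : Function.Surjective (TensorProduct.mk (Localization.AtPrime p)
        (ResidueField (Localization.AtPrime p)) (LocalizedModule p.primeCompl N) 1) :=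
      TensorProduct.mk_surjective _ _ _ residue_surjective
    choose w hw using fun j => hsurj (b j)
    have hwspan : Submodule.span (Localization.AtPrime p) (Set.range w) = ⊤ :=
      IsLocalRing.span_eq_top_of_tmul_eq_basis w b hw
    choose ms hms using fun j => IsLocalizedModule.surj p.primeCompl
      (LocalizedModule.mkLinearMap p.primeCompl N) (w j)
    refine ⟨fun j => (ms j).1, ?_⟩
    rw [eq_top_iff, ← hwspan, Submodule.span_le]
    rintro _ ⟨j, rfl⟩
    obtain ⟨u, hu⟩ := IsLocalization.map_units (Localization.AtPrime p) (ms j).2
    have hwj : w j = (↑u⁻¹ : Localization.AtPrime p) •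
        LocalizedModule.mkLinearMap p.primeCompl N (ms j).1 := by
      rw [← hms j, Submonoid.smul_def, ← algebraMap_smul (Localization.AtPrime p)
        ((ms j).2 : A) (w j), ← hu, smul_smul, Units.inv_mul, one_smul]
    rw [SetLike.mem_coe, hwj]
    exact Submodule.smul_mem _ _ (Submodule.subset_span ⟨j, rfl⟩)
  -- Step B: after inverting some `t ∉ p`, the `g j` generate
  have hLp : (Submodule.span A (Set.range g)).localized' (Localization.AtPrime p) p.primeCompl
      (LocalizedModule.mkLinearMap p.primeCompl N) = ⊤ := by
    rw [Submodule.localized'_span, ← Set.range_comp]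
    exact hg
  obtain ⟨t, htp, ht⟩ := exists_smul_mem_of_localized'_eq_top p.primeCompl
    (Localization.AtPrime p) (LocalizedModule.mkLinearMap p.primeCompl N) _ hLp
  refine ⟨t, htp, ?_⟩
  have hspan_q : ∀ (q : Ideal A) [q.IsPrime], t ∉ q →
      Submodule.span (Localization.AtPrime q)
        (Set.range fun j => LocalizedModule.mkLinearMap q.primeCompl N (g j)) = ⊤ := by
    intro q _ htq
    have h := localized'_eq_top_of_smul_mem q.primeCompl (Localization.AtPrime q)
      (LocalizedModule.mkLinearMap q.primeCompl N) (Submodule.span A (Set.range g)) t htq ht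
    rw [Submodule.localized'_span, ← Set.range_comp] at h
    exact h
  -- Step C: relations have coefficients killed by `t`
  have hC : ∀ (a : Fin n → A) (l : ℕ), t ^ l • ∑ j, a j • g j = 0 → ∀ j, t * a j = 0 := by
    intro a l hal j
    have hnil : t * a j ∈ nilradical A := by
      rw [nilradical_eq_sInf, Ideal.mem_sInf]
      intro q hq
      haveI : q.IsPrime := hq
      by_cases htq : t ∈ q
      · exact q.mul_mem_right _ htq
      · apply q.mul_mem_left
        have hmem := mem_maximalIdeal_of_sum_smul_eq_zero (R := Localization.AtPrime q)
          (M := LocalizedModule q.primeCompl N) (hrank q)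
          (fun j => LocalizedModule.mkLinearMap q.primeCompl N (g j)) (hspan_q q htq)
          (fun j => algebraMap A (Localization.AtPrime q) (t ^ l * a j)) (by
            have h0 := congrArg (LocalizedModule.mkLinearMap q.primeCompl N) hal
            rw [map_zero, map_smul, map_sum] at h0
            rw [← h0, Finset.smul_sum]
            refine Finset.sum_congr rfl fun i _ => ?_
            rw [algebraMap_smul, map_smul, smul_smul]) j
        rw [IsLocalization.AtPrime.to_map_mem_maximal_iff (Localization.AtPrime q) q] at hmem
        exact (hq.mem_or_mem hmem).resolve_left (fun h => htq (hq.mem_of_pow_mem l h))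
    exact IsReduced.eq_zero _ (mem_nilradical.mp hnil)
  -- Step D: the `g j` form a basis after inverting `t`
  have hLt : Submodule.span (Localization.Away t)
      (Set.range fun j => LocalizedModule.mkLinearMap (Submonoid.powers t) N (g j)) = ⊤ := by
    have h := localized'_eq_top_of_smul_mem (Submonoid.powers t) (Localization.Away t)
      (LocalizedModule.mkLinearMap (Submonoid.powers t) N) (Submodule.span A (Set.range g)) t
      (Submonoid.mem_powers t) ht
    rw [Submodule.localized'_span, ← Set.range_comp] at h
    exact h
  have hli : LinearIndependent (Localization.Away t)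
      (fun j => LocalizedModule.mkLinearMap (Submonoid.powers t) N (g j)) := by
    rw [Fintype.linearIndependent_iff]
    intro c hc j
    obtain ⟨b, hb⟩ := IsLocalization.exist_integer_multiples (Submonoid.powers t) Finset.univ c
    choose a ha using fun j => hb j (Finset.mem_univ j)
    have h1 : LocalizedModule.mkLinearMap (Submonoid.powers t) N (∑ j, a j • g j) = 0 := by
      rw [map_sum]
      have hterm : ∀ j, LocalizedModule.mkLinearMap (Submonoid.powers t) N (a j • g j) =
          (b : A) • (c j • LocalizedModule.mkLinearMap (Submonoid.powers t) N (g j)) := by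
        intro j
        rw [map_smul, ← algebraMap_smul (Localization.Away t) (a j), ha j, smul_assoc]
      simp_rw [hterm]
      rw [← Finset.smul_sum, hc, smul_zero]
    obtain ⟨⟨_, l, rfl⟩, hl⟩ := IsLocalizedModule.exists_of_eq (S := Submonoid.powers t)
      (f := LocalizedModule.mkLinearMap (Submonoid.powers t) N) (h1.trans (map_zero _).symm)
    have h2 : t ^ l • ∑ j, a j • g j = 0 := by
      simpa [Submonoid.smul_def] using hl
    have h3 := hC a l h2 j
    have hut : IsUnit (algebraMap A (Localization.Away t) t) :=
      IsLocalization.map_units _ (⟨t, Submonoid.mem_powers t⟩ : Submonoid.powers t)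
    have hub : IsUnit (algebraMap A (Localization.Away t) (b : A)) :=
      IsLocalization.map_units _ b
    have h4 : algebraMap A (Localization.Away t) t *
        (algebraMap A (Localization.Away t) (b : A) * c j) = 0 := by
      rw [← Algebra.smul_def (b : A) (c j), ← ha j, ← map_mul, h3, map_zero]
    exact (hub.mul_right_eq_zero).mp ((hut.mul_right_eq_zero).mp h4)
  exact Module.Free.of_basis (Module.Basis.mk hli hLt.ge)

end Groth.Agent.Lib.helper9.RedFree
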