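import Mathlib

set_option autoImplicit false
universe u
open RingTheory.Sequence Function
open scoped Pointwise

namespace Groth.Agent.Lib.helper9.RegSeq

variable {A : Type u} [CommRing A]

/-- A sequence weakly regular on the outer terms of a short exact sequence is weakly regular on the
middle term. -/
lemma isWeaklyRegular_of_exact (rs : List A) :
    ∀ {M' M M'' : Type u} [AddCommGroup M'] [Module A M'] [AddCommGroup M] [Module A M]
    [AddCommGroup M''] [Module A M''] (i : M' →ₗ[A] M) (p : M →ₗ[A] M'') (_ : Injective i)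
    (_ : Exact i p) (_ : Surjective p) (_ : IsWeaklyRegular M' rs)
    (_ : IsWeaklyRegular M'' rs), IsWeaklyRegular M rs := by
  induction rs with
  | nil =>
    intro M' M M'' _ _ _ _ _ _ i p _ _ _ _ _
    exact IsWeaklyRegular.nil A M
  | cons r rs ih =>
    intro M' M M'' _ _ _ _ _ _ i p hi hip hp h' h''
    rw [isWeaklyRegular_cons_iff] at h' h'' ⊢
    refine ⟨isSMulRegular_of_range_eq_ker hi hip.linearMap_ker_eq.symm h'.1 h''.1, ?_⟩
    refine ih (QuotSMulTop.map r i) (QuotSMulTop.map r p) ?_ ?_ ?_ h'.2 h''.2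
    · have h0 : Exact (0 : M' →ₗ[A] M') i := (LinearMap.exact_zero_iff_injective M' i).mpr hi
      have := QuotSMulTop.map_first_exact_on_four_term_exact_of_isSMulRegular_last h0 hip h''.1
      rw [map_zero] at this
      exact (LinearMap.exact_zero_iff_injective _ _).mp this
    · exact QuotSMulTop.map_exact r hip hp
    · exact QuotSMulTop.map_surjective r hp

variable (M : Type u) [AddCommGroup M] [Module A M]

/-- multiplication by `c` : `M/bM → M/(bc)M` -/
noncomputable def mulMap (b c : A) : QuotSMulTop b M →ₗ[A] QuotSMulTop (b * c) M :=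
  Submodule.mapQ _ _ (LinearMap.lsmul A M c) (by
    intro x hx
    rw [Submodule.mem_smul_pointwise_iff_exists] at hx
    obtain ⟨y, -, rfl⟩ := hx
    rw [Submodule.mem_comap, Submodule.mem_smul_pointwise_iff_exists]
    refine ⟨y, trivial, ?_⟩
    simp [mul_smul, smul_comm c b y])

/-- projection `M/(bc)M → M/cM` -/
noncomputable def projMap (b c : A) : QuotSMulTop (b * c) M →ₗ[A] QuotSMulTop c M :=
  Submodule.mapQ _ _ LinearMap.id (by
    intro x hx
    rw [Submodule.mem_smul_pointwise_iff_exists] at hx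
    obtain ⟨y, -, rfl⟩ := hx
    rw [Submodule.mem_comap, Submodule.mem_smul_pointwise_iff_exists]
    refine ⟨b • y, trivial, ?_⟩
    simp [mul_smul, smul_comm c b y])

lemma mulMap_injective (b c : A) (hc : IsSMulRegular M c) : Injective (mulMap M b c) := by
  rw [← LinearMap.ker_eq_bot, eq_bot_iff]
  intro x hx
  obtain ⟨m, rfl⟩ := Submodule.Quotient.mk_surjective _ x
  rw [LinearMap.mem_ker] at hx
  have h1 : (Submodule.Quotient.mk (c • m) : QuotSMulTop (b * c) M) = 0 := hx
  rw [Submodule.Quotient.mk_eq_zero, Submodule.mem_smul_pointwise_iff_exists] at h1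
  obtain ⟨y, -, hy⟩ := h1
  have h2 : c • (b • y) = c • m := by
    rw [← hy, mul_smul, smul_comm]
  have h3 : b • y = m := hc h2
  rw [Submodule.mem_bot, Submodule.Quotient.mk_eq_zero, Submodule.mem_smul_pointwise_iff_exists]
  exact ⟨y, trivial, h3⟩

lemma projMap_surjective (b c : A) : Surjective (projMap M b c) := by
  intro x
  obtain ⟨m, rfl⟩ := Submodule.Quotient.mk_surjective _ x
  exact ⟨Submodule.Quotient.mk m, rfl⟩

lemma mulMap_projMap_exact (b c : A) : Exact (mulMap M b c) (projMap M b c) := by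
  intro x
  obtain ⟨m, rfl⟩ := Submodule.Quotient.mk_surjective _ x
  constructor
  · intro h
    have h1 : (Submodule.Quotient.mk m : QuotSMulTop c M) = 0 := h
    rw [Submodule.Quotient.mk_eq_zero, Submodule.mem_smul_pointwise_iff_exists] at h1
    obtain ⟨y, -, hy⟩ := h1
    refine ⟨Submodule.Quotient.mk y, ?_⟩
    show (Submodule.Quotient.mk (c • y) : QuotSMulTop (b * c) M) = Submodule.Quotient.mk m
    rw [hy]
  · rintro ⟨y, hy⟩
    obtain ⟨n, rfl⟩ := Submodule.Quotient.mk_surjective _ y
    have h1 : (Submodule.Quotient.mk (c • n) : QuotSMulTop (b * c) M) = Submodule.Quotient.mk m := hy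
    show (Submodule.Quotient.mk m : QuotSMulTop c M) = 0
    have h2 := congrArg (projMap M b c) h1
    have h3 : (Submodule.Quotient.mk (c • n) : QuotSMulTop c M) = Submodule.Quotient.mk m := h2
    rw [← h3, Submodule.Quotient.mk_eq_zero, Submodule.mem_smul_pointwise_iff_exists]
    exact ⟨n, trivial, rfl⟩

/-- if `b :: rs` and `c :: rs` are weakly regular then so is `(b*c) :: rs`. -/
lemma isWeaklyRegular_mul_cons {b c : A} {rs : List A}
    (hb : IsWeaklyRegular M (b :: rs)) (hc : IsWeaklyRegular M (c :: rs)) :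
    IsWeaklyRegular M ((b * c) :: rs) := by
  rw [isWeaklyRegular_cons_iff] at hb hc ⊢
  refine ⟨hb.1.mul hc.1, ?_⟩
  exact isWeaklyRegular_of_exact rs (mulMap M b c) (projMap M b c)
    (mulMap_injective M b c hc.1) (mulMap_projMap_exact M b c) (projMap_surjective M b c) hb.2 hc.2

lemma isWeaklyRegular_pow_cons {a : A} {rs : List A} (h : IsWeaklyRegular M (a :: rs))
    (v : ℕ) (hv : 1 ≤ v) : IsWeaklyRegular M ((a ^ v) :: rs) := by
  induction v with
  | zero => omega
  | succ v ih =>
    rcases Nat.eq_zero_or_pos v with rfl | hpos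
    · simpa using h
    · rw [pow_succ]
      exact isWeaklyRegular_mul_cons M (ih hpos) h

/-- powers of a weakly regular sequence, list version -/
lemma isWeaklyRegular_pow_list (l : List (A × ℕ)) :
    ∀ {M : Type u} [AddCommGroup M] [Module A M], (∀ p ∈ l, 1 ≤ p.2) →
    IsWeaklyRegular M (l.map Prod.fst) → IsWeaklyRegular M (l.map (fun p => p.1 ^ p.2)) := by
  induction l with
  | nil =>
    intro M _ _ _ _
    exact IsWeaklyRegular.nil A M
  | cons p l ih =>
    intro M _ _ hv h
    simp only [List.map_cons] at h ⊢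
    have h1 := isWeaklyRegular_pow_cons M h p.2 (hv p (List.mem_cons_self))
    rw [isWeaklyRegular_cons_iff] at h1 ⊢
    exact ⟨h1.1, ih (fun q hq => hv q (List.mem_cons_of_mem _ hq)) h1.2⟩

end Groth.Agent.Lib.helper9.RegSeq
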