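import Groth.Agent.Lib.helper9.Depth28
import Mathlib.AlgebraicGeometry.StructureSheaf
import Mathlib.RingTheory.Spectrum.Prime.Noetherian

/-!
# Sections of `M~` over opens of `Spec A` and depth

Concrete model: sections over `U` are the locally-fraction dependent functions
`(structureSheafInType A M).obj.obj (op U)`.
-/

universe u

open AlgebraicGeometry CategoryTheory Opposite TopologicalSpace RingTheory.Sequence Pointwise

namespace Groth.Agent.Lib.helper9.Sect

open LocCoh Groth.Agent.Lib.helper9.Depth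

variable {A : Type u} [CommRing A] {M : Type u} [AddCommGroup M] [Module A M]

/-- sections of `M~` over `U`. -/
abbrev Sec (A : Type u) [CommRing A] (M : Type u) [AddCommGroup M] [Module A M]
    (U : Opens (PrimeSpectrum.Top A)) : Type u :=
  (structureSheafInType A M).obj.obj (op U)

/-- restriction of sections. -/
def res {U V : Opens (PrimeSpectrum.Top A)} (h : V ≤ U) (s : Sec A M U) : Sec A M V :=
  (structureSheafInType A M).obj.map (homOfLE h).op s

@[simp] lemma res_apply {U V : Opens (PrimeSpectrum.Top A)} (h : V ≤ U) (s : Sec A M U) (x : V) :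
    (res h s).1 x = s.1 ⟨x.1, h x.2⟩ := rfl

lemma toOpen_apply (U : Opens (PrimeSpectrum.Top A)) (m : M) (x : U) :
    (StructureSheaf.toOpenₗ A M U m).1 x = LocalizedModule.mk m 1 := rfl

lemma mk_sub_mk_one (S : Submonoid A) (m m' : M) :
    (LocalizedModule.mk m (1 : S)) - LocalizedModule.mk m' 1 = LocalizedModule.mk (m - m') 1 := by
  rw [sub_eq_add_neg, ← LocalizedModule.mk_neg, LocalizedModule.mk_add_mk, one_smul, one_smul,
    mul_one, ← sub_eq_add_neg]

/-- a regular element stays regular on localizations (as an element of the base ring). -/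
lemma isSMulRegular_localizedModule (p : Ideal A) [p.IsPrime] {u : A} (hu : IsSMulRegular M u) :
    IsSMulRegular (LocalizedModule p.primeCompl M) u := by
  rw [isSMulRegular_iff_right_eq_zero_of_smul]
  intro n hn
  induction n using LocalizedModule.induction_on with
  | h m s =>
    rw [LocalizedModule.smul'_mk, mk_eq_zero_iff'] at hn
    obtain ⟨t, ht⟩ := hn
    rw [mk_eq_zero_iff']
    refine ⟨t, ?_⟩
    apply hu.right_eq_zero_of_smul
    rw [smul_comm]
    exact ht

/-- if `m/1 = 0` in `M_x` for all primes `x ∌ w` then a power of `w` kills `m`. -/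
lemma exists_pow_smul_eq_zero {w : A} (m : M)
    (h : ∀ x : PrimeSpectrum A, w ∉ x.asIdeal →
      (LocalizedModule.mk m 1 : LocalizedModule x.asIdeal.primeCompl M) = 0) :
    ∃ n : ℕ, w ^ n • m = 0 := by
  have hu' : w ∈ ((⊥ : Submodule A M).colon {m}).radical := by
    rw [Ideal.radical_eq_sInf, Ideal.mem_sInf]
    rintro p ⟨hp, hpprime⟩
    by_contra hup
    have h0 := h ⟨p, hpprime⟩ hup
    rw [mk_eq_zero_iff'] at h0
    obtain ⟨t, ht⟩ := h0
    apply t.2
    apply hp
    rw [Submodule.mem_colon_singleton]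
    exact ht
  obtain ⟨n, hn⟩ := hu'
  rw [Submodule.mem_colon_singleton, Submodule.mem_bot] at hn
  exact ⟨n, hn⟩

/-- if `u` is `M`-regular and `m/1 = 0` in `M_x` for all primes `x ∌ u` then `m = 0`. -/
lemma eq_zero_of_forall_mk_eq_zero {u : A} (hu : IsSMulRegular M u) (m : M)
    (h : ∀ x : PrimeSpectrum A, u ∉ x.asIdeal →
      (LocalizedModule.mk m 1 : LocalizedModule x.asIdeal.primeCompl M) = 0) : m = 0 := by
  obtain ⟨n, hn⟩ := exists_pow_smul_eq_zero m h
  exact (hu.pow n).right_eq_zero_of_smul hn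

section Denominators

variable [IsNoetherianRing A]

lemma isCompact_opens (U : Opens (PrimeSpectrum.Top A)) :
    IsCompact (U : Set (PrimeSpectrum.Top A)) :=
  TopologicalSpace.NoetherianSpace.isCompact (α := PrimeSpectrum A) _

/-- a section over `U` vanishing on `D(g)` is killed by a power of `g`. -/
lemma exists_pow_smul_eq_zero_of_vanish (U : Opens (PrimeSpectrum.Top A)) (t : Sec A M U) (g : A)
    (ht : ∀ x : U, g ∉ x.1.asIdeal → t.1 x = 0) :
    ∃ j : ℕ, ∀ x : U, g ^ j • t.1 x = 0 := by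
  have key : ∃ j : ℕ, ∀ x (hx : x ∈ U), x ∈ (U : Set (PrimeSpectrum.Top A)) →
      g ^ j • t.1 ⟨x, hx⟩ = 0 := by
    refine (isCompact_opens U).induction_on
      (p := fun S => ∃ j : ℕ, ∀ x (hx : x ∈ U), x ∈ S → g ^ j • t.1 ⟨x, hx⟩ = 0)
      ⟨0, fun x _ hx => absurd hx (Set.notMem_empty x)⟩ ?_ ?_ ?_
    · rintro S T hST ⟨j, hj⟩
      exact ⟨j, fun x hx hxS => hj x hx (hST hxS)⟩
    · rintro S T ⟨j, hj⟩ ⟨k, hk⟩
      refine ⟨j + k, fun x hx hxST => ?_⟩
      rcases hxST with h | h
      · rw [pow_add, mul_comm, mul_smul, hj x hx h, smul_zero]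
      · rw [pow_add, mul_smul, hk x hx h, smul_zero]
    · intro x hx
      obtain ⟨g', hxg', hg'U, c, hc⟩ := StructureSheaf.exists_const U t x hx
      refine ⟨((PrimeSpectrum.basicOpen g' : Opens (PrimeSpectrum A)) : Set (PrimeSpectrum A)),
        mem_nhdsWithin_of_mem_nhds ((PrimeSpectrum.basicOpen g').isOpen.mem_nhds hxg'), ?_⟩
      have hval : ∀ y (hy : y ∈ PrimeSpectrum.basicOpen g'),
          t.1 ⟨y, hg'U hy⟩ = LocalizedModule.mk c ⟨g', hy⟩ := by
        intro y hy
        have := congrArg (fun z : Sec A M (PrimeSpectrum.basicOpen g') => z.1 ⟨y, hy⟩) hc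
        exact this.symm
      -- `c/1 = 0` at all primes not containing `g * g'`
      have hzero : ∀ y : PrimeSpectrum A, g * g' ∉ y.asIdeal →
          (LocalizedModule.mk c 1 : LocalizedModule y.asIdeal.primeCompl M) = 0 := by
        intro y hy
        have hgy : g ∉ y.asIdeal := fun h => hy (Ideal.mul_mem_right _ _ h)
        have hg'y : g' ∉ y.asIdeal := fun h => hy (Ideal.mul_mem_left _ _ h)
        have h1 := ht ⟨y, hg'U hg'y⟩ hgy
        rw [hval y hg'y, mk_eq_zero_iff'] at h1
        rw [mk_eq_zero_iff']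
        exact h1
      obtain ⟨i, hi⟩ := exists_pow_smul_eq_zero c hzero
      refine ⟨i, fun y hy hyg' => ?_⟩
      have hyg'' : y ∈ PrimeSpectrum.basicOpen g' := hyg'
      rw [hval y hyg'', LocalizedModule.smul'_mk, mk_eq_zero_iff']
      refine ⟨⟨g' ^ i, y.asIdeal.primeCompl.pow_mem hyg'' i⟩, ?_⟩
      change g' ^ i • g ^ i • c = 0
      rw [smul_smul, ← mul_pow, mul_comm]
      exact hi
  obtain ⟨j, hj⟩ := key
  exact ⟨j, fun x => hj x.1 x.2 x.2⟩

/-- for `D(g) ⊆ U`, a power of `g` times a section over `U` is (the restriction of) a global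
section. -/
lemma exists_pow_smul_eq_toOpen (U : Opens (PrimeSpectrum.Top A)) (s : Sec A M U) (g : A)
    (hg : PrimeSpectrum.basicOpen g ≤ U) :
    ∃ (N : ℕ) (m : M), ∀ x : U, g ^ N • s.1 x = LocalizedModule.mk m 1 := by
  obtain ⟨⟨m₁, ⟨_, n, rfl⟩⟩, hm₁⟩ := IsLocalizedModule.surj (Submonoid.powers g)
    (StructureSheaf.toOpenₗ A M (PrimeSpectrum.basicOpen g)) (res hg s)
  have hpt : ∀ y (hy : y ∈ PrimeSpectrum.basicOpen g),
      g ^ n • s.1 ⟨y, hg hy⟩ = LocalizedModule.mk m₁ 1 := by
    intro y hy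
    have := congrArg (fun z : Sec A M (PrimeSpectrum.basicOpen g) => z.1 ⟨y, hy⟩) hm₁
    exact this
  let t : Sec A M U := g ^ n • s - StructureSheaf.toOpenₗ A M U m₁
  have ht : ∀ x : U, g ∉ x.1.asIdeal → t.1 x = 0 := by
    intro x hx
    change g ^ n • s.1 x - LocalizedModule.mk m₁ 1 = 0
    rw [sub_eq_zero]
    exact hpt x.1 hx
  obtain ⟨j, hj⟩ := exists_pow_smul_eq_zero_of_vanish U t g ht
  refine ⟨j + n, g ^ j • m₁, fun x => ?_⟩
  have h1 : g ^ j • (g ^ n • s.1 x - LocalizedModule.mk m₁ 1) = 0 := hj x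
  rw [smul_sub, sub_eq_zero, smul_smul, ← pow_add, LocalizedModule.smul'_mk] at h1
  exact h1

/-- the ideal of "denominators" of a section `s` over `U`: those `r` with `r • s` global. -/
def denom (U : Opens (PrimeSpectrum.Top A)) (s : Sec A M U) : Ideal A where
  carrier := {r | ∃ m : M, ∀ x : U, r • s.1 x = LocalizedModule.mk m 1}
  add_mem' := by
    rintro a b ⟨m, hm⟩ ⟨m', hm'⟩
    refine ⟨m + m', fun x => ?_⟩
    rw [add_smul, hm x, hm' x, LocalizedModule.mk_add_mk, one_smul, one_smul, mul_one]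
  zero_mem' := ⟨0, fun x => by rw [zero_smul, LocalizedModule.zero_mk]⟩
  smul_mem' := by
    rintro c a ⟨m, hm⟩
    refine ⟨c • m, fun x => ?_⟩
    rw [smul_eq_mul, mul_smul, hm x, LocalizedModule.smul'_mk]

lemma mem_denom {U : Opens (PrimeSpectrum.Top A)} {s : Sec A M U} {r : A} :
    r ∈ denom U s ↔ ∃ m : M, ∀ x : U, r • s.1 x = LocalizedModule.mk m 1 := Iff.rfl

/-- primes containing the ideal of denominators lie outside `U`. -/
lemma notMem_of_denom_le (U : Opens (PrimeSpectrum.Top A)) (s : Sec A M U) (p : PrimeSpectrum A)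
    (hp : denom U s ≤ p.asIdeal) : p ∉ U := by
  intro hpU
  obtain ⟨_, ⟨_, ⟨g, rfl⟩, rfl⟩, hpg, hgU⟩ :=
    PrimeSpectrum.isBasis_basic_opens.exists_subset_of_mem_open hpU U.2
  obtain ⟨N, m, hm⟩ := exists_pow_smul_eq_toOpen U s g hgU
  have : g ^ N ∈ p.asIdeal := hp ⟨m, hm⟩
  exact hpg (p.2.mem_of_pow_mem N this)

end Denominators

section Main

variable [IsNoetherianRing A]

lemma exists_toOpen_eq (s : Sec A M ⊤) : ∃ m : M, StructureSheaf.toOpenₗ A M ⊤ m = s :=
  StructureSheaf.toOpenₗ_top_bijective.2 s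

/-- if no associated prime of `M` lies outside `U` and `m/1 = 0` at all points of `U`
then `m = 0`. -/
lemma eq_zero_of_ass_subset (U : Opens (PrimeSpectrum.Top A))
    (h : ∀ p : PrimeSpectrum A, p.asIdeal ∈ associatedPrimes A M → p ∈ U) (m : M)
    (hm : ∀ x : U, (LocalizedModule.mk m 1 : LocalizedModule x.1.asIdeal.primeCompl M) = 0) :
    m = 0 := by
  by_contra hne
  obtain ⟨P, hP, hle⟩ := exists_le_isAssociatedPrime_of_isNoetherianRing A m hne
  have hPU := h ⟨P, hP.isPrime⟩ hP
  have h0 := hm ⟨⟨P, hP.isPrime⟩, hPU⟩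
  rw [mk_eq_zero_iff'] at h0
  obtain ⟨t, ht⟩ := h0
  apply t.2
  apply hle
  rw [Submodule.mem_colon_singleton]
  exact ht

/-- the restriction `Γ(Spec A, M~) → Γ(U, M~)` is injective if all associated primes of `M`
lie in `U`. -/
theorem res_injective_of_ass (U : Opens (PrimeSpectrum.Top A))
    (h : ∀ p : PrimeSpectrum A, p.asIdeal ∈ associatedPrimes A M → p ∈ U) :
    Function.Injective (res (M := M) (le_top : U ≤ ⊤)) := by
  intro s t hst
  obtain ⟨m, rfl⟩ := exists_toOpen_eq s
  obtain ⟨m', rfl⟩ := exists_toOpen_eq t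
  have : m - m' = 0 := by
    apply eq_zero_of_ass_subset U h
    intro x
    have h1 := congrArg (fun z : Sec A M U => z.1 x) hst
    change (LocalizedModule.mk m 1 : LocalizedModule x.1.asIdeal.primeCompl M) =
      LocalizedModule.mk m' 1 at h1
    rw [← mk_sub_mk_one, h1, sub_self]
  rw [sub_eq_zero.mp this]

variable [Module.Finite A M]

/-- the restriction `Γ(Spec A, M~) → Γ(U, M~)` is surjective if `depth M_p ≥ 2` for all
`p ∉ U`. -/
theorem res_surjective_of_depth (U : Opens (PrimeSpectrum.Top A))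
    (h : ∀ p : PrimeSpectrum A, p ∉ U →
      2 ≤ depth (Localization.AtPrime p.asIdeal) (LocalizedModule p.asIdeal.primeCompl M)) :
    Function.Surjective (res (M := M) (le_top : U ≤ ⊤)) := by
  intro s
  have hdepth : (2 : ℕ∞) ≤ idealDepth (denom U s) M := by
    rw [idealDepth_eq_iInf_depth_localization]
    exact le_iInf₂ fun p hp => h p (notMem_of_denom_le U s p hp)
  obtain ⟨rs, hlen, hreg, hmem⟩ := DepthHom.exists_of_le_idealDepth (I := denom U s) (M := M) 2
    (by exact_mod_cast hdepth)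
  match rs, hlen with
  | [u, v], _ =>
    rw [isWeaklyRegular_cons_iff, isWeaklyRegular_singleton_iff] at hreg
    obtain ⟨hu, hv⟩ := hreg
    obtain ⟨mu, hmu⟩ := mem_denom.mp (hmem u (by simp))
    obtain ⟨mv, hmv⟩ := mem_denom.mp (hmem v (by simp))
    have hass : ∀ p : PrimeSpectrum A, p.asIdeal ∈ associatedPrimes A M → p ∈ U := by
      intro p hp
      by_contra hpU
      have h2 := h p hpU
      rw [(depth_localization_eq_zero_iff p.asIdeal M).mpr hp] at h2
      exact absurd h2 (by decide)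
    -- `v • mu = u • mv`
    have hcross : v • mu - u • mv = 0 := by
      apply eq_zero_of_ass_subset U hass
      intro x
      have h1 : v • (u • s.1 x) = v • LocalizedModule.mk mu 1 := congrArg _ (hmu x)
      have h2 : u • (v • s.1 x) = u • LocalizedModule.mk mv 1 := congrArg _ (hmv x)
      rw [smul_comm, h2, LocalizedModule.smul'_mk, LocalizedModule.smul'_mk] at h1
      rw [← mk_sub_mk_one, h1, sub_self]
    -- `mu ∈ u M`
    have hmuu : mu ∈ (u • (⊤ : Submodule A M) : Submodule A M) := by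
      have h1 : v • (Submodule.Quotient.mk mu : QuotSMulTop u M) = 0 := by
        rw [← Submodule.Quotient.mk_smul, sub_eq_zero.mp hcross, Submodule.Quotient.mk_smul]
        have : (Submodule.Quotient.mk (u • mv) : QuotSMulTop u M) = 0 := by
          rw [Submodule.Quotient.mk_eq_zero]
          exact Submodule.smul_mem_pointwise_smul mv u ⊤ Submodule.mem_top
        rw [← Submodule.Quotient.mk_smul]
        exact this
      have h2 := hv.right_eq_zero_of_smul h1
      exact (Submodule.Quotient.mk_eq_zero _).mp h2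
    obtain ⟨m₀, -, hm₀⟩ := (Submodule.mem_smul_pointwise_iff_exists _ _ _).mp hmuu
    refine ⟨StructureSheaf.toOpenₗ A M ⊤ m₀, ?_⟩
    apply Subtype.ext
    funext x
    change (LocalizedModule.mk m₀ 1 : LocalizedModule x.1.asIdeal.primeCompl M) = s.1 x
    -- `u` is regular on `M_x`
    have hux : u • (s.1 x - LocalizedModule.mk m₀ 1) = 0 := by
      rw [smul_sub, hmu x, LocalizedModule.smul'_mk, hm₀, sub_self]
    have := (isSMulRegular_localizedModule x.1.asIdeal hu).right_eq_zero_of_smul hux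
    exact (sub_eq_zero.mp this).symm

end Main

end Groth.Agent.Lib.helper9.Sect
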