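import Mathlib.RingTheory.Spectrum.Prime.FreeLocus
import Mathlib.RingTheory.LocalRing.Module
import Mathlib.RingTheory.Localization.Free
import Mathlib.RingTheory.Localization.Ideal
import Mathlib.RingTheory.Flat.Stability
import Mathlib.RingTheory.Ideal.Operations

/-!
# Semilocal localizations: a finite projective module of constant rank `r` at finitely many primes
is free of rank `r` after inverting a single element avoiding those primes.
-/

set_option autoImplicit false

namespace Groth.Agent.Lib.helper9.SemiLoc

open Module

variable {A : Type*} [CommRing A]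

/-- the multiplicative set of elements avoiding all primes in `P`. -/
def avoid (P : Set (PrimeSpectrum A)) : Submonoid A where
  carrier := {a | ∀ p ∈ P, a ∉ p.asIdeal}
  one_mem' := fun p _ h1 => p.2.ne_top ((Ideal.eq_top_iff_one _).mpr h1)
  mul_mem' := fun {a b} ha hb p hp hab => (p.2.mem_or_mem hab).elim (ha p hp) (hb p hp)

lemma mem_avoid {P : Set (PrimeSpectrum A)} {a : A} :
    a ∈ avoid P ↔ ∀ p ∈ P, a ∉ p.asIdeal := Iff.rfl

lemma avoid_le_primeCompl {P : Set (PrimeSpectrum A)} {p : PrimeSpectrum A} (hp : p ∈ P) :
    avoid P ≤ p.asIdeal.primeCompl := fun a ha => ha p hp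

/-- prime avoidance. -/
lemma exists_le_of_disjoint {P : Set (PrimeSpectrum A)} (hP : P.Finite) (q : Ideal A)
    (hq : ∀ a ∈ q, a ∉ avoid P) : ∃ p ∈ P, q ≤ p.asIdeal := by
  classical
  obtain ⟨p₀, hp₀, -⟩ : ∃ p ∈ P, (0 : A) ∈ p.asIdeal := by
    have h0 := hq 0 q.zero_mem
    rw [mem_avoid] at h0
    push_neg at h0
    exact h0
  obtain ⟨p, hp, hle⟩ := (Ideal.subset_union_prime (s := hP.toFinset)
      (f := PrimeSpectrum.asIdeal) (I := q) p₀ p₀ (fun i _ _ _ => i.2)).mp (by
    intro a ha
    have h := hq a ha
    rw [mem_avoid] at h
    push_neg at h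
    obtain ⟨p, hp, hap⟩ := h
    refine Set.mem_biUnion (x := p) ?_ hap
    simpa using hp)
  exact ⟨p, by simpa using hp, hle⟩

/-- the localization away from finitely many primes is semilocal. -/
lemma finite_maximalSpectrum {P : Set (PrimeSpectrum A)} (hP : P.Finite) (R' : Type*)
    [CommRing R'] [Algebra A R'] [IsLocalization (avoid P) R'] :
    Finite (MaximalSpectrum R') := by
  classical
  haveI : Finite P := hP.to_subtype
  have hex : ∀ m : MaximalSpectrum R',
      ∃ p : P, Ideal.comap (algebraMap A R') m.asIdeal ≤ p.1.asIdeal := by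
    intro m
    obtain ⟨p, hp, hle⟩ := exists_le_of_disjoint hP (Ideal.comap (algebraMap A R') m.asIdeal) (by
      intro a ha has
      have hu : IsUnit (algebraMap A R' a) := IsLocalization.map_units R' ⟨a, has⟩
      exact m.isMaximal.ne_top (Ideal.eq_top_of_isUnit_mem _ ha hu))
    exact ⟨⟨p, hp⟩, hle⟩
  choose Φ hΦ using hex
  have hmap : ∀ m : MaximalSpectrum R',
      m.asIdeal = Ideal.map (algebraMap A R') (Φ m).1.asIdeal := by
    intro m
    have hne : Ideal.map (algebraMap A R') (Φ m).1.asIdeal ≠ ⊤ := by
      intro htop
      have hd : Disjoint (avoid P : Set A) ((Φ m).1.asIdeal : Set A) := by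
        rw [Set.disjoint_left]
        intro a ha hap
        exact ha _ (Φ m).2 hap
      have h := IsLocalization.comap_map_of_isPrime_disjoint (avoid P) R' (Φ m).1.2 hd
      rw [htop] at h
      change Ideal.comap (algebraMap A R') ⊤ = _ at h
      rw [Ideal.comap_top] at h
      exact (Φ m).1.2.ne_top h.symm
    have hle : m.asIdeal ≤ Ideal.map (algebraMap A R') (Φ m).1.asIdeal := by
      rw [← IsLocalization.map_comap (avoid P) R' m.asIdeal]
      exact Ideal.map_mono (hΦ m)
    exact m.isMaximal.eq_of_le hne hle
  refine Finite.of_injective Φ ?_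
  intro m m' h
  apply MaximalSpectrum.ext
  rw [hmap m, hmap m', h]

/-- a finite flat module of constant rank at the finitely many primes of `P` becomes free after
inverting the elements avoiding `P`. -/
theorem free_localizedModule {P : Set (PrimeSpectrum A)} (hP : P.Finite) (M : Type*)
    [AddCommGroup M] [Module A M] [Module.Finite A M] [Module.Flat A M] (r : ℕ)
    (hr : ∀ p ∈ P, Module.rankAtStalk M p = r) :
    Module.Free (Localization (avoid P)) (LocalizedModule (avoid P) M) := by
  haveI : Finite (MaximalSpectrum (Localization (avoid P))) := finite_maximalSpectrum hP _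
  refine Module.free_of_flat_of_finrank_eq _ _ r ?_
  intro m
  haveI := m.isMaximal
  letI : Field (Localization (avoid P) ⧸ m.asIdeal) := Ideal.Quotient.field m.asIdeal
  let pt : PrimeSpectrum (Localization (avoid P) ⧸ m.asIdeal) := ⟨⊥, Ideal.isPrime_bot⟩
  have h1 : Module.rankAtStalk (R := Localization (avoid P) ⧸ m.asIdeal)
      (TensorProduct (Localization (avoid P)) (Localization (avoid P) ⧸ m.asIdeal)
        (LocalizedModule (avoid P) M)) pt =
      Module.finrank (Localization (avoid P) ⧸ m.asIdeal)
        (TensorProduct (Localization (avoid P)) (Localization (avoid P) ⧸ m.asIdeal)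
          (LocalizedModule (avoid P) M)) := by
    rw [Module.rankAtStalk_eq_finrank_of_free]
    rfl
  have h2 := Module.rankAtStalk_baseChange (R := Localization (avoid P))
    (M := LocalizedModule (avoid P) M) (S := Localization (avoid P) ⧸ m.asIdeal) pt
  have h3 := Module.rankAtStalk_isBaseChange (LocalizedModule.isBaseChange (avoid P) M)
    (pt.comap (algebraMap (Localization (avoid P)) (Localization (avoid P) ⧸ m.asIdeal)))
  obtain ⟨p, hp, hle⟩ := exists_le_of_disjoint hP
    ((pt.comap (algebraMap (Localization (avoid P)) (Localization (avoid P) ⧸ m.asIdeal))).comap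
      (algebraMap A (Localization (avoid P)))).asIdeal (by
    intro a ha has
    have hu : IsUnit (algebraMap A (Localization (avoid P)) a) :=
      IsLocalization.map_units (Localization (avoid P)) ⟨a, has⟩
    have hu2 : IsUnit (algebraMap (Localization (avoid P)) (Localization (avoid P) ⧸ m.asIdeal)
        (algebraMap A (Localization (avoid P)) a)) := hu.map _
    have ha' : algebraMap (Localization (avoid P)) (Localization (avoid P) ⧸ m.asIdeal)
        (algebraMap A (Localization (avoid P)) a) ∈
          (⊥ : Ideal (Localization (avoid P) ⧸ m.asIdeal)) := ha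
    rw [Ideal.mem_bot] at ha'
    rw [ha'] at hu2
    exact not_isUnit_zero hu2)
  have h4 := Module.rankAtStalk_eq_of_le_of_finite_of_flat M
    (p := (pt.comap (algebraMap (Localization (avoid P))
      (Localization (avoid P) ⧸ m.asIdeal))).comap (algebraMap A (Localization (avoid P))))
    (q := p) hle
  rw [← h1, h2, h3, h4, hr p hp]

/-- a finite projective module of constant rank at the finitely many primes of `P` becomes free
after inverting one element avoiding `P`. -/
theorem exists_mem_avoid_free {P : Set (PrimeSpectrum A)} (hP : P.Finite) (hne : P.Nonempty)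
    (M : Type*) [AddCommGroup M] [Module A M] [Module.Finite A M] [Module.Projective A M] (r : ℕ)
    (hr : ∀ p ∈ P, Module.rankAtStalk M p = r) :
    ∃ f ∈ avoid P,
      Module.Free (Localization (Submonoid.powers f)) (LocalizedModule.Away f M) := by
  haveI : Module.FinitePresentation A M := Module.finitePresentation_of_projective A M
  haveI : Module.Flat A M := inferInstance
  haveI := free_localizedModule hP M r hr
  obtain ⟨p, hp⟩ := hne
  haveI : Nontrivial (Localization (avoid P)) := by
    haveI := p.2
    exact (show Localization (avoid P) →+* Localization.AtPrime p.asIdeal from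
      IsLocalization.map (M := avoid P) (T := p.asIdeal.primeCompl) _ (RingHom.id A)
        (avoid_le_primeCompl hp)).domain_nontrivial
  obtain ⟨f, hf, hfree, -⟩ := Module.FinitePresentation.exists_free_localizedModule_powers
    (avoid P) (LocalizedModule.mkLinearMap (avoid P) M) (Localization (avoid P))
  exact ⟨f, hf, hfree⟩

end Groth.Agent.Lib.helper9.SemiLoc
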