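import Mathlib

set_option autoImplicit false
universe u

open CategoryTheory CategoryTheory.Limits Opposite

namespace Groth.Agent.H9SheafCofan

variable {C : Type u} [SmallCategory C] (J : GrothendieckTopology C)

/-- sections of a sheaf over `X` correspond to maps out of the sheafified representable -/
noncomputable def secEquiv (X : C) (F : Sheaf J (Type u)) :
    ((presheafToSheaf J (Type u)).obj (yoneda.obj X) ⟶ F) ≃ F.obj.obj (op X) :=
  ((sheafificationAdjunction J (Type u)).homEquiv (yoneda.obj X) F).trans yonedaEquiv

theorem secEquiv_naturality {X Y : C} (f : Y ⟶ X) (F : Sheaf J (Type u))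
    (φ : (presheafToSheaf J (Type u)).obj (yoneda.obj X) ⟶ F) :
    secEquiv J Y F ((presheafToSheaf J (Type u)).map (yoneda.map f) ≫ φ) =
      F.obj.map f.op (secEquiv J X F φ) := by
  unfold secEquiv
  simp only [Equiv.trans_apply]
  rw [Adjunction.homEquiv_naturality_left]
  exact (yonedaEquiv_naturality _ f).symm

/-- Criterion for the sheafified representable of `X` to be the coproduct of those of the `Y i`. -/
theorem isColimit_cofan_iff {X : C} {ι : Type u} (Y : ι → C) (s : ∀ i, Y i ⟶ X) :
    Nonempty (IsColimit (Cofan.mk ((presheafToSheaf J (Type u)).obj (yoneda.obj X))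
      (fun i => (presheafToSheaf J (Type u)).map (yoneda.map (s i))))) ↔
    ∀ F : Sheaf J (Type u), Function.Bijective
      (fun (x : F.obj.obj (op X)) (i : ι) => F.obj.map (s i).op x) := by
  constructor
  · rintro ⟨hc⟩ F
    constructor
    · intro x y hxy
      apply (secEquiv J X F).symm.injective
      apply Cofan.IsColimit.hom_ext hc
      intro i
      apply (secEquiv J (Y i) F).injective
      change secEquiv J (Y i) F ((presheafToSheaf J (Type u)).map (yoneda.map (s i)) ≫ _) =
        secEquiv J (Y i) F ((presheafToSheaf J (Type u)).map (yoneda.map (s i)) ≫ _)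
      rw [secEquiv_naturality, secEquiv_naturality, Equiv.apply_symm_apply,
        Equiv.apply_symm_apply]
      exact congrFun hxy i
    · intro z
      refine ⟨secEquiv J X F (Cofan.IsColimit.desc hc (fun i => (secEquiv J (Y i) F).symm (z i))), ?_⟩
      funext i
      change F.obj.map (s i).op (secEquiv J X F _) = z i
      rw [← secEquiv_naturality]
      have := Cofan.IsColimit.fac hc (fun i => (secEquiv J (Y i) F).symm (z i)) i
      change (presheafToSheaf J (Type u)).map (yoneda.map (s i)) ≫ _ = _ at this
      rw [this, Equiv.apply_symm_apply]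
  · intro h
    have hsurj : ∀ (F : Sheaf J (Type u))
        (f : ∀ i, (presheafToSheaf J (Type u)).obj (yoneda.obj (Y i)) ⟶ F),
        ∃ x : F.obj.obj (op X), ∀ i, F.obj.map (s i).op x = secEquiv J (Y i) F (f i) := by
      intro F f
      obtain ⟨x, hx⟩ := (h F).2 (fun i => secEquiv J (Y i) F (f i))
      exact ⟨x, fun i => congrFun hx i⟩
    choose x hx using hsurj
    refine ⟨Cofan.IsColimit.mk _ (fun t => (secEquiv J X t.pt).symm (x t.pt t.inj)) ?_ ?_⟩
    · intro t i
      apply (secEquiv J (Y i) t.pt).injective
      change secEquiv J (Y i) t.pt ((presheafToSheaf J (Type u)).map (yoneda.map (s i)) ≫ _) = _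
      rw [secEquiv_naturality, Equiv.apply_symm_apply, hx]
    · intro t m hm
      apply (secEquiv J X t.pt).injective
      rw [Equiv.apply_symm_apply]
      apply (h t.pt).1
      funext i
      change t.pt.obj.map (s i).op (secEquiv J X t.pt m) = t.pt.obj.map (s i).op (x t.pt t.inj)
      rw [hx, ← secEquiv_naturality]
      congr 1
      exact hm i

end Groth.Agent.H9SheafCofan
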