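import Groth.Agent.Lib.helper9.TildeFin

/-!
# Sections of `M~` over affine opens for projective `M`
-/

universe u

open AlgebraicGeometry CategoryTheory Opposite TopologicalSpace Limits

namespace Groth.Agent.Lib.helper9.TildeProj

open Scheme.Modules Groth.Agent.Lib.helper9.CohB Groth.Agent.Lib.helper9.AffSect

variable {A : CommRingCat.{u}}

set_option backward.isDefEq.respectTransparency false in
/-- the restriction of the sheaf of a free module to an affine open is the sheaf of a free module
over the coordinate ring. -/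
noncomputable def restrictFreeIso {U : (Spec A).Opens} (hU : IsAffineOpen U) (I : Type u) :
    (tilde (ModuleCat.of A (I →₀ A))).restrict hU.fromSpec ≅
      tilde (ModuleCat.of Γ(Spec A, U) (I →₀ Γ(Spec A, U))) :=
  have : PreservesColimitsOfSize.{u, u} (restrictFunctor hU.fromSpec) := inferInstance
  (restrictFunctor hU.fromSpec).mapIso (tildeFinsupp I) ≪≫
    (SheafOfModules.mapFreeIso (restrictFunctor hU.fromSpec) I
      (restrictUnitIso hU.fromSpec).symm).symm ≪≫
    (tildeFinsupp I).symm

set_option backward.isDefEq.respectTransparency false in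
/-- sections of `M~` over an affine open of `Spec A` are projective over the coordinate ring when
`M` is projective. -/
theorem projective_sections (M : ModuleCat.{u} A) [hM : Module.Projective A M]
    {U : (Spec A).Opens} (hU : IsAffineOpen U) :
    Module.Projective Γ(Spec A, U) Γ(tilde M, U) := by
  obtain ⟨s, hs⟩ := Module.projective_def'.mp hM
  let B : CommRingCat.{u} := Γ(Spec A, U)
  let I : Type u := M
  let Φ : ModuleCat.{u} A ⥤ ModuleCat.{u} B :=
    tilde.functor A ⋙ restrictFunctor hU.fromSpec ⋙ moduleSpecΓFunctor (R := B)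
  let i : M ⟶ ModuleCat.of A (I →₀ A) := ModuleCat.ofHom s
  let p : ModuleCat.of A (I →₀ A) ⟶ M := ModuleCat.ofHom (Finsupp.linearCombination A id)
  have hip : i ≫ p = 𝟙 M := by
    apply ModuleCat.hom_ext
    exact hs
  let θ : Φ.obj (ModuleCat.of A (I →₀ A)) ≅ ModuleCat.of B (I →₀ B) :=
    (moduleSpecΓFunctor (R := B)).mapIso (restrictFreeIso hU I) ≪≫
      (tilde.toTildeΓNatIso.app (ModuleCat.of B (I →₀ B))).symm
  have hΦ : Φ.map i ≫ Φ.map p = 𝟙 _ := by rw [← Φ.map_comp, hip, Φ.map_id]
  have hsplit : (θ.inv ≫ Φ.map p).hom ∘ₗ (Φ.map i ≫ θ.hom).hom = LinearMap.id := by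
    rw [← ModuleCat.hom_comp]
    have h1 : (Φ.map i ≫ θ.hom) ≫ (θ.inv ≫ Φ.map p) = 𝟙 _ := by
      rw [Category.assoc, Iso.hom_inv_id_assoc, hΦ]
    rw [h1]
    rfl
  haveI : Module.Projective B (Γmod ((tilde M).restrict hU.fromSpec)) :=
    Module.Projective.of_split (Φ.map i ≫ θ.hom).hom (θ.inv ≫ Φ.map p).hom hsplit
  exact Module.Projective.of_equiv' (sectEquiv (tilde M) hU)

end Groth.Agent.Lib.helper9.TildeProj
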