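import Mathlib.RingTheory.QuasiFinite.Basic
import Mathlib.RingTheory.Ideal.GoingUp
import Mathlib.RingTheory.Ideal.MinimalPrime.Localization
import Groth.Prelude.Def_FlatCA

/-!
# Weakly associated primes and finite ring maps (Stacks 10.66.13, the hard inclusion)
-/

universe u

namespace Groth.Agent.Lib.helper9.WeakAssFin

/-- if `z` lies in every prime containing `I` and disjoint from `T`, then `u z ^ n ∈ I` for some
`u ∈ T`. -/
lemma exists_mul_pow_mem {A : Type*} [CommRing A] (I : Ideal A) (T : Submonoid A) (z : A)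
    (h : ∀ P : Ideal A, P.IsPrime → I ≤ P → Disjoint (P : Set A) (T : Set A) → z ∈ P) :
    ∃ (n : ℕ) (u : A), u ∈ T ∧ u * z ^ n ∈ I := by
  by_contra hcon
  push Not at hcon
  have hdisj : Disjoint (I : Set A) ((T ⊔ Submonoid.powers z : Submonoid A) : Set A) := by
    rw [Set.disjoint_left]
    intro a haI haT
    obtain ⟨u, hu, w, hw, rfl⟩ := Submonoid.mem_sup.mp haT
    obtain ⟨n, rfl⟩ := (Submonoid.mem_powers_iff w z).mp hw
    exact hcon n u hu haI
  obtain ⟨P, hP, hIP, hPT⟩ := Ideal.exists_le_prime_disjoint I _ hdisj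
  have h1 : Disjoint (P : Set A) (T : Set A) :=
    Set.disjoint_of_subset_right
      (fun a ha => (le_sup_left : T ≤ T ⊔ Submonoid.powers z) ha) hPT
  have hz := h P hP hIP h1
  exact Set.disjoint_left.mp hPT hz
    ((le_sup_right : Submonoid.powers z ≤ T ⊔ Submonoid.powers z) (Submonoid.mem_powers z))

/-- incomparability for integral ring maps. -/
lemma eq_of_comap_eq {R S : Type*} [CommRing R] [CommRing S] (φ : R →+* S) (hφ : φ.IsIntegral)
    (P Q : Ideal S) [Q.IsPrime] (hQP : Q ≤ P) (h : P.comap φ = Q.comap φ) : Q = P := by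
  by_contra hne
  have hlt : Q < P := lt_of_le_of_ne hQP hne
  obtain ⟨a, haP, haQ⟩ := SetLike.exists_of_lt hlt
  letI := φ.toAlgebra
  have h1 := Ideal.comap_lt_comap_of_integral_mem_sdiff hQP ⟨haP, haQ⟩ (hφ a)
  rw [RingHom.algebraMap_toAlgebra] at h1
  exact absurd h.symm (ne_of_lt h1)

/-- **for a finite ring map, the contraction of a weakly associated prime is weakly associated**
(no Noetherian hypotheses). -/
theorem comap_mem_weakAss_of_finite {B A' : Type u} [CommRing B] [CommRing A'] (φ : B →+* A')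
    (hφ : φ.Finite) {N N' : Type u} [AddCommGroup N] [Module A' N] [AddCommGroup N']
    [Module B N'] (e : N' ≃+ N) (he : ∀ (c : B) (x : N'), e (c • x) = φ c • e x)
    (𝔮 : Ideal A') (h𝔮 : 𝔮 ∈ FlatCA.weakAss A' N) : 𝔮.comap φ ∈ FlatCA.weakAss B N' := by
  classical
  letI : Algebra B A' := φ.toAlgebra
  haveI : Module.Finite B A' := hφ
  haveI : Algebra.IsIntegral B A' := Algebra.IsIntegral.of_finite B A'
  obtain ⟨m, hm⟩ := h𝔮
  haveI h𝔮p : 𝔮.IsPrime := hm.1.1
  have hφint : φ.IsIntegral := hφ.to_isIntegral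
  haveI h𝔭p : (𝔮.comap φ).IsPrime := Ideal.comap_isPrime φ 𝔮
  have hMP : ∀ z ∈ 𝔮, ∃ (n : ℕ) (u : A'), u ∉ 𝔮 ∧
      u * z ^ n ∈ (Submodule.span A' {m}).annihilator := by
    intro z hz
    obtain ⟨n, u, hu, h⟩ := exists_mul_pow_mem (Submodule.span A' {m}).annihilator
      𝔮.primeCompl z (by
        intro P hP hJP hdisj
        have hP𝔮 : P ≤ 𝔮 := by
          intro a ha
          by_contra ha𝔮
          exact Set.disjoint_left.mp hdisj ha ha𝔮
        exact hm.2 ⟨hP, hJP⟩ hP𝔮 hz)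
    exact ⟨n, u, hu, h⟩
  have hfin : ((𝔮.comap φ).primesOver A').Finite := Algebra.QuasiFinite.finite_primesOver _
  obtain ⟨x, hx𝔮, hxo⟩ : ∃ x ∈ 𝔮, ∀ Q : Ideal A', Q.IsPrime → Q.comap φ = 𝔮.comap φ →
      Q ≠ 𝔮 → x ∉ Q := by
    by_contra hcon
    push Not at hcon
    have hsub : ((𝔮 : Ideal A') : Set A') ⊆
        ⋃ Q ∈ ((hfin.toFinset.erase 𝔮 : Finset (Ideal A')) : Set (Ideal A')),
          (((fun Q : Ideal A' => Q) Q : Ideal A') : Set A') := by
      intro x hx
      obtain ⟨Q, hQp, hQc, hQne, hxQ⟩ := hcon x hx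
      refine Set.mem_biUnion ?_ hxQ
      rw [Finset.mem_coe, Finset.mem_erase]
      exact ⟨hQne, hfin.mem_toFinset.mpr ⟨hQp, ⟨hQc.symm⟩⟩⟩
    obtain ⟨Q, hQ, h𝔮Q⟩ := (Ideal.subset_union_prime (f := fun Q : Ideal A' => Q) 𝔮 𝔮 (by
      intro Q hQ _ _
      exact (hfin.mem_toFinset.mp (Finset.mem_of_mem_erase hQ)).1)).mp hsub
    have hQ' := Finset.mem_erase.mp hQ
    have hQover := hfin.mem_toFinset.mp hQ'.2
    have hQc : Q.comap φ = 𝔮.comap φ := hQover.2.over.symm
    haveI := hQover.1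
    exact hQ'.1 (eq_of_comap_eq φ hφint Q 𝔮 h𝔮Q hQc).symm
  obtain ⟨t, y, hy𝔮, hyx⟩ := hMP x hx𝔮
  have hyxm : (y * x ^ t) • m = 0 := (Submodule.mem_annihilator_span_singleton m _).mp hyx
  have hJle : (Submodule.span A' {m}).annihilator ≤
      (Submodule.span A' {y • m}).annihilator := by
    intro j hj
    rw [Submodule.mem_annihilator_span_singleton] at hj ⊢
    rw [smul_comm, hj, smul_zero]
  have hxt : x ^ t ∈ (Submodule.span A' {y • m}).annihilator := by
    rw [Submodule.mem_annihilator_span_singleton, smul_smul, mul_comm]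
    exact hyxm
  have hann : (Submodule.span B {e.symm (y • m)}).annihilator =
      ((Submodule.span A' {y • m}).annihilator).comap φ := by
    ext c
    rw [Ideal.mem_comap, Submodule.mem_annihilator_span_singleton,
      Submodule.mem_annihilator_span_singleton, ← AddEquiv.map_eq_zero_iff e, he,
      AddEquiv.apply_symm_apply]
  refine ⟨e.symm (y • m), ?_⟩
  rw [hann]
  refine ⟨⟨h𝔭p, ?_⟩, ?_⟩
  · intro r hr
    rw [Ideal.mem_comap, Submodule.mem_annihilator_span_singleton, smul_smul] at hr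
    have h1 : φ r * y ∈ 𝔮 := hm.1.2 ((Submodule.mem_annihilator_span_singleton m _).mpr hr)
    exact (h𝔮p.mem_or_mem h1).resolve_right hy𝔮
  · rintro P' ⟨hP'p, hP'le⟩ hP'𝔭 f hf
    obtain ⟨n, u, hu, hun⟩ := exists_mul_pow_mem (Submodule.span A' {y • m}).annihilator
      (Submonoid.map φ (𝔮.comap φ).primeCompl) (φ f) (by
        intro Q hQp hQle hQdisj
        haveI := hQp
        have hQc : Q.comap φ ≤ 𝔮.comap φ := by
          intro r hr
          by_contra hr𝔭
          exact Set.disjoint_left.mp hQdisj hr (Submonoid.mem_map.mpr ⟨r, hr𝔭, rfl⟩)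
        obtain ⟨Q', hQQ', hQ'p, hQ'c⟩ :=
          Ideal.exists_ideal_over_prime_of_isIntegral (𝔮.comap φ) Q hQc
        by_cases hQ'𝔮 : Q' = 𝔮
        · obtain ⟨n, u, hu, hun⟩ := hMP (φ f) hf
          have h1 : u * φ f ^ n ∈ Q := hQle (hJle hun)
          have hu' : u ∉ Q := fun h => hu (by rw [← hQ'𝔮]; exact hQQ' h)
          exact hQp.mem_of_pow_mem n ((hQp.mem_or_mem h1).resolve_left hu')
        · exact absurd (hQ'p.mem_of_pow_mem t (hQQ' (hQle hxt))) (hxo Q' hQ'p hQ'c hQ'𝔮))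
    obtain ⟨r, hr, rfl⟩ := Submonoid.mem_map.mp hu
    have h1 : r * f ^ n ∈ P' := by
      apply hP'le
      rw [Ideal.mem_comap, map_mul, map_pow]
      exact hun
    exact hP'p.mem_of_pow_mem n ((hP'p.mem_or_mem h1).resolve_left (fun h => hr (hP'𝔭 h)))

end Groth.Agent.Lib.helper9.WeakAssFin
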