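import Groth.Prelude.Def_ZClos
import Groth.Agent.Lib.helper10.ModColim

/-!
# Stalks of the Z-closure `H⁰_{X/Z}(F)`: filtered colimit of stalks
-/

universe u

open CategoryTheory CategoryTheory.Limits AlgebraicGeometry TopologicalSpace Opposite

namespace Groth.Agent.Lib.helper9.ZC

variable {X : Scheme.{u}}

/-- the stalk functor on `𝒪_X`-modules (underlying abelian groups). -/
noncomputable abbrev stalkF (x : X) : X.Modules ⥤ Ab.{u} :=
  Scheme.Modules.toPresheaf X ⋙ TopCat.Presheaf.stalkFunctor Ab.{u} x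

/-- the stalk functor on `𝒪_X`-modules as a composition through abelian sheaves. -/
noncomputable def stalkFIso (x : X) :
    stalkF x ≅ SheafOfModules.toSheaf.{u} X.ringCatSheaf ⋙
      (TopCat.Sheaf.forget Ab.{u} X.toTopCat ⋙ TopCat.Presheaf.stalkFunctor Ab.{u} x) :=
  Iso.refl _

instance preservesColimitsOfShape_stalkF (x : X) (K : Type u) [SmallCategory K] :
    PreservesColimitsOfShape K (stalkF x) := by
  have h1 := Groth.Agent.Lib.helper10.ModColim.toSheaf_preservesColimitsOfShape X.ringCatSheaf K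
  have h2 : PreservesColimitsOfShape K
      (TopCat.Sheaf.forget Ab.{u} X.toTopCat ⋙ TopCat.Presheaf.stalkFunctor Ab.{u} x) := by
    classical
    have h := (stalkSkyscraperSheafAdjunction (C := Ab.{u}) (X := X.toTopCat) x).leftAdjoint_preservesColimits
    exact h.preservesColimitsOfShape
  refine ⟨fun {D} => ⟨fun {c} hc => ⟨?_⟩⟩⟩
  have hc1 : IsColimit ((SheafOfModules.toSheaf.{u} X.ringCatSheaf).mapCocone c) :=
    isColimitOfPreserves _ hc
  exact isColimitOfPreserves
    (TopCat.Sheaf.forget Ab.{u} X.toTopCat ⋙ TopCat.Presheaf.stalkFunctor Ab.{u} x) hc1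

variable (Z : Set X) (F : X.Modules) (x : X)

/-- the map on stalks at `x` induced by the `T`-th colimit injection. -/
noncomputable abbrev ιStalk (T : ZClos.Cl Z) :
    ((ZClos.resPush T.U).obj F).presheaf.stalk x ⟶ ((ZClos.H0 Z).obj F).presheaf.stalk x :=
  (stalkF x).map (colimit.ι ((ZClos.diagram Z).obj F) T)

/-- the transition maps on stalks. -/
noncomputable abbrev trStalk {T T' : ZClos.Cl Z} (h : T ≤ T') :
    ((ZClos.resPush T.U).obj F).presheaf.stalk x ⟶ ((ZClos.resPush T'.U).obj F).presheaf.stalk x :=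
  (stalkF x).map (ZClos.resPushMapApp (ZClos.Cl.U_anti h) F)

/-- the colimit cocone of stalks. -/
noncomputable def stalkCoconeIsColimit :
    IsColimit ((stalkF x).mapCocone (colimit.cocone ((ZClos.diagram Z).obj F))) :=
  isColimitOfPreserves (stalkF x) (colimit.isColimit ((ZClos.diagram Z).obj F))

lemma exists_ιStalk_eq (g : ((ZClos.H0 Z).obj F).presheaf.stalk x) :
    ∃ (T : ZClos.Cl Z) (y : ((ZClos.resPush T.U).obj F).presheaf.stalk x),
      ιStalk Z F x T y = g :=
  Concrete.isColimit_exists_rep ((ZClos.diagram Z).obj F ⋙ stalkF x)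
    (stalkCoconeIsColimit Z F x) g

lemma ιStalk_eq_zero_iff (T : ZClos.Cl Z) (y : ((ZClos.resPush T.U).obj F).presheaf.stalk x) :
    ιStalk Z F x T y = 0 ↔ ∃ (T' : ZClos.Cl Z) (h : T ≤ T'), trStalk Z F x h y = 0 := by
  have key := Concrete.isColimit_rep_eq_iff_exists ((ZClos.diagram Z).obj F ⋙ stalkF x)
    (stalkCoconeIsColimit Z F x) (i := T) (j := T) y 0
  constructor
  · intro h0
    have h1 : ιStalk Z F x T y = ιStalk Z F x T 0 := by rw [h0, map_zero]
    obtain ⟨T', f, g, hfg⟩ := key.mp h1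
    refine ⟨T', f.le, ?_⟩
    exact hfg.trans (map_zero _)
  · rintro ⟨T', h, h0⟩
    have h1 : ιStalk Z F x T y = ιStalk Z F x T 0 := by
      refine key.mpr ⟨T', homOfLE h, homOfLE h, ?_⟩
      exact h0.trans (map_zero _).symm
    rw [h1, map_zero]

end Groth.Agent.Lib.helper9.ZC
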