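import Groth.Prelude.Def_ZClos
import Groth.Agent.Lib.helper10.ModColim

/-! Left exactness of `resPush U`, `ZClos.diagram Z` and `ZClos.H0 Z`. -/

set_option autoImplicit false
universe u
open ZClos
open CategoryTheory CategoryTheory.Limits AlgebraicGeometry TopologicalSpace Opposite

namespace Groth.Agent.Lib.helper9.ZC

variable {X : Scheme.{u}}

lemma preservesFiniteLimits_resPush (U : X.Opens) : PreservesFiniteLimits (ZClos.resPush U) := by
  have e : ZClos.resPush U ⋙ Scheme.Modules.toPresheaf X ≅ Scheme.Modules.toPresheaf X ⋙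
      ((Functor.whiskeringLeft _ _ Ab.{u}).obj (Opens.map U.ι.base ⋙ U.ι.opensFunctor).op) :=
    NatIso.ofComponents (fun M => Iso.refl _) (fun φ => by
      ext V : 2
      rfl)
  have : PreservesFiniteLimits
      ((Functor.whiskeringLeft _ _ Ab.{u}).obj (Opens.map U.ι.base ⋙ U.ι.opensFunctor).op) :=
    ⟨fun J _ _ => whiskeringLeft_preservesLimitsOfShape J _⟩
  have : PreservesFiniteLimits (Scheme.Modules.toPresheaf X ⋙
      ((Functor.whiskeringLeft _ _ Ab.{u}).obj (Opens.map U.ι.base ⋙ U.ι.opensFunctor).op)) :=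
    comp_preservesFiniteLimits _ _
  have : PreservesFiniteLimits (ZClos.resPush U ⋙ Scheme.Modules.toPresheaf X) :=
    preservesFiniteLimits_of_natIso e.symm
  have : ReflectsFiniteLimits (Scheme.Modules.toPresheaf X) :=
    ⟨fun K _ _ => reflectsLimitsOfShape_of_reflectsIsomorphisms⟩
  exact preservesFiniteLimits_of_reflects_of_preserves (ZClos.resPush U)
    (Scheme.Modules.toPresheaf X)

lemma preservesFiniteLimits_diagram (Z : Set X) : PreservesFiniteLimits (ZClos.diagram Z) := by
  refine ⟨fun J _ _ => ?_⟩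
  refine preservesLimitsOfShape_of_evaluation (ZClos.diagram Z) J (fun T => ?_)
  have := preservesFiniteLimits_resPush (X := X) T.U
  show PreservesLimitsOfShape J (ZClos.resPush T.U)
  infer_instance

lemma preservesFiniteLimits_H0 (Z : Set X) : PreservesFiniteLimits (ZClos.H0 Z) := by
  have : HasExactColimitsOfShape (ZClos.Cl Z) X.Modules :=
    Groth.Agent.Lib.helper10.ModColim.hasExactColimitsOfShape X.ringCatSheaf (ZClos.Cl Z)
  have := preservesFiniteLimits_diagram (X := X) Z
  show PreservesFiniteLimits (ZClos.diagram Z ⋙ colim)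
  exact comp_preservesFiniteLimits _ _

end Groth.Agent.Lib.helper9.ZC
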