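import Groth.Agent.Lib.helper9.ZC1

/-!
# Germ-level description of the stalks of the Z-closure
-/

universe u

open CategoryTheory CategoryTheory.Limits AlgebraicGeometry TopologicalSpace Opposite

namespace Groth.Agent.Lib.helper9.ZC

variable {X : Scheme.{u}} (Z : Set X) (F : X.Modules) (x : X)

/-- the class in the stalk at `x` of `H⁰_{X/Z}(F)` of a section of `F` over `U_T ∩ V`. -/
noncomputable def rep (T : ZClos.Cl Z) (V : X.Opens) (hx : x ∈ V)
    (s : Γ(F, T.U.ι ''ᵁ T.U.ι ⁻¹ᵁ V)) : ((ZClos.H0 Z).obj F).presheaf.stalk x :=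
  ιStalk Z F x T (((ZClos.resPush T.U).obj F).presheaf.germ V x hx s)

lemma rep_zero (T : ZClos.Cl Z) (V : X.Opens) (hx : x ∈ V) : rep Z F x T V hx 0 = 0 := by
  have h1 : ((ZClos.resPush T.U).obj F).presheaf.germ V x hx
      (0 : Γ((ZClos.resPush T.U).obj F, V)) = 0 := map_zero _
  exact (congrArg (ιStalk Z F x T) h1).trans (map_zero _)

lemma exists_rep (g : ((ZClos.H0 Z).obj F).presheaf.stalk x) :
    ∃ (T : ZClos.Cl Z) (V : X.Opens) (hx : x ∈ V) (s : Γ(F, T.U.ι ''ᵁ T.U.ι ⁻¹ᵁ V)),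
      rep Z F x T V hx s = g := by
  obtain ⟨T, y, rfl⟩ := exists_ιStalk_eq Z F x g
  obtain ⟨V, hx, s, rfl⟩ := ((ZClos.resPush T.U).obj F).presheaf.exists_germ_eq y
  exact ⟨T, V, hx, s, rfl⟩

lemma ιStalk_tr {T T' : ZClos.Cl Z} (h : T ≤ T')
    (y : ((ZClos.resPush T.U).obj F).presheaf.stalk x) :
    ιStalk Z F x T' (trStalk Z F x h y) = ιStalk Z F x T y := by
  have hw := colimit.w ((ZClos.diagram Z).obj F) (homOfLE h)
  have hw' : ZClos.resPushMapApp (ZClos.Cl.U_anti h) F ≫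
      colimit.ι ((ZClos.diagram Z).obj F) T' = colimit.ι ((ZClos.diagram Z).obj F) T := hw
  have h2 : (stalkF x).map (ZClos.resPushMapApp (ZClos.Cl.U_anti h) F) ≫
      (stalkF x).map (colimit.ι ((ZClos.diagram Z).obj F) T') =
      (stalkF x).map (colimit.ι ((ZClos.diagram Z).obj F) T) := by
    rw [← Functor.map_comp]
    exact congrArg (fun φ => (stalkF x).map φ) hw'
  exact congrArg (fun φ => (ConcreteCategory.hom φ) y) h2

lemma trStalk_germ {T T' : ZClos.Cl Z} (h : T ≤ T') (V : X.Opens) (hx : x ∈ V)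
    (s : Γ(F, T.U.ι ''ᵁ T.U.ι ⁻¹ᵁ V)) :
    trStalk Z F x h (((ZClos.resPush T.U).obj F).presheaf.germ V x hx s) =
      ((ZClos.resPush T'.U).obj F).presheaf.germ V x hx
        (F.presheaf.map (ZClos.trIncl (ZClos.Cl.U_anti h) V).op s) := by
  have h1 := TopCat.Presheaf.stalkFunctor_map_germ_apply V x hx
    (ZClos.resPushMapApp (ZClos.Cl.U_anti h) F).mapPresheaf s
  refine h1.trans ?_
  congr 1
  exact congrArg (fun φ => (ConcreteCategory.hom φ) s)
    (ZClos.resPushMapApp_app (ZClos.Cl.U_anti h) F V)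

/-- compatibility of `rep` with restriction. -/
lemma rep_res {T T' : ZClos.Cl Z} (h : T ≤ T') {V V' : X.Opens} (hV : V' ≤ V) (hx' : x ∈ V')
    (i : (T'.U.ι ''ᵁ T'.U.ι ⁻¹ᵁ V') ⟶ (T.U.ι ''ᵁ T.U.ι ⁻¹ᵁ V))
    (s : Γ(F, T.U.ι ''ᵁ T.U.ι ⁻¹ᵁ V)) :
    rep Z F x T V (hV hx') s = rep Z F x T' V' hx' (F.presheaf.map i.op s) := by
  unfold rep
  rw [← ιStalk_tr Z F x h, trStalk_germ]
  congr 1
  have h2 := TopCat.Presheaf.germ_res_apply ((ZClos.resPush T'.U).obj F).presheaf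
    (homOfLE hV) x hx' (F.presheaf.map (ZClos.trIncl (ZClos.Cl.U_anti h) V).op s)
  rw [← h2]
  congr 1
  rw [ZClos.resPush_presheaf_map]
  have h3 : i = (T'.U.ι.opensFunctor.map ((Opens.map T'.U.ι.base).map (homOfLE hV))) ≫
      ZClos.trIncl (ZClos.Cl.U_anti h) V := Subsingleton.elim _ _
  rw [h3, op_comp, Functor.map_comp]
  rfl

lemma rep_eq_zero_iff (T : ZClos.Cl Z) (V : X.Opens) (hx : x ∈ V)
    (s : Γ(F, T.U.ι ''ᵁ T.U.ι ⁻¹ᵁ V)) :
    rep Z F x T V hx s = 0 ↔ ∃ (T' : ZClos.Cl Z) (_ : T ≤ T') (V' : X.Opens) (_ : V' ≤ V)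
      (_ : x ∈ V') (i : (T'.U.ι ''ᵁ T'.U.ι ⁻¹ᵁ V') ⟶ (T.U.ι ''ᵁ T.U.ι ⁻¹ᵁ V)),
      F.presheaf.map i.op s = 0 := by
  constructor
  · intro h0
    obtain ⟨T', h, h1⟩ := (ιStalk_eq_zero_iff Z F x T _).mp h0
    rw [trStalk_germ] at h1
    have h2 : ((ZClos.resPush T'.U).obj F).presheaf.germ V x hx
        (F.presheaf.map (ZClos.trIncl (ZClos.Cl.U_anti h) V).op s) =
        ((ZClos.resPush T'.U).obj F).presheaf.germ V x hx 0 := by rw [h1, map_zero]
    obtain ⟨W, hxW, iU, iV, h3⟩ := TopCat.Presheaf.germ_eq _ x hx hx _ _ h2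
    rw [map_zero, ZClos.resPush_presheaf_map] at h3
    refine ⟨T', h, W, iU.le, hxW,
      (T'.U.ι.opensFunctor.map ((Opens.map T'.U.ι.base).map iU)) ≫
        ZClos.trIncl (ZClos.Cl.U_anti h) V, ?_⟩
    rw [op_comp, Functor.map_comp]
    exact h3
  · rintro ⟨T', h, V', hV, hx', i, h0⟩
    rw [show hx = hV hx' from rfl, rep_res Z F x h hV hx' i s, h0, rep_zero]

lemma rhoStalk_germ (V : X.Opens) (hx : x ∈ V) (t : Γ(F, V)) (T : ZClos.Cl Z) :
    ZClos.rhoStalk Z F x (F.presheaf.germ V x hx t) =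
      rep Z F x T V hx (F.presheaf.map (homOfLE (T.U.ι.image_preimage_le V)).op t) := by
  have h1 : ZClos.rhoStalk Z F x =
      (stalkF x).map (ZClos.toDiagram Z F T) ≫
        (stalkF x).map (colimit.ι ((ZClos.diagram Z).obj F) T) := by
    rw [← Functor.map_comp]
    exact congrArg (fun φ => (stalkF x).map φ) (ZClos.rhoApp_eq Z F T)
  have h2 : (stalkF x).map (ZClos.toDiagram Z F T) (F.presheaf.germ V x hx t) =
      ((ZClos.resPush T.U).obj F).presheaf.germ V x hx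
        (F.presheaf.map (homOfLE (T.U.ι.image_preimage_le V)).op t) :=
    TopCat.Presheaf.stalkFunctor_map_germ_apply V x hx
      (ZClos.toDiagram Z F T).mapPresheaf t
  have h3 := congrArg (fun φ => (ConcreteCategory.hom φ) (F.presheaf.germ V x hx t)) h1
  refine h3.trans ?_
  exact congrArg (ιStalk Z F x T) h2

end Groth.Agent.Lib.helper9.ZC
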