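import Groth.Agent.Lib.helper9.ZC7
import Groth.Agent.Lib.helper9.CohB6
import Groth.Agent.S5843

/-!
# Z-pure / Z-closed modules and open covers
-/

universe u

open CategoryTheory CategoryTheory.Limits AlgebraicGeometry TopologicalSpace Opposite

namespace Groth.Agent.Lib.helper9.ZC

variable {X : Scheme.{u}}

lemma res_injective_of_eq (M : X.Modules) {V V' A A' : X.Opens} (hA : A ≤ V) (hA' : A' ≤ V')
    (hV : V = V') (hAA' : A' ≤ A) (h : Function.Injective (res M hA')) :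
    Function.Injective (res M hA) := by
  subst hV
  exact res_injective_congr M hA' hA hAA' h

lemma res_bijective_of_eq (M : X.Modules) {V V' A A' : X.Opens} (hA : A ≤ V) (hA' : A' ≤ V')
    (hV : V = V') (hAA' : A = A') (h : Function.Bijective (res M hA')) :
    Function.Bijective (res M hA) := by
  subst hV
  subst hAA'
  exact h

lemma isBasis_le_cover {ι : Type*} (V : ι → X.Opens) (hV : iSup V = ⊤) :
    Opens.IsBasis {O' : X.Opens | ∃ i, O' ≤ V i} := by
  rw [Opens.isBasis_iff_nbhd]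
  intro U x hx
  have hx' : x ∈ iSup V := by rw [hV]; trivial
  obtain ⟨i, hi⟩ := Opens.mem_iSup.mp hx'
  exact ⟨U ⊓ V i, ⟨i, inf_le_right⟩, ⟨hx, hi⟩, inf_le_left⟩

/-- the trace on an open subscheme of a closed subset contained in `Z`. -/
def clPreimage {Z : Set X} (W : X.Opens) (T : ZClos.Cl Z) :
    ZClos.Cl (X := W.toScheme) (W.ι.base ⁻¹' Z) :=
  ⟨⟨W.ι.base ⁻¹' (T.1 : Set X), T.1.2.preimage W.ι.continuous⟩, Set.preimage_mono T.2⟩

lemma clPreimage_coe {Z : Set X} (W : X.Opens) (T : ZClos.Cl Z) :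
    W.ι.base ⁻¹' (T.1 : Set X) = ((clPreimage W T).1 : Set W.toScheme) := rfl

/-- a closed subset of an open subscheme inside the preimage of `Z` is the trace of a closed subset
of `X` inside `Z` (`X` locally Noetherian, `Z` stable under specialization). -/
theorem exists_cl_of_restrict [IsLocallyNoetherian X] {Z : Set X}
    (hZ : StableUnderSpecialization Z) (W : X.Opens)
    (T' : ZClos.Cl (X := W.toScheme) (W.ι.base ⁻¹' Z)) :
    ∃ T : ZClos.Cl Z, W.ι.base ⁻¹' (T.1 : Set X) = (T'.1 : Set W.toScheme) := by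
  obtain ⟨A, hA, hAT⟩ := W.ι.isOpenEmbedding.isInducing.isClosed_iff.mp T'.1.2
  have hmem : ∀ y : W.toScheme, y ∈ (T'.1 : Set W.toScheme) ↔ W.ι.base y ∈ A :=
    fun y => (Set.ext_iff.mp hAT y).symm
  have hsub : (W : Set X) ∩ A ⊆ Z := by
    rintro x ⟨hxW, hxA⟩
    have h1 : (⟨x, hxW⟩ : W.toScheme) ∈ (T'.1 : Set W.toScheme) := (hmem _).mpr hxA
    exact T'.2 h1
  refine ⟨⟨⟨closure ((W : Set X) ∩ A), isClosed_closure⟩,
    closure_subset_of_stableUnderSpecialization hZ W.2 hA hsub⟩, ?_⟩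
  ext y
  constructor
  · intro hy
    have h2 : W.ι.base y ∈ A := (closure_minimal Set.inter_subset_right hA) hy
    exact (hmem y).mpr h2
  · intro hy
    exact subset_closure ⟨y.2, (hmem y).mp hy⟩

lemma image_inf_eq {Z : Set X} (W : X.Opens) (T : ZClos.Cl Z)
    (T' : ZClos.Cl (X := W.toScheme) (W.ι.base ⁻¹' Z))
    (hT : W.ι.base ⁻¹' (T.1 : Set X) = (T'.1 : Set W.toScheme)) (V' : W.toScheme.Opens) :
    W.ι ''ᵁ (V' ⊓ T'.U) = W.ι ''ᵁ V' ⊓ T.U := by
  have hmem : ∀ y : W.toScheme, y ∈ (T'.1 : Set W.toScheme) ↔ W.ι.base y ∈ (T.1 : Set X) :=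
    fun y => (Set.ext_iff.mp hT y).symm
  ext x
  constructor
  · rintro ⟨y, ⟨hyV, hyT⟩, rfl⟩
    exact ⟨⟨y, hyV, rfl⟩, fun hx => hyT ((hmem y).mpr hx)⟩
  · rintro ⟨⟨y, hyV, rfl⟩, hxT⟩
    exact ⟨y, ⟨hyV, fun hy => hxT ((hmem y).mp hy)⟩, rfl⟩

lemma image_ip_eq {Z : Set X} (W : X.Opens) (T : ZClos.Cl Z)
    (T' : ZClos.Cl (X := W.toScheme) (W.ι.base ⁻¹' Z))
    (hT : W.ι.base ⁻¹' (T.1 : Set X) = (T'.1 : Set W.toScheme)) (V' : W.toScheme.Opens) :
    W.ι ''ᵁ (T'.U.ι ''ᵁ T'.U.ι ⁻¹ᵁ V') = W.ι ''ᵁ V' ⊓ T.U := by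
  rw [ZClos.ι_image_preimage, inf_comm]
  exact image_inf_eq W T T' hT V'

lemma image_preimage_of_le {W O' : X.Opens} (h : O' ≤ W) : W.ι ''ᵁ W.ι ⁻¹ᵁ O' = O' := by
  rw [ZClos.ι_image_preimage]
  exact inf_eq_right.mpr h

/-- the restriction maps of `F|_W` are those of `F` between the images. -/
lemma restrict_res_injective_iff (W : X.Opens) (F : X.Modules) {V' A' : W.toScheme.Opens}
    (h : A' ≤ V') :
    Function.Injective (res ((Scheme.Modules.restrictFunctor W.ι).obj F) h) ↔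
      Function.Injective (res F (W.ι.image_mono h)) := Iff.rfl

lemma restrict_res_bijective_iff (W : X.Opens) (F : X.Modules) {V' A' : W.toScheme.Opens}
    (h : A' ≤ V') :
    Function.Bijective (res ((Scheme.Modules.restrictFunctor W.ι).obj F) h) ↔
      Function.Bijective (res F (W.ι.image_mono h)) := Iff.rfl

section

variable [IsLocallyNoetherian X] {Z : Set X} (hZ : StableUnderSpecialization Z)
include hZ

theorem isZPure_restrict (F : X.Modules) (W : X.Opens) (h : ZClos.IsZPure Z F) :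
    ZClos.IsZPure (X := W.toScheme) (W.ι.base ⁻¹' Z)
      ((Scheme.Modules.restrictFunctor W.ι).obj F) := by
  refine isZPure_of_res_injective _ _ (fun T' V' => ?_)
  obtain ⟨T, hT⟩ := exists_cl_of_restrict hZ W T'
  have h1 := res_injective_of_isZPure Z F h T (W.ι ''ᵁ V')
  rw [restrict_res_injective_iff]
  refine res_injective_congr F _ _ ?_ h1
  rw [image_ip_eq W T T' hT V', ZClos.ι_image_preimage, inf_comm]

theorem isZClosed_restrict (F : X.Modules) (W : X.Opens) (h : ZClos.IsZClosed Z F) :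
    ZClos.IsZClosed (X := W.toScheme) (W.ι.base ⁻¹' Z)
      ((Scheme.Modules.restrictFunctor W.ι).obj F) := by
  refine Groth.Agent.S5843.isZClosed_of_forall_isIso _ _ (fun T' => ?_)
  change IsIso ((Scheme.Modules.restrictAdjunction T'.U.ι).unit.app _)
  rw [CohB.isIso_unit_iff]
  intro V'
  obtain ⟨T, hT⟩ := exists_cl_of_restrict hZ W T'
  have h0 : IsIso ((Scheme.Modules.restrictAdjunction T.U.ι).unit.app F) :=
    Groth.Agent.S5843.isIso_toDiagram_of_isZClosed Z F h T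
  have h1 := (CohB.isIso_unit_iff F T.U).mp h0 (W.ι ''ᵁ V')
  have h2 : Function.Bijective
      (res F (W.ι.image_mono (inf_le_left : V' ⊓ T'.U ≤ V'))) :=
    res_bijective_of_eq F _ (inf_le_left : W.ι ''ᵁ V' ⊓ T.U ≤ W.ι ''ᵁ V') rfl
      (image_inf_eq W T T' hT V') h1
  exact h2

end

theorem isZPure_of_openCover {Z : Set X} (F : X.Modules) {ι : Type*} (V : ι → X.Opens)
    (hV : iSup V = ⊤)
    (h : ∀ i, ZClos.IsZPure (X := (V i).toScheme) ((V i).ι.base ⁻¹' Z)
      ((Scheme.Modules.restrictFunctor (V i).ι).obj F)) :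
    ZClos.IsZPure Z F := by
  refine isZPure_of_res_injective Z F (fun T O => ?_)
  refine res_injective_congr F (inf_le_left : O ⊓ T.U ≤ O) _ (inf_le_ip T.U O) ?_
  refine Glue.resInf_injective_of_basis (shf F) T.U _ (isBasis_le_cover V hV) ?_ O
  rintro O' ⟨i, hO'⟩
  have h1 := res_injective_of_isZPure _ _ (h i) (clPreimage (V i) T) ((V i).ι ⁻¹ᵁ O')
  rw [restrict_res_injective_iff] at h1
  refine res_injective_of_eq F (inf_le_left : O' ⊓ T.U ≤ O') _
    (image_preimage_of_le hO').symm ?_ h1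
  rw [image_ip_eq (V i) T (clPreimage (V i) T) rfl, image_preimage_of_le hO']

theorem isZClosed_of_openCover {Z : Set X} (F : X.Modules) {ι : Type*} (V : ι → X.Opens)
    (hV : iSup V = ⊤)
    (h : ∀ i, ZClos.IsZClosed (X := (V i).toScheme) ((V i).ι.base ⁻¹' Z)
      ((Scheme.Modules.restrictFunctor (V i).ι).obj F)) :
    ZClos.IsZClosed Z F := by
  refine Groth.Agent.S5843.isZClosed_of_forall_isIso Z F (fun T => ?_)
  change IsIso ((Scheme.Modules.restrictAdjunction T.U.ι).unit.app F)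
  rw [CohB.isIso_unit_iff]
  intro O
  refine Glue.resInf_bijective_of_basis (shf F) T.U _ (isBasis_le_cover V hV) ?_ O
  rintro O' ⟨i, hO'⟩
  have h0 : IsIso ((Scheme.Modules.restrictAdjunction (clPreimage (V i) T).U.ι).unit.app
      ((Scheme.Modules.restrictFunctor (V i).ι).obj F)) :=
    Groth.Agent.S5843.isIso_toDiagram_of_isZClosed _ _ (h i) (clPreimage (V i) T)
  have h1 := (CohB.isIso_unit_iff _ _).mp h0 ((V i).ι ⁻¹ᵁ O')
  have h2 : Function.Bijective (res F ((V i).ι.image_mono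
      (inf_le_left : (V i).ι ⁻¹ᵁ O' ⊓ (clPreimage (V i) T).U ≤ (V i).ι ⁻¹ᵁ O'))) := h1
  refine res_bijective_of_eq F (inf_le_left : O' ⊓ T.U ≤ O') _
    (image_preimage_of_le hO').symm ?_ h2
  rw [image_inf_eq (V i) T (clPreimage (V i) T) rfl, image_preimage_of_le hO']

end Groth.Agent.Lib.helper9.ZC
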