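import Groth.Agent.Lib.helper9.ZC7

/-!
# Zero objects of `X.Modules` via sections; vanishing of restrictions to opens
-/

universe u

open AlgebraicGeometry CategoryTheory Opposite TopologicalSpace Limits

namespace Groth.Agent.Lib.helper9.ZeroRestr

open Scheme.Modules Groth.Agent.Lib.helper9.ZC

variable {X : Scheme.{u}}

/-- a module all of whose sections vanish is a zero object. -/
lemma isZero_of_sections {M : X.Modules} (h : ∀ (W : X.Opens) (s : Γ(M, W)), s = 0) : IsZero M := by
  rw [IsZero.iff_id_eq_zero]
  apply Scheme.Modules.hom_ext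
  intro W
  refine ConcreteCategory.hom_ext _ _ (fun s => ?_)
  exact (h W s).trans (h W _).symm

/-- the sections of a zero object vanish. -/
lemma sections_eq_zero_of_isZero {M : X.Modules} (h : IsZero M) (W : X.Opens) (s : Γ(M, W)) :
    s = 0 := by
  have h1 : 𝟙 M = 0 := (IsZero.iff_id_eq_zero M).mp h
  have h2 := congrArg (fun ψ : M ⟶ M => ψ.app W s) h1
  exact h2

set_option backward.isDefEq.respectTransparency false in
/-- if all sections of `A` over opens inside `U` vanish, then `A|_U` is zero. -/
lemma isZero_restrict_of_sections (A : X.Modules) (U : X.Opens)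
    (h : ∀ (W : X.Opens), W ≤ U → ∀ s : Γ(A, W), s = 0) :
    IsZero ((restrictFunctor U.ι).obj A) := by
  apply isZero_of_sections
  intro W s
  exact h (U.ι ''ᵁ W) (U.ι_image_le W) s

set_option backward.isDefEq.respectTransparency false in
/-- if all stalks of `F` at points of `U` vanish, then `F|_U` is zero. -/
lemma isZero_restrict_of_stalks (F : X.Modules) (U : X.Opens)
    (h : ∀ y : X, y ∈ U → Subsingleton (F.presheaf.stalk y)) :
    IsZero ((restrictFunctor U.ι).obj F) := by
  apply isZero_restrict_of_sections
  intro W hW s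
  apply eq_zero_of_germ_eq_zero F W s
  intro y hy
  haveI := h y (hW hy)
  exact Subsingleton.elim _ _

set_option backward.isDefEq.respectTransparency false in
/-- if `F|_U` is zero, the sections of `F` over opens inside `U` vanish. -/
lemma sections_eq_zero_of_isZero_restrict (F : X.Modules) (U : X.Opens)
    (h : IsZero ((restrictFunctor U.ι).obj F)) (W : X.Opens) (hW : W ≤ U) (s : Γ(F, W)) :
    s = 0 := by
  have hle : U.ι ''ᵁ U.ι ⁻¹ᵁ W ≤ W := U.ι.image_preimage_le W
  have hge : W ≤ U.ι ''ᵁ U.ι ⁻¹ᵁ W := by
    rw [ZClos.ι_image_preimage]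
    exact le_inf hW le_rfl
  have h1 : res F hle s = 0 :=
    sections_eq_zero_of_isZero h (U.ι ⁻¹ᵁ W) (show Γ(F.restrict U.ι, U.ι ⁻¹ᵁ W) from res F hle s)
  have h2 : res F hge (res F hle s) = s := by
    rw [res_res]
    exact res_self F W s
  rw [← h2, h1, map_zero]

end Groth.Agent.Lib.helper9.ZeroRestr
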